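import Cfsg.Agent.L.Gas3

/-! Lifting the generators of a presented group to a central extension: `sec_of_inj` (pull back),
`exists_norm` (the canonical section over a perfect subgroup), `lift_ord`, `eq_of_pow`, `sec_of_hom`. -/

set_option autoImplicit false

namespace H14
open Cfsg L
open scoped commutatorElement

universe u

theorem sec_of_inj {G Y : Type u} [Group G] [Group Y] {θ : Y →* G} (hθ : Function.Injective θ)
    {K : Subgroup Y} {m : ℕ}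
    (h : ∀ (Γ : Type u) [Group Γ] [Finite Γ] (σ : Γ →* Y), CE σ m → Sec σ K)
    {Γ : Type u} [Group Γ] [Finite Γ] {σ : Γ →* G} (hσ : CE σ m) : Sec σ (K.map θ) := by
  let e := MonoidHom.ofInjective hθ
  let U := θ.range
  let τ : U.comap σ →* Y := e.symm.toMonoidHom.comp (σ.subgroupComap U)
  have hτ : ∀ x, θ (τ x) = σ x := fun x => congrArg Subtype.val (e.apply_symm_apply _)
  have hk : ∀ x, x ∈ τ.ker → x.1 ∈ σ.ker := fun x hx => by
    rw [MonoidHom.mem_ker, ← hτ, show τ x = 1 from hx, map_one]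
  obtain ⟨N, h1, h2⟩ := h (U.comap σ) τ ⟨fun y => by
      obtain ⟨x, hx⟩ := hσ.surj (θ y)
      exact ⟨⟨x, by rw [Subgroup.mem_comap, hx]; exact ⟨y, rfl⟩⟩, hθ (by rw [hτ, hx])⟩,
    fun x hx => Subgroup.mem_center_iff.2 fun y => Subtype.ext
      (Subgroup.mem_center_iff.1 (hσ.cent (hk x hx)) y.1),
    fun z hz => Subtype.ext (hσ.exp z.1 (hk z hz))⟩
  refine ⟨N.map (U.comap σ).subtype, eq_bot_iff.2 ?_, ?_⟩
  · rintro _ ⟨⟨x, hx, rfl⟩, hx'⟩
    have : x ∈ N ⊓ τ.ker := ⟨hx, hθ (by rw [hτ, map_one]; exact hx')⟩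
    rw [h1] at this
    exact congrArg Subtype.val (Subgroup.mem_bot.1 this)
  · rw [← h2, Subgroup.map_map, Subgroup.map_map]
    congr 1
    exact MonoidHom.ext fun x => (hτ x).symm

variable {Γ G : Type*} [Group Γ] [Group G] {σ : Γ →* G} {m : ℕ}

theorem CE_comm (h : CE σ m) {c : Γ} (hc : σ c = 1) (w : Γ) : w * c = c * w :=
  Subgroup.mem_center_iff.1 (h.cent hc) w

theorem exists_norm (h : CE σ m) {K : Subgroup G} (hK : Sec σ K) :
    ∃ N : Subgroup Γ, (∀ n ∈ N, σ n = 1 → n = 1) ∧ (∀ g ∈ ⁅K, K⁆, ∃ n ∈ N, σ n = g) ∧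
      ∀ γ, (∀ g ∈ K, σ γ * g * (σ γ)⁻¹ ∈ K) → ∀ n ∈ N, γ * n * γ⁻¹ ∈ N := by
  obtain ⟨N, h1, h2⟩ := hK
  have h3 : ⁅K.comap σ, K.comap σ⁆ ≤ N := Subgroup.commutator_le.2 fun a ha b hb => by
    obtain ⟨x, hx, ex⟩ : σ a ∈ N.map σ := h2 ▸ ha
    obtain ⟨y, hy, ey⟩ : σ b ∈ N.map σ := h2 ▸ hb
    have e1 := CE_comm h (c := x⁻¹ * a) (by rw [map_mul, map_inv, ex, inv_mul_cancel])
    have e2 := CE_comm h (c := y⁻¹ * b) (by rw [map_mul, map_inv, ey, inv_mul_cancel])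
    have e : ⁅a, b⁆ = ⁅x, y⁆ := by
      obtain ⟨c, rfl⟩ : ∃ c, a = x * c := ⟨x⁻¹ * a, by group⟩
      obtain ⟨d, rfl⟩ : ∃ d, b = y * d := ⟨y⁻¹ * b, by group⟩
      rw [inv_mul_cancel_left] at e1 e2
      have a1 : c * (y * d) * c⁻¹ = y * d := by rw [← e1, mul_inv_cancel_right]
      have a2 : d * x⁻¹ * d⁻¹ = x⁻¹ := by rw [← e2, mul_inv_cancel_right]
      calc _ = x * (c * (y * d) * c⁻¹) * x⁻¹ * (y * d)⁻¹ := by rw [commutatorElement_def]; group
        _ = x * y * (d * x⁻¹ * d⁻¹) * y⁻¹ := by rw [a1]; group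
        _ = _ := by rw [a2, commutatorElement_def]
    rw [e, commutatorElement_def]
    exact mul_mem (mul_mem (mul_mem hx hy) (inv_mem hx)) (inv_mem hy)
  refine ⟨⁅K.comap σ, K.comap σ⁆, fun n hn e => ?_, fun g hg => ?_, fun γ hγ n hn => ?_⟩
  · have : n ∈ N ⊓ σ.ker := ⟨h3 hn, e⟩
    rwa [h1] at this
  · rw [← Subgroup.map_comap_eq_self_of_surjective h.surj K, ← Subgroup.map_commutator] at hg
    exact hg
  · have : ⁅K.comap σ, K.comap σ⁆ ≤ (⁅K.comap σ, K.comap σ⁆).comap (MulAut.conj γ).toMonoidHom :=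
      Subgroup.commutator_le.2 fun a ha b hb => by
        rw [Subgroup.mem_comap, map_commutatorElement]
        refine Subgroup.commutator_mem_commutator ?_ ?_ <;>
          simp only [Subgroup.mem_comap, MulEquiv.coe_toMonoidHom, MulAut.conj_apply, map_mul, map_inv]
        exacts [hγ _ ha, hγ _ hb]
    exact this hn

theorem eq_one_of_pow (h : CE σ m) {q : ℕ} (hq : Nat.Coprime m q) {c : Γ} (hc : σ c = 1)
    (e : c ^ q = 1) : c = 1 := by
  have := pow_gcd_eq_one.2 ⟨h.exp c hc, e⟩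
  rwa [hq, pow_one] at this

theorem mul_pow_of (h : CE σ m) {c : Γ} (hc : σ c = 1) (a : Γ) (q : ℕ) : (a * c) ^ q = a ^ q * c ^ q :=
  Commute.mul_pow (CE_comm h hc a) q

theorem eq_of_pow (h : CE σ m) {q : ℕ} (hq : Nat.Coprime m q) {a b : Γ} (e : σ a = σ b)
    (ha : a ^ q = 1) (hb : b ^ q = 1) : a = b := by
  have hc : σ (a⁻¹ * b) = 1 := by rw [map_mul, map_inv, e, inv_mul_cancel]
  have := mul_pow_of h hc a q
  rw [mul_inv_cancel_left, ha, hb, one_mul] at this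
  exact inv_mul_eq_one.1 (eq_one_of_pow h hq hc this.symm)

/-- a power `d` of the central element `c` with `c * d ^ q = 1` -/
theorem exists_root (h : CE σ m) {q : ℕ} (hq : Nat.Coprime m q) {c : Γ} (hc : σ c = 1) :
    ∃ d, σ d = 1 ∧ c * d ^ q = 1 := by
  have ho : Nat.Coprime q (orderOf c⁻¹) :=
    (hq.coprime_dvd_left (orderOf_dvd_of_pow_eq_one (h.exp _ (inv_mem hc)))).symm
  obtain ⟨k, hk⟩ := exists_pow_eq_self_of_coprime ho
  refine ⟨c⁻¹ ^ k, by rw [map_pow, map_inv, hc, inv_one, one_pow], ?_⟩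
  rw [← pow_mul, mul_comm k, pow_mul, hk, mul_inv_cancel]

theorem lift_ord (h : CE σ m) {q : ℕ} (hq : Nat.Coprime m q) {g : G} (hg : g ^ q = 1) :
    ∃ x, σ x = g ∧ x ^ q = 1 := by
  obtain ⟨x, rfl⟩ := h.surj g
  obtain ⟨d, h1, h2⟩ := exists_root h hq (c := x ^ q) (by rw [map_pow, hg])
  exact ⟨x * d, by rw [map_mul, h1, mul_one], by rw [mul_pow_of h h1, h2]⟩

theorem sec_of_hom (s : G →* Γ) (hs : ∀ g, σ (s g) = g) : Sec σ ⊤ := by
  refine ⟨s.range, eq_bot_iff.2 ?_, eq_top_iff.2 fun g _ => ⟨s g, ⟨g, rfl⟩, hs g⟩⟩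
  rintro _ ⟨⟨g, rfl⟩, e⟩
  rw [Subgroup.mem_bot, ← hs g, show σ (s g) = 1 from e, map_one]

end H14
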