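import Cfsg.Agent.L.Out2

/-! Automorphisms: `aut_normal2` (normal form on a Frobenius group when the centraliser of the kernel has
order `2 p`), `eq_one_of_lf` (an automorphism fixing two of three generators), `out_two_of`. -/

set_option autoImplicit false

namespace H14
open Cfsg L

theorem aut_normal2 {G : Type*} [Group G] [Finite G] {a u v : G} {p r : ℕ} (hp : p.Prime) (hp2 : Nat.Coprime 2 p)
    (ha : a ^ p = 1) (ha1 : a ≠ 1) (hN : ¬ p ^ 2 ∣ Nat.card G) (hv : v * a = a ^ r * v) (hr : ¬ p ∣ r - 1)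
    (hr1 : 1 ≤ r) (hu : u * u = 1) (hu1 : u ≠ 1) (hua : Commute u a)
    (hC : ∀ g, g * a = a * g → ∃ j : ℕ, g = a ^ j ∨ g = a ^ j * u)
    (hks : ∀ k < p, k ≠ 0 → ∃ i, k * r ^ i % p = 1) (α : MulAut G) :
    ∃ t : G, (MulAut.conj t * α) a = a ∧ (MulAut.conj t * α) u = u ∧
      ((MulAut.conj t * α) v = v ∨ (MulAut.conj t * α) v = v * u) := by
  classical
  have := Fact.mk hp
  have ho : orderOf a = p := orderOf_eq_prime ha ha1
  have key : ∀ β : MulAut G, β a = a → β u = u := fun β h => by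
    have h1 : β u * β u = 1 := by rw [← map_mul, hu, map_one]
    have h2 : ∀ j : ℕ, a ^ j * a ^ j = 1 → a ^ j = 1 := fun j e => by
      have := pow_gcd_eq_one.2 ⟨(sq _).trans e, show (a ^ j) ^ p = 1 by
        rw [← pow_mul, mul_comm, pow_mul, ha, one_pow]⟩
      rwa [hp2, pow_one] at this
    obtain ⟨j, e | e⟩ := hC (β u) (by rw [← h, ← map_mul, ← map_mul, hua.eq])
    · rw [e] at h1
      exact absurd (β.injective (by rw [e, h2 j h1, map_one])) hu1
    · rw [e, mul_assoc, ← mul_assoc u, (hua.pow_right j).eq, mul_assoc, hu, mul_one] at h1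
      rw [e, h2 j h1, one_mul]
  have hf : (Nat.card G).factorization p = 1 := by
    have h1 := (hp.dvd_iff_one_le_factorization Nat.card_pos.ne').1 (ho ▸ orderOf_dvd_natCard a)
    have h2 := mt (hp.pow_dvd_iff_le_factorization (k := 2) Nat.card_pos.ne').2 hN
    omega
  have hS : ∀ x : G, orderOf x = p →
      Nat.card (Subgroup.zpowers x) = p ^ (Nat.card G).factorization p := fun x hx => by
    rw [Nat.card_zpowers, hx, hf, pow_one]
  have ho' : orderOf (α a) = p := by rw [MulEquiv.orderOf_eq, ho]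
  obtain ⟨t, ht⟩ := MulAction.exists_smul_eq G (Sylow.ofCard _ (hS _ ho')) (Sylow.ofCard _ (hS _ ho))
  have h1 : (MulAut.conj t * α) a ∈ Subgroup.zpowers a := by
    have : (MulAut.conj t * α) a ∈ ((t • Sylow.ofCard _ (hS _ ho') : Sylow p G) : Subgroup G) :=
      Subgroup.smul_mem_pointwise_smul _ _ _ (Subgroup.mem_zpowers _)
    rwa [ht] at this
  obtain ⟨k, hk, e1⟩ := Finset.mem_image.1 (mem_zpowers_iff_mem_range_orderOf.1 h1)
  rw [Finset.mem_range, ho] at hk
  have hk0 : k ≠ 0 := by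
    rintro rfl
    exact ha1 ((MulAut.conj t * α).injective (by rw [← e1, pow_zero, map_one]))
  obtain ⟨i, hi⟩ := hks k hk hk0
  set β := MulAut.conj (v ^ i * t) * α with hβ
  have e0 : β a = a := by
    rw [hβ, map_mul, mul_assoc, MulAut.mul_apply, ← e1, MulAut.conj_apply, mul_inv_eq_iff_eq_mul,
      conj_pow_of (pow_conj_of hv i), ← pow_mod_orderOf, ho, mul_comm _ k, hi, pow_one]
  have hz : ∀ {x y : ℕ}, (x : ZMod p) = y → a ^ x = a ^ y := fun h => by
    rw [pow_eq_pow_iff_modEq, ho]; exact (ZMod.natCast_eq_natCast_iff _ _ _).1 h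
  have hr' : (r : ZMod p) - 1 ≠ 0 := fun h => hr ((ZMod.natCast_eq_zero_iff _ _).1 (by
    rw [Nat.cast_sub hr1, Nat.cast_one, h]))
  have h2 : β v * a = a ^ r * β v := by rw [← e0, ← map_pow, ← map_mul, hv, map_mul]
  obtain ⟨j, e2⟩ := hC (v⁻¹ * β v) (by
    rw [mul_assoc, h2, ← mul_assoc, ← mul_assoc, eq_comm, mul_left_inj, eq_inv_mul_iff_mul_eq,
      ← mul_assoc, hv, mul_inv_cancel_right])
  set m := ((j : ZMod p) * ((r : ZMod p) - 1)⁻¹).val with hm
  have e3 : a ^ (r * m) * (v * a ^ j) = v * a ^ (r * m) := by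
    rw [← mul_assoc, ← conj_pow_of hv, mul_assoc, ← pow_add, hz (y := r * m) (by
      rw [hm]; simp; field_simp; ring)]
  have e4 : (MulAut.conj (a ^ (r * m) * (v ^ i * t)) * α) a = a := by
    rw [map_mul, mul_assoc, ← hβ, MulAut.mul_apply, e0, MulAut.conj_apply, mul_inv_eq_iff_eq_mul,
      ← pow_succ, ← pow_succ']
  refine ⟨_, e4, key _ e4, e2.imp (fun e => ?_) fun e => ?_⟩ <;>
    rw [map_mul, mul_assoc, ← hβ, MulAut.mul_apply, inv_mul_eq_iff_eq_mul.1 e, MulAut.conj_apply,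
      mul_inv_eq_iff_eq_mul]
  · exact e3
  · rw [← mul_assoc v, ← mul_assoc, e3, mul_assoc, mul_assoc, (hua.pow_right _).eq]

theorem eq_one_of_lf {G Ω : Type*} [Group G] [MulAction G Ω] {n : ℕ} {L : List Net} {M : PM G Ω n L}
    {F : ℕ → ℕ → ℕ} [PtF n L F] {a u b : Word} {p r e f : ℕ} {Rs : List (Word × ℕ)} {E : List Word}
    (hR : Rels M.gen (nfRels a u b p r e f Rs))
    (hC : ∀ g, g * ev M.gen (powW u e) = ev M.gen (powW u e) * g → ∃ t ∈ E, g = ev M.gen t)
    (hE : allL (_root_.L.lfChk n F a u b [1] Rs [((1 : ℕ), ([] : Word))]) E = true)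
    (ht : sub M.gen [a, u, b] = ⊤) (β : MulAut G) (e1 : β (ev M.gen a) = ev M.gen a)
    (e2 : β (ev M.gen u) = ev M.gen u) : β = 1 := by
  have r3 := cent_of_nf hR
  obtain ⟨t, ht', e3⟩ := hC ((ev M.gen b)⁻¹ * β (ev M.gen b)) (by
    have := congrArg β r3
    rw [map_mul, map_mul, map_pow, map_pow, e2] at this
    rw [ev_powW, mul_assoc, this, ← mul_assoc, ← mul_assoc, mul_left_inj, inv_mul_eq_iff_eq_mul,
      ← mul_assoc, r3, mul_inv_cancel_right])
  have hM : Maps M.gen β [a, u, b] [powW a 1, u, t ++ b] :=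
    Maps.three (by rw [e1, ev_powW, pow_one]) e2 (by rw [ev_append, ← e3, mul_inv_cancel_left])
  rcases bor_iff.1 (allL_iff.1 (allL_iff.1 hE t ht') 1 List.mem_cons_self) with h | h
  · obtain rfl : t = [] := congrArg Prod.snd (List.mem_singleton.1 (List.mem_of_elem_eq_true h))
    exact hM.eq (maps_one _ a u b) ht
  · obtain ⟨q, hq, h⟩ := anyL_iff.1 h
    obtain ⟨y1, y2⟩ := band_iff.1 h
    have r4 : ev M.gen (flat [a, u, b] q.1) = ev M.gen [] := hR _ (List.mem_cons_of_mem _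
      (List.mem_cons_of_mem _ (List.mem_cons_of_mem _ (List.mem_map_of_mem hq))))
    have r5 := hM.flat q.1
    rw [r4, ev_nil, map_one] at r5
    refine absurd ?_ (Nat.ne_of_beq_eq_false (bnot_iff.1 y2))
    rw [← enc_ev_dec M _ (Nat.le_of_ble_eq_true y1)]
    exact r5 ▸ by rw [one_smul, M.enc_dec _ (Nat.le_of_ble_eq_true y1)]

theorem out_two_of {G : Type*} [Group G] {ν : MulAut G} (h1 : ∀ g, MulAut.conj g ≠ ν)
    (h2 : ∀ α : MulAut G, ∃ g, MulAut.conj g * α = 1 ∨ MulAut.conj g * α = ν) : Nat.card (Out G) = 2 := by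
  refine (Nat.card_eq_two_iff' 1).2 ⟨QuotientGroup.mk ν, fun h => ?_, fun y hy => ?_⟩
  · obtain ⟨g, e⟩ := (QuotientGroup.eq_one_iff ν).1 h
    exact h1 g e
  · obtain ⟨α, rfl⟩ := QuotientGroup.mk_surjective y
    obtain ⟨g, h | h⟩ := h2 α
    exacts [absurd (mk_eq_of h) hy, mk_eq_of h]

end H14
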