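import Cfsg.Agent.H15.Mat
import Cfsg.Agent.H15.Pres

/-! Fast kernel products of large matrices over `ZMod p`: a matrix is one packed natural with wide fields, a
product is a sum of `d` products of naturals (column times row) followed by a fieldwise reduction. -/

namespace H14.BM
open H15

theorem pack_congr {W n : ℕ} {f g : ℕ → ℕ} (h : ∀ t < n, f t = g t) : pack W f n = pack W g n := by
  induction n with
  | zero => rfl
  | succ n ih => rw [pack_succ, pack_succ, ih fun t ht => h t (by omega), h n (by omega)]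

theorem pack_add (W n : ℕ) (f g : ℕ → ℕ) : pack W f n + pack W g n = pack W (fun t => f t + g t) n := by
  induction n with
  | zero => rfl
  | succ n ih => rw [pack_succ, pack_succ, pack_succ, ← ih]; ring

theorem pack_mul (W n y : ℕ) (f : ℕ → ℕ) : pack W f n * y = pack W (fun t => f t * y) n := by
  induction n with
  | zero => exact Nat.zero_mul _
  | succ n ih => rw [pack_succ, pack_succ, ← ih]; ring

theorem mul_pack (W n y : ℕ) (f : ℕ → ℕ) : y * pack W f n = pack W (fun t => y * f t) n := by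
  rw [mul_comm, pack_mul]; exact pack_congr fun _ _ => mul_comm _ _

theorem pack_trunc (W n : ℕ) (f : ℕ → ℕ) : pack W f n = pack W (fun t => if t < n then f t else 0) n :=
  pack_congr fun t ht => by rw [if_pos ht]

theorem trunc_lt {W n : ℕ} {f : ℕ → ℕ} (h : ∀ t < n, f t < 2 ^ W) (t : ℕ) :
    (if t < n then f t else 0) < 2 ^ W := by
  split_ifs with ht
  exacts [h t ht, Nat.two_pow_pos W]

theorem pack_lt' {W n : ℕ} {f : ℕ → ℕ} (h : ∀ t < n, f t < 2 ^ W) : pack W f n < 2 ^ (W * n) := by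
  rw [pack_trunc]; exact pack_lt (trunc_lt h) n

theorem fld_pack' {W n t : ℕ} {f : ℕ → ℕ} (h : ∀ t < n, f t < 2 ^ W) (ht : t < n) :
    fld W (pack W f n) t = f t := by
  rw [pack_trunc, fld_pack (trunc_lt h) ht, if_pos ht]

theorem mod_eq_pack (W n X : ℕ) : X % 2 ^ (W * n) = pack W (fld W X) n := by
  induction n with
  | zero => simp [Nat.mod_one]; rfl
  | succ n ih => rw [pack_succ, ← ih, mul_add, mul_one, pow_add, Nat.mod_mul, fld_eq]; ring

theorem eq_pack {W n X : ℕ} (h : X < 2 ^ (W * n)) : X = pack W (fld W X) n := by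
  rw [← mod_eq_pack, Nat.mod_eq_of_lt h]

theorem fld_and (W X Y t : ℕ) : fld W (X &&& Y) t = fld W X t &&& fld W Y t := by
  apply Nat.eq_of_testBit_eq; intro i
  simp only [fld_eq, Nat.testBit_mod_two_pow, Nat.testBit_div_two_pow, Nat.testBit_and]
  cases decide (i < W) <;> simp

theorem and_pack {W n : ℕ} {g : ℕ → ℕ} (h : ∀ t < n, g t < 2 ^ W) (Y : ℕ) :
    Y &&& pack W g n = pack W (fun t => fld W Y t &&& g t) n := by
  rw [eq_pack (W := W) (n := n) (lt_of_le_of_lt Nat.and_le_right (pack_lt' h))]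
  exact pack_congr fun t ht => by rw [fld_and, fld_pack' h ht]

theorem mkN_eq (W d : ℕ) (f : ℕ → ℕ → ℕ) : mkN W d f = pack (W * d) (fun i => pack W (f i) d) d := rfl

theorem mkN_congr {W d : ℕ} {f g : ℕ → ℕ → ℕ} (h : ∀ i < d, ∀ j < d, f i j = g i j) : mkN W d f = mkN W d g :=
  pack_congr fun i hi => pack_congr (h i hi)

theorem mkN_add (W d : ℕ) (f g : ℕ → ℕ → ℕ) : mkN W d f + mkN W d g = mkN W d fun i j => f i j + g i j := by
  rw [mkN_eq, mkN_eq, pack_add]; exact pack_congr fun i _ => pack_add _ _ _ _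

theorem mul_mkN (W d y : ℕ) (f : ℕ → ℕ → ℕ) : y * mkN W d f = mkN W d fun i j => y * f i j := by
  rw [mkN_eq, mul_pack]; exact pack_congr fun i _ => mul_pack _ _ _ _

theorem fld_mkN' {W d i j : ℕ} {f : ℕ → ℕ → ℕ} (h : ∀ i < d, ∀ j < d, f i j < 2 ^ W) (hi : i < d) (hj : j < d) :
    fld W (mkN W d f) (d * i + j) = f i j := by
  rw [← fld_fld _ _ _ _ hj, mkN_eq, fld_pack' (fun i hi => pack_lt' (h i hi)) hi, fld_pack' (h i hi) hj]

theorem and_mkN {W d : ℕ} {g : ℕ → ℕ → ℕ} (h : ∀ i < d, ∀ j < d, g i j < 2 ^ W) (Y : ℕ) :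
    Y &&& mkN W d g = mkN W d fun i j => fld W Y (d * i + j) &&& g i j := by
  rw [mkN_eq, and_pack fun i hi => pack_lt' (h i hi)]
  refine pack_congr fun i hi => ?_
  rw [and_pack (h i hi)]
  exact pack_congr fun j hj => by rw [fld_fld _ _ _ _ hj]

theorem fld_shift_and {W s : ℕ} (hs : s ≤ W) (Y t : ℕ) :
    fld W (Y >>> s) t &&& (2 ^ (W - s) - 1) = fld W Y t / 2 ^ s := by
  apply Nat.eq_of_testBit_eq; intro i
  simp only [fld_eq, Nat.testBit_mod_two_pow, Nat.testBit_div_two_pow, Nat.testBit_and,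
    Nat.testBit_two_pow_sub_one, Nat.testBit_shiftRight]
  by_cases h : i < W - s
  · have h1 : i < W := by omega
    have h2 : i + s < W := by omega
    simp only [h, h1, h2, decide_true, Bool.true_and, Bool.and_true]
    congr 1; omega
  · have h2 : ¬ i + s < W := by omega
    simp [h, h2]

/-- column mask -/
noncomputable def cM (W d : ℕ) : ℕ := pack (Nat.mul W d) (fun _ => Nat.sub (Nat.pow 2 W) 1) d
/-- constant matrix -/
noncomputable def kM (W d c : ℕ) : ℕ := (fun r => frc r (pack (Nat.mul W d) (fun _ => r) d)) (pack W (fun _ => c) d)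
/-- identity matrix -/
noncomputable def iM (W d : ℕ) : ℕ := pack (Nat.mul W d) (fun i => Nat.shiftLeft 1 (Nat.mul W i)) d

theorem kM_eq (W d c : ℕ) : kM W d c = mkN W d fun _ _ => c := by simp only [kM, frc_eq]; rfl

theorem pack_one (W n i : ℕ) : pack W (fun j => if i = j then 1 else 0) n = if i < n then 2 ^ (W * i) else 0 := by
  induction n with
  | zero => rfl
  | succ n ih =>
    rw [pack_succ, ih]
    rcases lt_trichotomy i n with h | rfl | h
    · rw [if_pos h, if_neg h.ne, if_pos (by omega)]; simp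
    · simp
    · rw [if_neg (by omega), if_neg h.ne', if_neg (by omega)]; simp

theorem iM_eq (W d : ℕ) : iM W d = mkN W d fun i j => if i = j then 1 else 0 :=
  pack_congr fun i hi => by
    rw [pack_one, if_pos hi]; exact (Nat.shiftLeft_eq 1 _).trans (one_mul _)

/-- the unreduced product -/
noncomputable def sumB (W d C A B n : ℕ) : ℕ :=
  @Nat.rec (fun _ => ℕ) 0 (fun k acc => Nat.add acc
    (Nat.mul (Nat.land (Nat.shiftRight A (Nat.mul W k)) C) (fld (Nat.mul W d) B k))) n

theorem col_eq (W d A k : ℕ) :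
    (A >>> (W * k)) &&& cM W d = pack (W * d) (fun i => fld W A (d * i + k)) d ∨ d = 0 := by
  rcases Nat.eq_zero_or_pos d with h | h
  · exact Or.inr h
  left
  have h1 : 2 ^ W ≤ 2 ^ (W * d) := Nat.pow_le_pow_right (by decide) (Nat.le_mul_of_pos_right _ h)
  have h2 : ∀ t < d, 2 ^ W - 1 < 2 ^ (W * d) := fun _ _ => by have := Nat.two_pow_pos W; omega
  refine (and_pack h2 _).trans (pack_congr fun i _ => ?_)
  have h3 := fld_fld W d (A >>> (W * k)) i h
  rw [fld_eq, mul_zero, pow_zero, Nat.div_one] at h3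
  rw [Nat.and_two_pow_sub_one_eq_mod, h3]
  exact (fld_shift W A k _).trans (by rw [add_zero, add_comm])

theorem sumB_eq (W d A B n : ℕ) : sumB W d (cM W d) A B n =
    mkN W d fun i j => ∑ k ∈ Finset.range n, fld W A (d * i + k) * fld W B (d * k + j) := by
  induction n with
  | zero =>
    have := mul_mkN W d 0 fun _ _ => 0
    simp only [zero_mul] at this
    simp only [Finset.range_zero, Finset.sum_empty]
    exact this
  | succ n ih =>
    rcases col_eq W d A n with h | rfl
    · have e : sumB W d (cM W d) A B (n + 1) =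
          sumB W d (cM W d) A B n + ((A >>> (W * n)) &&& cM W d) * fld (W * d) B n := rfl
      have r : fld (W * d) B n = pack W (fun j => fld W B (d * n + j)) d :=
        (eq_pack (fld_lt _ _ _)).trans (pack_congr fun j hj => fld_fld _ _ _ _ hj)
      rw [e, ih, h, pack_mul, r]
      simp only [mul_pack, Finset.sum_range_succ]
      exact mkN_add W d _ fun i j => fld W A (d * i + n) * fld W B (d * n + j)
    · have e : sumB W 0 (cM W 0) A B (n + 1) =
          sumB W 0 (cM W 0) A B n + ((A >>> (W * n)) &&& 0) * fld (W * 0) B n := rfl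
      rw [e, ih]; simp; rfl

/-- fieldwise reduction -/
noncomputable def redB (p k s Q X : ℕ) : ℕ :=
  Nat.sub X (Nat.mul p (Nat.land (Nat.shiftRight (Nat.mul k X) s) Q))

theorem redB_eq {W d p k s N : ℕ} (hs : s ≤ W) (hN : k * N < 2 ^ W) (hk : ∀ x ≤ N, k * x / 2 ^ s = x / p)
    {c : ℕ → ℕ → ℕ} (hc : ∀ i < d, ∀ j < d, c i j ≤ N) :
    redB p k s (kM W d (2 ^ (W - s) - 1)) (mkN W d c) = mkN W d fun i j => c i j % p := by
  have h1 : 2 ^ (W - s) - 1 < 2 ^ W := by
    have := Nat.pow_le_pow_right (show 0 < 2 by decide) (Nat.sub_le W s)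
    have := Nat.two_pow_pos (W - s); omega
  have e : redB p k s (kM W d (2 ^ (W - s) - 1)) (mkN W d c) =
      mkN W d c - p * (((k * mkN W d c) >>> s) &&& kM W d (2 ^ (W - s) - 1)) := rfl
  have q : ((k * mkN W d c) >>> s) &&& kM W d (2 ^ (W - s) - 1) = mkN W d fun i j => c i j / p := by
    rw [kM_eq, and_mkN fun _ _ _ _ => h1, mul_mkN]
    refine mkN_congr fun i hi j hj => ?_
    rw [fld_shift_and hs, fld_mkN' (fun i hi j hj => lt_of_le_of_lt (Nat.mul_le_mul_left k (hc i hi j hj)) hN) hi hj,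
      hk _ (hc i hi j hj)]
  rw [e, q, mul_mkN]
  symm
  apply Nat.eq_sub_of_add_eq
  rw [mkN_add]
  exact mkN_congr fun i _ j _ => Nat.mod_add_div _ _

/-- the product -/
noncomputable def mulB (W d p k s C Q A B : ℕ) : ℕ := (fun X => frc X (redB p k s Q X)) (sumB W d C A B d)

/-- entries at most `b` -/
def Sm (W d b A : ℕ) : Prop := ∀ i < d, ∀ j < d, fld W A (d * i + j) ≤ b

/-- the matrix of a code -/
def toM (W d p A : ℕ) : Matrix (Fin d) (Fin d) (ZMod p) := Matrix.of fun i j => (fld W A (d * i + j) : ZMod p)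

/-- admissible parameters -/
structure Par (W d p k s b : ℕ) : Prop where
  hs : s ≤ W
  hN : k * (d * (b * b)) < 2 ^ W
  hk : ∀ x ≤ d * (b * b), k * x / 2 ^ s = x / p
  hp : 0 < p
  hb : p ≤ b + 1
  hW : b < 2 ^ W
  h1 : 1 ≤ b

variable {W d p k s b : ℕ}

theorem mulB_eq (h : Par W d p k s b) {A B : ℕ} (hA : Sm W d b A) (hB : Sm W d b B) :
    mulB W d p k s (cM W d) (kM W d (2 ^ (W - s) - 1)) A B =
      mkN W d fun i j => (∑ k ∈ Finset.range d, fld W A (d * i + k) * fld W B (d * k + j)) % p := by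
  simp only [mulB, frc_eq]
  rw [sumB_eq, redB_eq h.hs h.hN h.hk]
  intro i hi j hj
  refine (Finset.sum_le_card_nsmul _ _ (b * b) fun t ht => ?_).trans (by simp)
  exact Nat.mul_le_mul (hA i hi t (Finset.mem_range.1 ht)) (hB t (Finset.mem_range.1 ht) j hj)

theorem mulB_spec (h : Par W d p k s b) {A B : ℕ} (hA : Sm W d b A) (hB : Sm W d b B) :
    Sm W d b (mulB W d p k s (cM W d) (kM W d (2 ^ (W - s) - 1)) A B) ∧
    toM W d p (mulB W d p k s (cM W d) (kM W d (2 ^ (W - s) - 1)) A B) = toM W d p A * toM W d p B := by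
  have hl : ∀ x, x % p ≤ b := fun x => by have := Nat.mod_lt x h.hp; have := h.hb; omega
  rw [mulB_eq h hA hB]
  refine ⟨fun i hi j hj => ?_, ?_⟩
  · rw [fld_mkN' (fun _ _ _ _ => lt_of_le_of_lt (hl _) h.hW) hi hj]; exact hl _
  · ext i j
    rw [toM, Matrix.of_apply, fld_mkN' (fun _ _ _ _ => lt_of_le_of_lt (hl _) h.hW) i.2 j.2, ZMod.natCast_mod,
      Finset.sum_range, Matrix.mul_apply]
    push_cast; rfl

theorem iM_spec (h : Par W d p k s b) : Sm W d b (iM W d) ∧ toM W d p (iM W d) = 1 := by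
  have hl : ∀ i j : ℕ, (if i = j then 1 else 0) ≤ b := fun i j => by have := h.h1; split_ifs <;> omega
  rw [iM_eq]
  refine ⟨fun i hi j hj => ?_, ?_⟩
  · rw [fld_mkN' (fun _ _ _ _ => lt_of_le_of_lt (hl _ _) h.hW) hi hj]; exact hl _ _
  · ext i j
    rw [toM, Matrix.of_apply, fld_mkN' (fun _ _ _ _ => lt_of_le_of_lt (hl _ _) h.hW) i.2 j.2, Matrix.one_apply]
    simp [Fin.ext_iff]

theorem sm_of (h : Par W d p k s b) {A : ℕ} (hA : Nat.beq (Nat.land A (kM W d b)) A = true) : Sm W d b A := by
  have e : A &&& kM W d b = A := Nat.eq_of_beq_eq_true hA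
  intro i hi j hj
  rw [← e, kM_eq, and_mkN fun _ _ _ _ => h.hW,
    fld_mkN' (fun _ _ _ _ => lt_of_le_of_lt Nat.and_le_right h.hW) hi hj]
  exact Nat.and_le_right

/-- multiply by a word in involutions -/
noncomputable def runB (W d p k s C Q : ℕ) (L : List ℕ) (w : Word) : ℕ → ℕ :=
  @List.rec ℕ (fun _ => ℕ → ℕ) (fun X => X)
    (fun x _ ih X => (fun Y => frc Y (ih Y)) (mulB W d p k s C Q (getL 0 L (Nat.div x 2)) X)) w

/-- the check of a list of relations -/
noncomputable def chkB (W d p k s : ℕ) (L : List ℕ) (l : List (Word × Word)) : Bool :=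
  (fun C Q I => frc C (frc Q (frc I (@List.rec (Word × Word) (fun _ => Bool) true
    (fun r _ ih => @Bool.rec (fun _ => Bool) false ih
      (Nat.beq (runB W d p k s C Q L r.1 I) (runB W d p k s C Q L r.2 I))) l))))
    (cM W d) (kM W d (Nat.sub (Nat.pow 2 (Nat.sub W s)) 1)) (iM W d)

theorem runB_spec (h : Par W d p k s b) {L : List ℕ} (hL : ∀ x, Sm W d b (getL 0 L x))
    {g : ℕ → GL (Fin d) (ZMod p)} {w : Word}
    (hg : ∀ x ∈ w, (letter g x).val = toM W d p (getL 0 L (x / 2))) {X : ℕ} (hX : Sm W d b X) :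
    toM W d p (runB W d p k s (cM W d) (kM W d (2 ^ (W - s) - 1)) L w X) =
      (ev g w).val * toM W d p X := by
  induction w generalizing X with
  | nil => simp; rfl
  | cons x w ih =>
    have e : runB W d p k s (cM W d) (kM W d (2 ^ (W - s) - 1)) L (x :: w) X =
        runB W d p k s (cM W d) (kM W d (2 ^ (W - s) - 1)) L w
          (mulB W d p k s (cM W d) (kM W d (2 ^ (W - s) - 1)) (getL 0 L (x / 2)) X) := by
      simp only [runB, frc_eq]; rfl
    have m := mulB_spec h (hL (x / 2)) hX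
    rw [e, ih (fun y hy => hg y (List.mem_cons_of_mem _ hy)) m.1, m.2, ev_cons, Units.val_mul,
      hg x List.mem_cons_self, Matrix.mul_assoc]

theorem chkB_run {L : List ℕ} {l : List (Word × Word)} (hc : chkB W d p k s L l = true) : ∀ r ∈ l,
    runB W d p k s (cM W d) (kM W d (2 ^ (W - s) - 1)) L r.1 (iM W d) =
      runB W d p k s (cM W d) (kM W d (2 ^ (W - s) - 1)) L r.2 (iM W d) := by
  simp only [chkB, frc_eq] at hc
  induction l with
  | nil => exact fun _ h => nomatch h
  | cons r l ih =>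
    cases e : Nat.beq (runB W d p k s (cM W d) (kM W d (Nat.sub (Nat.pow 2 (Nat.sub W s)) 1)) L r.1 (iM W d))
      (runB W d p k s (cM W d) (kM W d (Nat.sub (Nat.pow 2 (Nat.sub W s)) 1)) L r.2 (iM W d))
    · simp only [e] at hc; exact nomatch hc
    · simp only [e] at hc
      intro r' hr'
      rcases List.mem_cons.1 hr' with rfl | hr'
      exacts [Nat.eq_of_beq_eq_true e, ih hc r' hr']

theorem rels_of_chkB (h : Par W d p k s b) {L : List ℕ} (hL : ∀ x, Sm W d b (getL 0 L x))
    {g : ℕ → GL (Fin d) (ZMod p)} {l : List (Word × Word)}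
    (hg : ∀ r ∈ l, ∀ x ∈ r.1 ++ r.2, (letter g x).val = toM W d p (getL 0 L (x / 2)))
    (hc : chkB W d p k s L l = true) : Rels g l := fun r hr => by
  have e := congrArg (toM W d p) (chkB_run hc r hr)
  have i := iM_spec h
  rw [runB_spec h hL (fun x hx => hg r hr x (List.mem_append_left _ hx)) i.1,
    runB_spec h hL (fun x hx => hg r hr x (List.mem_append_right _ hx)) i.1, i.2, mul_one, mul_one] at e
  exact Units.ext e

/-- the unit of an involution (and `1` otherwise) -/
noncomputable def invU {n R : Type*} [Fintype n] [DecidableEq n] [CommRing R] (A : Matrix n n R) : GL n R :=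
  open Classical in if h : A * A = 1 then ⟨A, A, h, h⟩ else 1

theorem letter_invU {n R : Type*} [Fintype n] [DecidableEq n] [CommRing R] (A : ℕ → Matrix n n R) {x : ℕ}
    (h : A (x / 2) * A (x / 2) = 1) : (letter (fun i => invU (A i)) x).val = A (x / 2) := by
  unfold letter invU
  simp only [dif_pos h]
  split_ifs <;> rfl

theorem sq_of_chkB (h : Par W d p k s b) {L : List ℕ} (hL : ∀ x, Sm W d b (getL 0 L x)) {m : ℕ}
    (hc : chkB W d p k s L ((List.range m).map fun i => ([2 * i, 2 * i], [])) = true) {i : ℕ} (hi : i < m) :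
    toM W d p (getL 0 L i) * toM W d p (getL 0 L i) = 1 := by
  have e := congrArg (toM W d p) (chkB_run hc _ (List.mem_map.2 ⟨i, List.mem_range.2 hi, rfl⟩))
  have e1 : ∀ C Q X, runB W d p k s C Q L [2 * i, 2 * i] X =
      mulB W d p k s C Q (getL 0 L (2 * i / 2)) (mulB W d p k s C Q (getL 0 L (2 * i / 2)) X) := fun C Q X => by
    simp only [runB, frc_eq]; rfl
  have e2 : ∀ C Q X, runB W d p k s C Q L [] X = X := fun _ _ _ => rfl
  have i1 := iM_spec h
  have m1 := mulB_spec h (hL i) i1.1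
  have m2 := mulB_spec h (hL i) m1.1
  rw [e1, e2, Nat.mul_div_cancel_left _ (by decide), m2.2, m1.2, i1.2, mul_one] at e
  exact e

theorem sm_getL (h : Par W d p k s b) {L : List ℕ}
    (hL : L.all (fun A => Nat.beq (Nat.land A (kM W d b)) A) = true) (x : ℕ) : Sm W d b (getL 0 L x) := by
  induction L generalizing x with
  | nil => intro i _ j _; simp [fld_eq]
  | cons A L ih =>
    rw [List.all_cons, Bool.and_eq_true] at hL
    cases x with
    | zero => exact sm_of h hL.1
    | succ x => exact ih hL.2 x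

/-- the generators -/
noncomputable def gens (W d p : ℕ) (L : List ℕ) (i : ℕ) : GL (Fin d) (ZMod p) := invU (toM W d p (getL 0 L i))

theorem rels_gens (h : Par W d p k s b) {L : List ℕ} {m : ℕ}
    (hL : L.all (fun A => Nat.beq (Nat.land A (kM W d b)) A) = true)
    (hs : chkB W d p k s L ((List.range m).map fun i => ([2 * i, 2 * i], [])) = true)
    {l : List (Word × Word)} (hl : l.all (fun r => (r.1 ++ r.2).all fun x => x / 2 < m) = true)
    (hc : chkB W d p k s L l = true) : Rels (gens W d p L) l := by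
  refine rels_of_chkB h (sm_getL h hL) (fun r hr x hx => ?_) hc
  have := List.all_eq_true.1 (List.all_eq_true.1 hl r hr) x hx
  exact letter_invU (fun i => toM W d p (getL 0 L i)) (sq_of_chkB h (sm_getL h hL) hs (by simpa using this))

theorem gens_val (h : Par W d p k s b) {L : List ℕ} {m : ℕ}
    (hL : L.all (fun A => Nat.beq (Nat.land A (kM W d b)) A) = true)
    (hs : chkB W d p k s L ((List.range m).map fun i => ([2 * i, 2 * i], [])) = true) {i : ℕ} (hi : i < m) :
    (gens W d p L i).val = toM W d p (getL 0 L i) := by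
  unfold gens invU
  rw [dif_pos (sq_of_chkB h (sm_getL h hL) hs hi)]

end H14.BM
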