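import Cfsg.Agent.H14.KhM22T
import Cfsg.Agent.L.KF

/-! Generated certificate (toolsL/cg.hpp). -/
set_option autoImplicit false
set_option maxRecDepth 200000
set_option Elab.async false
set_option linter.unusedVariables false
set_option linter.unusedSectionVars false

namespace L.KhM22
open H14 L.KhM22T
variable {G Ω : Type*} [Group G] [Finite G] [MulAction G Ω]

noncomputable def w0 : Word := [nat_lit 0]
noncomputable def w1 : Word := [nat_lit 2]
theorem k2 : orbChk (nat_lit 24) H14.M22c.nets F [] (sel [w0, w1] [nat_lit 0, nat_lit 1]) [dw (nat_lit 0x01), dw (nat_lit 0x03), dw (nat_lit 0x01), dw (nat_lit 0x03)] (dn (nat_lit 12) (nat_lit 0x4c15412c14811021010811821810c1)) (bit (nat_lit 1)) (nat_lit 0x7ffffe) = true := by decide +kernel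
theorem o3 (M : PM G Ω 24 H14.M22c.nets) (hN : Nat.card G = 443520) : Orb M ⊤ [] (nat_lit 1) (nat_lit 0x7ffffe) :=
  (Orb.ext le_top (orb_bit ⊤ [] (b := (nat_lit 1)) rfl) k2)
noncomputable def w4 : Word := [nat_lit 8]
noncomputable def w5 : Word := [nat_lit 10]
theorem k6 : orbChk (nat_lit 24) H14.M22c.nets F [nat_lit 1] (sel [w4, w5] [nat_lit 0, nat_lit 1]) [dw (nat_lit 0x01), dw (nat_lit 0x03), dw (nat_lit 0x01), dw (nat_lit 0x03)] (dn (nat_lit 12) (nat_lit 0x4c22020c15413c23c1482481401281)) (bit (nat_lit 2)) (nat_lit 0x7ffffc) = true := by decide +kernel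
theorem o7 (M : PM G Ω 24 H14.M22c.nets) (hN : Nat.card G = 443520) : Orb M ⊤ [nat_lit 1] (nat_lit 2) (nat_lit 0x7ffffc) :=
  (Orb.ext le_top (orb_bit ⊤ [nat_lit 1] (b := (nat_lit 2)) rfl) k6)
noncomputable def w8 : Word := [nat_lit 12]
noncomputable def w9 : Word := [nat_lit 14]
theorem k10 : orbChk (nat_lit 24) H14.M22c.nets F [nat_lit 2, nat_lit 1] (sel [w8, w9] [nat_lit 0, nat_lit 1]) [dw (nat_lit 0x01), dw (nat_lit 0x03), dw (nat_lit 0x01)] (dn (nat_lit 12) (nat_lit 0x2012811021014c1441502501401182181242142)) (bit (nat_lit 3)) (nat_lit 0x7ffff8) = true := by decide +kernel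
theorem o11 (M : PM G Ω 24 H14.M22c.nets) (hN : Nat.card G = 443520) : Orb M ⊤ [nat_lit 2, nat_lit 1] (nat_lit 3) (nat_lit 0x7ffff8) :=
  (Orb.ext le_top (orb_bit ⊤ [nat_lit 2, nat_lit 1] (b := (nat_lit 3)) rfl) k10)
noncomputable def w12 : Word := [nat_lit 16]
noncomputable def w13 : Word := [nat_lit 18]
noncomputable def w14 : Word := [nat_lit 20]
theorem k15 : orbChk (nat_lit 24) H14.M22c.nets F [nat_lit 3, nat_lit 2, nat_lit 1] (sel [w12, w13, w14] [nat_lit 0, nat_lit 1, nat_lit 2]) [dw (nat_lit 0x01), dw (nat_lit 0x03), dw (nat_lit 0x01)] (dn (nat_lit 12) (nat_lit 0x4012421c14834812c2183182103)) (bit (nat_lit 4)) (nat_lit 0x7dbfd0) = true := by decide +kernel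
theorem o16 (M : PM G Ω 24 H14.M22c.nets) (hN : Nat.card G = 443520) : Orb M ⊤ [nat_lit 3, nat_lit 2, nat_lit 1] (nat_lit 4) (nat_lit 0x7dbfd0) :=
  (Orb.ext le_top (orb_bit ⊤ [nat_lit 3, nat_lit 2, nat_lit 1] (b := (nat_lit 4)) rfl) k15)
noncomputable def w17 : Word := [nat_lit 22]
theorem k18 : orbChk (nat_lit 24) H14.M22c.nets F [nat_lit 4, nat_lit 3, nat_lit 2, nat_lit 1] (sel [w17] [nat_lit 0]) [] (dn (nat_lit 12) (nat_lit 0x441141)) (bit (nat_lit 5)) (nat_lit 0x24020) = true := by decide +kernel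
theorem o19 (M : PM G Ω 24 H14.M22c.nets) (hN : Nat.card G = 443520) : Orb M ⊤ [nat_lit 4, nat_lit 3, nat_lit 2, nat_lit 1] (nat_lit 5) (nat_lit 0x24020) :=
  (Orb.ext le_top (orb_bit ⊤ [nat_lit 4, nat_lit 3, nat_lit 2, nat_lit 1] (b := (nat_lit 5)) rfl) k18)
noncomputable def c20 : Chn := [((nat_lit 1), (nat_lit 0x7ffffe)), ((nat_lit 2), (nat_lit 0x7ffffc)), ((nat_lit 3), (nat_lit 0x7ffff8)), ((nat_lit 4), (nat_lit 0x7dbfd0)), ((nat_lit 5), (nat_lit 0x24020))]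
theorem k21 : Nat.ble 443520 (cval (nat_lit 24) c20) = true := by decide +kernel
theorem e22 (M : PM G Ω 24 H14.M22c.nets) (hN : Nat.card G = 443520) : EC M ⊤ [] c20 :=
  ec_top (c := c20) ⟨(o3 M hN), ⟨(o7 M hN), ⟨(o11 M hN), ⟨(o16 M hN), ⟨(o19 M hN), trivial⟩⟩⟩⟩⟩ hN k21
noncomputable def bs0 : List Nat := [nat_lit 1, nat_lit 2, nat_lit 3, nat_lit 4, nat_lit 5]
theorem base0 (M : PM G Ω 24 H14.M22c.nets) (hN : Nat.card G = 443520) : IsBase M bs0 :=
  base_of_ec (e22 M hN) (by decide +kernel)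

end L.KhM22
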