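import Cfsg.Agent.H14.CZ3
import Cfsg.Agent.H14.KhM22

/-! Generated certificate (toolsL/cg.hpp). -/
set_option autoImplicit false
set_option maxRecDepth 200000
set_option Elab.async false
set_option linter.unusedVariables false
set_option linter.unusedSectionVars false

namespace L.BkM22
open H14 L.KhM22T L.KhM22
variable {G Ω : Type*} [Group G] [Finite G] [MulAction G Ω]

noncomputable def a : Word := [nat_lit 22, nat_lit 21, nat_lit 12, nat_lit 18, nat_lit 10]
noncomputable def w0 : Word := [nat_lit 12]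
noncomputable def w1 : Word := [nat_lit 14]
theorem k2 : orbChk (nat_lit 24) H14.M22c.nets F [nat_lit 2, nat_lit 1] (sel [w0, w1] [nat_lit 0, nat_lit 1]) [dw (nat_lit 0x01), dw (nat_lit 0x03), dw (nat_lit 0x01), dw (nat_lit 0x03)] (dn (nat_lit 12) (nat_lit 0x1411c21c13c1482101401201341)) (bit (nat_lit 11)) (nat_lit 0x7ffff8) = true := by decide +kernel
theorem o3 (M : PM G Ω 24 H14.M22c.nets) (hN : Nat.card G = 443520) : Orb M ⊤ [nat_lit 2, nat_lit 1] (nat_lit 11) (nat_lit 0x7ffff8) :=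
  (Orb.ext le_top (orb_bit ⊤ [nat_lit 2, nat_lit 1] (b := (nat_lit 11)) rfl) k2)
noncomputable def w4 : Word := [nat_lit 16, nat_lit 14]
noncomputable def w5 : Word := [nat_lit 20, nat_lit 18]
noncomputable def w6 : Word := [nat_lit 12, nat_lit 15, nat_lit 16]
theorem k7 : orbChk (nat_lit 24) H14.M22c.nets F [nat_lit 11, nat_lit 2, nat_lit 1] (sel [w4, w5, w6] [nat_lit 0, nat_lit 1, nat_lit 2]) [dw (nat_lit 0x01), dw (nat_lit 0x03)] (dn (nat_lit 12) (nat_lit 0x5433c35031c31421824024014c24c1281103)) (bit (nat_lit 4)) (nat_lit 0x7be6f8) = true := by decide +kernel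
theorem o8 (M : PM G Ω 24 H14.M22c.nets) (hN : Nat.card G = 443520) : Orb M ⊤ [nat_lit 11, nat_lit 2, nat_lit 1] (nat_lit 4) (nat_lit 0x7be6f8) :=
  (Orb.ext le_top (orb_bit ⊤ [nat_lit 11, nat_lit 2, nat_lit 1] (b := (nat_lit 4)) rfl) k7)
noncomputable def w9 : Word := [nat_lit 13, nat_lit 23, nat_lit 15]
theorem k10 : orbChk (nat_lit 24) H14.M22c.nets F [nat_lit 4, nat_lit 11, nat_lit 2, nat_lit 1] (sel [w9] [nat_lit 0]) [] (dn (nat_lit 12) (nat_lit 0x441541)) (bit (nat_lit 21)) (nat_lit 0x228000) = true := by decide +kernel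
theorem o11 (M : PM G Ω 24 H14.M22c.nets) (hN : Nat.card G = 443520) : Orb M ⊤ [nat_lit 4, nat_lit 11, nat_lit 2, nat_lit 1] (nat_lit 21) (nat_lit 0x228000) :=
  (Orb.ext le_top (orb_bit ⊤ [nat_lit 4, nat_lit 11, nat_lit 2, nat_lit 1] (b := (nat_lit 21)) rfl) k10)
noncomputable def c12 : Chn := [((nat_lit 1), (nat_lit 0x7ffffe)), ((nat_lit 2), (nat_lit 0x7ffffc)), ((nat_lit 11), (nat_lit 0x7ffff8)), ((nat_lit 4), (nat_lit 0x7be6f8)), ((nat_lit 21), (nat_lit 0x228000))]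
theorem k13 : Nat.ble 443520 (cval (nat_lit 24) c12) = true := by decide +kernel
theorem e14 (M : PM G Ω 24 H14.M22c.nets) (hN : Nat.card G = 443520) : EC M ⊤ [] c12 :=
  ec_top (c := c12) ⟨(L.KhM22.o3 M hN), ⟨(L.KhM22.o7 M hN), ⟨(o3 M hN), ⟨(o8 M hN), ⟨(o11 M hN), trivial⟩⟩⟩⟩⟩ hN k13
noncomputable def p15 : Prs := [(a, a)]
theorem k16 : band (Nat.ble (nat_lit 24) (Nat.pow 2 (nat_lit 5))) (fsChk (nat_lit 24) (nat_lit 5) H14.M22c.nets a (nat_lit 0xa44413) (full (nat_lit 24)) 0 0 (nat_lit 5)) = true := by decide +kernel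
theorem f17 (M : PM G Ω 24 H14.M22c.nets) (hN : Nat.card G = 443520) : IsFix M a (nat_lit 0xa44413) :=
  fix_one k16
theorem k18 : relK F bs0 [(a, flat (fsts p15) [nat_lit 0]), (a, flat (snds p15) [nat_lit 0])] = true := by decide +kernel
noncomputable def b19 : List (Nat × Nat) := [((nat_lit 0xa44413), (nat_lit 0xa44413))]
noncomputable def y20 : List Word := []
theorem k21 : relK F bs0 (commR (snds p15) y20) = true := by decide +kernel
theorem x22 (M : PM G Ω 24 H14.M22c.nets) (hN : Nat.card G = 443520) : Cx M (fun g => Pr M g p15) b19 [] p15 y20 :=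
  cx_conj (tb_cons (f17 M hN) (f17 M hN) (rels_base (base0 M hN) k18) (fun _ _ => fa_nil)) (rels_base (base0 M hN) k21)
noncomputable def t23 : KT := KT.nil (SE.and (SE.lev (nat_lit 0)) (SE.tab (nat_lit 0))) [] [] []
theorem k24 : ktChk (nat_lit 24) H14.M22c.nets F c12 b19 [] p15 y20 [] [] (nat_lit 0) (nat_lit 1) (nat_lit 0x244412) 0 t23 = true := by decide +kernel
theorem l25 (M : PM G Ω 24 H14.M22c.nets) (hN : Nat.card G = 443520) : Cl M (fun g => Pr M g p15) [] [] (nat_lit 1) (nat_lit 0x244412) :=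
  cl_tree (e14 M hN) (x22 M hN) (dd0 _ _ _ _) k24
noncomputable def t26 : KT := KT.nil (SE.dif (SE.lev (nat_lit 1)) (SE.tab (nat_lit 0))) [] [] []
theorem k27 : ktChk (nat_lit 24) H14.M22c.nets F c12 b19 [] p15 y20 [] [nat_lit 1] (nat_lit 1) (nat_lit 2) (nat_lit 0x5bbbec) 0 t26 = true := by decide +kernel
theorem l28 (M : PM G Ω 24 H14.M22c.nets) (hN : Nat.card G = 443520) : Cl M (fun g => Pr M g p15) [] [nat_lit 1] (nat_lit 2) (nat_lit 0x5bbbec) :=
  cl_tree (e14 M hN) (x22 M hN) (dd0 _ _ _ _) k27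
noncomputable def t29 : KT := KT.liv (nat_lit 2) [nat_lit 0]
theorem k30 : ktChk (nat_lit 24) H14.M22c.nets F c12 b19 [] p15 y20 [] [nat_lit 2, nat_lit 1] (nat_lit 2) (nat_lit 11) (bit (nat_lit 11)) 0 t29 = true := by decide +kernel
theorem l31 (M : PM G Ω 24 H14.M22c.nets) (hN : Nat.card G = 443520) : Cl M (fun g => Pr M g p15) [] [nat_lit 2, nat_lit 1] (nat_lit 11) (bit (nat_lit 11)) :=
  cl_tree (e14 M hN) (x22 M hN) (dd0 _ _ _ _) k30
noncomputable def t32 : KT := KT.nil (SE.and (SE.lev (nat_lit 3)) (SE.tab (nat_lit 0))) [] [] []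
theorem k33 : ktChk (nat_lit 24) H14.M22c.nets F c12 b19 [] p15 y20 [] [nat_lit 11, nat_lit 2, nat_lit 1] (nat_lit 3) (nat_lit 4) (nat_lit 0x204410) 0 t32 = true := by decide +kernel
theorem l34 (M : PM G Ω 24 H14.M22c.nets) (hN : Nat.card G = 443520) : Cl M (fun g => Pr M g p15) [] [nat_lit 11, nat_lit 2, nat_lit 1] (nat_lit 4) (nat_lit 0x204410) :=
  cl_tree (e14 M hN) (x22 M hN) (dd0 _ _ _ _) k33
noncomputable def t35 : KT := KT.nil (SE.and (SE.lev (nat_lit 4)) (SE.tab (nat_lit 0))) [] [] []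
theorem k36 : ktChk (nat_lit 24) H14.M22c.nets F c12 b19 [] p15 y20 [] [nat_lit 4, nat_lit 11, nat_lit 2, nat_lit 1] (nat_lit 4) (nat_lit 21) (bit (nat_lit 21)) 0 t35 = true := by decide +kernel
theorem l37 (M : PM G Ω 24 H14.M22c.nets) (hN : Nat.card G = 443520) : Cl M (fun g => Pr M g p15) [] [nat_lit 4, nat_lit 11, nat_lit 2, nat_lit 1] (nat_lit 21) (bit (nat_lit 21)) :=
  cl_tree (e14 M hN) (x22 M hN) (dd0 _ _ _ _) k36
noncomputable def c38 : Chn := [((nat_lit 1), (nat_lit 0x244412)), ((nat_lit 2), (nat_lit 0x5bbbec)), ((nat_lit 11), (bit (nat_lit 11))), ((nat_lit 4), (nat_lit 0x204410)), ((nat_lit 21), (bit (nat_lit 21)))]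
theorem e39 (M : PM G Ω 24 H14.M22c.nets) (hN : Nat.card G = 443520) : SC M (cenP M p15 rfl) [] c38 :=
  ⟨Cl.lev (l25 M hN), ⟨Cl.lev (l28 M hN), ⟨Cl.lev (l31 M hN), ⟨Cl.lev (l34 M hN), ⟨Cl.lev (l37 M hN), (EC.sc_end (e14 M hN) (by decide +kernel))⟩⟩⟩⟩⟩
theorem aup (M : PM G Ω 24 H14.M22c.nets) (hN : Nat.card G = 443520) : Nat.card (Subgroup.centralizer (sub M.gen [a] : Set G)) ≤ 384 :=
  (cenP_eq (M := M) (ps := p15) rfl ▸ SC.card_le' (e39 M hN) (by decide +kernel) : Nat.card (Subgroup.centralizer (sub M.gen (fsts p15) : Set G)) ≤ _)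
noncomputable def w40 : Word := [nat_lit 7, nat_lit 19, nat_lit 15, nat_lit 0]
noncomputable def w41 : Word := [nat_lit 15, nat_lit 6, nat_lit 8, nat_lit 6]
noncomputable def w42 : Word := [nat_lit 19, nat_lit 15, nat_lit 11, nat_lit 22]
noncomputable def w43 : Word := [nat_lit 20, nat_lit 17, nat_lit 13]
noncomputable def w44 : Word := [nat_lit 23, nat_lit 16, nat_lit 12, nat_lit 12]
noncomputable def aks : List Word := [w40, w41, w42, w43, w44]
noncomputable def c45 : Chn := [((nat_lit 1), (nat_lit 0x244412)), ((nat_lit 2), (nat_lit 0x5bbbec)), ((nat_lit 3), (nat_lit 0x10288)), ((nat_lit 4), (bit (nat_lit 4))), ((nat_lit 5), (bit (nat_lit 5)))]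
noncomputable def d46 : List OD := [⟨[nat_lit 3, nat_lit 0], [], (dn (nat_lit 12) (nat_lit 0x282542382381042))⟩,
 ⟨[nat_lit 1, nat_lit 2], [], (dn (nat_lit 12) (nat_lit 0x1c21c11821814c20c20c13023015825813c23c1082081))⟩,
 ⟨[nat_lit 3, nat_lit 4], [], (dn (nat_lit 12) (nat_lit 0x1c20c20c1))⟩,
 ⟨[], [], []⟩,
 ⟨[], [], []⟩]
theorem k47 : ocChk (nat_lit 24) H14.M22c.nets F aks c45 d46 [] = true := by decide +kernel
theorem o48 (M : PM G Ω 24 H14.M22c.nets) (hN : Nat.card G = 443520) : OC M (sub M.gen aks) [] c45 :=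
  oc_of le_rfl k47
theorem aks_low (M : PM G Ω 24 H14.M22c.nets) (hN : Nat.card G = 443520) : 384 ≤ Nat.card (sub M.gen aks) :=
  (OC.le_card' (N := 384) (o48 M hN) (by decide +kernel))
theorem k49 : relK F bs0 (commR [a] aks) = true := by decide +kernel
theorem acen (M : PM G Ω 24 H14.M22c.nets) (hN : Nat.card G = 443520) : (sub M.gen aks) ≤ (Subgroup.centralizer (sub M.gen [a] : Set G)) :=
  (le_cent_of (rels_base (base0 M hN) k49))
theorem aeqC (M : PM G Ω 24 H14.M22c.nets) (hN : Nat.card G = 443520) : Subgroup.centralizer {ev M.gen a} = (sub M.gen aks) ∧ Nat.card (sub M.gen aks) = 384 :=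
  cent_single M.gen a ▸ eq_of_cards (acen M hN) (aup M hN) (aks_low M hN)
noncomputable def w50 : Word := [nat_lit 4, nat_lit 22, nat_lit 18, nat_lit 5]
noncomputable def w51 : Word := [nat_lit 18, nat_lit 11, nat_lit 1, nat_lit 8, nat_lit 5]
noncomputable def w52 : Word := [nat_lit 20, nat_lit 12, nat_lit 11, nat_lit 15]
noncomputable def w53 : Word := [nat_lit 8, nat_lit 14, nat_lit 21, nat_lit 15]
noncomputable def aqz : List Word := [w50, w43, w51, w52, w53, a]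
noncomputable def aqws : List Word := List.append aqz []
theorem k54 : nrmRow F bs0 aqws (nat_lit 6) (nat_lit 0) (nat_lit 1) [[nat_lit 10, nat_lit 8, nat_lit 6, nat_lit 2],
 [nat_lit 8, nat_lit 4],
 [nat_lit 6],
 [nat_lit 8],
 [nat_lit 10]] (nat_lit 127) = true := by decide +kernel
theorem k55 : nrmRow F bs0 aqws (nat_lit 6) (nat_lit 1) (nat_lit 2) [[nat_lit 4],
 [nat_lit 10, nat_lit 6],
 [nat_lit 10, nat_lit 8],
 [nat_lit 10]] (nat_lit 127) = true := by decide +kernel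
theorem k56 : nrmRow F bs0 aqws (nat_lit 6) (nat_lit 2) (nat_lit 3) [[nat_lit 10, nat_lit 6],
 [nat_lit 8],
 [nat_lit 10]] (nat_lit 127) = true := by decide +kernel
theorem k57 : nrmRow F bs0 aqws (nat_lit 6) (nat_lit 3) (nat_lit 4) [[nat_lit 8],
 [nat_lit 10]] (nat_lit 127) = true := by decide +kernel
theorem k58 : nrmRow F bs0 aqws (nat_lit 6) (nat_lit 4) (nat_lit 5) [[nat_lit 10]] (nat_lit 127) = true := by decide +kernel
theorem k59 : nrmRow F bs0 aqws (nat_lit 6) (nat_lit 5) (nat_lit 6) [] (nat_lit 127) = true := by decide +kernel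
noncomputable def aqnm : List Nat := [nat_lit 127, nat_lit 127, nat_lit 127, nat_lit 127, nat_lit 127, nat_lit 127]
theorem aqhn (M : PM G Ω 24 H14.M22c.nets) (hN : Nat.card G = 443520) : NrmL (loc M.gen aqws) 6 0 aqnm :=
  (nrm_cons (base0 M hN) k54 (nrm_cons (base0 M hN) k55 (nrm_cons (base0 M hN) k56 (nrm_cons (base0 M hN) k57 (nrm_cons (base0 M hN) k58 (nrm_cons (base0 M hN) k59 trivial))))))
noncomputable def c60 : Chn := [((nat_lit 2), (nat_lit 0x5bbbec)), ((nat_lit 1), (nat_lit 0x40002)), ((nat_lit 4), (nat_lit 0x410))]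
noncomputable def d61 : List OD := [⟨[nat_lit 1, nat_lit 0, nat_lit 3], [], (dn (nat_lit 12) (nat_lit 0x5032430c30c22031831821c13c33c2141343341083082))⟩,
 ⟨[nat_lit 2], [], (dn (nat_lit 12) (nat_lit 0x041))⟩,
 ⟨[nat_lit 1], [], (dn (nat_lit 12) (nat_lit 0x101))⟩]
theorem k62 : ocChk (nat_lit 24) H14.M22c.nets F aqz c60 d61 [] = true := by decide +kernel
theorem o63 (M : PM G Ω 24 H14.M22c.nets) (hN : Nat.card G = 443520) : OC M (Nn (loc M.gen aqws) 6 0) [] c60 :=
  oc_of (sub_le_Nn M.gen aqz [] (m := 6) rfl) k62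
theorem k64 : powChk F bs0 aqws (nat_lit 2) (nat_lit 6) aqnm [[],
 [],
 [],
 [],
 [],
 []] = true := by decide +kernel
theorem aqpc (M : PM G Ω 24 H14.M22c.nets) (hN : Nat.card G = 443520) : Pc (loc M.gen aqws) 2 6 ∧ ∀ i ≤ 6, Nat.card (Nn (loc M.gen aqws) 6 i) = 2 ^ (6 - i) :=
  pc_of (base0 M hN) (by norm_num) (aqhn M hN) k64 (OC.le_card' (o63 M hN) (by decide +kernel))
noncomputable def aq : List Word := List.drop 0 aqz
theorem aq_card (M : PM G Ω 24 H14.M22c.nets) (hN : Nat.card G = 443520) : Nat.card (sub M.gen aq) = 2 ^ 6 :=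
  Nn_eq_sub M.gen aqz [] (m := 6) rfl 0 ▸ (aqpc M hN).2 0 (by decide)
noncomputable def v65 : List Word := [dw (nat_lit 0x070309), dw (nat_lit 0x07), dw (nat_lit 0x0207010905), dw (nat_lit 0x060907), dw (nat_lit 0x070509), dw (nat_lit 0x03070307)]
theorem k66 : relK F bs0 (memRels aks aq v65) = true := by decide +kernel
theorem aq_le (M : PM G Ω 24 H14.M22c.nets) (hN : Nat.card G = 443520) : (sub M.gen aq) ≤ (sub M.gen aks) :=
  (sub_le_of_memRels (rels_base (base0 M hN) k66))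
noncomputable def v67 : List (List Word) := [[dw (nat_lit 0x0109), dw (nat_lit 0x0509), dw (nat_lit 0x030507), dw (nat_lit 0x0709), dw (nat_lit 0x070b), dw (nat_lit 0x0b)],
 [dw (nat_lit 0x010709), dw (nat_lit 0x0307090b), dw (nat_lit 0x0305070b), dw (nat_lit 0x090b), dw (nat_lit 0x070b), dw (nat_lit 0x0b)],
 [dw (nat_lit 0x010709), dw (nat_lit 0x030b), dw (nat_lit 0x03050b), dw (nat_lit 0x090b), dw (nat_lit 0x070b), dw (nat_lit 0x0b)],
 [dw (nat_lit 0x0107090b), dw (nat_lit 0x03), dw (nat_lit 0x05), dw (nat_lit 0x070b), dw (nat_lit 0x090b), dw (nat_lit 0x0b)],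
 [dw (nat_lit 0x010b), dw (nat_lit 0x03), dw (nat_lit 0x0305), dw (nat_lit 0x09), dw (nat_lit 0x07), dw (nat_lit 0x0b)]]
theorem k68 : relK F bs0 (nrR aq aq aks v67) = true := by decide +kernel
theorem aq_nrm (M : PM G Ω 24 H14.M22c.nets) (hN : Nat.card G = 443520) : (sub M.gen aks) ≤ (Subgroup.normalizer (sub M.gen aq : Set G)) :=
  (le_normalizer_of le_rfl (rels_base (base0 M hN) k68) (by decide +kernel))
noncomputable def w69 : Word := [nat_lit 0]
noncomputable def w70 : Word := [nat_lit 2]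
theorem k71 : orbChk (nat_lit 24) H14.M22c.nets F [] (sel [w69, w70] [nat_lit 0, nat_lit 1]) [dw (nat_lit 0x01), dw (nat_lit 0x01), dw (nat_lit 0x03), dw (nat_lit 0x01)] (dn (nat_lit 12) (nat_lit 0x5813412c22822813c23c1542502501442441242241402)) (bit (nat_lit 2)) (nat_lit 0x7ffffe) = true := by decide +kernel
theorem o72 (M : PM G Ω 24 H14.M22c.nets) (hN : Nat.card G = 443520) : Orb M ⊤ [] (nat_lit 2) (nat_lit 0x7ffffe) :=
  (Orb.ext le_top (orb_bit ⊤ [] (b := (nat_lit 2)) rfl) k71)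
noncomputable def w73 : Word := [nat_lit 2, nat_lit 1]
theorem k74 : orbChk (nat_lit 24) H14.M22c.nets F [nat_lit 2] (sel [w0, w73] [nat_lit 0, nat_lit 1]) [dw (nat_lit 0x01), dw (nat_lit 0x01), dw (nat_lit 0x03), dw (nat_lit 0x01)] (dn (nat_lit 12) (nat_lit 0x4c12c22422412013423415421821810c2582)) (bit (nat_lit 5)) (nat_lit 0x7ffffa) = true := by decide +kernel
theorem o75 (M : PM G Ω 24 H14.M22c.nets) (hN : Nat.card G = 443520) : Orb M ⊤ [nat_lit 2] (nat_lit 5) (nat_lit 0x7ffffa) :=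
  (Orb.ext le_top (orb_bit ⊤ [nat_lit 2] (b := (nat_lit 5)) rfl) k74)
noncomputable def w76 : Word := [nat_lit 11, nat_lit 0]
noncomputable def w77 : Word := [nat_lit 19, nat_lit 17]
theorem k78 : orbChk (nat_lit 24) H14.M22c.nets F [nat_lit 5, nat_lit 2] (sel [w76, w77] [nat_lit 0, nat_lit 1]) [dw (nat_lit 0x01), dw (nat_lit 0x03), dw (nat_lit 0x01)] (dn (nat_lit 12) (nat_lit 0x2c23423413c25024015810415413811c21c1441)) (bit (nat_lit 6)) (nat_lit 0x7fffda) = true := by decide +kernel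
theorem o79 (M : PM G Ω 24 H14.M22c.nets) (hN : Nat.card G = 443520) : Orb M ⊤ [nat_lit 5, nat_lit 2] (nat_lit 6) (nat_lit 0x7fffda) :=
  (Orb.ext le_top (orb_bit ⊤ [nat_lit 5, nat_lit 2] (b := (nat_lit 6)) rfl) k78)
noncomputable def w80 : Word := [nat_lit 5, nat_lit 18, nat_lit 21, nat_lit 3]
noncomputable def w81 : Word := [nat_lit 8, nat_lit 12, nat_lit 16, nat_lit 7]
noncomputable def w82 : Word := [nat_lit 10, nat_lit 5, nat_lit 8, nat_lit 1]
theorem k83 : orbChk (nat_lit 24) H14.M22c.nets F [nat_lit 6, nat_lit 5, nat_lit 2] (sel [w80, w81, w82] [nat_lit 0, nat_lit 1, nat_lit 2]) [] (dn (nat_lit 12) (nat_lit 0x0c13023833824c34c24c15424034012032021c31c21c1)) (bit (nat_lit 7)) (nat_lit 0x7ff38a) = true := by decide +kernel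
theorem o84 (M : PM G Ω 24 H14.M22c.nets) (hN : Nat.card G = 443520) : Orb M ⊤ [nat_lit 6, nat_lit 5, nat_lit 2] (nat_lit 7) (nat_lit 0x7ff38a) :=
  (Orb.ext le_top (orb_bit ⊤ [nat_lit 6, nat_lit 5, nat_lit 2] (b := (nat_lit 7)) rfl) k83)
noncomputable def w85 : Word := [nat_lit 0, nat_lit 17, nat_lit 9, nat_lit 22, nat_lit 0]
theorem k86 : orbChk (nat_lit 24) H14.M22c.nets F [nat_lit 7, nat_lit 6, nat_lit 5, nat_lit 2] (sel [w85] [nat_lit 0]) [] (dn (nat_lit 12) (nat_lit 0x2010c1)) (bit (nat_lit 3)) (nat_lit 0x40108) = true := by decide +kernel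
theorem o87 (M : PM G Ω 24 H14.M22c.nets) (hN : Nat.card G = 443520) : Orb M ⊤ [nat_lit 7, nat_lit 6, nat_lit 5, nat_lit 2] (nat_lit 3) (nat_lit 0x40108) :=
  (Orb.ext le_top (orb_bit ⊤ [nat_lit 7, nat_lit 6, nat_lit 5, nat_lit 2] (b := (nat_lit 3)) rfl) k86)
noncomputable def c88 : Chn := [((nat_lit 2), (nat_lit 0x7ffffe)), ((nat_lit 5), (nat_lit 0x7ffffa)), ((nat_lit 6), (nat_lit 0x7fffda)), ((nat_lit 7), (nat_lit 0x7ff38a)), ((nat_lit 3), (nat_lit 0x40108))]
theorem k89 : Nat.ble 443520 (cval (nat_lit 24) c88) = true := by decide +kernel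
theorem e90 (M : PM G Ω 24 H14.M22c.nets) (hN : Nat.card G = 443520) : EC M ⊤ [] c88 :=
  ec_top (c := c88) ⟨(o72 M hN), ⟨(o75 M hN), ⟨(o79 M hN), ⟨(o84 M hN), ⟨(o87 M hN), trivial⟩⟩⟩⟩⟩ hN k89
noncomputable def p91 : Prs := [(w50, w50), (w43, w43), (w51, w51), (w52, w52), (w53, w53), (a, a)]
theorem k92 : band (Nat.ble (nat_lit 24) (Nat.pow 2 (nat_lit 5))) (fsChk (nat_lit 24) (nat_lit 5) H14.M22c.nets w50 (nat_lit 0xa44413) (full (nat_lit 24)) 0 0 (nat_lit 5)) = true := by decide +kernel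
theorem f93 (M : PM G Ω 24 H14.M22c.nets) (hN : Nat.card G = 443520) : IsFix M w50 (nat_lit 0xa44413) :=
  fix_one k92
theorem k94 : relK F bs0 [(w50, flat (fsts p91) [nat_lit 0]), (w50, flat (snds p91) [nat_lit 0])] = true := by decide +kernel
theorem k95 : band (Nat.ble (nat_lit 24) (Nat.pow 2 (nat_lit 5))) (fsChk (nat_lit 24) (nat_lit 5) H14.M22c.nets w43 (nat_lit 0x841907) (full (nat_lit 24)) 0 0 (nat_lit 5)) = true := by decide +kernel
theorem f96 (M : PM G Ω 24 H14.M22c.nets) (hN : Nat.card G = 443520) : IsFix M w43 (nat_lit 0x841907) :=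
  fix_one k95
theorem k97 : relK F bs0 [(w43, flat (fsts p91) [nat_lit 2]), (w43, flat (snds p91) [nat_lit 2])] = true := by decide +kernel
theorem k98 : band (Nat.ble (nat_lit 24) (Nat.pow 2 (nat_lit 5))) (fsChk (nat_lit 24) (nat_lit 5) H14.M22c.nets w51 (nat_lit 0xf04805) (full (nat_lit 24)) 0 0 (nat_lit 5)) = true := by decide +kernel
theorem f99 (M : PM G Ω 24 H14.M22c.nets) (hN : Nat.card G = 443520) : IsFix M w51 (nat_lit 0xf04805) :=
  fix_one k98
theorem k100 : relK F bs0 [(w51, flat (fsts p91) [nat_lit 4]), (w51, flat (snds p91) [nat_lit 4])] = true := by decide +kernel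
theorem k101 : band (Nat.ble (nat_lit 24) (Nat.pow 2 (nat_lit 5))) (fsChk (nat_lit 24) (nat_lit 5) H14.M22c.nets w52 (nat_lit 0xa44413) (full (nat_lit 24)) 0 0 (nat_lit 5)) = true := by decide +kernel
theorem f102 (M : PM G Ω 24 H14.M22c.nets) (hN : Nat.card G = 443520) : IsFix M w52 (nat_lit 0xa44413) :=
  fix_one k101
theorem k103 : relK F bs0 [(w52, flat (fsts p91) [nat_lit 6]), (w52, flat (snds p91) [nat_lit 6])] = true := by decide +kernel
theorem k104 : band (Nat.ble (nat_lit 24) (Nat.pow 2 (nat_lit 5))) (fsChk (nat_lit 24) (nat_lit 5) H14.M22c.nets w53 (nat_lit 0xa44413) (full (nat_lit 24)) 0 0 (nat_lit 5)) = true := by decide +kernel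
theorem f105 (M : PM G Ω 24 H14.M22c.nets) (hN : Nat.card G = 443520) : IsFix M w53 (nat_lit 0xa44413) :=
  fix_one k104
theorem k106 : relK F bs0 [(w53, flat (fsts p91) [nat_lit 8]), (w53, flat (snds p91) [nat_lit 8])] = true := by decide +kernel
noncomputable def b107 : List (Nat × Nat) := [((nat_lit 0xa44413), (nat_lit 0xa44413)), ((nat_lit 0x841907), (nat_lit 0x841907)), ((nat_lit 0xf04805), (nat_lit 0xf04805)), ((nat_lit 0xa44413), (nat_lit 0xa44413)), ((nat_lit 0xa44413), (nat_lit 0xa44413))]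
noncomputable def y108 : List Word := []
theorem k109 : relK F bs0 (commR (snds p91) y108) = true := by decide +kernel
theorem x110 (M : PM G Ω 24 H14.M22c.nets) (hN : Nat.card G = 443520) : Cx M (fun g => Pr M g p91) b107 [] p91 y108 :=
  cx_conj (tb_cons (f93 M hN) (f93 M hN) (rels_base (base0 M hN) k94) (tb_cons (f96 M hN) (f96 M hN) (rels_base (base0 M hN) k97) (tb_cons (f99 M hN) (f99 M hN) (rels_base (base0 M hN) k100) (tb_cons (f102 M hN) (f102 M hN) (rels_base (base0 M hN) k103) (tb_cons (f105 M hN) (f105 M hN) (rels_base (base0 M hN) k106) (fun _ _ => fa_nil)))))) (rels_base (base0 M hN) k109)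
noncomputable def t111 : KT := KT.nil (SE.and (SE.and (SE.dif (SE.lev (nat_lit 0)) (SE.tab (nat_lit 0))) (SE.tab (nat_lit 1))) (SE.tab (nat_lit 2))) [] [] []
theorem k112 : ktChk (nat_lit 24) H14.M22c.nets F c88 b107 [] p91 y108 [] [] (nat_lit 0) (nat_lit 2) (nat_lit 0x804) 0 t111 = true := by decide +kernel
theorem l113 (M : PM G Ω 24 H14.M22c.nets) (hN : Nat.card G = 443520) : Cl M (fun g => Pr M g p91) [] [] (nat_lit 2) (nat_lit 0x804) :=
  cl_tree (e90 M hN) (x110 M hN) (dd0 _ _ _ _) k112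
noncomputable def t114 : KT := KT.liv (nat_lit 2) [nat_lit 6]
theorem k115 : ktChk (nat_lit 24) H14.M22c.nets F c88 b107 [] p91 y108 [] [nat_lit 2] (nat_lit 1) (nat_lit 5) (bit (nat_lit 5)) 0 t114 = true := by decide +kernel
theorem l116 (M : PM G Ω 24 H14.M22c.nets) (hN : Nat.card G = 443520) : Cl M (fun g => Pr M g p91) [] [nat_lit 2] (nat_lit 5) (bit (nat_lit 5)) :=
  cl_tree (e90 M hN) (x110 M hN) (dd0 _ _ _ _) k115
noncomputable def t117 : KT := KT.liv (nat_lit 5) [nat_lit 2]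
theorem k118 : ktChk (nat_lit 24) H14.M22c.nets F c88 b107 [] p91 y108 [] [nat_lit 5, nat_lit 2] (nat_lit 2) (nat_lit 6) (bit (nat_lit 6)) 0 t117 = true := by decide +kernel
theorem l119 (M : PM G Ω 24 H14.M22c.nets) (hN : Nat.card G = 443520) : Cl M (fun g => Pr M g p91) [] [nat_lit 5, nat_lit 2] (nat_lit 6) (bit (nat_lit 6)) :=
  cl_tree (e90 M hN) (x110 M hN) (dd0 _ _ _ _) k118
noncomputable def t120 : KT := KT.liv (nat_lit 5) [nat_lit 0]
theorem k121 : ktChk (nat_lit 24) H14.M22c.nets F c88 b107 [] p91 y108 [] [nat_lit 6, nat_lit 5, nat_lit 2] (nat_lit 3) (nat_lit 7) (bit (nat_lit 7)) 0 t120 = true := by decide +kernel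
theorem l122 (M : PM G Ω 24 H14.M22c.nets) (hN : Nat.card G = 443520) : Cl M (fun g => Pr M g p91) [] [nat_lit 6, nat_lit 5, nat_lit 2] (nat_lit 7) (bit (nat_lit 7)) :=
  cl_tree (e90 M hN) (x110 M hN) (dd0 _ _ _ _) k121
noncomputable def t123 : KT := KT.liv (nat_lit 7) [nat_lit 2]
theorem k124 : ktChk (nat_lit 24) H14.M22c.nets F c88 b107 [] p91 y108 [] [nat_lit 7, nat_lit 6, nat_lit 5, nat_lit 2] (nat_lit 4) (nat_lit 3) (bit (nat_lit 3)) 0 t123 = true := by decide +kernel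
theorem l125 (M : PM G Ω 24 H14.M22c.nets) (hN : Nat.card G = 443520) : Cl M (fun g => Pr M g p91) [] [nat_lit 7, nat_lit 6, nat_lit 5, nat_lit 2] (nat_lit 3) (bit (nat_lit 3)) :=
  cl_tree (e90 M hN) (x110 M hN) (dd0 _ _ _ _) k124
noncomputable def c126 : Chn := [((nat_lit 2), (nat_lit 0x804)), ((nat_lit 5), (bit (nat_lit 5))), ((nat_lit 6), (bit (nat_lit 6))), ((nat_lit 7), (bit (nat_lit 7))), ((nat_lit 3), (bit (nat_lit 3)))]
theorem e127 (M : PM G Ω 24 H14.M22c.nets) (hN : Nat.card G = 443520) : SC M (cenP M p91 rfl) [] c126 :=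
  ⟨Cl.lev (l113 M hN), ⟨Cl.lev (l116 M hN), ⟨Cl.lev (l119 M hN), ⟨Cl.lev (l122 M hN), ⟨Cl.lev (l125 M hN), (EC.sc_end (e90 M hN) (by decide +kernel))⟩⟩⟩⟩⟩
theorem acq (M : PM G Ω 24 H14.M22c.nets) (hN : Nat.card G = 443520) : Nat.card (Subgroup.centralizer (sub M.gen aq : Set G)) ≤ 2 :=
  (cenP_eq (M := M) (ps := p91) rfl ▸ SC.card_le' (e127 M hN) (by decide +kernel) : Nat.card (Subgroup.centralizer (sub M.gen (fsts p91) : Set G)) ≤ _)
noncomputable def azz : List Word := [a]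
noncomputable def c128 : Chn := [((nat_lit 1), (bit (nat_lit 1))), ((nat_lit 2), (nat_lit 0x804)), ((nat_lit 3), (bit (nat_lit 3))), ((nat_lit 4), (bit (nat_lit 4))), ((nat_lit 5), (bit (nat_lit 5)))]
noncomputable def d129 : List OD := [⟨[], [], []⟩,
 ⟨[nat_lit 0], [], (dn (nat_lit 12) (nat_lit 0x081))⟩,
 ⟨[], [], []⟩,
 ⟨[], [], []⟩,
 ⟨[], [], []⟩]
theorem k130 : ocChk (nat_lit 24) H14.M22c.nets F azz c128 d129 [] = true := by decide +kernel
theorem o131 (M : PM G Ω 24 H14.M22c.nets) (hN : Nat.card G = 443520) : OC M (sub M.gen azz) [] c128 :=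
  oc_of le_rfl k130
theorem azz_low (M : PM G Ω 24 H14.M22c.nets) (hN : Nat.card G = 443520) : 2 ≤ Nat.card (sub M.gen azz) :=
  (OC.le_card' (N := 2) (o131 M hN) (by decide +kernel))
theorem k132 : relK F bs0 (commR aq azz) = true := by decide +kernel
theorem azc (M : PM G Ω 24 H14.M22c.nets) (hN : Nat.card G = 443520) : (sub M.gen azz) ≤ (Subgroup.centralizer (sub M.gen aq : Set G)) :=
  (le_cent_of (rels_base (base0 M hN) k132))
noncomputable def v133 : List Word := [dw (nat_lit 0x0b)]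
theorem k134 : relK F bs0 (memRels aq azz v133) = true := by decide +kernel
theorem azl (M : PM G Ω 24 H14.M22c.nets) (hN : Nat.card G = 443520) : (sub M.gen azz) ≤ (sub M.gen aq) :=
  (sub_le_of_memRels (rels_base (base0 M hN) k134))
theorem acon (M : PM G Ω 24 H14.M22c.nets) (hN : Nat.card G = 443520) : ∃ Q : Subgroup G, IsPGroup 2 Q ∧ Q ≤ Subgroup.centralizer {ev M.gen a} ∧ Subgroup.centralizer {ev M.gen a} ≤ Subgroup.normalizer (Q : Set G) ∧ Subgroup.centralizer (Q : Set G) ≤ Q :=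
  ⟨(sub M.gen aq), IsPGroup.of_card (aq_card M hN), (aq_le M hN).trans (aeqC M hN).1.ge, (aeqC M hN).1.le.trans (aq_nrm M hN), (eq_of_cards (azc M hN) (acq M hN) (azz_low M hN)).1.le.trans (azl M hN)⟩
noncomputable def x : Word := [nat_lit 13, nat_lit 20, nat_lit 14, nat_lit 2]
theorem k135 : orbChk (nat_lit 24) H14.M22c.nets F [] (sel [w69, w70] [nat_lit 0, nat_lit 1]) [dw (nat_lit 0x01), dw (nat_lit 0x03), dw (nat_lit 0x01), dw (nat_lit 0x03)] (dn (nat_lit 12) (nat_lit 0x4c11021010420414810813423410c2501)) (bit (nat_lit 5)) (nat_lit 0x7ffffe) = true := by decide +kernel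
theorem o136 (M : PM G Ω 24 H14.M22c.nets) (hN : Nat.card G = 443520) : Orb M ⊤ [] (nat_lit 5) (nat_lit 0x7ffffe) :=
  (Orb.ext le_top (orb_bit ⊤ [] (b := (nat_lit 5)) rfl) k135)
noncomputable def w137 : Word := [nat_lit 4, nat_lit 2]
noncomputable def w138 : Word := [nat_lit 5, nat_lit 3]
theorem k139 : orbChk (nat_lit 24) H14.M22c.nets F [nat_lit 5] (sel [w137, w138] [nat_lit 0, nat_lit 1]) [dw (nat_lit 0x01), dw (nat_lit 0x03)] (dn (nat_lit 12) (nat_lit 0x3021c21021012822415025015425414020410824c23c23c1581)) (bit (nat_lit 6)) (nat_lit 0x7fffde) = true := by decide +kernel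
theorem o140 (M : PM G Ω 24 H14.M22c.nets) (hN : Nat.card G = 443520) : Orb M ⊤ [nat_lit 5] (nat_lit 6) (nat_lit 0x7fffde) :=
  (Orb.ext le_top (orb_bit ⊤ [nat_lit 5] (b := (nat_lit 6)) rfl) k139)
noncomputable def w141 : Word := [nat_lit 17, nat_lit 3]
noncomputable def w142 : Word := [nat_lit 1, nat_lit 8, nat_lit 20, nat_lit 1]
theorem k143 : orbChk (nat_lit 24) H14.M22c.nets F [nat_lit 6, nat_lit 5] (sel [w141, w142] [nat_lit 0, nat_lit 1]) [dw (nat_lit 0x01)] (dn (nat_lit 12) (nat_lit 0x5421012422413c20420413012022010824c24c13423822822811c2)) (bit (nat_lit 7)) (nat_lit 0x7fff9e) = true := by decide +kernel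
theorem o144 (M : PM G Ω 24 H14.M22c.nets) (hN : Nat.card G = 443520) : Orb M ⊤ [nat_lit 6, nat_lit 5] (nat_lit 7) (nat_lit 0x7fff9e) :=
  (Orb.ext le_top (orb_bit ⊤ [nat_lit 6, nat_lit 5] (b := (nat_lit 7)) rfl) k143)
noncomputable def w145 : Word := [nat_lit 2, nat_lit 9, nat_lit 20]
noncomputable def w146 : Word := [nat_lit 5, nat_lit 7, nat_lit 23, nat_lit 1]
noncomputable def w147 : Word := [nat_lit 9, nat_lit 20, nat_lit 14, nat_lit 3]
theorem k148 : orbChk (nat_lit 24) H14.M22c.nets F [nat_lit 7, nat_lit 6, nat_lit 5] (sel [w145, w146, w147] [nat_lit 0, nat_lit 1, nat_lit 2]) [dw (nat_lit 0x01)] (dn (nat_lit 12) (nat_lit 0x4813012832822813811015030c12032c32c2243242)) (bit (nat_lit 9)) (nat_lit 0x7cdf1e) = true := by decide +kernel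
theorem o149 (M : PM G Ω 24 H14.M22c.nets) (hN : Nat.card G = 443520) : Orb M ⊤ [nat_lit 7, nat_lit 6, nat_lit 5] (nat_lit 9) (nat_lit 0x7cdf1e) :=
  (Orb.ext le_top (orb_bit ⊤ [nat_lit 7, nat_lit 6, nat_lit 5] (b := (nat_lit 9)) rfl) k148)
theorem k150 : orbChk (nat_lit 24) H14.M22c.nets F [nat_lit 9, nat_lit 7, nat_lit 6, nat_lit 5] (sel [x] [nat_lit 0]) [] (dn (nat_lit 12) (nat_lit 0x441341)) (bit (nat_lit 13)) (nat_lit 0x32000) = true := by decide +kernel
theorem o151 (M : PM G Ω 24 H14.M22c.nets) (hN : Nat.card G = 443520) : Orb M ⊤ [nat_lit 9, nat_lit 7, nat_lit 6, nat_lit 5] (nat_lit 13) (nat_lit 0x32000) :=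
  (Orb.ext le_top (orb_bit ⊤ [nat_lit 9, nat_lit 7, nat_lit 6, nat_lit 5] (b := (nat_lit 13)) rfl) k150)
noncomputable def c152 : Chn := [((nat_lit 5), (nat_lit 0x7ffffe)), ((nat_lit 6), (nat_lit 0x7fffde)), ((nat_lit 7), (nat_lit 0x7fff9e)), ((nat_lit 9), (nat_lit 0x7cdf1e)), ((nat_lit 13), (nat_lit 0x32000))]
theorem k153 : Nat.ble 443520 (cval (nat_lit 24) c152) = true := by decide +kernel
theorem e154 (M : PM G Ω 24 H14.M22c.nets) (hN : Nat.card G = 443520) : EC M ⊤ [] c152 :=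
  ec_top (c := c152) ⟨(o136 M hN), ⟨(o140 M hN), ⟨(o144 M hN), ⟨(o149 M hN), ⟨(o151 M hN), trivial⟩⟩⟩⟩⟩ hN k153
noncomputable def p155 : Prs := [(x, x)]
theorem k156 : band (Nat.ble (nat_lit 24) (Nat.pow 2 (nat_lit 5))) (fsChk (nat_lit 24) (nat_lit 5) H14.M22c.nets x (nat_lit 0x8002e1) (full (nat_lit 24)) 0 0 (nat_lit 5)) = true := by decide +kernel
theorem f157 (M : PM G Ω 24 H14.M22c.nets) (hN : Nat.card G = 443520) : IsFix M x (nat_lit 0x8002e1) :=
  fix_one k156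
theorem k158 : relK F bs0 [(x, flat (fsts p155) [nat_lit 0]), (x, flat (snds p155) [nat_lit 0])] = true := by decide +kernel
noncomputable def b159 : List (Nat × Nat) := [((nat_lit 0x8002e1), (nat_lit 0x8002e1))]
noncomputable def y160 : List Word := []
theorem k161 : relK F bs0 (commR (snds p155) y160) = true := by decide +kernel
theorem x162 (M : PM G Ω 24 H14.M22c.nets) (hN : Nat.card G = 443520) : Cx M (fun g => Pr M g p155) b159 [] p155 y160 :=
  cx_conj (tb_cons (f157 M hN) (f157 M hN) (rels_base (base0 M hN) k158) (fun _ _ => fa_nil)) (rels_base (base0 M hN) k161)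
noncomputable def t163 : KT := KT.nil (SE.and (SE.lev (nat_lit 0)) (SE.tab (nat_lit 0))) [] [] []
theorem k164 : ktChk (nat_lit 24) H14.M22c.nets F c152 b159 [] p155 y160 [] [] (nat_lit 0) (nat_lit 5) (nat_lit 0x2e0) 0 t163 = true := by decide +kernel
theorem l165 (M : PM G Ω 24 H14.M22c.nets) (hN : Nat.card G = 443520) : Cl M (fun g => Pr M g p155) [] [] (nat_lit 5) (nat_lit 0x2e0) :=
  cl_tree (e154 M hN) (x162 M hN) (dd0 _ _ _ _) k164
noncomputable def t166 : KT := KT.nil (SE.and (SE.lev (nat_lit 1)) (SE.tab (nat_lit 0))) [] [] []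
theorem k167 : ktChk (nat_lit 24) H14.M22c.nets F c152 b159 [] p155 y160 [] [nat_lit 5] (nat_lit 1) (nat_lit 6) (nat_lit 0x2c0) 0 t166 = true := by decide +kernel
theorem l168 (M : PM G Ω 24 H14.M22c.nets) (hN : Nat.card G = 443520) : Cl M (fun g => Pr M g p155) [] [nat_lit 5] (nat_lit 6) (nat_lit 0x2c0) :=
  cl_tree (e154 M hN) (x162 M hN) (dd0 _ _ _ _) k167
noncomputable def t169 : KT := KT.alt (dw (nat_lit 0x01130401)) (KT.br (nat_lit 9) (KT.alt (dw (nat_lit 0x03180c180d)) (KT.br (nat_lit 13) (KT.alt (dw (nat_lit 0x03180c180d)) (KT.neq (nat_lit 13) [nat_lit 0] (nat_lit 17) [])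
 (KT.alt (dw (nat_lit 0x0b01090f07)) (KT.neq (nat_lit 13) [nat_lit 0] (nat_lit 17) [])
 (KT.alt (dw (nat_lit 0x0a110c11)) (KT.neq (nat_lit 13) [nat_lit 0] (nat_lit 17) [])
 (KT.nil (SE.lev (nat_lit 4)) [] [] [])))))
 (KT.nil (SE.and (SE.lev (nat_lit 3)) (SE.tab (nat_lit 0))) [] [] [])))
 (KT.nil (SE.and (SE.lev (nat_lit 2)) (SE.tab (nat_lit 0))) [] [] [])
theorem k170 : ktChk (nat_lit 24) H14.M22c.nets F c152 b159 [] p155 y160 [] [nat_lit 6, nat_lit 5] (nat_lit 2) (nat_lit 7) (bit (nat_lit 7)) 0 t169 = true := by decide +kernel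
theorem l171 (M : PM G Ω 24 H14.M22c.nets) (hN : Nat.card G = 443520) : Cl M (fun g => Pr M g p155) [] [nat_lit 6, nat_lit 5] (nat_lit 7) (bit (nat_lit 7)) :=
  cl_tree (e154 M hN) (x162 M hN) (dd0 _ _ _ _) k170
noncomputable def t172 : KT := KT.nil (SE.and (SE.lev (nat_lit 3)) (SE.tab (nat_lit 0))) [] [] []
theorem k173 : ktChk (nat_lit 24) H14.M22c.nets F c152 b159 [] p155 y160 [] [nat_lit 7, nat_lit 6, nat_lit 5] (nat_lit 3) (nat_lit 9) (bit (nat_lit 9)) 0 t172 = true := by decide +kernel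
theorem l174 (M : PM G Ω 24 H14.M22c.nets) (hN : Nat.card G = 443520) : Cl M (fun g => Pr M g p155) [] [nat_lit 7, nat_lit 6, nat_lit 5] (nat_lit 9) (bit (nat_lit 9)) :=
  cl_tree (e154 M hN) (x162 M hN) (dd0 _ _ _ _) k173
noncomputable def t175 : KT := KT.nil (SE.lev (nat_lit 4)) [] [] []
theorem k176 : ktChk (nat_lit 24) H14.M22c.nets F c152 b159 [] p155 y160 [] [nat_lit 9, nat_lit 7, nat_lit 6, nat_lit 5] (nat_lit 4) (nat_lit 13) (nat_lit 0x32000) 0 t175 = true := by decide +kernel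
theorem l177 (M : PM G Ω 24 H14.M22c.nets) (hN : Nat.card G = 443520) : Cl M (fun g => Pr M g p155) [] [nat_lit 9, nat_lit 7, nat_lit 6, nat_lit 5] (nat_lit 13) (nat_lit 0x32000) :=
  cl_tree (e154 M hN) (x162 M hN) (dd0 _ _ _ _) k176
noncomputable def c178 : Chn := [((nat_lit 5), (nat_lit 0x2e0)), ((nat_lit 6), (nat_lit 0x2c0)), ((nat_lit 7), (bit (nat_lit 7))), ((nat_lit 9), (bit (nat_lit 9))), ((nat_lit 13), (nat_lit 0x32000))]
theorem e179 (M : PM G Ω 24 H14.M22c.nets) (hN : Nat.card G = 443520) : SC M (cenP M p155 rfl) [] c178 :=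
  ⟨Cl.lev (l165 M hN), ⟨Cl.lev (l168 M hN), ⟨Cl.lev (l171 M hN), ⟨Cl.lev (l174 M hN), ⟨Cl.lev (l177 M hN), (EC.sc_end (e154 M hN) (by decide +kernel))⟩⟩⟩⟩⟩
theorem xup (M : PM G Ω 24 H14.M22c.nets) (hN : Nat.card G = 443520) : Nat.card (Subgroup.centralizer (sub M.gen [x] : Set G)) ≤ 36 :=
  (cenP_eq (M := M) (ps := p155) rfl ▸ SC.card_le' (e179 M hN) (by decide +kernel) : Nat.card (Subgroup.centralizer (sub M.gen (fsts p155) : Set G)) ≤ _)
noncomputable def w180 : Word := [nat_lit 12, nat_lit 22, nat_lit 8, nat_lit 0, nat_lit 6]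
noncomputable def w181 : Word := [nat_lit 12, nat_lit 18, nat_lit 8, nat_lit 16, nat_lit 8]
noncomputable def xks : List Word := [w180, w50, w181]
noncomputable def c182 : Chn := [((nat_lit 1), (nat_lit 0x4402)), ((nat_lit 2), (nat_lit 0x5bb90c)), ((nat_lit 3), (bit (nat_lit 3))), ((nat_lit 4), (bit (nat_lit 4))), ((nat_lit 5), (bit (nat_lit 5)))]
noncomputable def d183 : List OD := [⟨[nat_lit 0], [], (dn (nat_lit 12) (nat_lit 0x281041))⟩,
 ⟨[nat_lit 1, nat_lit 2], [], (dn (nat_lit 12) (nat_lit 0x5024020c13023c23c1442441342082081))⟩,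
 ⟨[], [], []⟩,
 ⟨[], [], []⟩,
 ⟨[], [], []⟩]
theorem k184 : ocChk (nat_lit 24) H14.M22c.nets F xks c182 d183 [] = true := by decide +kernel
theorem o185 (M : PM G Ω 24 H14.M22c.nets) (hN : Nat.card G = 443520) : OC M (sub M.gen xks) [] c182 :=
  oc_of le_rfl k184
theorem xks_low (M : PM G Ω 24 H14.M22c.nets) (hN : Nat.card G = 443520) : 36 ≤ Nat.card (sub M.gen xks) :=
  (OC.le_card' (N := 36) (o185 M hN) (by decide +kernel))
theorem k186 : relK F bs0 (commR [x] xks) = true := by decide +kernel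
theorem xcen (M : PM G Ω 24 H14.M22c.nets) (hN : Nat.card G = 443520) : (sub M.gen xks) ≤ (Subgroup.centralizer (sub M.gen [x] : Set G)) :=
  (le_cent_of (rels_base (base0 M hN) k186))
theorem xeqC (M : PM G Ω 24 H14.M22c.nets) (hN : Nat.card G = 443520) : Subgroup.centralizer {ev M.gen x} = (sub M.gen xks) ∧ Nat.card (sub M.gen xks) = 36 :=
  cent_single M.gen x ▸ eq_of_cards (xcen M hN) (xup M hN) (xks_low M hN)
theorem k187 : relK F bs0 [(powW x 3, [])] = true := by decide +kernel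
theorem r188 (M : PM G Ω 24 H14.M22c.nets) (hN : Nat.card G = 443520) : orderOf (ev M.gen x) = 3 :=
  order_of_rel (F := F) (b := 1) (by norm_num) (rels_base (base0 M hN) k187) (by decide +kernel)
theorem ordx (M : PM G Ω 24 H14.M22c.nets) (hN : Nat.card G = 443520) : orderOf (ev M.gen x) = 3 :=
  (r188 M hN)
noncomputable def w189 : Word := [nat_lit 21, nat_lit 9, nat_lit 13, nat_lit 19]
noncomputable def sz : List Word := [w189, x]
noncomputable def sws : List Word := List.append sz []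
theorem k190 : nrmRow F bs0 sws (nat_lit 2) (nat_lit 0) (nat_lit 1) [[nat_lit 2]] (nat_lit 7) = true := by decide +kernel
theorem k191 : nrmRow F bs0 sws (nat_lit 2) (nat_lit 1) (nat_lit 2) [] (nat_lit 7) = true := by decide +kernel
noncomputable def snm : List Nat := [nat_lit 7, nat_lit 7]
theorem shn (M : PM G Ω 24 H14.M22c.nets) (hN : Nat.card G = 443520) : NrmL (loc M.gen sws) 2 0 snm :=
  (nrm_cons (base0 M hN) k190 (nrm_cons (base0 M hN) k191 trivial))
noncomputable def c192 : Chn := [((nat_lit 1), (nat_lit 0x4402)), ((nat_lit 2), (nat_lit 0x401004))]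
noncomputable def d193 : List OD := [⟨[nat_lit 1], [], (dn (nat_lit 12) (nat_lit 0x281041))⟩,
 ⟨[nat_lit 0], [], (dn (nat_lit 12) (nat_lit 0x301081))⟩]
theorem k194 : ocChk (nat_lit 24) H14.M22c.nets F sz c192 d193 [] = true := by decide +kernel
theorem o195 (M : PM G Ω 24 H14.M22c.nets) (hN : Nat.card G = 443520) : OC M (Nn (loc M.gen sws) 2 0) [] c192 :=
  oc_of (sub_le_Nn M.gen sz [] (m := 2) rfl) k194
theorem k196 : powChk F bs0 sws (nat_lit 3) (nat_lit 2) snm [[],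
 []] = true := by decide +kernel
theorem spc (M : PM G Ω 24 H14.M22c.nets) (hN : Nat.card G = 443520) : Pc (loc M.gen sws) 3 2 ∧ ∀ i ≤ 2, Nat.card (Nn (loc M.gen sws) 2 i) = 3 ^ (2 - i) :=
  pc_of (base0 M hN) (by norm_num) (shn M hN) k196 (OC.le_card' (o195 M hN) (by decide +kernel))
noncomputable def s : List Word := List.drop 0 sz
theorem s_card (M : PM G Ω 24 H14.M22c.nets) (hN : Nat.card G = 443520) : Nat.card (sub M.gen s) = 3 ^ 2 :=
  Nn_eq_sub M.gen sz [] (m := 2) rfl 0 ▸ (spc M hN).2 0 (by decide)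
noncomputable def v197 : List Word := [dw (nat_lit 0x0305), dw (nat_lit 0x010503)]
theorem k198 : relK F bs0 (memRels xks s v197) = true := by decide +kernel
theorem s_le (M : PM G Ω 24 H14.M22c.nets) (hN : Nat.card G = 443520) : (sub M.gen s) ≤ (sub M.gen xks) :=
  (sub_le_of_memRels (rels_base (base0 M hN) k198))
theorem k199 : relK F bs0 (List.map (fun a => (powW a 3, [])) s) = true := by decide +kernel
theorem k200 : relK F bs0 (commR s s) = true := by decide +kernel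
theorem s_el (M : PM G Ω 24 H14.M22c.nets) (hN : Nat.card G = 443520) : Cfsg.IsElementaryAbelian 3 (sub M.gen s) :=
  (elem_of (rels_base (base0 M hN) k200) (rels_base (base0 M hN) k199))

end L.BkM22
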