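import Cfsg.Agent.H14.KhM24T
import Cfsg.Agent.L.KF

/-! Generated certificate (toolsL/cg.hpp). -/
set_option autoImplicit false
set_option maxRecDepth 200000
set_option Elab.async false
set_option linter.unusedVariables false
set_option linter.unusedSectionVars false

namespace L.KhM24
open H14 L.KhM24T
variable {G Ω : Type*} [Group G] [Finite G] [MulAction G Ω]

noncomputable def w0 : Word := [nat_lit 0]
noncomputable def w1 : Word := [nat_lit 2]
theorem k2 : orbChk (nat_lit 24) H14.M24c.nets F [] (sel [w0, w1] [nat_lit 0, nat_lit 1]) [dw (nat_lit 0x03), dw (nat_lit 0x01)] (dn (nat_lit 12) (nat_lit 0x4c11c11823423414024411421413023013c11021012c10c20c1082081042041)) (bit (nat_lit 23)) (full (nat_lit 24)) = true := by decide +kernel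
theorem o3 (M : PM G Ω 24 H14.M24c.nets) (hN : Nat.card G = 244823040) : Orb M ⊤ [] (nat_lit 23) (full (nat_lit 24)) :=
  (Orb.ext le_top (orb_bit ⊤ [] (b := (nat_lit 23)) rfl) k2)
theorem k4 : orbChk (nat_lit 24) H14.M24c.nets F [nat_lit 23] (sel [w0] [nat_lit 0]) [dw (nat_lit 0x01), dw (nat_lit 0x01)] (dn (nat_lit 12) (nat_lit 0x5415014c14814414013c13813413012c12812412011c11811411010c1081)) (bit (nat_lit 0)) (nat_lit 0x7fffff) = true := by decide +kernel
theorem o5 (M : PM G Ω 24 H14.M24c.nets) (hN : Nat.card G = 244823040) : Orb M ⊤ [nat_lit 23] (nat_lit 0) (nat_lit 0x7fffff) :=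
  (Orb.ext le_top (orb_bit ⊤ [nat_lit 23] (b := (nat_lit 0)) rfl) k4)
noncomputable def w6 : Word := [nat_lit 4]
noncomputable def w7 : Word := [nat_lit 6]
theorem k8 : orbChk (nat_lit 24) H14.M24c.nets F [nat_lit 0, nat_lit 23] (sel [w6, w7] [nat_lit 0, nat_lit 1]) [dw (nat_lit 0x01), dw (nat_lit 0x03), dw (nat_lit 0x01), dw (nat_lit 0x03)] (dn (nat_lit 12) (nat_lit 0x3815825811412424c11c1341081282281402401)) (bit (nat_lit 1)) (nat_lit 0x7ffffe) = true := by decide +kernel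
theorem o9 (M : PM G Ω 24 H14.M24c.nets) (hN : Nat.card G = 244823040) : Orb M ⊤ [nat_lit 0, nat_lit 23] (nat_lit 1) (nat_lit 0x7ffffe) :=
  (Orb.ext le_top (orb_bit ⊤ [nat_lit 0, nat_lit 23] (b := (nat_lit 1)) rfl) k8)
noncomputable def w10 : Word := [nat_lit 8]
noncomputable def w11 : Word := [nat_lit 10]
theorem k12 : orbChk (nat_lit 24) H14.M24c.nets F [nat_lit 1, nat_lit 0, nat_lit 23] (sel [w10, w11] [nat_lit 0, nat_lit 1]) [dw (nat_lit 0x01), dw (nat_lit 0x03), dw (nat_lit 0x01), dw (nat_lit 0x03), dw (nat_lit 0x01)] (dn (nat_lit 12) (nat_lit 0x401342441)) (bit (nat_lit 2)) (nat_lit 0x7ffffc) = true := by decide +kernel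
theorem o13 (M : PM G Ω 24 H14.M24c.nets) (hN : Nat.card G = 244823040) : Orb M ⊤ [nat_lit 1, nat_lit 0, nat_lit 23] (nat_lit 2) (nat_lit 0x7ffffc) :=
  (Orb.ext le_top (orb_bit ⊤ [nat_lit 1, nat_lit 0, nat_lit 23] (b := (nat_lit 2)) rfl) k12)
noncomputable def w14 : Word := [nat_lit 12]
noncomputable def w15 : Word := [nat_lit 14]
theorem k16 : orbChk (nat_lit 24) H14.M24c.nets F [nat_lit 2, nat_lit 1, nat_lit 0, nat_lit 23] (sel [w14, w15] [nat_lit 0, nat_lit 1]) [dw (nat_lit 0x01), dw (nat_lit 0x03), dw (nat_lit 0x01)] (dn (nat_lit 12) (nat_lit 0x5413015824824812414024011812c23c23c1442)) (bit (nat_lit 3)) (nat_lit 0x7ffff8) = true := by decide +kernel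
theorem o17 (M : PM G Ω 24 H14.M24c.nets) (hN : Nat.card G = 244823040) : Orb M ⊤ [nat_lit 2, nat_lit 1, nat_lit 0, nat_lit 23] (nat_lit 3) (nat_lit 0x7ffff8) :=
  (Orb.ext le_top (orb_bit ⊤ [nat_lit 2, nat_lit 1, nat_lit 0, nat_lit 23] (b := (nat_lit 3)) rfl) k16)
noncomputable def w18 : Word := [nat_lit 16]
noncomputable def w19 : Word := [nat_lit 18]
noncomputable def w20 : Word := [nat_lit 20]
theorem k21 : orbChk (nat_lit 24) H14.M24c.nets F [nat_lit 3, nat_lit 2, nat_lit 1, nat_lit 0, nat_lit 23] (sel [w18, w19, w20] [nat_lit 0, nat_lit 1, nat_lit 2]) [dw (nat_lit 0x03), dw (nat_lit 0x05), dw (nat_lit 0x01)] (dn (nat_lit 12) (nat_lit 0x2c21c21c11813433412832823c2)) (bit (nat_lit 4)) (nat_lit 0x7dbfd0) = true := by decide +kernel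
theorem o22 (M : PM G Ω 24 H14.M24c.nets) (hN : Nat.card G = 244823040) : Orb M ⊤ [nat_lit 3, nat_lit 2, nat_lit 1, nat_lit 0, nat_lit 23] (nat_lit 4) (nat_lit 0x7dbfd0) :=
  (Orb.ext le_top (orb_bit ⊤ [nat_lit 3, nat_lit 2, nat_lit 1, nat_lit 0, nat_lit 23] (b := (nat_lit 4)) rfl) k21)
theorem k23 : orbChk (nat_lit 24) H14.M24c.nets F [nat_lit 4, nat_lit 3, nat_lit 2, nat_lit 1, nat_lit 0, nat_lit 23] (sel [w18] [nat_lit 0]) [] (dn (nat_lit 12) (nat_lit 0x441141)) (bit (nat_lit 5)) (nat_lit 0x24020) = true := by decide +kernel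
theorem o24 (M : PM G Ω 24 H14.M24c.nets) (hN : Nat.card G = 244823040) : Orb M ⊤ [nat_lit 4, nat_lit 3, nat_lit 2, nat_lit 1, nat_lit 0, nat_lit 23] (nat_lit 5) (nat_lit 0x24020) :=
  (Orb.ext le_top (orb_bit ⊤ [nat_lit 4, nat_lit 3, nat_lit 2, nat_lit 1, nat_lit 0, nat_lit 23] (b := (nat_lit 5)) rfl) k23)
noncomputable def c25 : Chn := [((nat_lit 23), (full (nat_lit 24))), ((nat_lit 0), (nat_lit 0x7fffff)), ((nat_lit 1), (nat_lit 0x7ffffe)), ((nat_lit 2), (nat_lit 0x7ffffc)), ((nat_lit 3), (nat_lit 0x7ffff8)), ((nat_lit 4), (nat_lit 0x7dbfd0)), ((nat_lit 5), (nat_lit 0x24020))]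
theorem k26 : Nat.ble 244823040 (cval (nat_lit 24) c25) = true := by decide +kernel
theorem e27 (M : PM G Ω 24 H14.M24c.nets) (hN : Nat.card G = 244823040) : EC M ⊤ [] c25 :=
  ec_top (c := c25) ⟨(o3 M hN), ⟨(o5 M hN), ⟨(o9 M hN), ⟨(o13 M hN), ⟨(o17 M hN), ⟨(o22 M hN), ⟨(o24 M hN), trivial⟩⟩⟩⟩⟩⟩⟩ hN k26
noncomputable def bs0 : List Nat := [nat_lit 23, nat_lit 0, nat_lit 1, nat_lit 2, nat_lit 3, nat_lit 4, nat_lit 5]
theorem base0 (M : PM G Ω 24 H14.M24c.nets) (hN : Nat.card G = 244823040) : IsBase M bs0 :=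
  base_of_ec (e27 M hN) (by decide +kernel)

end L.KhM24
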