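import Cfsg.Agent.H14.CZ3
import Cfsg.Agent.H14.KhM24

/-! Generated certificate (toolsL/cg.hpp). -/
set_option autoImplicit false
set_option maxRecDepth 200000
set_option Elab.async false
set_option linter.unusedVariables false
set_option linter.unusedSectionVars false

namespace L.BkM24
open H14 L.KhM24T L.KhM24
variable {G Ω : Type*} [Group G] [Finite G] [MulAction G Ω]

noncomputable def a : Word := [nat_lit 17, nat_lit 20, nat_lit 18]
noncomputable def w0 : Word := [nat_lit 0]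
noncomputable def w1 : Word := [nat_lit 2]
theorem k2 : orbChk (nat_lit 24) H14.M24c.nets F [] (sel [w0, w1] [nat_lit 0, nat_lit 1]) [dw (nat_lit 0x01), dw (nat_lit 0x03), dw (nat_lit 0x01)] (dn (nat_lit 12) (nat_lit 0x4c11c11823423414024411421413023013c11021012c10c20c1082081)) (bit (nat_lit 0)) (full (nat_lit 24)) = true := by decide +kernel
theorem o3 (M : PM G Ω 24 H14.M24c.nets) (hN : Nat.card G = 244823040) : Orb M ⊤ [] (nat_lit 0) (full (nat_lit 24)) :=
  (Orb.ext le_top (orb_bit ⊤ [] (b := (nat_lit 0)) rfl) k2)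
noncomputable def w4 : Word := [nat_lit 0, nat_lit 2, nat_lit 0]
theorem k5 : orbChk (nat_lit 24) H14.M24c.nets F [nat_lit 0] (sel [w4] [nat_lit 0]) [dw (nat_lit 0x01)] (dn (nat_lit 12) (nat_lit 0x5812c13c14412414c13415011414010815411c14810c1281101381181201301)) (bit (nat_lit 1)) (nat_lit 0xfffffe) = true := by decide +kernel
theorem o6 (M : PM G Ω 24 H14.M24c.nets) (hN : Nat.card G = 244823040) : Orb M ⊤ [nat_lit 0] (nat_lit 1) (nat_lit 0xfffffe) :=
  (Orb.ext le_top (orb_bit ⊤ [nat_lit 0] (b := (nat_lit 1)) rfl) k5)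
noncomputable def w7 : Word := [nat_lit 8]
noncomputable def w8 : Word := [nat_lit 2, nat_lit 14, nat_lit 0, nat_lit 2]
theorem k9 : orbChk (nat_lit 24) H14.M24c.nets F [nat_lit 1, nat_lit 0] (sel [w7, w8] [nat_lit 0, nat_lit 1]) [dw (nat_lit 0x01), dw (nat_lit 0x01), dw (nat_lit 0x0202), dw (nat_lit 0x01)] (dn (nat_lit 12) (nat_lit 0x1c15c24824423823812423c23c14c21821810c22c2302082)) (bit (nat_lit 2)) (nat_lit 0xfffffc) = true := by decide +kernel
theorem o10 (M : PM G Ω 24 H14.M24c.nets) (hN : Nat.card G = 244823040) : Orb M ⊤ [nat_lit 1, nat_lit 0] (nat_lit 2) (nat_lit 0xfffffc) :=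
  (Orb.ext le_top (orb_bit ⊤ [nat_lit 1, nat_lit 0] (b := (nat_lit 2)) rfl) k9)
noncomputable def w11 : Word := [nat_lit 12]
noncomputable def w12 : Word := [nat_lit 2, nat_lit 0, nat_lit 10, nat_lit 5, nat_lit 1, nat_lit 2]
theorem k13 : orbChk (nat_lit 24) H14.M24c.nets F [nat_lit 2, nat_lit 1, nat_lit 0] (sel [w11, w12] [nat_lit 0, nat_lit 1]) [dw (nat_lit 0x01), dw (nat_lit 0x01), dw (nat_lit 0x0101)] (dn (nat_lit 12) (nat_lit 0x2023c23c15815025014c24c11c21c1182181142282542382)) (bit (nat_lit 4)) (nat_lit 0xfffff8) = true := by decide +kernel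
theorem o14 (M : PM G Ω 24 H14.M24c.nets) (hN : Nat.card G = 244823040) : Orb M ⊤ [nat_lit 2, nat_lit 1, nat_lit 0] (nat_lit 4) (nat_lit 0xfffff8) :=
  (Orb.ext le_top (orb_bit ⊤ [nat_lit 2, nat_lit 1, nat_lit 0] (b := (nat_lit 4)) rfl) k13)
noncomputable def w15 : Word := [nat_lit 16]
noncomputable def w16 : Word := [nat_lit 0, nat_lit 19, nat_lit 17, nat_lit 1]
noncomputable def w17 : Word := [nat_lit 2, nat_lit 8, nat_lit 10, nat_lit 0, nat_lit 0, nat_lit 2]
theorem k18 : orbChk (nat_lit 24) H14.M24c.nets F [nat_lit 4, nat_lit 2, nat_lit 1, nat_lit 0] (sel [w15, w16, w17] [nat_lit 0, nat_lit 1, nat_lit 2]) [dw (nat_lit 0x01), dw (nat_lit 0x01)] (dn (nat_lit 12) (nat_lit 0x2c23c24424c34c1483482481403401383382381543542243203)) (bit (nat_lit 8)) (nat_lit 0xffffe8) = true := by decide +kernel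
theorem o19 (M : PM G Ω 24 H14.M24c.nets) (hN : Nat.card G = 244823040) : Orb M ⊤ [nat_lit 4, nat_lit 2, nat_lit 1, nat_lit 0] (nat_lit 8) (nat_lit 0xffffe8) :=
  (Orb.ext le_top (orb_bit ⊤ [nat_lit 4, nat_lit 2, nat_lit 1, nat_lit 0] (b := (nat_lit 8)) rfl) k18)
noncomputable def w20 : Word := [nat_lit 12, nat_lit 20, nat_lit 13]
noncomputable def w21 : Word := [nat_lit 0, nat_lit 2, nat_lit 0, nat_lit 15, nat_lit 5, nat_lit 10, nat_lit 18]
noncomputable def w22 : Word := [nat_lit 2, nat_lit 1, nat_lit 1, nat_lit 1, nat_lit 20, nat_lit 2, nat_lit 17]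
theorem k23 : orbChk (nat_lit 24) H14.M24c.nets F [nat_lit 8, nat_lit 4, nat_lit 2, nat_lit 1, nat_lit 0] (sel [w20, w21, w22] [nat_lit 0, nat_lit 1, nat_lit 2]) [dw (nat_lit 0x01)] (dn (nat_lit 12) (nat_lit 0x3c34c34434424415432c32c11412432422410c30c2)) (bit (nat_lit 3)) (nat_lit 0xefbea8) = true := by decide +kernel
theorem o24 (M : PM G Ω 24 H14.M24c.nets) (hN : Nat.card G = 244823040) : Orb M ⊤ [nat_lit 8, nat_lit 4, nat_lit 2, nat_lit 1, nat_lit 0] (nat_lit 3) (nat_lit 0xefbea8) :=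
  (Orb.ext le_top (orb_bit ⊤ [nat_lit 8, nat_lit 4, nat_lit 2, nat_lit 1, nat_lit 0] (b := (nat_lit 3)) rfl) k23)
noncomputable def w25 : Word := [nat_lit 5, nat_lit 17, nat_lit 2, nat_lit 10, nat_lit 16, nat_lit 1, nat_lit 12, nat_lit 2]
theorem k26 : orbChk (nat_lit 24) H14.M24c.nets F [nat_lit 3, nat_lit 8, nat_lit 4, nat_lit 2, nat_lit 1, nat_lit 0] (sel [w25] [nat_lit 0]) [] (dn (nat_lit 12) (nat_lit 0x5415c1)) (bit (nat_lit 23)) (nat_lit 0xa00200) = true := by decide +kernel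
theorem o27 (M : PM G Ω 24 H14.M24c.nets) (hN : Nat.card G = 244823040) : Orb M ⊤ [nat_lit 3, nat_lit 8, nat_lit 4, nat_lit 2, nat_lit 1, nat_lit 0] (nat_lit 23) (nat_lit 0xa00200) :=
  (Orb.ext le_top (orb_bit ⊤ [nat_lit 3, nat_lit 8, nat_lit 4, nat_lit 2, nat_lit 1, nat_lit 0] (b := (nat_lit 23)) rfl) k26)
noncomputable def c28 : Chn := [((nat_lit 0), (full (nat_lit 24))), ((nat_lit 1), (nat_lit 0xfffffe)), ((nat_lit 2), (nat_lit 0xfffffc)), ((nat_lit 4), (nat_lit 0xfffff8)), ((nat_lit 8), (nat_lit 0xffffe8)), ((nat_lit 3), (nat_lit 0xefbea8)), ((nat_lit 23), (nat_lit 0xa00200))]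
theorem k29 : Nat.ble 244823040 (cval (nat_lit 24) c28) = true := by decide +kernel
theorem e30 (M : PM G Ω 24 H14.M24c.nets) (hN : Nat.card G = 244823040) : EC M ⊤ [] c28 :=
  ec_top (c := c28) ⟨(o3 M hN), ⟨(o6 M hN), ⟨(o10 M hN), ⟨(o14 M hN), ⟨(o19 M hN), ⟨(o24 M hN), ⟨(o27 M hN), trivial⟩⟩⟩⟩⟩⟩⟩ hN k29
noncomputable def p31 : Prs := [(a, a)]
theorem k32 : band (Nat.ble (nat_lit 24) (Nat.pow 2 (nat_lit 5))) (fsChk (nat_lit 24) (nat_lit 5) H14.M24c.nets a (nat_lit 0x82402f) (full (nat_lit 24)) 0 0 (nat_lit 5)) = true := by decide +kernel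
theorem f33 (M : PM G Ω 24 H14.M24c.nets) (hN : Nat.card G = 244823040) : IsFix M a (nat_lit 0x82402f) :=
  fix_one k32
theorem k34 : relK F bs0 [(a, flat (fsts p31) [nat_lit 0]), (a, flat (snds p31) [nat_lit 0])] = true := by decide +kernel
noncomputable def b35 : List (Nat × Nat) := [((nat_lit 0x82402f), (nat_lit 0x82402f))]
noncomputable def y36 : List Word := []
theorem k37 : relK F bs0 (commR (snds p31) y36) = true := by decide +kernel
theorem x38 (M : PM G Ω 24 H14.M24c.nets) (hN : Nat.card G = 244823040) : Cx M (fun g => Pr M g p31) b35 [] p31 y36 :=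
  cx_conj (tb_cons (f33 M hN) (f33 M hN) (rels_base (base0 M hN) k34) (fun _ _ => fa_nil)) (rels_base (base0 M hN) k37)
noncomputable def t39 : KT := KT.nil (SE.and (SE.lev (nat_lit 0)) (SE.tab (nat_lit 0))) [] [] []
theorem k40 : ktChk (nat_lit 24) H14.M24c.nets F c28 b35 [] p31 y36 [] [] (nat_lit 0) (nat_lit 0) (nat_lit 0x82402f) 0 t39 = true := by decide +kernel
theorem l41 (M : PM G Ω 24 H14.M24c.nets) (hN : Nat.card G = 244823040) : Cl M (fun g => Pr M g p31) [] [] (nat_lit 0) (nat_lit 0x82402f) :=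
  cl_tree (e30 M hN) (x38 M hN) (dd0 _ _ _ _) k40
noncomputable def t42 : KT := KT.nil (SE.and (SE.lev (nat_lit 1)) (SE.tab (nat_lit 0))) [] [] []
theorem k43 : ktChk (nat_lit 24) H14.M24c.nets F c28 b35 [] p31 y36 [] [nat_lit 0] (nat_lit 1) (nat_lit 1) (nat_lit 0x82402e) 0 t42 = true := by decide +kernel
theorem l44 (M : PM G Ω 24 H14.M24c.nets) (hN : Nat.card G = 244823040) : Cl M (fun g => Pr M g p31) [] [nat_lit 0] (nat_lit 1) (nat_lit 0x82402e) :=
  cl_tree (e30 M hN) (x38 M hN) (dd0 _ _ _ _) k43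
noncomputable def t45 : KT := KT.nil (SE.and (SE.lev (nat_lit 2)) (SE.tab (nat_lit 0))) [] [] []
theorem k46 : ktChk (nat_lit 24) H14.M24c.nets F c28 b35 [] p31 y36 [] [nat_lit 1, nat_lit 0] (nat_lit 2) (nat_lit 2) (nat_lit 0x82402c) 0 t45 = true := by decide +kernel
theorem l47 (M : PM G Ω 24 H14.M24c.nets) (hN : Nat.card G = 244823040) : Cl M (fun g => Pr M g p31) [] [nat_lit 1, nat_lit 0] (nat_lit 2) (nat_lit 0x82402c) :=
  cl_tree (e30 M hN) (x38 M hN) (dd0 _ _ _ _) k46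
noncomputable def t48 : KT := KT.nil (SE.dif (SE.lev (nat_lit 3)) (SE.tab (nat_lit 0))) [] [] []
theorem k49 : ktChk (nat_lit 24) H14.M24c.nets F c28 b35 [] p31 y36 [] [nat_lit 2, nat_lit 1, nat_lit 0] (nat_lit 3) (nat_lit 4) (nat_lit 0x7dbfd0) 0 t48 = true := by decide +kernel
theorem l50 (M : PM G Ω 24 H14.M24c.nets) (hN : Nat.card G = 244823040) : Cl M (fun g => Pr M g p31) [] [nat_lit 2, nat_lit 1, nat_lit 0] (nat_lit 4) (nat_lit 0x7dbfd0) :=
  cl_tree (e30 M hN) (x38 M hN) (dd0 _ _ _ _) k49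
noncomputable def t51 : KT := KT.liv (nat_lit 4) [nat_lit 0]
theorem k52 : ktChk (nat_lit 24) H14.M24c.nets F c28 b35 [] p31 y36 [] [nat_lit 4, nat_lit 2, nat_lit 1, nat_lit 0] (nat_lit 4) (nat_lit 8) (bit (nat_lit 8)) 0 t51 = true := by decide +kernel
theorem l53 (M : PM G Ω 24 H14.M24c.nets) (hN : Nat.card G = 244823040) : Cl M (fun g => Pr M g p31) [] [nat_lit 4, nat_lit 2, nat_lit 1, nat_lit 0] (nat_lit 8) (bit (nat_lit 8)) :=
  cl_tree (e30 M hN) (x38 M hN) (dd0 _ _ _ _) k52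
noncomputable def t54 : KT := KT.nil (SE.and (SE.lev (nat_lit 5)) (SE.tab (nat_lit 0))) [] [] []
theorem k55 : ktChk (nat_lit 24) H14.M24c.nets F c28 b35 [] p31 y36 [] [nat_lit 8, nat_lit 4, nat_lit 2, nat_lit 1, nat_lit 0] (nat_lit 5) (nat_lit 3) (nat_lit 0x820028) 0 t54 = true := by decide +kernel
theorem l56 (M : PM G Ω 24 H14.M24c.nets) (hN : Nat.card G = 244823040) : Cl M (fun g => Pr M g p31) [] [nat_lit 8, nat_lit 4, nat_lit 2, nat_lit 1, nat_lit 0] (nat_lit 3) (nat_lit 0x820028) :=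
  cl_tree (e30 M hN) (x38 M hN) (dd0 _ _ _ _) k55
noncomputable def t57 : KT := KT.nil (SE.and (SE.lev (nat_lit 6)) (SE.tab (nat_lit 0))) [] [] []
theorem k58 : ktChk (nat_lit 24) H14.M24c.nets F c28 b35 [] p31 y36 [] [nat_lit 3, nat_lit 8, nat_lit 4, nat_lit 2, nat_lit 1, nat_lit 0] (nat_lit 6) (nat_lit 23) (bit (nat_lit 23)) 0 t57 = true := by decide +kernel
theorem l59 (M : PM G Ω 24 H14.M24c.nets) (hN : Nat.card G = 244823040) : Cl M (fun g => Pr M g p31) [] [nat_lit 3, nat_lit 8, nat_lit 4, nat_lit 2, nat_lit 1, nat_lit 0] (nat_lit 23) (bit (nat_lit 23)) :=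
  cl_tree (e30 M hN) (x38 M hN) (dd0 _ _ _ _) k58
noncomputable def c60 : Chn := [((nat_lit 0), (nat_lit 0x82402f)), ((nat_lit 1), (nat_lit 0x82402e)), ((nat_lit 2), (nat_lit 0x82402c)), ((nat_lit 4), (nat_lit 0x7dbfd0)), ((nat_lit 8), (bit (nat_lit 8))), ((nat_lit 3), (nat_lit 0x820028)), ((nat_lit 23), (bit (nat_lit 23)))]
theorem e61 (M : PM G Ω 24 H14.M24c.nets) (hN : Nat.card G = 244823040) : SC M (cenP M p31 rfl) [] c60 :=
  ⟨Cl.lev (l41 M hN), ⟨Cl.lev (l44 M hN), ⟨Cl.lev (l47 M hN), ⟨Cl.lev (l50 M hN), ⟨Cl.lev (l53 M hN), ⟨Cl.lev (l56 M hN), ⟨Cl.lev (l59 M hN), (EC.sc_end (e30 M hN) (by decide +kernel))⟩⟩⟩⟩⟩⟩⟩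
theorem aup (M : PM G Ω 24 H14.M24c.nets) (hN : Nat.card G = 244823040) : Nat.card (Subgroup.centralizer (sub M.gen [a] : Set G)) ≤ 21504 :=
  (cenP_eq (M := M) (ps := p31) rfl ▸ SC.card_le' (e61 M hN) (by decide +kernel) : Nat.card (Subgroup.centralizer (sub M.gen (fsts p31) : Set G)) ≤ _)
noncomputable def w62 : Word := [nat_lit 1, nat_lit 16, nat_lit 9, nat_lit 2, nat_lit 0, nat_lit 0, nat_lit 4, nat_lit 1]
noncomputable def w63 : Word := [nat_lit 8, nat_lit 16, nat_lit 10, nat_lit 1, nat_lit 15, nat_lit 21]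
noncomputable def w64 : Word := [nat_lit 13, nat_lit 13, nat_lit 8, nat_lit 7, nat_lit 13]
noncomputable def w65 : Word := [nat_lit 10, nat_lit 13, nat_lit 10]
noncomputable def w66 : Word := [nat_lit 9, nat_lit 17, nat_lit 19, nat_lit 8]
noncomputable def w67 : Word := [nat_lit 18, nat_lit 17, nat_lit 20]
noncomputable def w68 : Word := [nat_lit 17, nat_lit 21]
noncomputable def w69 : Word := [nat_lit 16, nat_lit 18]
noncomputable def aks : List Word := [w62, w63, w64, w65, w66, w67, w68, a, w69]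
noncomputable def c70 : Chn := [((nat_lit 23), (nat_lit 0x82402f)), ((nat_lit 0), (nat_lit 0x2402f)), ((nat_lit 1), (nat_lit 0x2402e)), ((nat_lit 2), (nat_lit 0x2400c)), ((nat_lit 3), (bit (nat_lit 3))), ((nat_lit 4), (nat_lit 0x7dbfd0)), ((nat_lit 5), (bit (nat_lit 5)))]
noncomputable def d71 : List OD := [⟨[nat_lit 3, nat_lit 0], [], (dn (nat_lit 12) (nat_lit 0x3824410c20820811425c2))⟩,
 ⟨[nat_lit 3, nat_lit 1], [], (dn (nat_lit 12) (nat_lit 0x082081382442441002))⟩,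
 ⟨[nat_lit 3, nat_lit 2], [], (dn (nat_lit 12) (nat_lit 0x082382442441042))⟩,
 ⟨[nat_lit 3, nat_lit 4], [], (dn (nat_lit 12) (nat_lit 0x0c2082081))⟩,
 ⟨[], [], []⟩,
 ⟨[nat_lit 6, nat_lit 8, nat_lit 5, nat_lit 7], [dw (nat_lit 0x01), dw (nat_lit 0x03)], (dn (nat_lit 12) (nat_lit 0x2c42843042441c41c3584583184183104103))⟩,
 ⟨[], [], []⟩]
theorem k72 : ocChk (nat_lit 24) H14.M24c.nets F aks c70 d71 [] = true := by decide +kernel
theorem o73 (M : PM G Ω 24 H14.M24c.nets) (hN : Nat.card G = 244823040) : OC M (sub M.gen aks) [] c70 :=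
  oc_of le_rfl k72
theorem aks_low (M : PM G Ω 24 H14.M24c.nets) (hN : Nat.card G = 244823040) : 21504 ≤ Nat.card (sub M.gen aks) :=
  (OC.le_card' (N := 21504) (o73 M hN) (by decide +kernel))
theorem k74 : relK F bs0 (commR [a] aks) = true := by decide +kernel
theorem acen (M : PM G Ω 24 H14.M24c.nets) (hN : Nat.card G = 244823040) : (sub M.gen aks) ≤ (Subgroup.centralizer (sub M.gen [a] : Set G)) :=
  (le_cent_of (rels_base (base0 M hN) k74))
theorem aeqC (M : PM G Ω 24 H14.M24c.nets) (hN : Nat.card G = 244823040) : Subgroup.centralizer {ev M.gen a} = (sub M.gen aks) ∧ Nat.card (sub M.gen aks) = 21504 :=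
  cent_single M.gen a ▸ eq_of_cards (acen M hN) (aup M hN) (aks_low M hN)
noncomputable def w75 : Word := [nat_lit 17, nat_lit 19]
noncomputable def w76 : Word := [nat_lit 17, nat_lit 20, nat_lit 17]
noncomputable def w77 : Word := [nat_lit 16, nat_lit 20]
noncomputable def w78 : Word := [nat_lit 17, nat_lit 20, nat_lit 18, nat_lit 15, nat_lit 8, nat_lit 12, nat_lit 0, nat_lit 2, nat_lit 0, nat_lit 0, nat_lit 0]
noncomputable def w79 : Word := [nat_lit 8, nat_lit 21, nat_lit 14, nat_lit 1, nat_lit 17, nat_lit 2, nat_lit 12, nat_lit 0]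
noncomputable def w80 : Word := [nat_lit 17, nat_lit 19, nat_lit 12, nat_lit 6, nat_lit 1, nat_lit 7, nat_lit 2, nat_lit 1, nat_lit 17, nat_lit 9]
noncomputable def aqz : List Word := [w75, w76, w77, w78, w79, w80, a]
noncomputable def aqws : List Word := List.append aqz []
theorem k81 : nrmRow F bs0 aqws (nat_lit 7) (nat_lit 0) (nat_lit 1) [[nat_lit 2],
 [nat_lit 4],
 [nat_lit 12, nat_lit 6],
 [nat_lit 12, nat_lit 8],
 [nat_lit 10],
 [nat_lit 12]] (nat_lit 255) = true := by decide +kernel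
theorem k82 : nrmRow F bs0 aqws (nat_lit 7) (nat_lit 1) (nat_lit 2) [[nat_lit 4],
 [nat_lit 12, nat_lit 6],
 [nat_lit 12, nat_lit 8],
 [nat_lit 12, nat_lit 10],
 [nat_lit 12]] (nat_lit 255) = true := by decide +kernel
theorem k83 : nrmRow F bs0 aqws (nat_lit 7) (nat_lit 2) (nat_lit 3) [[nat_lit 12, nat_lit 6],
 [nat_lit 8],
 [nat_lit 12, nat_lit 10],
 [nat_lit 12]] (nat_lit 255) = true := by decide +kernel
theorem k84 : nrmRow F bs0 aqws (nat_lit 7) (nat_lit 3) (nat_lit 4) [[nat_lit 8],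
 [nat_lit 10],
 [nat_lit 12]] (nat_lit 255) = true := by decide +kernel
theorem k85 : nrmRow F bs0 aqws (nat_lit 7) (nat_lit 4) (nat_lit 5) [[nat_lit 10],
 [nat_lit 12]] (nat_lit 255) = true := by decide +kernel
theorem k86 : nrmRow F bs0 aqws (nat_lit 7) (nat_lit 5) (nat_lit 6) [[nat_lit 12]] (nat_lit 255) = true := by decide +kernel
theorem k87 : nrmRow F bs0 aqws (nat_lit 7) (nat_lit 6) (nat_lit 7) [] (nat_lit 255) = true := by decide +kernel
noncomputable def aqnm : List Nat := [nat_lit 255, nat_lit 255, nat_lit 255, nat_lit 255, nat_lit 255, nat_lit 255, nat_lit 255]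
theorem aqhn (M : PM G Ω 24 H14.M24c.nets) (hN : Nat.card G = 244823040) : NrmL (loc M.gen aqws) 7 0 aqnm :=
  (nrm_cons (base0 M hN) k81 (nrm_cons (base0 M hN) k82 (nrm_cons (base0 M hN) k83 (nrm_cons (base0 M hN) k84 (nrm_cons (base0 M hN) k85 (nrm_cons (base0 M hN) k86 (nrm_cons (base0 M hN) k87 trivial)))))))
noncomputable def c88 : Chn := [((nat_lit 4), (nat_lit 0x7dbfd0)), ((nat_lit 0), (nat_lit 0x82402f))]
noncomputable def d89 : List OD := [⟨[nat_lit 0, nat_lit 2, nat_lit 1, nat_lit 6], [dw (nat_lit 0x01), dw (nat_lit 0x03)], (dn (nat_lit 12) (nat_lit 0x4c41843044842442433c43c3344343104103))⟩,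
 ⟨[nat_lit 4, nat_lit 5, nat_lit 3], [], (dn (nat_lit 12) (nat_lit 0x0c3383143142003002001))⟩]
theorem k90 : ocChk (nat_lit 24) H14.M24c.nets F aqz c88 d89 [] = true := by decide +kernel
theorem o91 (M : PM G Ω 24 H14.M24c.nets) (hN : Nat.card G = 244823040) : OC M (Nn (loc M.gen aqws) 7 0) [] c88 :=
  oc_of (sub_le_Nn M.gen aqz [] (m := 7) rfl) k90
theorem k92 : powChk F bs0 aqws (nat_lit 2) (nat_lit 7) aqnm [[],
 [],
 [],
 [],
 [],
 [],
 []] = true := by decide +kernel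
theorem aqpc (M : PM G Ω 24 H14.M24c.nets) (hN : Nat.card G = 244823040) : Pc (loc M.gen aqws) 2 7 ∧ ∀ i ≤ 7, Nat.card (Nn (loc M.gen aqws) 7 i) = 2 ^ (7 - i) :=
  pc_of (base0 M hN) (by norm_num) (aqhn M hN) k92 (OC.le_card' (o91 M hN) (by decide +kernel))
noncomputable def aq : List Word := List.drop 0 aqz
theorem aq_card (M : PM G Ω 24 H14.M24c.nets) (hN : Nat.card G = 244823040) : Nat.card (sub M.gen aq) = 2 ^ 7 :=
  Nn_eq_sub M.gen aqz [] (m := 7) rfl 0 ▸ (aqpc M hN).2 0 (by decide)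
noncomputable def v93 : List Word := [dw (nat_lit 0x110f0d0b), dw (nat_lit 0x110f), dw (nat_lit 0x110f0d), dw (nat_lit 0x0202050307060907110f0b), dw (nat_lit 0x0207050307050b), dw (nat_lit 0x0402030705), dw (nat_lit 0x0f)]
theorem k94 : relK F bs0 (memRels aks aq v93) = true := by decide +kernel
theorem aq_le (M : PM G Ω 24 H14.M24c.nets) (hN : Nat.card G = 244823040) : (sub M.gen aq) ≤ (sub M.gen aks) :=
  (sub_le_of_memRels (rels_base (base0 M hN) k94))
noncomputable def v95 : List (List Word) := [[dw (nat_lit 0x0103050d), dw (nat_lit 0x01030d), dw (nat_lit 0x03), dw (nat_lit 0x07090b0d), dw (nat_lit 0x070b), dw (nat_lit 0x0b0d), dw (nat_lit 0x0d)],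
 [dw (nat_lit 0x010305), dw (nat_lit 0x03), dw (nat_lit 0x01), dw (nat_lit 0x070d), dw (nat_lit 0x07090b), dw (nat_lit 0x09), dw (nat_lit 0x0d)],
 [dw (nat_lit 0x01050d), dw (nat_lit 0x03), dw (nat_lit 0x010d), dw (nat_lit 0x09), dw (nat_lit 0x0b0d), dw (nat_lit 0x070d), dw (nat_lit 0x0d)],
 [dw (nat_lit 0x010d), dw (nat_lit 0x0305), dw (nat_lit 0x05), dw (nat_lit 0x090b0d), dw (nat_lit 0x09), dw (nat_lit 0x0709), dw (nat_lit 0x0d)],
 [dw (nat_lit 0x01050d), dw (nat_lit 0x030d), dw (nat_lit 0x05), dw (nat_lit 0x0b0d), dw (nat_lit 0x09), dw (nat_lit 0x070d), dw (nat_lit 0x0d)],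
 [dw (nat_lit 0x01), dw (nat_lit 0x03), dw (nat_lit 0x05), dw (nat_lit 0x07), dw (nat_lit 0x090d), dw (nat_lit 0x0b0d), dw (nat_lit 0x0d)],
 [dw (nat_lit 0x01), dw (nat_lit 0x03), dw (nat_lit 0x05), dw (nat_lit 0x07), dw (nat_lit 0x090d), dw (nat_lit 0x0b), dw (nat_lit 0x0d)],
 [dw (nat_lit 0x01), dw (nat_lit 0x03), dw (nat_lit 0x05), dw (nat_lit 0x07), dw (nat_lit 0x09), dw (nat_lit 0x0b), dw (nat_lit 0x0d)],
 [dw (nat_lit 0x01), dw (nat_lit 0x03), dw (nat_lit 0x05), dw (nat_lit 0x070d), dw (nat_lit 0x090d), dw (nat_lit 0x0b0d), dw (nat_lit 0x0d)]]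
theorem k96 : relK F bs0 (nrR aq aq aks v95) = true := by decide +kernel
theorem aq_nrm (M : PM G Ω 24 H14.M24c.nets) (hN : Nat.card G = 244823040) : (sub M.gen aks) ≤ (Subgroup.normalizer (sub M.gen aq : Set G)) :=
  (le_normalizer_of le_rfl (rels_base (base0 M hN) k96) (by decide +kernel))
theorem k97 : orbChk (nat_lit 24) H14.M24c.nets F [] (sel [w0, w1] [nat_lit 0, nat_lit 1]) [dw (nat_lit 0x01), dw (nat_lit 0x03), dw (nat_lit 0x01), dw (nat_lit 0x01)] (dn (nat_lit 12) (nat_lit 0x0022c20c14015825812813c23c1542541242241382)) (bit (nat_lit 6)) (full (nat_lit 24)) = true := by decide +kernel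
theorem o98 (M : PM G Ω 24 H14.M24c.nets) (hN : Nat.card G = 244823040) : Orb M ⊤ [] (nat_lit 6) (full (nat_lit 24)) :=
  (Orb.ext le_top (orb_bit ⊤ [] (b := (nat_lit 6)) rfl) k97)
noncomputable def w99 : Word := [nat_lit 6, nat_lit 5]
noncomputable def w100 : Word := [nat_lit 0, nat_lit 2, nat_lit 14]
theorem k101 : orbChk (nat_lit 24) H14.M24c.nets F [nat_lit 6] (sel [w99, w100] [nat_lit 0, nat_lit 1]) [dw (nat_lit 0x01), dw (nat_lit 0x03), dw (nat_lit 0x01)] (dn (nat_lit 12) (nat_lit 0x5013424422422411023821425c20820c20c12c2042582282)) (bit (nat_lit 15)) (nat_lit 0xffffbf) = true := by decide +kernel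
theorem o102 (M : PM G Ω 24 H14.M24c.nets) (hN : Nat.card G = 244823040) : Orb M ⊤ [nat_lit 6] (nat_lit 15) (nat_lit 0xffffbf) :=
  (Orb.ext le_top (orb_bit ⊤ [nat_lit 6] (b := (nat_lit 15)) rfl) k101)
noncomputable def w103 : Word := [nat_lit 0, nat_lit 7, nat_lit 4]
noncomputable def w104 : Word := [nat_lit 2, nat_lit 15, nat_lit 21]
theorem k105 : orbChk (nat_lit 24) H14.M24c.nets F [nat_lit 15, nat_lit 6] (sel [w103, w104] [nat_lit 0, nat_lit 1]) [dw (nat_lit 0x01)] (dn (nat_lit 12) (nat_lit 0x0410022015825812422411c21c14424415423013423414c24c1281141102)) (bit (nat_lit 4)) (nat_lit 0xff7fbf) = true := by decide +kernel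
theorem o106 (M : PM G Ω 24 H14.M24c.nets) (hN : Nat.card G = 244823040) : Orb M ⊤ [nat_lit 15, nat_lit 6] (nat_lit 4) (nat_lit 0xff7fbf) :=
  (Orb.ext le_top (orb_bit ⊤ [nat_lit 15, nat_lit 6] (b := (nat_lit 4)) rfl) k105)
noncomputable def w107 : Word := [nat_lit 1, nat_lit 18, nat_lit 16, nat_lit 0]
noncomputable def w108 : Word := [nat_lit 0, nat_lit 12, nat_lit 2, nat_lit 9, nat_lit 6, nat_lit 1]
theorem k109 : orbChk (nat_lit 24) H14.M24c.nets F [nat_lit 4, nat_lit 15, nat_lit 6] (sel [w107, w108] [nat_lit 0, nat_lit 1]) [dw (nat_lit 0x01)] (dn (nat_lit 12) (nat_lit 0x0420020014c23012c23411425413823815820822022012822815021c2)) (bit (nat_lit 7)) (nat_lit 0xff7faf) = true := by decide +kernel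
theorem o110 (M : PM G Ω 24 H14.M24c.nets) (hN : Nat.card G = 244823040) : Orb M ⊤ [nat_lit 4, nat_lit 15, nat_lit 6] (nat_lit 7) (nat_lit 0xff7faf) :=
  (Orb.ext le_top (orb_bit ⊤ [nat_lit 4, nat_lit 15, nat_lit 6] (b := (nat_lit 7)) rfl) k109)
noncomputable def w111 : Word := [nat_lit 2, nat_lit 16, nat_lit 4, nat_lit 2]
noncomputable def w112 : Word := [nat_lit 0, nat_lit 13, nat_lit 21, nat_lit 2, nat_lit 8, nat_lit 1]
noncomputable def w113 : Word := [nat_lit 1, nat_lit 12, nat_lit 4, nat_lit 10, nat_lit 0, nat_lit 0]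
theorem k114 : orbChk (nat_lit 24) H14.M24c.nets F [nat_lit 7, nat_lit 4, nat_lit 15, nat_lit 6] (sel [w111, w112, w113] [nat_lit 0, nat_lit 1, nat_lit 2]) [dw (nat_lit 0x01)] (dn (nat_lit 12) (nat_lit 0x5012420c24425825814014834814c11431422812c1043041203202)) (bit (nat_lit 8)) (nat_lit 0xff7f2f) = true := by decide +kernel
theorem o115 (M : PM G Ω 24 H14.M24c.nets) (hN : Nat.card G = 244823040) : Orb M ⊤ [nat_lit 7, nat_lit 4, nat_lit 15, nat_lit 6] (nat_lit 8) (nat_lit 0xff7f2f) :=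
  (Orb.ext le_top (orb_bit ⊤ [nat_lit 7, nat_lit 4, nat_lit 15, nat_lit 6] (b := (nat_lit 8)) rfl) k114)
noncomputable def w116 : Word := [nat_lit 5, nat_lit 7, nat_lit 7, nat_lit 13, nat_lit 21, nat_lit 0]
noncomputable def w117 : Word := [nat_lit 7, nat_lit 8, nat_lit 21, nat_lit 7, nat_lit 14, nat_lit 2]
noncomputable def w118 : Word := [nat_lit 1, nat_lit 13, nat_lit 15, nat_lit 21, nat_lit 1, nat_lit 2, nat_lit 0, nat_lit 0]
theorem k119 : orbChk (nat_lit 24) H14.M24c.nets F [nat_lit 8, nat_lit 7, nat_lit 4, nat_lit 15, nat_lit 6] (sel [w116, w117, w118] [nat_lit 0, nat_lit 1, nat_lit 2]) [] (dn (nat_lit 12) (nat_lit 0x0023014421410c32832822c32c1383382381243242241)) (bit (nat_lit 9)) (nat_lit 0xab7e2f) = true := by decide +kernel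
theorem o120 (M : PM G Ω 24 H14.M24c.nets) (hN : Nat.card G = 244823040) : Orb M ⊤ [nat_lit 8, nat_lit 7, nat_lit 4, nat_lit 15, nat_lit 6] (nat_lit 9) (nat_lit 0xab7e2f) :=
  (Orb.ext le_top (orb_bit ⊤ [nat_lit 8, nat_lit 7, nat_lit 4, nat_lit 15, nat_lit 6] (b := (nat_lit 9)) rfl) k119)
noncomputable def w121 : Word := [nat_lit 21, nat_lit 14, nat_lit 0, nat_lit 2, nat_lit 17, nat_lit 5, nat_lit 1, nat_lit 20]
theorem k122 : orbChk (nat_lit 24) H14.M24c.nets F [nat_lit 9, nat_lit 8, nat_lit 7, nat_lit 4, nat_lit 15, nat_lit 6] (sel [w121] [nat_lit 0]) [] (dn (nat_lit 12) (nat_lit 0x3412c1)) (bit (nat_lit 11)) (nat_lit 0x202800) = true := by decide +kernel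
theorem o123 (M : PM G Ω 24 H14.M24c.nets) (hN : Nat.card G = 244823040) : Orb M ⊤ [nat_lit 9, nat_lit 8, nat_lit 7, nat_lit 4, nat_lit 15, nat_lit 6] (nat_lit 11) (nat_lit 0x202800) :=
  (Orb.ext le_top (orb_bit ⊤ [nat_lit 9, nat_lit 8, nat_lit 7, nat_lit 4, nat_lit 15, nat_lit 6] (b := (nat_lit 11)) rfl) k122)
noncomputable def c124 : Chn := [((nat_lit 6), (full (nat_lit 24))), ((nat_lit 15), (nat_lit 0xffffbf)), ((nat_lit 4), (nat_lit 0xff7fbf)), ((nat_lit 7), (nat_lit 0xff7faf)), ((nat_lit 8), (nat_lit 0xff7f2f)), ((nat_lit 9), (nat_lit 0xab7e2f)), ((nat_lit 11), (nat_lit 0x202800))]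
theorem k125 : Nat.ble 244823040 (cval (nat_lit 24) c124) = true := by decide +kernel
theorem e126 (M : PM G Ω 24 H14.M24c.nets) (hN : Nat.card G = 244823040) : EC M ⊤ [] c124 :=
  ec_top (c := c124) ⟨(o98 M hN), ⟨(o102 M hN), ⟨(o106 M hN), ⟨(o110 M hN), ⟨(o115 M hN), ⟨(o120 M hN), ⟨(o123 M hN), trivial⟩⟩⟩⟩⟩⟩⟩ hN k125
noncomputable def p127 : Prs := [(w75, w75), (w76, w76), (w77, w77), (w78, w78), (w79, w79), (w80, w80), (a, a)]
theorem k128 : band (Nat.ble (nat_lit 24) (Nat.pow 2 (nat_lit 5))) (fsChk (nat_lit 24) (nat_lit 5) H14.M24c.nets w75 (nat_lit 0x82402f) (full (nat_lit 24)) 0 0 (nat_lit 5)) = true := by decide +kernel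
theorem f129 (M : PM G Ω 24 H14.M24c.nets) (hN : Nat.card G = 244823040) : IsFix M w75 (nat_lit 0x82402f) :=
  fix_one k128
theorem k130 : relK F bs0 [(w75, flat (fsts p127) [nat_lit 0]), (w75, flat (snds p127) [nat_lit 0])] = true := by decide +kernel
theorem k131 : band (Nat.ble (nat_lit 24) (Nat.pow 2 (nat_lit 5))) (fsChk (nat_lit 24) (nat_lit 5) H14.M24c.nets w76 (nat_lit 0x82402f) (full (nat_lit 24)) 0 0 (nat_lit 5)) = true := by decide +kernel
theorem f132 (M : PM G Ω 24 H14.M24c.nets) (hN : Nat.card G = 244823040) : IsFix M w76 (nat_lit 0x82402f) :=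
  fix_one k131
theorem k133 : relK F bs0 [(w76, flat (fsts p127) [nat_lit 2]), (w76, flat (snds p127) [nat_lit 2])] = true := by decide +kernel
theorem k134 : band (Nat.ble (nat_lit 24) (Nat.pow 2 (nat_lit 5))) (fsChk (nat_lit 24) (nat_lit 5) H14.M24c.nets w77 (nat_lit 0x82402f) (full (nat_lit 24)) 0 0 (nat_lit 5)) = true := by decide +kernel
theorem f135 (M : PM G Ω 24 H14.M24c.nets) (hN : Nat.card G = 244823040) : IsFix M w77 (nat_lit 0x82402f) :=
  fix_one k134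
theorem k136 : relK F bs0 [(w77, flat (fsts p127) [nat_lit 4]), (w77, flat (snds p127) [nat_lit 4])] = true := by decide +kernel
theorem k137 : band (Nat.ble (nat_lit 24) (Nat.pow 2 (nat_lit 5))) (fsChk (nat_lit 24) (nat_lit 5) H14.M24c.nets w78 (nat_lit 0x311350) (full (nat_lit 24)) 0 0 (nat_lit 5)) = true := by decide +kernel
theorem f138 (M : PM G Ω 24 H14.M24c.nets) (hN : Nat.card G = 244823040) : IsFix M w78 (nat_lit 0x311350) :=
  fix_one k137
theorem k139 : relK F bs0 [(w78, flat (fsts p127) [nat_lit 6]), (w78, flat (snds p127) [nat_lit 6])] = true := by decide +kernel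
theorem k140 : band (Nat.ble (nat_lit 24) (Nat.pow 2 (nat_lit 5))) (fsChk (nat_lit 24) (nat_lit 5) H14.M24c.nets w79 (nat_lit 0x99590) (full (nat_lit 24)) 0 0 (nat_lit 5)) = true := by decide +kernel
theorem f141 (M : PM G Ω 24 H14.M24c.nets) (hN : Nat.card G = 244823040) : IsFix M w79 (nat_lit 0x99590) :=
  fix_one k140
theorem k142 : relK F bs0 [(w79, flat (fsts p127) [nat_lit 8]), (w79, flat (snds p127) [nat_lit 8])] = true := by decide +kernel
noncomputable def b143 : List (Nat × Nat) := [((nat_lit 0x82402f), (nat_lit 0x82402f)), ((nat_lit 0x82402f), (nat_lit 0x82402f)), ((nat_lit 0x82402f), (nat_lit 0x82402f)), ((nat_lit 0x311350), (nat_lit 0x311350)), ((nat_lit 0x99590), (nat_lit 0x99590))]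
noncomputable def y144 : List Word := [a]
theorem k145 : relK F bs0 (commR (snds p127) y144) = true := by decide +kernel
theorem x146 (M : PM G Ω 24 H14.M24c.nets) (hN : Nat.card G = 244823040) : Cx M (fun g => Pr M g p127) b143 [] p127 y144 :=
  cx_conj (tb_cons (f129 M hN) (f129 M hN) (rels_base (base0 M hN) k130) (tb_cons (f132 M hN) (f132 M hN) (rels_base (base0 M hN) k133) (tb_cons (f135 M hN) (f135 M hN) (rels_base (base0 M hN) k136) (tb_cons (f138 M hN) (f138 M hN) (rels_base (base0 M hN) k139) (tb_cons (f141 M hN) (f141 M hN) (rels_base (base0 M hN) k142) (fun _ _ => fa_nil)))))) (rels_base (base0 M hN) k145)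
noncomputable def t147 : KT := KT.alt (dw (nat_lit 0x09)) (KT.neq (nat_lit 6) [nat_lit 10] (nat_lit 6) [])
 (KT.nil (SE.dif (SE.and (SE.dif (SE.lev (nat_lit 0)) (SE.tab (nat_lit 0))) (SE.tab (nat_lit 3))) (SE.tab (nat_lit 4))) [nat_lit 0] [] (dn (nat_lit 12) (nat_lit 0x241)))
theorem k148 : ktChk (nat_lit 24) H14.M24c.nets F c124 b143 [] p127 y144 [] [] (nat_lit 0) (nat_lit 6) (nat_lit 0x100040) 0 t147 = true := by decide +kernel
theorem l149 (M : PM G Ω 24 H14.M24c.nets) (hN : Nat.card G = 244823040) : Cl M (fun g => Pr M g p127) [] [] (nat_lit 6) (nat_lit 0x100040) :=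
  cl_tree (e126 M hN) (x146 M hN) (dd0 _ _ _ _) k148
noncomputable def t150 : KT := KT.liv (nat_lit 6) [nat_lit 2]
theorem k151 : ktChk (nat_lit 24) H14.M24c.nets F c124 b143 [] p127 y144 [] [nat_lit 6] (nat_lit 1) (nat_lit 15) (bit (nat_lit 15)) 0 t150 = true := by decide +kernel
theorem l152 (M : PM G Ω 24 H14.M24c.nets) (hN : Nat.card G = 244823040) : Cl M (fun g => Pr M g p127) [] [nat_lit 6] (nat_lit 15) (bit (nat_lit 15)) :=
  cl_tree (e126 M hN) (x146 M hN) (dd0 _ _ _ _) k151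
noncomputable def t153 : KT := KT.liv (nat_lit 15) [nat_lit 4]
theorem k154 : ktChk (nat_lit 24) H14.M24c.nets F c124 b143 [] p127 y144 [] [nat_lit 15, nat_lit 6] (nat_lit 2) (nat_lit 4) (bit (nat_lit 4)) 0 t153 = true := by decide +kernel
theorem l155 (M : PM G Ω 24 H14.M24c.nets) (hN : Nat.card G = 244823040) : Cl M (fun g => Pr M g p127) [] [nat_lit 15, nat_lit 6] (nat_lit 4) (bit (nat_lit 4)) :=
  cl_tree (e126 M hN) (x146 M hN) (dd0 _ _ _ _) k154
noncomputable def t156 : KT := KT.liv (nat_lit 15) [nat_lit 6]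
theorem k157 : ktChk (nat_lit 24) H14.M24c.nets F c124 b143 [] p127 y144 [] [nat_lit 4, nat_lit 15, nat_lit 6] (nat_lit 3) (nat_lit 7) (bit (nat_lit 7)) 0 t156 = true := by decide +kernel
theorem l158 (M : PM G Ω 24 H14.M24c.nets) (hN : Nat.card G = 244823040) : Cl M (fun g => Pr M g p127) [] [nat_lit 4, nat_lit 15, nat_lit 6] (nat_lit 7) (bit (nat_lit 7)) :=
  cl_tree (e126 M hN) (x146 M hN) (dd0 _ _ _ _) k157
noncomputable def t159 : KT := KT.liv (nat_lit 4) [nat_lit 12]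
theorem k160 : ktChk (nat_lit 24) H14.M24c.nets F c124 b143 [] p127 y144 [] [nat_lit 7, nat_lit 4, nat_lit 15, nat_lit 6] (nat_lit 4) (nat_lit 8) (bit (nat_lit 8)) 0 t159 = true := by decide +kernel
theorem l161 (M : PM G Ω 24 H14.M24c.nets) (hN : Nat.card G = 244823040) : Cl M (fun g => Pr M g p127) [] [nat_lit 7, nat_lit 4, nat_lit 15, nat_lit 6] (nat_lit 8) (bit (nat_lit 8)) :=
  cl_tree (e126 M hN) (x146 M hN) (dd0 _ _ _ _) k160
noncomputable def t162 : KT := KT.liv (nat_lit 15) [nat_lit 0]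
theorem k163 : ktChk (nat_lit 24) H14.M24c.nets F c124 b143 [] p127 y144 [] [nat_lit 8, nat_lit 7, nat_lit 4, nat_lit 15, nat_lit 6] (nat_lit 5) (nat_lit 9) (bit (nat_lit 9)) 0 t162 = true := by decide +kernel
theorem l164 (M : PM G Ω 24 H14.M24c.nets) (hN : Nat.card G = 244823040) : Cl M (fun g => Pr M g p127) [] [nat_lit 8, nat_lit 7, nat_lit 4, nat_lit 15, nat_lit 6] (nat_lit 9) (bit (nat_lit 9)) :=
  cl_tree (e126 M hN) (x146 M hN) (dd0 _ _ _ _) k163
noncomputable def t165 : KT := KT.liv (nat_lit 8) [nat_lit 0]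
theorem k166 : ktChk (nat_lit 24) H14.M24c.nets F c124 b143 [] p127 y144 [] [nat_lit 9, nat_lit 8, nat_lit 7, nat_lit 4, nat_lit 15, nat_lit 6] (nat_lit 6) (nat_lit 11) (bit (nat_lit 11)) 0 t165 = true := by decide +kernel
theorem l167 (M : PM G Ω 24 H14.M24c.nets) (hN : Nat.card G = 244823040) : Cl M (fun g => Pr M g p127) [] [nat_lit 9, nat_lit 8, nat_lit 7, nat_lit 4, nat_lit 15, nat_lit 6] (nat_lit 11) (bit (nat_lit 11)) :=
  cl_tree (e126 M hN) (x146 M hN) (dd0 _ _ _ _) k166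
noncomputable def c168 : Chn := [((nat_lit 6), (nat_lit 0x100040)), ((nat_lit 15), (bit (nat_lit 15))), ((nat_lit 4), (bit (nat_lit 4))), ((nat_lit 7), (bit (nat_lit 7))), ((nat_lit 8), (bit (nat_lit 8))), ((nat_lit 9), (bit (nat_lit 9))), ((nat_lit 11), (bit (nat_lit 11)))]
theorem e169 (M : PM G Ω 24 H14.M24c.nets) (hN : Nat.card G = 244823040) : SC M (cenP M p127 rfl) [] c168 :=
  ⟨Cl.lev (l149 M hN), ⟨Cl.lev (l152 M hN), ⟨Cl.lev (l155 M hN), ⟨Cl.lev (l158 M hN), ⟨Cl.lev (l161 M hN), ⟨Cl.lev (l164 M hN), ⟨Cl.lev (l167 M hN), (EC.sc_end (e126 M hN) (by decide +kernel))⟩⟩⟩⟩⟩⟩⟩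
theorem acq (M : PM G Ω 24 H14.M24c.nets) (hN : Nat.card G = 244823040) : Nat.card (Subgroup.centralizer (sub M.gen aq : Set G)) ≤ 2 :=
  (cenP_eq (M := M) (ps := p127) rfl ▸ SC.card_le' (e169 M hN) (by decide +kernel) : Nat.card (Subgroup.centralizer (sub M.gen (fsts p127) : Set G)) ≤ _)
noncomputable def azz : List Word := [a]
noncomputable def c170 : Chn := [((nat_lit 23), (bit (nat_lit 23))), ((nat_lit 0), (bit (nat_lit 0))), ((nat_lit 1), (bit (nat_lit 1))), ((nat_lit 2), (bit (nat_lit 2))), ((nat_lit 3), (bit (nat_lit 3))), ((nat_lit 4), (nat_lit 0x110)), ((nat_lit 5), (bit (nat_lit 5)))]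
noncomputable def d171 : List OD := [⟨[], [], []⟩,
 ⟨[], [], []⟩,
 ⟨[], [], []⟩,
 ⟨[], [], []⟩,
 ⟨[], [], []⟩,
 ⟨[nat_lit 0], [], (dn (nat_lit 12) (nat_lit 0x101))⟩,
 ⟨[], [], []⟩]
theorem k172 : ocChk (nat_lit 24) H14.M24c.nets F azz c170 d171 [] = true := by decide +kernel
theorem o173 (M : PM G Ω 24 H14.M24c.nets) (hN : Nat.card G = 244823040) : OC M (sub M.gen azz) [] c170 :=
  oc_of le_rfl k172
theorem azz_low (M : PM G Ω 24 H14.M24c.nets) (hN : Nat.card G = 244823040) : 2 ≤ Nat.card (sub M.gen azz) :=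
  (OC.le_card' (N := 2) (o173 M hN) (by decide +kernel))
theorem k174 : relK F bs0 (commR aq azz) = true := by decide +kernel
theorem azc (M : PM G Ω 24 H14.M24c.nets) (hN : Nat.card G = 244823040) : (sub M.gen azz) ≤ (Subgroup.centralizer (sub M.gen aq : Set G)) :=
  (le_cent_of (rels_base (base0 M hN) k174))
noncomputable def v175 : List Word := [dw (nat_lit 0x0d)]
theorem k176 : relK F bs0 (memRels aq azz v175) = true := by decide +kernel
theorem azl (M : PM G Ω 24 H14.M24c.nets) (hN : Nat.card G = 244823040) : (sub M.gen azz) ≤ (sub M.gen aq) :=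
  (sub_le_of_memRels (rels_base (base0 M hN) k176))
theorem acon (M : PM G Ω 24 H14.M24c.nets) (hN : Nat.card G = 244823040) : ∃ Q : Subgroup G, IsPGroup 2 Q ∧ Q ≤ Subgroup.centralizer {ev M.gen a} ∧ Subgroup.centralizer {ev M.gen a} ≤ Subgroup.normalizer (Q : Set G) ∧ Subgroup.centralizer (Q : Set G) ≤ Q :=
  ⟨(sub M.gen aq), IsPGroup.of_card (aq_card M hN), (aq_le M hN).trans (aeqC M hN).1.ge, (aeqC M hN).1.le.trans (aq_nrm M hN), (eq_of_cards (azc M hN) (acq M hN) (azz_low M hN)).1.le.trans (azl M hN)⟩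
noncomputable def b : Word := [nat_lit 14, nat_lit 21, nat_lit 6, nat_lit 8, nat_lit 2]
theorem k177 : orbChk (nat_lit 24) H14.M24c.nets F [nat_lit 0] (sel [w4] [nat_lit 0]) [dw (nat_lit 0x01)] (dn (nat_lit 12) (nat_lit 0x2c13c14412414c13415011414010815411c14810c1281101381181201301041)) (bit (nat_lit 23)) (nat_lit 0xfffffe) = true := by decide +kernel
theorem o178 (M : PM G Ω 24 H14.M24c.nets) (hN : Nat.card G = 244823040) : Orb M ⊤ [nat_lit 0] (nat_lit 23) (nat_lit 0xfffffe) :=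
  (Orb.ext le_top (orb_bit ⊤ [nat_lit 0] (b := (nat_lit 23)) rfl) k177)
noncomputable def w179 : Word := [nat_lit 4]
noncomputable def w180 : Word := [nat_lit 6]
theorem k181 : orbChk (nat_lit 24) H14.M24c.nets F [nat_lit 23, nat_lit 0] (sel [w179, w180] [nat_lit 0, nat_lit 1]) [dw (nat_lit 0x03), dw (nat_lit 0x01), dw (nat_lit 0x03), dw (nat_lit 0x01), dw (nat_lit 0x03)] (dn (nat_lit 12) (nat_lit 0x1411011c14014815812812010414c1)) (bit (nat_lit 3)) (nat_lit 0x7ffffe) = true := by decide +kernel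
theorem o182 (M : PM G Ω 24 H14.M24c.nets) (hN : Nat.card G = 244823040) : Orb M ⊤ [nat_lit 23, nat_lit 0] (nat_lit 3) (nat_lit 0x7ffffe) :=
  (Orb.ext le_top (orb_bit ⊤ [nat_lit 23, nat_lit 0] (b := (nat_lit 3)) rfl) k181)
noncomputable def w183 : Word := [nat_lit 18]
theorem k184 : orbChk (nat_lit 24) H14.M24c.nets F [nat_lit 3, nat_lit 23, nat_lit 0] (sel [w179, w183] [nat_lit 0, nat_lit 1]) [dw (nat_lit 0x01), dw (nat_lit 0x03), dw (nat_lit 0x01), dw (nat_lit 0x03)] (dn (nat_lit 12) (nat_lit 0x4414c25011413812022011821811c1581301)) (bit (nat_lit 13)) (nat_lit 0x7ffff6) = true := by decide +kernel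
theorem o185 (M : PM G Ω 24 H14.M24c.nets) (hN : Nat.card G = 244823040) : Orb M ⊤ [nat_lit 3, nat_lit 23, nat_lit 0] (nat_lit 13) (nat_lit 0x7ffff6) :=
  (Orb.ext le_top (orb_bit ⊤ [nat_lit 3, nat_lit 23, nat_lit 0] (b := (nat_lit 13)) rfl) k184)
noncomputable def w186 : Word := [nat_lit 16, nat_lit 4]
noncomputable def w187 : Word := [nat_lit 19, nat_lit 16]
theorem k188 : orbChk (nat_lit 24) H14.M24c.nets F [nat_lit 13, nat_lit 3, nat_lit 23, nat_lit 0] (sel [w186, w187] [nat_lit 0, nat_lit 1]) [dw (nat_lit 0x01)] (dn (nat_lit 12) (nat_lit 0x3021012022015825813822822814024012c22c15425413c2482481)) (bit (nat_lit 1)) (nat_lit 0x7fdff6) = true := by decide +kernel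
theorem o189 (M : PM G Ω 24 H14.M24c.nets) (hN : Nat.card G = 244823040) : Orb M ⊤ [nat_lit 13, nat_lit 3, nat_lit 23, nat_lit 0] (nat_lit 1) (nat_lit 0x7fdff6) :=
  (Orb.ext le_top (orb_bit ⊤ [nat_lit 13, nat_lit 3, nat_lit 23, nat_lit 0] (b := (nat_lit 1)) rfl) k188)
theorem k190 : orbChk (nat_lit 24) H14.M24c.nets F [nat_lit 1, nat_lit 13, nat_lit 3, nat_lit 23, nat_lit 0] (sel [w187] [nat_lit 0]) [] (dn (nat_lit 12) (nat_lit 0x181201)) (bit (nat_lit 8)) (nat_lit 0x540) = true := by decide +kernel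
theorem o191 (M : PM G Ω 24 H14.M24c.nets) (hN : Nat.card G = 244823040) : Orb M ⊤ [nat_lit 1, nat_lit 13, nat_lit 3, nat_lit 23, nat_lit 0] (nat_lit 8) (nat_lit 0x540) :=
  (Orb.ext le_top (orb_bit ⊤ [nat_lit 1, nat_lit 13, nat_lit 3, nat_lit 23, nat_lit 0] (b := (nat_lit 8)) rfl) k190)
noncomputable def w192 : Word := [nat_lit 10, nat_lit 8, nat_lit 16]
noncomputable def w193 : Word := [nat_lit 12, nat_lit 9, nat_lit 20]
noncomputable def w194 : Word := [nat_lit 13, nat_lit 14, nat_lit 10, nat_lit 13]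
noncomputable def w195 : Word := [nat_lit 0, nat_lit 19, nat_lit 1, nat_lit 10, nat_lit 12]
theorem k196 : orbChk (nat_lit 24) H14.M24c.nets F [nat_lit 8, nat_lit 1, nat_lit 13, nat_lit 3, nat_lit 23, nat_lit 0] (sel [w192, w193, w194, w195] [nat_lit 0, nat_lit 1, nat_lit 2, nat_lit 3]) [dw (nat_lit 0x01), dw (nat_lit 0x03)] (dn (nat_lit 12) (nat_lit 0x3845445844444044034c44c3504503244243)) (bit (nat_lit 9)) (nat_lit 0x7fdab4) = true := by decide +kernel
theorem o197 (M : PM G Ω 24 H14.M24c.nets) (hN : Nat.card G = 244823040) : Orb M ⊤ [nat_lit 8, nat_lit 1, nat_lit 13, nat_lit 3, nat_lit 23, nat_lit 0] (nat_lit 9) (nat_lit 0x7fdab4) :=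
  (Orb.ext le_top (orb_bit ⊤ [nat_lit 8, nat_lit 1, nat_lit 13, nat_lit 3, nat_lit 23, nat_lit 0] (b := (nat_lit 9)) rfl) k196)
noncomputable def c198 : Chn := [((nat_lit 0), (full (nat_lit 24))), ((nat_lit 23), (nat_lit 0xfffffe)), ((nat_lit 3), (nat_lit 0x7ffffe)), ((nat_lit 13), (nat_lit 0x7ffff6)), ((nat_lit 1), (nat_lit 0x7fdff6)), ((nat_lit 8), (nat_lit 0x540)), ((nat_lit 9), (nat_lit 0x7fdab4))]
theorem k199 : Nat.ble 244823040 (cval (nat_lit 24) c198) = true := by decide +kernel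
theorem e200 (M : PM G Ω 24 H14.M24c.nets) (hN : Nat.card G = 244823040) : EC M ⊤ [] c198 :=
  ec_top (c := c198) ⟨(o3 M hN), ⟨(o178 M hN), ⟨(o182 M hN), ⟨(o185 M hN), ⟨(o189 M hN), ⟨(o191 M hN), ⟨(o197 M hN), trivial⟩⟩⟩⟩⟩⟩⟩ hN k199
noncomputable def p201 : Prs := [(b, b)]
noncomputable def b202 : List (Nat × Nat) := []
noncomputable def w203 : Word := [nat_lit 9, nat_lit 11, nat_lit 4, nat_lit 17, nat_lit 4]
noncomputable def w204 : Word := [nat_lit 15, nat_lit 16, nat_lit 9, nat_lit 19, nat_lit 10]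
noncomputable def w205 : Word := [nat_lit 17, nat_lit 9, nat_lit 11]
noncomputable def w206 : Word := [nat_lit 14, nat_lit 5, nat_lit 9, nat_lit 4, nat_lit 13]
noncomputable def w207 : Word := [nat_lit 0, nat_lit 12, nat_lit 17, nat_lit 1, nat_lit 5, nat_lit 8]
noncomputable def w208 : Word := [nat_lit 20, nat_lit 9, nat_lit 4, nat_lit 12, nat_lit 20, nat_lit 5]
noncomputable def w209 : Word := [nat_lit 12, nat_lit 9, nat_lit 11, nat_lit 6, nat_lit 21, nat_lit 7]
noncomputable def w210 : Word := [nat_lit 12, nat_lit 8, nat_lit 17, nat_lit 5, nat_lit 19, nat_lit 6]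
noncomputable def w211 : Word := [nat_lit 16, nat_lit 18, nat_lit 8, nat_lit 4, nat_lit 6, nat_lit 4]
noncomputable def w212 : Word := [nat_lit 18, nat_lit 9, nat_lit 21, nat_lit 13]
noncomputable def w213 : Word := [nat_lit 12, nat_lit 11, nat_lit 15, nat_lit 12]
noncomputable def w214 : Word := [nat_lit 16, nat_lit 5, nat_lit 16, nat_lit 5]
noncomputable def w215 : Word := [nat_lit 21, nat_lit 8, nat_lit 13]
noncomputable def w216 : Word := [nat_lit 20, nat_lit 12, nat_lit 21, nat_lit 4, nat_lit 10]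
noncomputable def w217 : Word := [nat_lit 18, nat_lit 4, nat_lit 4, nat_lit 14]
noncomputable def w218 : Word := [nat_lit 21, nat_lit 12, nat_lit 15, nat_lit 0, nat_lit 10, nat_lit 1]
noncomputable def w219 : Word := [nat_lit 17, nat_lit 13, nat_lit 10, nat_lit 4, nat_lit 6, nat_lit 16]
noncomputable def w220 : Word := [nat_lit 16, nat_lit 5, nat_lit 17, nat_lit 20]
noncomputable def w221 : Word := [nat_lit 13, nat_lit 16, nat_lit 8, nat_lit 15, nat_lit 6, nat_lit 14]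
noncomputable def y222 : List Word := [w203, w204, w205, w206, w207, w208, w209, w210, w211, w212, w213, w214, w215, w216, w217, w218, w219, w220, w221]
theorem k223 : relK F bs0 (commR (snds p201) y222) = true := by decide +kernel
theorem x224 (M : PM G Ω 24 H14.M24c.nets) (hN : Nat.card G = 244823040) : Cx M (fun g => Pr M g p201) b202 [] p201 y222 :=
  cx_conj (fun _ _ => fa_nil) (rels_base (base0 M hN) k223)
noncomputable def t225 : KT := KT.nil (SE.lev (nat_lit 0)) [] [] []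
theorem k226 : ktChk (nat_lit 24) H14.M24c.nets F c198 b202 [] p201 y222 [] [] (nat_lit 0) (nat_lit 0) (full (nat_lit 24)) 0 t225 = true := by decide +kernel
theorem l227 (M : PM G Ω 24 H14.M24c.nets) (hN : Nat.card G = 244823040) : Cl M (fun g => Pr M g p201) [] [] (nat_lit 0) (full (nat_lit 24)) :=
  cl_tree (e200 M hN) (x224 M hN) (dd0 _ _ _ _) k226
noncomputable def t228 : KT := KT.liv (nat_lit 0) [nat_lit 0]
theorem k229 : ktChk (nat_lit 24) H14.M24c.nets F c198 b202 [] p201 y222 [] [nat_lit 0] (nat_lit 1) (nat_lit 23) (bit (nat_lit 23)) 0 t228 = true := by decide +kernel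
theorem l230 (M : PM G Ω 24 H14.M24c.nets) (hN : Nat.card G = 244823040) : Cl M (fun g => Pr M g p201) [] [nat_lit 0] (nat_lit 23) (bit (nat_lit 23)) :=
  cl_tree (e200 M hN) (x224 M hN) (dd0 _ _ _ _) k229
noncomputable def t231 : KT := KT.alt (dw (nat_lit 0x0e)) (KT.stp (nat_lit 3) [nat_lit 0] (dw (nat_lit 0x0e061305)) (KT.br (nat_lit 1) (KT.alt (dw (nat_lit 0x0e0613050511)) (KT.stp (nat_lit 1) [nat_lit 0] (dw (nat_lit 0x0e0613050511)) (KT.br (nat_lit 9) (KT.alt (dw (nat_lit 0x0e0613050511)) (KT.neq (nat_lit 9) [nat_lit 0] (nat_lit 20) [])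
 (KT.alt (dw (nat_lit 0x0a0e07120f0d)) (KT.neq (nat_lit 9) [nat_lit 0] (nat_lit 20) [])
 (KT.nil (SE.lev (nat_lit 6)) [nat_lit 0, nat_lit 10, nat_lit 11] [] (dn (nat_lit 12) (nat_lit 0x4c11015415815833013c13c35015035022c12c32c2)))))))
 (KT.alt (dw (nat_lit 0x0e061305)) (KT.mem (nat_lit 1) [nat_lit 0] (SE.lev (nat_lit 5)))
 (KT.alt (dw (nat_lit 0x0e061305051605)) (KT.stp (nat_lit 1) [nat_lit 0] (dw (nat_lit 0x0e061305051605)) (KT.br (nat_lit 9) (KT.alt (dw (nat_lit 0x0a0b051009150d)) (KT.neq (nat_lit 9) [nat_lit 0] (nat_lit 20) [])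
 (KT.alt (dw (nat_lit 0x0e061305051605)) (KT.neq (nat_lit 9) [nat_lit 0] (nat_lit 20) [])
 (KT.nil (SE.lev (nat_lit 6)) [nat_lit 1, nat_lit 0, nat_lit 12] [dw (nat_lit 0x05)] (dn (nat_lit 12) (nat_lit 0x0825023024021421414c24c13c23c1242241)))))))
 (KT.nil (SE.lev (nat_lit 4)) [nat_lit 2, nat_lit 9] [] (dn (nat_lit 12) (nat_lit 0x0821c24425822424825021421021013023013825425412820c2))))))))
 (KT.nil (SE.lev (nat_lit 2)) [nat_lit 0, nat_lit 3] [] (dn (nat_lit 12) (nat_lit 0x5410424821823c14421021014c24c12c22821413021c21c1382381202)))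
theorem k232 : ktChk (nat_lit 24) H14.M24c.nets F c198 b202 [] p201 y222 [] [nat_lit 23, nat_lit 0] (nat_lit 2) (nat_lit 3) (nat_lit 0x2008) 0 t231 = true := by decide +kernel
theorem l233 (M : PM G Ω 24 H14.M24c.nets) (hN : Nat.card G = 244823040) : Cl M (fun g => Pr M g p201) [] [nat_lit 23, nat_lit 0] (nat_lit 3) (nat_lit 0x2008) :=
  cl_tree (e200 M hN) (x224 M hN) (dd0 _ _ _ _) k232
noncomputable def t234 : KT := KT.liv (nat_lit 3) [nat_lit 0]
theorem k235 : ktChk (nat_lit 24) H14.M24c.nets F c198 b202 [] p201 y222 [] [nat_lit 3, nat_lit 23, nat_lit 0] (nat_lit 3) (nat_lit 13) (bit (nat_lit 13)) 0 t234 = true := by decide +kernel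
theorem l236 (M : PM G Ω 24 H14.M24c.nets) (hN : Nat.card G = 244823040) : Cl M (fun g => Pr M g p201) [] [nat_lit 3, nat_lit 23, nat_lit 0] (nat_lit 13) (bit (nat_lit 13)) :=
  cl_tree (e200 M hN) (x224 M hN) (dd0 _ _ _ _) k235
noncomputable def t237 : KT := KT.nil (SE.lev (nat_lit 4)) [] [] []
theorem k238 : ktChk (nat_lit 24) H14.M24c.nets F c198 b202 [] p201 y222 [] [nat_lit 13, nat_lit 3, nat_lit 23, nat_lit 0] (nat_lit 4) (nat_lit 1) (nat_lit 0x7fdff6) 0 t237 = true := by decide +kernel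
theorem l239 (M : PM G Ω 24 H14.M24c.nets) (hN : Nat.card G = 244823040) : Cl M (fun g => Pr M g p201) [] [nat_lit 13, nat_lit 3, nat_lit 23, nat_lit 0] (nat_lit 1) (nat_lit 0x7fdff6) :=
  cl_tree (e200 M hN) (x224 M hN) (dd0 _ _ _ _) k238
noncomputable def t240 : KT := KT.liv (nat_lit 1) [nat_lit 0]
theorem k241 : ktChk (nat_lit 24) H14.M24c.nets F c198 b202 [] p201 y222 [] [nat_lit 1, nat_lit 13, nat_lit 3, nat_lit 23, nat_lit 0] (nat_lit 5) (nat_lit 8) (bit (nat_lit 8)) 0 t240 = true := by decide +kernel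
theorem l242 (M : PM G Ω 24 H14.M24c.nets) (hN : Nat.card G = 244823040) : Cl M (fun g => Pr M g p201) [] [nat_lit 1, nat_lit 13, nat_lit 3, nat_lit 23, nat_lit 0] (nat_lit 8) (bit (nat_lit 8)) :=
  cl_tree (e200 M hN) (x224 M hN) (dd0 _ _ _ _) k241
noncomputable def t243 : KT := KT.alt (dw (nat_lit 0x0d0b021401)) (KT.neq (nat_lit 9) [nat_lit 0] (nat_lit 20) [])
 (KT.nil (SE.lev (nat_lit 6)) [nat_lit 0, nat_lit 1, nat_lit 2] [] (dn (nat_lit 12) (nat_lit 0x3021421c21c12c22c12c3)))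
theorem k244 : ktChk (nat_lit 24) H14.M24c.nets F c198 b202 [] p201 y222 [] [nat_lit 8, nat_lit 1, nat_lit 13, nat_lit 3, nat_lit 23, nat_lit 0] (nat_lit 6) (nat_lit 9) (nat_lit 0x7b4200) 0 t243 = true := by decide +kernel
theorem l245 (M : PM G Ω 24 H14.M24c.nets) (hN : Nat.card G = 244823040) : Cl M (fun g => Pr M g p201) [] [nat_lit 8, nat_lit 1, nat_lit 13, nat_lit 3, nat_lit 23, nat_lit 0] (nat_lit 9) (nat_lit 0x7b4200) :=
  cl_tree (e200 M hN) (x224 M hN) (dd0 _ _ _ _) k244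
noncomputable def c246 : Chn := [((nat_lit 0), (full (nat_lit 24))), ((nat_lit 23), (bit (nat_lit 23))), ((nat_lit 3), (nat_lit 0x2008)), ((nat_lit 13), (bit (nat_lit 13))), ((nat_lit 1), (nat_lit 0x7fdff6)), ((nat_lit 8), (bit (nat_lit 8))), ((nat_lit 9), (nat_lit 0x7b4200))]
theorem e247 (M : PM G Ω 24 H14.M24c.nets) (hN : Nat.card G = 244823040) : SC M (cenP M p201 rfl) [] c246 :=
  ⟨Cl.lev (l227 M hN), ⟨Cl.lev (l230 M hN), ⟨Cl.lev (l233 M hN), ⟨Cl.lev (l236 M hN), ⟨Cl.lev (l239 M hN), ⟨Cl.lev (l242 M hN), ⟨Cl.lev (l245 M hN), (EC.sc_end (e200 M hN) (by decide +kernel))⟩⟩⟩⟩⟩⟩⟩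
theorem bup (M : PM G Ω 24 H14.M24c.nets) (hN : Nat.card G = 244823040) : Nat.card (Subgroup.centralizer (sub M.gen [b] : Set G)) ≤ 7680 :=
  (cenP_eq (M := M) (ps := p201) rfl ▸ SC.card_le' (e247 M hN) (by decide +kernel) : Nat.card (Subgroup.centralizer (sub M.gen (fsts p201) : Set G)) ≤ _)
noncomputable def w248 : Word := [nat_lit 17, nat_lit 20, nat_lit 4, nat_lit 7, nat_lit 1, nat_lit 13, nat_lit 2, nat_lit 1, nat_lit 12, nat_lit 2]
noncomputable def w249 : Word := [nat_lit 18, nat_lit 21, nat_lit 11, nat_lit 6, nat_lit 8, nat_lit 11]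
noncomputable def w250 : Word := [nat_lit 16, nat_lit 15, nat_lit 9, nat_lit 12]
noncomputable def w251 : Word := [nat_lit 17, nat_lit 12, nat_lit 17, nat_lit 10]
noncomputable def bks : List Word := [w248, w249, w250, w251]
noncomputable def c252 : Chn := [((nat_lit 23), (full (nat_lit 24))), ((nat_lit 0), (bit (nat_lit 0))), ((nat_lit 1), (nat_lit 0x7fdff6)), ((nat_lit 2), (nat_lit 0x7fdab4)), ((nat_lit 3), (bit (nat_lit 3))), ((nat_lit 4), (bit (nat_lit 4))), ((nat_lit 5), (bit (nat_lit 5)))]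
noncomputable def d253 : List OD := [⟨[nat_lit 2, nat_lit 0], [], (dn (nat_lit 12) (nat_lit 0x3c11021014414020420820813423414c21c12821421415011821812c22c15425415c2))⟩,
 ⟨[], [], []⟩,
 ⟨[nat_lit 2, nat_lit 1], [], (dn (nat_lit 12) (nat_lit 0x1c12021821812425425414824810823c23c1442441382381102101042))⟩,
 ⟨[nat_lit 2, nat_lit 3], [], (dn (nat_lit 12) (nat_lit 0x1c21c1382381402142141482481242241442441082081))⟩,
 ⟨[], [], []⟩,
 ⟨[], [], []⟩,
 ⟨[], [], []⟩]
theorem k254 : ocChk (nat_lit 24) H14.M24c.nets F bks c252 d253 [] = true := by decide +kernel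
theorem o255 (M : PM G Ω 24 H14.M24c.nets) (hN : Nat.card G = 244823040) : OC M (sub M.gen bks) [] c252 :=
  oc_of le_rfl k254
theorem bks_low (M : PM G Ω 24 H14.M24c.nets) (hN : Nat.card G = 244823040) : 7680 ≤ Nat.card (sub M.gen bks) :=
  (OC.le_card' (N := 7680) (o255 M hN) (by decide +kernel))
theorem k256 : relK F bs0 (commR [b] bks) = true := by decide +kernel
theorem bcen (M : PM G Ω 24 H14.M24c.nets) (hN : Nat.card G = 244823040) : (sub M.gen bks) ≤ (Subgroup.centralizer (sub M.gen [b] : Set G)) :=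
  (le_cent_of (rels_base (base0 M hN) k256))
theorem beqC (M : PM G Ω 24 H14.M24c.nets) (hN : Nat.card G = 244823040) : Subgroup.centralizer {ev M.gen b} = (sub M.gen bks) ∧ Nat.card (sub M.gen bks) = 7680 :=
  cent_single M.gen b ▸ eq_of_cards (bcen M hN) (bup M hN) (bks_low M hN)
noncomputable def w257 : Word := [nat_lit 16, nat_lit 18, nat_lit 12, nat_lit 9]
noncomputable def w258 : Word := [nat_lit 12, nat_lit 9, nat_lit 17, nat_lit 5]
noncomputable def w259 : Word := [nat_lit 14, nat_lit 4, nat_lit 8, nat_lit 1, nat_lit 13, nat_lit 2, nat_lit 1, nat_lit 1, nat_lit 20]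
noncomputable def bqz : List Word := [w205, w211, w257, w258, w259, b]
noncomputable def bqws : List Word := List.append bqz []
theorem k260 : nrmRow F bs0 bqws (nat_lit 6) (nat_lit 0) (nat_lit 1) [[nat_lit 2],
 [nat_lit 4],
 [nat_lit 6],
 [nat_lit 8],
 [nat_lit 10]] (nat_lit 127) = true := by decide +kernel
theorem k261 : nrmRow F bs0 bqws (nat_lit 6) (nat_lit 1) (nat_lit 2) [[nat_lit 4],
 [nat_lit 6],
 [nat_lit 8],
 [nat_lit 10]] (nat_lit 127) = true := by decide +kernel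
theorem k262 : nrmRow F bs0 bqws (nat_lit 6) (nat_lit 2) (nat_lit 3) [[nat_lit 6],
 [nat_lit 8],
 [nat_lit 10]] (nat_lit 127) = true := by decide +kernel
theorem k263 : nrmRow F bs0 bqws (nat_lit 6) (nat_lit 3) (nat_lit 4) [[nat_lit 8],
 [nat_lit 10]] (nat_lit 127) = true := by decide +kernel
theorem k264 : nrmRow F bs0 bqws (nat_lit 6) (nat_lit 4) (nat_lit 5) [[nat_lit 10]] (nat_lit 127) = true := by decide +kernel
theorem k265 : nrmRow F bs0 bqws (nat_lit 6) (nat_lit 5) (nat_lit 6) [] (nat_lit 127) = true := by decide +kernel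
noncomputable def bqnm : List Nat := [nat_lit 127, nat_lit 127, nat_lit 127, nat_lit 127, nat_lit 127, nat_lit 127]
theorem bqhn (M : PM G Ω 24 H14.M24c.nets) (hN : Nat.card G = 244823040) : NrmL (loc M.gen bqws) 6 0 bqnm :=
  (nrm_cons (base0 M hN) k260 (nrm_cons (base0 M hN) k261 (nrm_cons (base0 M hN) k262 (nrm_cons (base0 M hN) k263 (nrm_cons (base0 M hN) k264 (nrm_cons (base0 M hN) k265 trivial))))))
noncomputable def c266 : Chn := [((nat_lit 0), (nat_lit 0x802009)), ((nat_lit 1), (nat_lit 0x542)), ((nat_lit 2), (nat_lit 0x8884))]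
noncomputable def d267 : List OD := [⟨[nat_lit 5, nat_lit 4], [], (dn (nat_lit 12) (nat_lit 0x5c2002001))⟩,
 ⟨[nat_lit 3, nat_lit 1], [], (dn (nat_lit 12) (nat_lit 0x182042041))⟩,
 ⟨[nat_lit 0, nat_lit 2], [], (dn (nat_lit 12) (nat_lit 0x3c2082081))⟩]
theorem k268 : ocChk (nat_lit 24) H14.M24c.nets F bqz c266 d267 [] = true := by decide +kernel
theorem o269 (M : PM G Ω 24 H14.M24c.nets) (hN : Nat.card G = 244823040) : OC M (Nn (loc M.gen bqws) 6 0) [] c266 :=
  oc_of (sub_le_Nn M.gen bqz [] (m := 6) rfl) k268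
theorem k270 : powChk F bs0 bqws (nat_lit 2) (nat_lit 6) bqnm [[],
 [],
 [],
 [],
 [],
 []] = true := by decide +kernel
theorem bqpc (M : PM G Ω 24 H14.M24c.nets) (hN : Nat.card G = 244823040) : Pc (loc M.gen bqws) 2 6 ∧ ∀ i ≤ 6, Nat.card (Nn (loc M.gen bqws) 6 i) = 2 ^ (6 - i) :=
  pc_of (base0 M hN) (by norm_num) (bqhn M hN) k270 (OC.le_card' (o269 M hN) (by decide +kernel))
noncomputable def bq : List Word := List.drop 0 bqz
theorem bq_card (M : PM G Ω 24 H14.M24c.nets) (hN : Nat.card G = 244823040) : Nat.card (sub M.gen bq) = 2 ^ 6 :=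
  Nn_eq_sub M.gen bqz [] (m := 6) rfl 0 ▸ (bqpc M hN).2 0 (by decide)
noncomputable def v271 : List Word := [dw (nat_lit 0x0805), dw (nat_lit 0x0306030307), dw (nat_lit 0x07070505), dw (nat_lit 0x0407030308), dw (nat_lit 0x010801040503030806), dw (nat_lit 0x01040401050308)]
theorem k272 : relK F bs0 (memRels bks bq v271) = true := by decide +kernel
theorem bq_le (M : PM G Ω 24 H14.M24c.nets) (hN : Nat.card G = 244823040) : (sub M.gen bq) ≤ (sub M.gen bks) :=
  (sub_le_of_memRels (rels_base (base0 M hN) k272))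
noncomputable def v273 : List (List Word) := [[dw (nat_lit 0x030509), dw (nat_lit 0x05090b), dw (nat_lit 0x010507090b), dw (nat_lit 0x010b), dw (nat_lit 0x0709), dw (nat_lit 0x0b)],
 [dw (nat_lit 0x010307), dw (nat_lit 0x0105), dw (nat_lit 0x010507), dw (nat_lit 0x0107), dw (nat_lit 0x050709), dw (nat_lit 0x0b)],
 [dw (nat_lit 0x0105), dw (nat_lit 0x010305), dw (nat_lit 0x05), dw (nat_lit 0x010307), dw (nat_lit 0x03090b), dw (nat_lit 0x0b)],
 [dw (nat_lit 0x0105), dw (nat_lit 0x010305), dw (nat_lit 0x05), dw (nat_lit 0x010307), dw (nat_lit 0x03090b), dw (nat_lit 0x0b)]]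
theorem k274 : relK F bs0 (nrR bq bq bks v273) = true := by decide +kernel
theorem bq_nrm (M : PM G Ω 24 H14.M24c.nets) (hN : Nat.card G = 244823040) : (sub M.gen bks) ≤ (Subgroup.normalizer (sub M.gen bq : Set G)) :=
  (le_normalizer_of le_rfl (rels_base (base0 M hN) k274) (by decide +kernel))
theorem k275 : orbChk (nat_lit 24) H14.M24c.nets F [] (sel [w0, w1] [nat_lit 0, nat_lit 1]) [dw (nat_lit 0x01), dw (nat_lit 0x03), dw (nat_lit 0x01), dw (nat_lit 0x01), dw (nat_lit 0x03)] (dn (nat_lit 12) (nat_lit 0x0025825813815414c10811c1)) (bit (nat_lit 9)) (full (nat_lit 24)) = true := by decide +kernel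
theorem o276 (M : PM G Ω 24 H14.M24c.nets) (hN : Nat.card G = 244823040) : Orb M ⊤ [] (nat_lit 9) (full (nat_lit 24)) :=
  (Orb.ext le_top (orb_bit ⊤ [] (b := (nat_lit 9)) rfl) k275)
noncomputable def w277 : Word := [nat_lit 14, nat_lit 7]
noncomputable def w278 : Word := [nat_lit 0, nat_lit 2, nat_lit 20]
theorem k279 : orbChk (nat_lit 24) H14.M24c.nets F [nat_lit 9] (sel [w277, w278] [nat_lit 0, nat_lit 1]) [dw (nat_lit 0x01)] (dn (nat_lit 12) (nat_lit 0x0020815c23424c24015025820c20c13c23011821813823810420411c1542541)) (bit (nat_lit 17)) (nat_lit 0xfffdff) = true := by decide +kernel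
theorem o280 (M : PM G Ω 24 H14.M24c.nets) (hN : Nat.card G = 244823040) : Orb M ⊤ [nat_lit 9] (nat_lit 17) (nat_lit 0xfffdff) :=
  (Orb.ext le_top (orb_bit ⊤ [nat_lit 9] (b := (nat_lit 17)) rfl) k279)
noncomputable def w281 : Word := [nat_lit 1, nat_lit 5, nat_lit 6, nat_lit 1]
theorem k282 : orbChk (nat_lit 24) H14.M24c.nets F [nat_lit 17, nat_lit 9] (sel [w278, w281] [nat_lit 0, nat_lit 1]) [dw (nat_lit 0x01)] (dn (nat_lit 12) (nat_lit 0x4010815c13421021012822810c22c2581482481382381142141202201502)) (bit (nat_lit 20)) (nat_lit 0xfdfdff) = true := by decide +kernel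
theorem o283 (M : PM G Ω 24 H14.M24c.nets) (hN : Nat.card G = 244823040) : Orb M ⊤ [nat_lit 17, nat_lit 9] (nat_lit 20) (nat_lit 0xfdfdff) :=
  (Orb.ext le_top (orb_bit ⊤ [nat_lit 17, nat_lit 9] (b := (nat_lit 20)) rfl) k282)
noncomputable def w284 : Word := [nat_lit 20, nat_lit 8, nat_lit 1, nat_lit 5]
noncomputable def w285 : Word := [nat_lit 0, nat_lit 8, nat_lit 20, nat_lit 10, nat_lit 2]
theorem k286 : orbChk (nat_lit 24) H14.M24c.nets F [nat_lit 20, nat_lit 17, nat_lit 9] (sel [w284, w285] [nat_lit 0, nat_lit 1]) [dw (nat_lit 0x01)] (dn (nat_lit 12) (nat_lit 0x0c15424011021014c24c12813023011c20013c23c13415c2142141582)) (bit (nat_lit 22)) (nat_lit 0xedfdff) = true := by decide +kernel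
theorem o287 (M : PM G Ω 24 H14.M24c.nets) (hN : Nat.card G = 244823040) : Orb M ⊤ [nat_lit 20, nat_lit 17, nat_lit 9] (nat_lit 22) (nat_lit 0xedfdff) :=
  (Orb.ext le_top (orb_bit ⊤ [nat_lit 20, nat_lit 17, nat_lit 9] (b := (nat_lit 22)) rfl) k286)
noncomputable def w288 : Word := [nat_lit 13, nat_lit 0, nat_lit 2, nat_lit 20, nat_lit 16, nat_lit 0]
theorem k289 : orbChk (nat_lit 24) H14.M24c.nets F [nat_lit 22, nat_lit 20, nat_lit 17, nat_lit 9] (sel [w258, w288] [nat_lit 0, nat_lit 1]) [dw (nat_lit 0x01)] (dn (nat_lit 12) (nat_lit 0x0822c22820423425c20024820c23021421411021013825421c23c2)) (bit (nat_lit 15)) (nat_lit 0xadfdff) = true := by decide +kernel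
theorem o290 (M : PM G Ω 24 H14.M24c.nets) (hN : Nat.card G = 244823040) : Orb M ⊤ [nat_lit 22, nat_lit 20, nat_lit 17, nat_lit 9] (nat_lit 15) (nat_lit 0xadfdff) :=
  (Orb.ext le_top (orb_bit ⊤ [nat_lit 22, nat_lit 20, nat_lit 17, nat_lit 9] (b := (nat_lit 15)) rfl) k289)
noncomputable def w291 : Word := [nat_lit 0, nat_lit 0, nat_lit 17, nat_lit 5, nat_lit 1, nat_lit 17, nat_lit 5]
theorem k292 : orbChk (nat_lit 24) H14.M24c.nets F [nat_lit 15, nat_lit 22, nat_lit 20, nat_lit 17, nat_lit 9] (sel [w291] [nat_lit 0]) [] (dn (nat_lit 12) (nat_lit 0x1c1081)) (bit (nat_lit 2)) (nat_lit 0x884) = true := by decide +kernel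
theorem o293 (M : PM G Ω 24 H14.M24c.nets) (hN : Nat.card G = 244823040) : Orb M ⊤ [nat_lit 15, nat_lit 22, nat_lit 20, nat_lit 17, nat_lit 9] (nat_lit 2) (nat_lit 0x884) :=
  (Orb.ext le_top (orb_bit ⊤ [nat_lit 15, nat_lit 22, nat_lit 20, nat_lit 17, nat_lit 9] (b := (nat_lit 2)) rfl) k292)
noncomputable def w294 : Word := [nat_lit 6, nat_lit 14, nat_lit 6, nat_lit 14, nat_lit 6, nat_lit 2]
noncomputable def w295 : Word := [nat_lit 1, nat_lit 9, nat_lit 16, nat_lit 2, nat_lit 17, nat_lit 7, nat_lit 7, nat_lit 0]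
noncomputable def w296 : Word := [nat_lit 21, nat_lit 6, nat_lit 0, nat_lit 2, nat_lit 1, nat_lit 4, nat_lit 13, nat_lit 11]
noncomputable def w297 : Word := [nat_lit 0, nat_lit 2, nat_lit 7, nat_lit 9, nat_lit 4, nat_lit 1, nat_lit 1, nat_lit 7, nat_lit 2, nat_lit 1]
theorem k298 : orbChk (nat_lit 24) H14.M24c.nets F [nat_lit 2, nat_lit 15, nat_lit 22, nat_lit 20, nat_lit 17, nat_lit 9] (sel [w294, w295, w296, w297] [nat_lit 0, nat_lit 1, nat_lit 2, nat_lit 3]) [] (dn (nat_lit 12) (nat_lit 0x4c44041440c40c3304344343204203202184183182181)) (bit (nat_lit 6)) (nat_lit 0xad757b) = true := by decide +kernel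
theorem o299 (M : PM G Ω 24 H14.M24c.nets) (hN : Nat.card G = 244823040) : Orb M ⊤ [nat_lit 2, nat_lit 15, nat_lit 22, nat_lit 20, nat_lit 17, nat_lit 9] (nat_lit 6) (nat_lit 0xad757b) :=
  (Orb.ext le_top (orb_bit ⊤ [nat_lit 2, nat_lit 15, nat_lit 22, nat_lit 20, nat_lit 17, nat_lit 9] (b := (nat_lit 6)) rfl) k298)
noncomputable def c300 : Chn := [((nat_lit 9), (full (nat_lit 24))), ((nat_lit 17), (nat_lit 0xfffdff)), ((nat_lit 20), (nat_lit 0xfdfdff)), ((nat_lit 22), (nat_lit 0xedfdff)), ((nat_lit 15), (nat_lit 0xadfdff)), ((nat_lit 2), (nat_lit 0x884)), ((nat_lit 6), (nat_lit 0xad757b))]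
theorem k301 : Nat.ble 244823040 (cval (nat_lit 24) c300) = true := by decide +kernel
theorem e302 (M : PM G Ω 24 H14.M24c.nets) (hN : Nat.card G = 244823040) : EC M ⊤ [] c300 :=
  ec_top (c := c300) ⟨(o276 M hN), ⟨(o280 M hN), ⟨(o283 M hN), ⟨(o287 M hN), ⟨(o290 M hN), ⟨(o293 M hN), ⟨(o299 M hN), trivial⟩⟩⟩⟩⟩⟩⟩ hN k301
noncomputable def p303 : Prs := [(w205, w205), (w211, w211), (w257, w257), (w258, w258), (w259, w259), (b, b)]
theorem k304 : band (Nat.ble (nat_lit 24) (Nat.pow 2 (nat_lit 5))) (fsChk (nat_lit 24) (nat_lit 5) H14.M24c.nets w205 (nat_lit 0x80254b) (full (nat_lit 24)) 0 0 (nat_lit 5)) = true := by decide +kernel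
theorem f305 (M : PM G Ω 24 H14.M24c.nets) (hN : Nat.card G = 244823040) : IsFix M w205 (nat_lit 0x80254b) :=
  fix_one k304
theorem k306 : relK F bs0 [(w205, flat (fsts p303) [nat_lit 0]), (w205, flat (snds p303) [nat_lit 0])] = true := by decide +kernel
theorem k307 : band (Nat.ble (nat_lit 24) (Nat.pow 2 (nat_lit 5))) (fsChk (nat_lit 24) (nat_lit 5) H14.M24c.nets w211 (nat_lit 0x80a88d) (full (nat_lit 24)) 0 0 (nat_lit 5)) = true := by decide +kernel
theorem f308 (M : PM G Ω 24 H14.M24c.nets) (hN : Nat.card G = 244823040) : IsFix M w211 (nat_lit 0x80a88d) :=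
  fix_one k307
theorem k309 : relK F bs0 [(w211, flat (fsts p303) [nat_lit 2]), (w211, flat (snds p303) [nat_lit 2])] = true := by decide +kernel
theorem k310 : band (Nat.ble (nat_lit 24) (Nat.pow 2 (nat_lit 5))) (fsChk (nat_lit 24) (nat_lit 5) H14.M24c.nets w257 (nat_lit 0x80254b) (full (nat_lit 24)) 0 0 (nat_lit 5)) = true := by decide +kernel
theorem f311 (M : PM G Ω 24 H14.M24c.nets) (hN : Nat.card G = 244823040) : IsFix M w257 (nat_lit 0x80254b) :=
  fix_one k310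
theorem k312 : relK F bs0 [(w257, flat (fsts p303) [nat_lit 4]), (w257, flat (snds p303) [nat_lit 4])] = true := by decide +kernel
theorem k313 : band (Nat.ble (nat_lit 24) (Nat.pow 2 (nat_lit 5))) (fsChk (nat_lit 24) (nat_lit 5) H14.M24c.nets w258 (nat_lit 0xd22209) (full (nat_lit 24)) 0 0 (nat_lit 5)) = true := by decide +kernel
theorem f314 (M : PM G Ω 24 H14.M24c.nets) (hN : Nat.card G = 244823040) : IsFix M w258 (nat_lit 0xd22209) :=
  fix_one k313
theorem k315 : relK F bs0 [(w258, flat (fsts p303) [nat_lit 6]), (w258, flat (snds p303) [nat_lit 6])] = true := by decide +kernel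
theorem k316 : band (Nat.ble (nat_lit 24) (Nat.pow 2 (nat_lit 5))) (fsChk (nat_lit 24) (nat_lit 5) H14.M24c.nets w259 (nat_lit 0x520742) (full (nat_lit 24)) 0 0 (nat_lit 5)) = true := by decide +kernel
theorem f317 (M : PM G Ω 24 H14.M24c.nets) (hN : Nat.card G = 244823040) : IsFix M w259 (nat_lit 0x520742) :=
  fix_one k316
theorem k318 : relK F bs0 [(w259, flat (fsts p303) [nat_lit 8]), (w259, flat (snds p303) [nat_lit 8])] = true := by decide +kernel
noncomputable def b319 : List (Nat × Nat) := [((nat_lit 0x80254b), (nat_lit 0x80254b)), ((nat_lit 0x80a88d), (nat_lit 0x80a88d)), ((nat_lit 0x80254b), (nat_lit 0x80254b)), ((nat_lit 0xd22209), (nat_lit 0xd22209)), ((nat_lit 0x520742), (nat_lit 0x520742))]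
noncomputable def w320 : Word := [nat_lit 20, nat_lit 13, nat_lit 8, nat_lit 12, nat_lit 0, nat_lit 2, nat_lit 1, nat_lit 4, nat_lit 10, nat_lit 15]
noncomputable def w321 : Word := [nat_lit 12, nat_lit 17, nat_lit 9, nat_lit 2, nat_lit 20, nat_lit 14]
noncomputable def w322 : Word := [nat_lit 14, nat_lit 10, nat_lit 5, nat_lit 15, nat_lit 19, nat_lit 2]
noncomputable def w323 : Word := [nat_lit 16, nat_lit 12, nat_lit 10, nat_lit 21, nat_lit 5, nat_lit 9, nat_lit 2]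
noncomputable def w324 : Word := [nat_lit 8, nat_lit 10, nat_lit 4, nat_lit 4, nat_lit 9, nat_lit 9]
noncomputable def y325 : List Word := [w320, w321, w322, w323, w324, w258]
theorem k326 : relK F bs0 (commR (snds p303) y325) = true := by decide +kernel
theorem x327 (M : PM G Ω 24 H14.M24c.nets) (hN : Nat.card G = 244823040) : Cx M (fun g => Pr M g p303) b319 [] p303 y325 :=
  cx_conj (tb_cons (f305 M hN) (f305 M hN) (rels_base (base0 M hN) k306) (tb_cons (f308 M hN) (f308 M hN) (rels_base (base0 M hN) k309) (tb_cons (f311 M hN) (f311 M hN) (rels_base (base0 M hN) k312) (tb_cons (f314 M hN) (f314 M hN) (rels_base (base0 M hN) k315) (tb_cons (f317 M hN) (f317 M hN) (rels_base (base0 M hN) k318) (fun _ _ => fa_nil)))))) (rels_base (base0 M hN) k326)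
noncomputable def t328 : KT := KT.nil (SE.and (SE.dif (SE.dif (SE.lev (nat_lit 0)) (SE.tab (nat_lit 0))) (SE.tab (nat_lit 1))) (SE.tab (nat_lit 3))) [] [] []
theorem k329 : ktChk (nat_lit 24) H14.M24c.nets F c300 b319 [] p303 y325 [] [] (nat_lit 0) (nat_lit 9) (nat_lit 0x520200) 0 t328 = true := by decide +kernel
theorem l330 (M : PM G Ω 24 H14.M24c.nets) (hN : Nat.card G = 244823040) : Cl M (fun g => Pr M g p303) [] [] (nat_lit 9) (nat_lit 0x520200) :=
  cl_tree (e302 M hN) (x327 M hN) (dd0 _ _ _ _) k329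
noncomputable def t331 : KT := KT.liv (nat_lit 9) [nat_lit 2]
theorem k332 : ktChk (nat_lit 24) H14.M24c.nets F c300 b319 [] p303 y325 [] [nat_lit 9] (nat_lit 1) (nat_lit 17) (bit (nat_lit 17)) 0 t331 = true := by decide +kernel
theorem l333 (M : PM G Ω 24 H14.M24c.nets) (hN : Nat.card G = 244823040) : Cl M (fun g => Pr M g p303) [] [nat_lit 9] (nat_lit 17) (bit (nat_lit 17)) :=
  cl_tree (e302 M hN) (x327 M hN) (dd0 _ _ _ _) k332
noncomputable def t334 : KT := KT.liv (nat_lit 9) [nat_lit 0]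
theorem k335 : ktChk (nat_lit 24) H14.M24c.nets F c300 b319 [] p303 y325 [] [nat_lit 17, nat_lit 9] (nat_lit 2) (nat_lit 20) (bit (nat_lit 20)) 0 t334 = true := by decide +kernel
theorem l336 (M : PM G Ω 24 H14.M24c.nets) (hN : Nat.card G = 244823040) : Cl M (fun g => Pr M g p303) [] [nat_lit 17, nat_lit 9] (nat_lit 20) (bit (nat_lit 20)) :=
  cl_tree (e302 M hN) (x327 M hN) (dd0 _ _ _ _) k335
noncomputable def t337 : KT := KT.liv (nat_lit 9) [nat_lit 4]
theorem k338 : ktChk (nat_lit 24) H14.M24c.nets F c300 b319 [] p303 y325 [] [nat_lit 20, nat_lit 17, nat_lit 9] (nat_lit 3) (nat_lit 22) (bit (nat_lit 22)) 0 t337 = true := by decide +kernel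
theorem l339 (M : PM G Ω 24 H14.M24c.nets) (hN : Nat.card G = 244823040) : Cl M (fun g => Pr M g p303) [] [nat_lit 20, nat_lit 17, nat_lit 9] (nat_lit 22) (bit (nat_lit 22)) :=
  cl_tree (e302 M hN) (x327 M hN) (dd0 _ _ _ _) k338
noncomputable def t340 : KT := KT.nil (SE.and (SE.dif (SE.lev (nat_lit 4)) (SE.tab (nat_lit 0))) (SE.tab (nat_lit 1))) [] [] []
theorem k341 : ktChk (nat_lit 24) H14.M24c.nets F c300 b319 [] p303 y325 [] [nat_lit 22, nat_lit 20, nat_lit 17, nat_lit 9] (nat_lit 4) (nat_lit 15) (nat_lit 0x8884) 0 t340 = true := by decide +kernel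
theorem l342 (M : PM G Ω 24 H14.M24c.nets) (hN : Nat.card G = 244823040) : Cl M (fun g => Pr M g p303) [] [nat_lit 22, nat_lit 20, nat_lit 17, nat_lit 9] (nat_lit 15) (nat_lit 0x8884) :=
  cl_tree (e302 M hN) (x327 M hN) (dd0 _ _ _ _) k341
noncomputable def t343 : KT := KT.liv (nat_lit 15) [nat_lit 0]
theorem k344 : ktChk (nat_lit 24) H14.M24c.nets F c300 b319 [] p303 y325 [] [nat_lit 15, nat_lit 22, nat_lit 20, nat_lit 17, nat_lit 9] (nat_lit 5) (nat_lit 2) (bit (nat_lit 2)) 0 t343 = true := by decide +kernel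
theorem l345 (M : PM G Ω 24 H14.M24c.nets) (hN : Nat.card G = 244823040) : Cl M (fun g => Pr M g p303) [] [nat_lit 15, nat_lit 22, nat_lit 20, nat_lit 17, nat_lit 9] (nat_lit 2) (bit (nat_lit 2)) :=
  cl_tree (e302 M hN) (x327 M hN) (dd0 _ _ _ _) k344
noncomputable def t346 : KT := KT.nil (SE.dif (SE.and (SE.lev (nat_lit 6)) (SE.tab (nat_lit 0))) (SE.tab (nat_lit 1))) [] [] []
theorem k347 : ktChk (nat_lit 24) H14.M24c.nets F c300 b319 [] p303 y325 [] [nat_lit 2, nat_lit 15, nat_lit 22, nat_lit 20, nat_lit 17, nat_lit 9] (nat_lit 6) (nat_lit 6) (nat_lit 0x542) 0 t346 = true := by decide +kernel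
theorem l348 (M : PM G Ω 24 H14.M24c.nets) (hN : Nat.card G = 244823040) : Cl M (fun g => Pr M g p303) [] [nat_lit 2, nat_lit 15, nat_lit 22, nat_lit 20, nat_lit 17, nat_lit 9] (nat_lit 6) (nat_lit 0x542) :=
  cl_tree (e302 M hN) (x327 M hN) (dd0 _ _ _ _) k347
noncomputable def c349 : Chn := [((nat_lit 9), (nat_lit 0x520200)), ((nat_lit 17), (bit (nat_lit 17))), ((nat_lit 20), (bit (nat_lit 20))), ((nat_lit 22), (bit (nat_lit 22))), ((nat_lit 15), (nat_lit 0x8884)), ((nat_lit 2), (bit (nat_lit 2))), ((nat_lit 6), (nat_lit 0x542))]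
theorem e350 (M : PM G Ω 24 H14.M24c.nets) (hN : Nat.card G = 244823040) : SC M (cenP M p303 rfl) [] c349 :=
  ⟨Cl.lev (l330 M hN), ⟨Cl.lev (l333 M hN), ⟨Cl.lev (l336 M hN), ⟨Cl.lev (l339 M hN), ⟨Cl.lev (l342 M hN), ⟨Cl.lev (l345 M hN), ⟨Cl.lev (l348 M hN), (EC.sc_end (e302 M hN) (by decide +kernel))⟩⟩⟩⟩⟩⟩⟩
theorem bcq (M : PM G Ω 24 H14.M24c.nets) (hN : Nat.card G = 244823040) : Nat.card (Subgroup.centralizer (sub M.gen bq : Set G)) ≤ 64 :=
  (cenP_eq (M := M) (ps := p303) rfl ▸ SC.card_le' (e350 M hN) (by decide +kernel) : Nat.card (Subgroup.centralizer (sub M.gen (fsts p303) : Set G)) ≤ _)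
noncomputable def w351 : Word := [nat_lit 17, nat_lit 15, nat_lit 4, nat_lit 18, nat_lit 1, nat_lit 17, nat_lit 2, nat_lit 0, nat_lit 0, nat_lit 0]
noncomputable def w352 : Word := [nat_lit 16, nat_lit 19, nat_lit 20, nat_lit 8, nat_lit 5, nat_lit 1, nat_lit 8, nat_lit 2, nat_lit 1, nat_lit 16, nat_lit 6]
noncomputable def w353 : Word := [nat_lit 7, nat_lit 21, nat_lit 15, nat_lit 18, nat_lit 6]
noncomputable def bzz : List Word := [w351, w352, w353, w211, w213, w257]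
noncomputable def c354 : Chn := [((nat_lit 23), (nat_lit 0x802009)), ((nat_lit 0), (bit (nat_lit 0))), ((nat_lit 1), (nat_lit 0x542)), ((nat_lit 2), (nat_lit 0x8884)), ((nat_lit 3), (bit (nat_lit 3))), ((nat_lit 4), (bit (nat_lit 4))), ((nat_lit 5), (bit (nat_lit 5)))]
noncomputable def d355 : List OD := [⟨[nat_lit 0, nat_lit 1], [], (dn (nat_lit 12) (nat_lit 0x0c25c25c1))⟩,
 ⟨[], [], []⟩,
 ⟨[nat_lit 2, nat_lit 3], [], (dn (nat_lit 12) (nat_lit 0x282042041))⟩,
 ⟨[nat_lit 4, nat_lit 5], [], (dn (nat_lit 12) (nat_lit 0x1c2082081))⟩,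
 ⟨[], [], []⟩,
 ⟨[], [], []⟩,
 ⟨[], [], []⟩]
theorem k356 : ocChk (nat_lit 24) H14.M24c.nets F bzz c354 d355 [] = true := by decide +kernel
theorem o357 (M : PM G Ω 24 H14.M24c.nets) (hN : Nat.card G = 244823040) : OC M (sub M.gen bzz) [] c354 :=
  oc_of le_rfl k356
theorem bzz_low (M : PM G Ω 24 H14.M24c.nets) (hN : Nat.card G = 244823040) : 64 ≤ Nat.card (sub M.gen bzz) :=
  (OC.le_card' (N := 64) (o357 M hN) (by decide +kernel))
theorem k358 : relK F bs0 (commR bq bzz) = true := by decide +kernel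
theorem bzc (M : PM G Ω 24 H14.M24c.nets) (hN : Nat.card G = 244823040) : (sub M.gen bzz) ≤ (Subgroup.centralizer (sub M.gen bq : Set G)) :=
  (le_cent_of (rels_base (base0 M hN) k358))
noncomputable def v359 : List Word := [dw (nat_lit 0x010307090b), dw (nat_lit 0x030509), dw (nat_lit 0x030507), dw (nat_lit 0x03), dw (nat_lit 0x0105), dw (nat_lit 0x05)]
theorem k360 : relK F bs0 (memRels bq bzz v359) = true := by decide +kernel
theorem bzl (M : PM G Ω 24 H14.M24c.nets) (hN : Nat.card G = 244823040) : (sub M.gen bzz) ≤ (sub M.gen bq) :=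
  (sub_le_of_memRels (rels_base (base0 M hN) k360))
theorem bcon (M : PM G Ω 24 H14.M24c.nets) (hN : Nat.card G = 244823040) : ∃ Q : Subgroup G, IsPGroup 2 Q ∧ Q ≤ Subgroup.centralizer {ev M.gen b} ∧ Subgroup.centralizer {ev M.gen b} ≤ Subgroup.normalizer (Q : Set G) ∧ Subgroup.centralizer (Q : Set G) ≤ Q :=
  ⟨(sub M.gen bq), IsPGroup.of_card (bq_card M hN), (bq_le M hN).trans (beqC M hN).1.ge, (beqC M hN).1.le.trans (bq_nrm M hN), (eq_of_cards (bzc M hN) (bcq M hN) (bzz_low M hN)).1.le.trans (bzl M hN)⟩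

end L.BkM24
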