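import Cfsg.Agent.H14.C2cD

/-! Generated certificate (tools14/pkgen) for the permutation group C2c of degree 4600, order 42305421312000, base 0 1 8 2 4 55 3. -/
set_option Elab.async false
set_option autoImplicit false
set_option maxRecDepth 100000
set_option maxHeartbeats 0

namespace H14.C2c
open H14

theorem reach_ok : subs (full 4600) (orbRun nets (lets 4) reach (bits (List.map Prod.fst ss))) = true := by decide +kernel
theorem co0 : coChk R0 = true := by decide +kernel
theorem lf0 : lfChk 4600 n0 R0 X = true := by decide +kernel
theorem fx0 : us.all (fun u => mapChk R0 u u) = true := by decide +kernel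
theorem co1 : coChk R1 = true := by decide +kernel
theorem lf1 : lfChk 4600 n1 R1 X = true := by decide +kernel
theorem fx1 : us.all (fun u => mapChk R1 u u) = true := by decide +kernel
theorem co2 : coChk R2 = true := by decide +kernel
theorem lf2 : lfChk 4600 n2 R2 X = true := by decide +kernel
theorem fx2 : us.all (fun u => mapChk R2 u u) = true := by decide +kernel
theorem co3 : coChk R3 = true := by decide +kernel
theorem lf3 : lfChk 4600 n3 R3 X = true := by decide +kernel
theorem fx3 : us.all (fun u => mapChk R3 u u) = true := by decide +kernel
theorem seed_ok : seedChk 4600 X ss = true := by decide +kernel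
theorem fin_ok : finChk 4600 X [46, 41, 35, 25, 22, 21, 20, 18, 16, 15, 14, 13, 10, 9, 8, 7, 6, 5, 4, 3, 2, 1, 0] [] us [0, 0, 1, 2, 3, 4, 5, 6, 7, 8, 9, 10, 13, 14, 15, 16, 18, 20, 21, 22, 25, 35, 41, 46] xs xc = true := by decide +kernel
theorem chk6 : lev6.chk 4600 nets ws7 1 3 = true := by decide +kernel
theorem chk5 : lev5.chk 4600 nets ws6 3 192 = true := by decide +kernel
theorem chk4 : lev4.chk 4600 nets ws5 192 6144 = true := by decide +kernel
theorem chk3 : lev3.chk 4600 nets ws4 6144 245760 = true := by decide +kernel
theorem chk2 : lev2.chk 4600 nets ws3 245760 10321920 = true := by decide +kernel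
theorem chk1 : lev1.chk 4600 nets ws2 10321920 9196830720 = true := by decide +kernel
theorem primc0 : PM.primChk nets ws1 lev0 (PM.sosBut lev0 453) prim0 = true := by decide +kernel
theorem chk0 : lev0.chk 4600 nets ws1 9196830720 42305421312000 = true := by decide +kernel
theorem rc0 : relsChk 4600 nets 13 (idArr 4600 13 13 0) (List.take 70 allRels) = true := by decide +kernel
theorem rc1 : relsChk 4600 nets 13 (idArr 4600 13 13 0) (List.take 130 (List.drop 70 allRels)) = true := by decide +kernel
theorem rc2 : relsChk 4600 nets 13 (idArr 4600 13 13 0) (List.take 175 (List.drop 130 (List.drop 70 allRels))) = true := by decide +kernel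
theorem rc3 : relsChk 4600 nets 13 (idArr 4600 13 13 0) (List.drop 175 (List.drop 130 (List.drop 70 allRels))) = true := by decide +kernel

end H14.C2c
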