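import Cfsg.Agent.H14.CoHC0

/-! Generated certificate (tools14/pkgen) for the permutation group CoH of degree 11178, order 1, base. -/
set_option autoImplicit false
set_option maxRecDepth 100000
set_option maxHeartbeats 0

namespace H14.CoH
open H14

section
variable {Γ Ω : Type*} [Group Γ] [MulAction Γ Ω] (M : PM Γ Ω 11178 nets)

theorem all_ok (hs : M.Sep 14 (idArr 11178 14 14 0)) : Rels M.gen allRels := (M.rels_of_chk hs rc0)
theorem sep [FaithfulSMul Γ Ω] : M.Sep 14 (idArr 11178 14 14 0) := M.sep_idArr (by decide)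
theorem all_ok' [FaithfulSMul Γ Ω] : Rels M.gen allRels := all_ok M (sep M)
theorem rels_of_all {gen : ℕ → Γ} (h : Rels gen allRels) : Rels gen rels := Rels.left h
theorem relsD_of_all {gen : ℕ → Γ} (h : Rels gen allRels) : Rels gen relsD := Rels.left (Rels.right h)
theorem relsO_of_all {gen : ℕ → Γ} (h : Rels gen allRels) : Rels gen relsO := Rels.left (Rels.right (Rels.right h))
theorem relsS_of_all {gen : ℕ → Γ} (h : Rels gen allRels) : Rels gen relsS := Rels.right (Rels.right (Rels.right h))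
theorem card0 (_hR : Rels M.gen rels) : Nat.card (sub M.gen ws0) = 1 := M.card_nil
theorem fixw0 (_hR : Rels M.gen rels) : M.FixTriv ws0 [] := M.fixTriv_nil

end

noncomputable def gs : ℕ → Cfsg.Co0 := getL 1 [coOf _ co0, coOf _ co1, coOf _ co2]

section
variable {H : Subgroup Cfsg.Co0} {T : SubMulAction H Λ}

theorem exists_pm (hH : ∀ R h, us.all (fun u => mapChk R u u) = true → coOf R h ∈ H)
    (hu : ∀ u ∈ us, ∃ x : Λ, x.1 = vecN u ∧ ∀ g : H, g • x = x)
    (hT : ∀ s ∈ ss, s.1 < 11178 ∧ ∀ x : Λ, x.1 = vecN s.2 → x ∈ T) (hc : (T : Set Λ).ncard = 11178) :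
    ∃ M : PM H T 11178 nets, LM X M ∧ ∀ l < 3, (M.gen l).1 = gs l := by
  obtain ⟨M, h1, h2⟩ := lm_of_lf (T := T) (gen := getL 1 [⟨_, hH _ co0 fx0⟩, ⟨_, hH _ co1 fx1⟩, ⟨_, hH _ co2 fx2⟩]) (by norm_num) (by norm_num) nets_ok (by decide +kernel) reach_ok seed_ok
    (fun l hl => by interval_cases l; exacts [⟨_, co0, lf0, rfl⟩, ⟨_, co1, lf1, rfl⟩, ⟨_, co2, lf2, rfl⟩]) hT hc (ds := defs) (by decide +kernel) (by decide +kernel)
    (relsD_of_all (all_ok' _))
  refine ⟨M, h1, fun l hl => ?_⟩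
  rw [h2 (h1.faithful fin_ok hu) l hl]
  interval_cases l <;> rfl

variable {M : PM H T 11178 nets} (hM : LM X M) (hu : ∀ u ∈ us, ∃ x : Λ, x.1 = vecN u ∧ ∀ g : H, g • x = x)
include hM hu

theorem faith : FaithfulSMul H T := hM.faithful fin_ok hu
theorem allR : Rels M.gen allRels := have := faith hM hu; all_ok' M
theorem relR : Rels M.gen rels := rels_of_all (allR hM hu)

end

end H14.CoH
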