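import Cfsg.Agent.H14.CoHD

/-! Generated certificate (tools14/pkgen) for the permutation group CoH of degree 11178, order 1, base. -/
set_option Elab.async false
set_option autoImplicit false
set_option maxRecDepth 100000
set_option maxHeartbeats 0

namespace H14.CoH
open H14

theorem reach_ok : subs (full 11178) (orbRun nets (lets 3) reach (bits (List.map Prod.fst ss))) = true := by decide +kernel
theorem orb16_ok : subs ( (clsV 11178 X 0x84808080808080808080808080808080808080808080807c (16))) (orbRun nets (lets 2) orb16 (bit 1)) = true := by decide +kernel
theorem orb8_ok : subs ( (clsV 11178 X 0x84808080808080808080808080808080808080808080807c (8))) (orbRun nets (lets 2) orb8 (bit 7)) = true := by decide +kernel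
theorem orb0_ok : subs ( (clsV 11178 X 0x84808080808080808080808080808080808080808080807c (0))) (orbRun nets (lets 2) orb0 (bit 10)) = true := by decide +kernel
theorem orbm8_ok : subs ( (clsV 11178 X 0x84808080808080808080808080808080808080808080807c (-8))) (orbRun nets (lets 2) orbm8 (bit 89)) = true := by decide +kernel
theorem co0 : coChk R0 = true := by decide +kernel
theorem lf0 : lfChk 11178 n0 R0 X = true := by decide +kernel
theorem fx0 : us.all (fun u => mapChk R0 u u) = true := by decide +kernel
theorem co1 : coChk R1 = true := by decide +kernel
theorem lf1 : lfChk 11178 n1 R1 X = true := by decide +kernel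
theorem fx1 : us.all (fun u => mapChk R1 u u) = true := by decide +kernel
theorem co2 : coChk R2 = true := by decide +kernel
theorem lf2 : lfChk 11178 n2 R2 X = true := by decide +kernel
theorem fx2 : us.all (fun u => mapChk R2 u u) = true := by decide +kernel
theorem seed_ok : seedChk 11178 X ss = true := by decide +kernel
theorem fin_ok : finChk 11178 X [22, 21, 20, 19, 18, 17, 16, 15, 14, 13, 12, 11, 10, 9, 8, 7, 6, 5, 4, 3, 2, 1, 0] [] us [0, 0, 1, 2, 3, 4, 5, 6, 7, 8, 9, 10, 11, 12, 13, 14, 15, 16, 17, 18, 19, 20, 21, 22] xs xc = true := by decide +kernel
theorem rc0 : relsChk 11178 nets 14 (idArr 11178 14 14 0) allRels = true := by decide +kernel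

end H14.CoH
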