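import Cfsg.Agent.H14.LeechT

/-! Generated certificate (tools14/pkgen) for the permutation group HSc of degree 100, order 44352000, base 0 7 1 2 3. -/
set_option autoImplicit false
set_option maxRecDepth 100000
set_option maxHeartbeats 0

namespace H14.HSc
open H14

noncomputable def n0 : Net := (.cons (nat_lit 1) (nat_lit 0x1455505401415001050045540)
(.cons (nat_lit 2) (nat_lit 0x3311120230100230111200000)
(.cons (nat_lit 4) (nat_lit 0xc03040c0e0808000d0a0007)
(.cons (nat_lit 8) (nat_lit 0x2d00b400040041000a)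
(.cons (nat_lit 16) (nat_lit 0x311b000061090000000c)
(.cons (nat_lit 32) (nat_lit 0xc6563900)
(.cons (nat_lit 64) (nat_lit 0x9c6563900)
(.cons (nat_lit 32) (nat_lit 0xf0000000025e7390c)
(.cons (nat_lit 16) (nat_lit 0xc5d200005ff20000f506)
(.cons (nat_lit 8) (nat_lit 0x1b00d800fc00490005008d)
(.cons (nat_lit 4) (nat_lit 0xb000303020e060e030c040b)
(.cons (nat_lit 2) (nat_lit 0x3202011100333123021212212)
(.cons (nat_lit 1) (nat_lit 0x4000440000015045044444111)
.nil)))))))))))))
theorem n0_ok : Net.ok 100 n0 = true := by decide +kernel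
noncomputable def n1 : Net := (.cons (nat_lit 1) (nat_lit 0x4111040440540151040004000)
(.cons (nat_lit 2) (nat_lit 0x2032300011103012132001000)
(.cons (nat_lit 4) (nat_lit 0xb0a06080804010c0f0d0404)
(.cons (nat_lit 8) (nat_lit 0xec008100b50008001e0000)
(.cons (nat_lit 16) (nat_lit 0x758f0000cd0b00000004)
(.cons (nat_lit 32) (nat_lit 0x36bc4920)
(.cons (nat_lit 64) (nat_lit 0x236bc4920)
(.cons (nat_lit 32) (nat_lit 0xf00000000d94d4924)
(.cons (nat_lit 16) (nat_lit 0xbecd0000cefd0000ff84)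
(.cons (nat_lit 8) (nat_lit 0x4d008500bb0033005300bc)
(.cons (nat_lit 4) (nat_lit 0xe0e07030c0b0200010a050a)
(.cons (nat_lit 2) (nat_lit 0x2322303110001021212030301)
(.cons (nat_lit 1) (nat_lit 0x4050500155504444451111111)
.nil)))))))))))))
theorem n1_ok : Net.ok 100 n1 = true := by decide +kernel
noncomputable def n2 : Net := (.cons (nat_lit 1) (nat_lit 0x1515154145551154544415040)
(.cons (nat_lit 2) (nat_lit 0x111120200010220121012120)
(.cons (nat_lit 4) (nat_lit 0xb030e0b0c09020900030100)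
(.cons (nat_lit 8) (nat_lit 0xa7003a0010008a00c80006)
(.cons (nat_lit 16) (nat_lit 0x523a0000770200000001)
(.cons (nat_lit 32) (nat_lit 0x80000000086d04940)
(.cons (nat_lit 64) (nat_lit 0x987d47f71)
(.cons (nat_lit 32) (nat_lit 0x70000000018fcab2a)
(.cons (nat_lit 16) (nat_lit 0xafd800005c100000b37d)
(.cons (nat_lit 8) (nat_lit 0xf800460091004500fb006e)
(.cons (nat_lit 4) (nat_lit 0x90106040b060a050d040b0a)
(.cons (nat_lit 2) (nat_lit 0x1001121033033022203302012)
(.cons (nat_lit 1) (nat_lit 0x41410105000104141404410)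
.nil)))))))))))))
theorem n2_ok : Net.ok 100 n2 = true := by decide +kernel
noncomputable def n3 : Net := (.cons (nat_lit 1) (nat_lit 0x4454400045050115051544440)
(.cons (nat_lit 2) (nat_lit 0x12213333300021321122310)
(.cons (nat_lit 4) (nat_lit 0x6080408080a040c0e090a05)
(.cons (nat_lit 8) (nat_lit 0x3a005b004c006b00100000)
(.cons (nat_lit 16) (nat_lit 0x889a0000658800000007)
(.cons (nat_lit 32) (nat_lit 0x4000000009c020860)
(.cons (nat_lit 64) (nat_lit 0xbbd1a1ee4)
(.cons (nat_lit 32) (nat_lit 0x500000000695e148f)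
(.cons (nat_lit 16) (nat_lit 0xc70e000039550000a328)
(.cons (nat_lit 8) (nat_lit 0xbc002a000500ff00e7006a)
(.cons (nat_lit 4) (nat_lit 0xb030a0502030a07030d0603)
(.cons (nat_lit 2) (nat_lit 0x3310130203100322001212100)
(.cons (nat_lit 1) (nat_lit 0x1105111514011144441454544)
.nil)))))))))))))
theorem n3_ok : Net.ok 100 n3 = true := by decide +kernel
noncomputable def n4 : Net := (.cons (nat_lit 1) (nat_lit 0x451401504554000445140114)
(.cons (nat_lit 2) (nat_lit 0x2210023011300132022021200)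
(.cons (nat_lit 4) (nat_lit 0x4010a0d0809050c0d03060a)
(.cons (nat_lit 8) (nat_lit 0x8c0024003e006400740000)
(.cons (nat_lit 16) (nat_lit 0x44850000811500000001)
(.cons (nat_lit 32) (nat_lit 0x704c4200)
(.cons (nat_lit 64) (nat_lit 0x47c6ce3c7)
(.cons (nat_lit 32) (nat_lit 0xb0000000077a884b5)
(.cons (nat_lit 16) (nat_lit 0xec7700007102000007f5)
(.cons (nat_lit 8) (nat_lit 0xbe000d002500b8007f00a2)
(.cons (nat_lit 4) (nat_lit 0x2060f0f0f040b020d070f0e)
(.cons (nat_lit 2) (nat_lit 0x3201130121220110033220200)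
(.cons (nat_lit 1) (nat_lit 0x150405455400110400010114)
.nil)))))))))))))
theorem n4_ok : Net.ok 100 n4 = true := by decide +kernel
noncomputable def n5 : Net := (.cons (nat_lit 1) (nat_lit 0x4141000454110004400100510)
(.cons (nat_lit 2) (nat_lit 0x1322321101121110200102120)
(.cons (nat_lit 4) (nat_lit 0x206060e0a0a090e010a080a)
(.cons (nat_lit 8) (nat_lit 0x70085001900e30056000d)
(.cons (nat_lit 16) (nat_lit 0x10520000020000000003)
(.cons (nat_lit 32) (nat_lit 0xb00000000c0066600)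
(.cons (nat_lit 64) (nat_lit 0x5c2bffe4e)
(.cons (nat_lit 32) (nat_lit 0xa00000000e5cf9ceb)
(.cons (nat_lit 16) (nat_lit 0x5b79000008db00008a17)
(.cons (nat_lit 8) (nat_lit 0xfa008000a2004a00b50031)
(.cons (nat_lit 4) (nat_lit 0x7030b090b010e0905070e0a)
(.cons (nat_lit 2) (nat_lit 0x1003223202231111230033130)
(.cons (nat_lit 1) (nat_lit 0x1141555145155400545551100)
.nil)))))))))))))
theorem n5_ok : Net.ok 100 n5 = true := by decide +kernel
noncomputable def n6 : Net := (.cons (nat_lit 1) (nat_lit 0x445544411510405405555010)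
(.cons (nat_lit 2) (nat_lit 0x1022110210113300032321120)
(.cons (nat_lit 4) (nat_lit 0x20e030d0d0a0d060608060c)
(.cons (nat_lit 8) (nat_lit 0x800cc0041008900850000)
(.cons (nat_lit 16) (nat_lit 0x91180000c02c0000000d)
(.cons (nat_lit 32) (nat_lit 0xb000000004c5c9140)
(.cons (nat_lit 64) (nat_lit 0x65ededfc9)
(.cons (nat_lit 32) (nat_lit 0x90000000069e83949)
(.cons (nat_lit 16) (nat_lit 0xc25d0000746300001dcd)
(.cons (nat_lit 8) (nat_lit 0xd700b9001300dd0064004c)
(.cons (nat_lit 4) (nat_lit 0xd000d0e0d04090304010f04)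
(.cons (nat_lit 2) (nat_lit 0x12202211013121333020)
(.cons (nat_lit 1) (nat_lit 0x4554044405455141440514500)
.nil)))))))))))))
theorem n6_ok : Net.ok 100 n6 = true := by decide +kernel
noncomputable def n7 : Net := (.cons (nat_lit 1) (nat_lit 0x1044110440144054454514040)
(.cons (nat_lit 2) (nat_lit 0x3213233310223210132001010)
(.cons (nat_lit 4) (nat_lit 0x703080200030a04050c08)
(.cons (nat_lit 8) (nat_lit 0x200a4004d000b00440001)
(.cons (nat_lit 16) (nat_lit 0xf5870000a38b0000000d)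
(.cons (nat_lit 32) (nat_lit 0x2000000001280f010)
(.cons (nat_lit 64) (nat_lit 0xb3fb0f65d)
(.cons (nat_lit 32) (nat_lit 0x70000000083febe94)
(.cons (nat_lit 16) (nat_lit 0xf4b1000011e40000c664)
(.cons (nat_lit 8) (nat_lit 0x44002e00b1006900e00069)
(.cons (nat_lit 4) (nat_lit 0xa0b0407000a010a0c030404)
(.cons (nat_lit 2) (nat_lit 0x1322333312331123333203330)
(.cons (nat_lit 1) (nat_lit 0x1005154441405155141055554)
.nil)))))))))))))
theorem n7_ok : Net.ok 100 n7 = true := by decide +kernel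
noncomputable def n8 : Net := (.cons (nat_lit 1) (nat_lit 0x4451105555400144005050400)
(.cons (nat_lit 2) (nat_lit 0x3322213321303013000010000)
(.cons (nat_lit 4) (nat_lit 0x60e01010307010404020208)
(.cons (nat_lit 8) (nat_lit 0x2600d80034005100e10008)
(.cons (nat_lit 16) (nat_lit 0x61100000ccec0000000e)
(.cons (nat_lit 32) (nat_lit 0x30000000041972200)
(.cons (nat_lit 64) (nat_lit 0x545bf2386)
(.cons (nat_lit 32) (nat_lit 0xb00000000d8d76738)
(.cons (nat_lit 16) (nat_lit 0xe8110000c1a50000634e)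
(.cons (nat_lit 8) (nat_lit 0x3600d800fc005900a90048)
(.cons (nat_lit 4) (nat_lit 0x60e05010303050604020608)
(.cons (nat_lit 2) (nat_lit 0x3322213321303013000010000)
(.cons (nat_lit 1) (nat_lit 0x4451105555400144005050400)
.nil)))))))))))))
theorem n8_ok : Net.ok 100 n8 = true := by decide +kernel
noncomputable def n9 : Net := (.cons (nat_lit 1) (nat_lit 0x1405100040551055005040100)
(.cons (nat_lit 2) (nat_lit 0x3121003222110000001020100)
(.cons (nat_lit 4) (nat_lit 0x60a000a0d0108060f060800)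
(.cons (nat_lit 8) (nat_lit 0xbe00890001000b00100000)
(.cons (nat_lit 16) (nat_lit 0x81cf0000d31400000000)
(.cons (nat_lit 32) (nat_lit 0x2c14d9c0)
(.cons (nat_lit 64) (nat_lit 0x8fd55ddd8)
(.cons (nat_lit 32) (nat_lit 0x7000000006b0cdce0)
(.cons (nat_lit 16) (nat_lit 0xcfbf00008e5600000d10)
(.cons (nat_lit 8) (nat_lit 0xfe00d80050005b00310000)
(.cons (nat_lit 4) (nat_lit 0x60a080b0c0008060f060800)
(.cons (nat_lit 2) (nat_lit 0x3131003322100100000030300)
(.cons (nat_lit 1) (nat_lit 0x1405100040551055005040100)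
.nil)))))))))))))
theorem n9_ok : Net.ok 100 n9 = true := by decide +kernel
noncomputable def nets : List Net := [n0, n1, n2, n3, n4, n5, n6, n7, n8, n9]
theorem nets_ok : netsOk 100 nets = true := List.all_eq_true.2 (fa_cons n0_ok (fa_cons n1_ok (fa_cons n2_ok (fa_cons n3_ok (fa_cons n4_ok (fa_cons n5_ok (fa_cons n6_ok (fa_cons n7_ok (fa_cons n8_ok (fa_cons n9_ok (fa_nil)))))))))))
noncomputable def R0 : List Nat := [nat_lit 0x7e8080808080808080828082828282808080808082808086,
  nat_lit 0x80828282828282827e8082808080807e7e827e7e80827e80,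
  nat_lit 0x807e82828282827e82807e80808080828282827e807e7e80,
  nat_lit 0x8280808080808080807e807e867e7e80808080807e808082,
  nat_lit 0x80827e827e82828282808280808080827e7e8282807e7e80,
  nat_lit 0x8280808080808080807e807e7e7e7e808080808086808082,
  nat_lit 0x8082828282827e7e82807e80808080827e7e7e8280828280,
  nat_lit 0x8280808080808080807e807e7e7e8680808080807e808082,
  nat_lit 0x808282827e7e827e828082808080807e827e827e80828280,
  nat_lit 0x807e7e82827e828282807e808080807e7e82828280828280,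
  nat_lit 0x82808080808080808086807e7e7e7e80808080807e808082,
  nat_lit 0x807e7e827e827e82828082808080808282827e7e80828280,
  nat_lit 0x8082827e827e7e8282808280808080827e82827e807e8280,
  nat_lit 0x808282827e7e7e827e807e80808080828282828280827e80,
  nat_lit 0x8082827e7e82828282807e808080807e82827e82807e8280,
  nat_lit 0x80827e82827e827e7e8082808080808282827e82807e8280,
  nat_lit 0x807e827e827e82828280828080808082827e7e8280827e80,
  nat_lit 0x807e827e7e82827e7e808280808080827e82828280828280,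
  nat_lit 0x80827e7e828282827e807e8080808082827e827e80828280,
  nat_lit 0x807e828282827e827e8082808080807e827e8282807e8280,
  nat_lit 0x8280808080808080807e807e7e867e80808080807e808082,
  nat_lit 0x8280808080808080807e80867e7e7e80808080807e808082,
  nat_lit 0x80827e7e82827e7e828082808080807e8282828280827e80,
  nat_lit 0x86808080808080808082808282828280808080808280807e]
noncomputable def R1 : List Nat := [nat_lit 0x7e8280808080828080808080828280808280808080808286,
  nat_lit 0x80808282827e808282827e7e8080828280827e7e7e828080,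
  nat_lit 0x8080827e7e82808282827e828080827e80827e82827e8080,
  nat_lit 0x80807e82827e807e7e8282828080828280827e82827e8080,
  nat_lit 0x827e808080807e80808080807e7e80808680808080807e82,
  nat_lit 0x80807e8282828082827e827e8080827e807e7e8282828080,
  nat_lit 0x80807e7e828280827e827e8280808282807e827e82828080,
  nat_lit 0x80808282827e8082827e7e8280807e82807e8282827e8080,
  nat_lit 0x8286808080807e80808080807e7e80807e80808080807e82,
  nat_lit 0x80807e7e7e7e80828282827e80807e828082828282828080,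
  nat_lit 0x827e808080807e80808080807e7e80807e80808080808682,
  nat_lit 0x808082827e8280827e7e827e808082828082827e827e8080,
  nat_lit 0x827e808080807e80808080807e8680807e80808080807e82,
  nat_lit 0x8080827e8282807e8282827e80808282807e82827e7e8080,
  nat_lit 0x8080827e8282807e827e828280807e8280827e7e82828080,
  nat_lit 0x80807e82828280828282828280807e7e8082827e7e7e8080,
  nat_lit 0x808082827e7e807e828282828080827e807e827e82828080,
  nat_lit 0x808082827e8280827e82828280807e82807e7e827e828080,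
  nat_lit 0x8080827e827e80827e7e82828080827e808282827e828080,
  nat_lit 0x80807e827e82807e827e7e8280808282808282827e828080,
  nat_lit 0x827e808080807e8080808080867e80807e80808080807e82,
  nat_lit 0x808082828282807e7e827e7e80807e7e8082828282828080,
  nat_lit 0x827e808080808680808080807e7e80807e80808080807e82,
  nat_lit 0x86828080808082808080808082828080828080808080827e]
noncomputable def X : List Q := [⟨(nat_lit 0x4008244202004620498309980),
(nat_lit 0xbff7dbbdfdffb9dfb67cf667e),
(nat_lit 0x1),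
(nat_lit 0)⟩,
⟨(nat_lit 0x4008204202004620498309980),
(nat_lit 0x1a85883c811a1040001080000),
(nat_lit 0x40000000000000000000),
(nat_lit 0x40000000000000000000)⟩,
⟨(nat_lit 0x4008244202004620498309880),
(nat_lit 0x3482010505110110140062408),
(nat_lit 0x100),
(nat_lit 0x100)⟩,
⟨(nat_lit 0x4008244202004620488309980),
(nat_lit 0xd40880438202000941044242),
(nat_lit 0x10000000),
(nat_lit 0x10000000)⟩,
⟨(nat_lit 0x4008044202004620498309980),
(nat_lit 0x1204081008a00909042424434),
(nat_lit 0x200000000000000000000),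
(nat_lit 0x200000000000000000000)⟩,
⟨(nat_lit 0x4008244202000620498309980),
(nat_lit 0x3600042026014182449200a),
(nat_lit 0x4000000000000),
(nat_lit 0x4000000000000)⟩,
⟨(nat_lit 0x4008244202004620498308980),
(nat_lit 0x8600820921472104206004020),
(nat_lit 0x1000),
(nat_lit 0x1000)⟩,
⟨(nat_lit 0x4008240202004620498309980),
(nat_lit 0x2006502001c80084005054452),
(nat_lit 0x4000000000000000000),
(nat_lit 0x4000000000000000000)⟩,
⟨(nat_lit 0x4008244202004420498309980),
(nat_lit 0x212580818054008884280004c),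
(nat_lit 0x200000000000),
(nat_lit 0x200000000000)⟩,
⟨(nat_lit 0x4008244200004620498309980),
(nat_lit 0x2e24000b0c10853241800000),
(nat_lit 0x2000000000000000),
(nat_lit 0x2000000000000000)⟩,
⟨(nat_lit 0x4008244202004620498301980),
(nat_lit 0x20e083b048800104320080006),
(nat_lit 0x8000),
(nat_lit 0x8000)⟩,
⟨(nat_lit 0x4008244202004620098309980),
(nat_lit 0x805008a844502958800050010),
(nat_lit 0x400000000),
(nat_lit 0x400000000)⟩,
⟨(nat_lit 0x4008244202004620498109980),
(nat_lit 0x8e520100003c80060008a0054),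
(nat_lit 0x200000),
(nat_lit 0x200000)⟩,
⟨(nat_lit 0x4008244002004620498309980),
(nat_lit 0x9000810050a910c8024840228),
(nat_lit 0x200000000000000000),
(nat_lit 0x200000000000000000)⟩,
⟨(nat_lit 0x4008244202004620498309900),
(nat_lit 0x2140421c840d8009020034200),
(nat_lit 0x80),
(nat_lit 0x80)⟩,
⟨(nat_lit 0x4008244202004620490309980),
(nat_lit 0x994508928001804020862020),
(nat_lit 0x8000000),
(nat_lit 0x8000000)⟩,
⟨(nat_lit 0x4008244202004220498309980),
(nat_lit 0x3401100848008011a07882210),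
(nat_lit 0x400000000000),
(nat_lit 0x400000000000)⟩,
⟨(nat_lit 0x4000244202004620498309980),
(nat_lit 0x23143251800b018004400440),
(nat_lit 0x8000000000000000000000),
(nat_lit 0x8000000000000000000000)⟩,
⟨(nat_lit 0x4008244202004620498309180),
(nat_lit 0x12000104033b886103012400),
(nat_lit 0x800),
(nat_lit 0x800)⟩,
⟨(nat_lit 0x4008244202004620498209980),
(nat_lit 0x80001a80a18010121024b0248),
(nat_lit 0x100000),
(nat_lit 0x100000)⟩,
⟨(nat_lit 0x4008244202004620418309980),
(nat_lit 0x5911a00544a000300000042e),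
(nat_lit 0x80000000),
(nat_lit 0x80000000)⟩,
⟨(nat_lit 0x4008244202004600498309980),
(nat_lit 0x8014190050420c2240402232),
(nat_lit 0x20000000000),
(nat_lit 0x20000000000)⟩,
⟨(nat_lit 0x8244202004620498309980),
(nat_lit 0x9802102194028880b20404004),
(nat_lit 0x4000000000000000000000000),
(nat_lit 0x4000000000000000000000000)⟩,
⟨(nat_lit 0x4008244202004620498309980),
(nat_lit 0xbff7dbbdfdffb9dfb67cf667e),
(nat_lit 0x1),
(nat_lit 0)⟩]
noncomputable def ss : List (Nat × Nat) := [(0, 0x848080808080808080808080808080808080808080808084)]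
noncomputable def us : List Nat := [0x7b7f7f7f7f7f7f7f7f7f7f7f7f7f7f7f7f7f7f7f7f7f7f7f, 0x84808080808080808080808080808080808080808080807c]
noncomputable def xs : List Nat := [nat_lit 0x7b7f7f7f7f7f7f7f7f7f7f7f7f7f7f7f7f7f7f7f7f7f7f7f,
  nat_lit 0x84808080808080808080808080808080808080808080807c,
  nat_lit 0x848080808080808080808080808080808080808080808084,
  nat_lit 0x828082828080808080808080808280808280828082808082,
  nat_lit 0x828280828080808080808082808280828080808280808082,
  nat_lit 0x828080828280808080808280808080828080828080828082,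
  nat_lit 0x828082808080808280808082828080808280808280808082,
  nat_lit 0x828082828080808082808280808080808082808280808082,
  nat_lit 0x828080808280828080808082808080828280808082808082,
  nat_lit 0x8181818181818181817d8181818181818181818181818181,
  nat_lit 0x8181818181818181818181818181818181818181817d8181,
  nat_lit 0x828082808280808280828280808080808080808082808082,
  nat_lit 0x828080828082828080808080808080808280808280828082,
  nat_lit 0x81818181817d818181818181818181818181818181818181,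
  nat_lit 0x81818181818181818181818181818181817d818181818181,
  nat_lit 0x828082808082808282808080808080808080828080828082,
  nat_lit 0x828280808080808080828080808080808282808282808082,
  nat_lit 0x818181818181818181818181817d81818181818181818181,
  nat_lit 0x828080808282808080828080828080808280828080808082,
  nat_lit 0x828080808280808082828082808080808080808280828082,
  nat_lit 0x828080808080808082808280828080808280808082828082,
  nat_lit 0x828080808280808280808082808280808080828080808282,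
  nat_lit 0x818181817d81818181818181818181818181818181818181,
  nat_lit 0x81818181818181818181817d818181818181818181818181]
noncomputable def xc : List Nat := [nat_lit 0x808080808080808080808080808080808080808080818280,
  nat_lit 0x828081808180828081828181818281828180818080828281,
  nat_lit 0x808080808080808080808080808180808080808080828281,
  nat_lit 0x828180808182828181818080818081808181818282808281,
  nat_lit 0x828180818182808081808080828081808080808080808281,
  nat_lit 0x808180818281808080808280828081808081808080808281,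
  nat_lit 0x808080808080808080818080808080808080808080828281,
  nat_lit 0x818080828280818182828180808280808081818280818281,
  nat_lit 0x828080808081808080808181818081828082828080828281,
  nat_lit 0x818282808281818280808180828081828081808082828281,
  nat_lit 0x808080808080818080808080808080808080808080828281,
  nat_lit 0x828180808280828281818280818181808081828180808281,
  nat_lit 0x818080808080808080808080808080808080808080828281,
  nat_lit 0x818080808180818280828080808080808280828181828281,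
  nat_lit 0x808080808080808080808080808081808080808080828281,
  nat_lit 0x808180828081808082808080818281808080808080828281,
  nat_lit 0x808180828082808082818082808181818282828080828281,
  nat_lit 0x808180818080808180808182818181828282828281808281,
  nat_lit 0x808080808080808080808180808080808080808080828281,
  nat_lit 0x808180808080808080808080808080808080808080828281,
  nat_lit 0x808180828081828180818082808281818180808282828281,
  nat_lit 0x808080818182808080828081808280828180818080828281,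
  nat_lit 0x818180808282808282828280808180808281818281828281,
  nat_lit 0x808080808080808080808080808080808080808080818180]
noncomputable def ws5 : List Word := []
noncomputable def reach : List Word := [dw (nat_lit 0x01), dw (nat_lit 0x03), dw (nat_lit 0x01), dw (nat_lit 0x03), dw (nat_lit 0x01), dw (nat_lit 0x03), dw (nat_lit 0x01), dw (nat_lit 0x03)
, dw (nat_lit 0x01), dw (nat_lit 0x03), dw (nat_lit 0x01)]
noncomputable def lev4 : Level := ⟨nat_lit 3,
[⟨[nat_lit 16], [], [],
[⟨nat_lit 0, [], nat_lit 1, [], []⟩,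
⟨nat_lit 1, [], nat_lit 0, [], []⟩,
⟨nat_lit 2, [], nat_lit 4, [], []⟩,
⟨nat_lit 3, [], nat_lit 5, [], []⟩,
⟨nat_lit 4, [], nat_lit 2, [], []⟩,
⟨nat_lit 5, [], nat_lit 3, [], []⟩,
⟨nat_lit 6, [], nat_lit 7, [], []⟩,
⟨nat_lit 7, [], nat_lit 6, [], []⟩],
[]⟩,
⟨[nat_lit 18], [], [],
[⟨nat_lit 0, [], nat_lit 2, [], []⟩,
⟨nat_lit 1, [], nat_lit 3, [], []⟩,
⟨nat_lit 2, [], nat_lit 0, [], []⟩,
⟨nat_lit 3, [], nat_lit 1, [], []⟩,
⟨nat_lit 4, [], nat_lit 6, [], []⟩,
⟨nat_lit 5, [], nat_lit 7, [], []⟩,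
⟨nat_lit 6, [], nat_lit 4, [], []⟩,
⟨nat_lit 7, [], nat_lit 5, [], []⟩],
[]⟩],
[⟨dw (nat_lit 0x01), (nat_lit 0x80000000000000000000), [], .nil, []⟩,
⟨dw (nat_lit 0x03), (nat_lit 0x20000000000000000000000), [], .nil, []⟩,
⟨dw (nat_lit 0x0301), (nat_lit 0x2000000000000000000), [], .nil, []⟩,
⟨dw (nat_lit 0x0103), (nat_lit 0x8000000000000000), [], .nil, []⟩,
⟨dw (nat_lit 0x010301), (nat_lit 0x10000000000000000000), [], .nil, []⟩,
⟨dw (nat_lit 0x030103), (nat_lit 0x100000000000000000000), [], .nil, []⟩,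
⟨dw (nat_lit 0x03010301), (nat_lit 0x2000000000), [], .nil, []⟩]⟩
noncomputable def ex4 : List Word := []
noncomputable def ws4 : List Word := List.append ex4 (lev4.gens ws5)
noncomputable def rels4 : List (Word × Word) := List.append (lev4.rels ws5) (memRels (lev4.gens ws5) ex4 [])
noncomputable def lev3 : Level := ⟨nat_lit 2,
[⟨[nat_lit 12], [dw (nat_lit 0x01)], [dw (nat_lit 0x010301)],
[⟨nat_lit 0, [], nat_lit 1, [], []⟩,
⟨nat_lit 1, [], nat_lit 3, [], []⟩,
⟨nat_lit 2, [], nat_lit 0, [], []⟩,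
⟨nat_lit 3, [], nat_lit 3, dw (nat_lit 0x0301), dw (nat_lit 0x0301)⟩,
⟨nat_lit 4, [], nat_lit 1, dw (nat_lit 0x01), []⟩,
⟨nat_lit 5, [], nat_lit 7, dw (nat_lit 0x030103), dw (nat_lit 0x01)⟩,
⟨nat_lit 6, [], nat_lit 1, dw (nat_lit 0x03), []⟩,
⟨nat_lit 7, [], nat_lit 3, dw (nat_lit 0x0103), dw (nat_lit 0x010301)⟩,
⟨nat_lit 8, [], nat_lit 7, dw (nat_lit 0x03), []⟩,
⟨nat_lit 1, dw (nat_lit 0x03), nat_lit 5, [], []⟩,
⟨nat_lit 2, dw (nat_lit 0x03), nat_lit 7, [], []⟩,
⟨nat_lit 3, dw (nat_lit 0x03), nat_lit 7, dw (nat_lit 0x01), dw (nat_lit 0x0301)⟩,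
⟨nat_lit 4, dw (nat_lit 0x0103), nat_lit 3, dw (nat_lit 0x03), dw (nat_lit 0x030103)⟩,
⟨nat_lit 5, dw (nat_lit 0x03), nat_lit 5, dw (nat_lit 0x0103), dw (nat_lit 0x0301)⟩,
⟨nat_lit 6, dw (nat_lit 0x03), nat_lit 8, [], []⟩,
⟨nat_lit 7, dw (nat_lit 0x03), nat_lit 5, dw (nat_lit 0x0301), dw (nat_lit 0x03010301)⟩,
⟨nat_lit 3, dw (nat_lit 0x0301), nat_lit 2, [], dw (nat_lit 0x0103)⟩,
⟨nat_lit 4, dw (nat_lit 0x010301), nat_lit 5, dw (nat_lit 0x03), dw (nat_lit 0x03010301)⟩,
⟨nat_lit 5, dw (nat_lit 0x010301), nat_lit 4, dw (nat_lit 0x03), dw (nat_lit 0x03)⟩,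
⟨nat_lit 7, dw (nat_lit 0x010301), nat_lit 4, [], dw (nat_lit 0x01)⟩,
⟨nat_lit 2, dw (nat_lit 0x030103), nat_lit 8, dw (nat_lit 0x01), dw (nat_lit 0x01)⟩,
⟨nat_lit 3, dw (nat_lit 0x030103), nat_lit 4, dw (nat_lit 0x0103), dw (nat_lit 0x0103)⟩,
⟨nat_lit 4, dw (nat_lit 0x030103), nat_lit 6, [], dw (nat_lit 0x0103)⟩,
⟨nat_lit 5, dw (nat_lit 0x030103), nat_lit 2, dw (nat_lit 0x03), dw (nat_lit 0x030103)⟩,
⟨nat_lit 7, dw (nat_lit 0x030103), nat_lit 4, dw (nat_lit 0x030103), dw (nat_lit 0x03)⟩],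
[dw (nat_lit 0x01)]⟩],
[⟨dw (nat_lit 0x01), (nat_lit 0x40001042000), [dw (nat_lit 0x01), dw (nat_lit 0x03), dw (nat_lit 0x01)], (.cons (nat_lit 3) [dw (nat_lit 0x020301)] [dw (nat_lit 0x01)]
.nil), [dw (nat_lit 0x01)]⟩,
⟨dw (nat_lit 0x02), (nat_lit 0x21002000004000000), [dw (nat_lit 0x03), dw (nat_lit 0x01), dw (nat_lit 0x03)], (.cons (nat_lit 3) [dw (nat_lit 0x01)] [dw (nat_lit 0x01)]
.nil), [dw (nat_lit 0x010301)]⟩,
⟨dw (nat_lit 0x0101), (nat_lit 0x20192008000002000000008), [dw (nat_lit 0x01), dw (nat_lit 0x03), dw (nat_lit 0x01), dw (nat_lit 0x03)], .nil, []⟩,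
⟨dw (nat_lit 0x020301), (nat_lit 0x806000000200080840000010), [dw (nat_lit 0x01), dw (nat_lit 0x03), dw (nat_lit 0x01), dw (nat_lit 0x03)], .nil, []⟩,
⟨dw (nat_lit 0x010501), (nat_lit 0x11008010800000100080400), [dw (nat_lit 0x01), dw (nat_lit 0x03), dw (nat_lit 0x01), dw (nat_lit 0x03)], .nil, []⟩,
⟨dw (nat_lit 0x020501), (nat_lit 0x80000040000000000000000), [dw (nat_lit 0x03)], (.cons (nat_lit 3) [dw (nat_lit 0x01), dw (nat_lit 0x03010301)] [dw (nat_lit 0x01), dw (nat_lit 0x03)]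
.nil), [dw (nat_lit 0x01), dw (nat_lit 0x030103)]⟩,
⟨dw (nat_lit 0x010502), (nat_lit 0x400800000420104200000020), [dw (nat_lit 0x01), dw (nat_lit 0x03), dw (nat_lit 0x01), dw (nat_lit 0x03)], .nil, []⟩,
⟨dw (nat_lit 0x0105020501), (nat_lit 0x400040), [dw (nat_lit 0x01)], (.cons (nat_lit 3) [dw (nat_lit 0x03), dw (nat_lit 0x02030204)] [dw (nat_lit 0x01), dw (nat_lit 0x03)]
.nil), [dw (nat_lit 0x03), dw (nat_lit 0x010301)]⟩]⟩
noncomputable def ex3 : List Word := [[nat_lit 14]]
noncomputable def ws3 : List Word := List.append ex3 (lev3.gens ws4)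
noncomputable def rels3 : List (Word × Word) := List.append (lev3.rels ws4) (memRels (lev3.gens ws4) ex3 [dw (nat_lit 0x050202030105030503)])
noncomputable def lev2 : Level := ⟨nat_lit 1,
[⟨[nat_lit 8], [dw (nat_lit 0x0405), dw (nat_lit 0x080507)], [dw (nat_lit 0x0701), dw (nat_lit 0x03020705)],
[⟨nat_lit 0, [], nat_lit 1, [], []⟩,
⟨nat_lit 1, [], nat_lit 2, [], []⟩,
⟨nat_lit 2, [], nat_lit 2, dw (nat_lit 0x0405), dw (nat_lit 0x070107)⟩,
⟨nat_lit 1, dw (nat_lit 0x03), nat_lit 0, [], dw (nat_lit 0x050701010705)⟩,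
⟨nat_lit 2, dw (nat_lit 0x03), nat_lit 1, dw (nat_lit 0x02), dw (nat_lit 0x040401070507)⟩,
⟨nat_lit 2, dw (nat_lit 0x04), nat_lit 2, dw (nat_lit 0x0402), dw (nat_lit 0x0305)⟩],
[dw (nat_lit 0x01), dw (nat_lit 0x03), dw (nat_lit 0x01), dw (nat_lit 0x01), dw (nat_lit 0x03), dw (nat_lit 0x01), dw (nat_lit 0x01)]⟩],
[⟨dw (nat_lit 0x01), (nat_lit 0x9200000100101810002800000), [dw (nat_lit 0x01), dw (nat_lit 0x03), dw (nat_lit 0x01), dw (nat_lit 0x03), dw (nat_lit 0x01)], (.cons (nat_lit 2) [dw (nat_lit 0x0205)] [dw (nat_lit 0x01), dw (nat_lit 0x03), dw (nat_lit 0x0402), dw (nat_lit 0x01), dw (nat_lit 0x03)]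
(.cons (nat_lit 3) [dw (nat_lit 0x0607)] [dw (nat_lit 0x01), dw (nat_lit 0x0202)]
.nil)), [dw (nat_lit 0x05040205), dw (nat_lit 0x040401)]⟩,
⟨dw (nat_lit 0x0101), (nat_lit 0xcb799a079e221c6b454c247c), [dw (nat_lit 0x01), dw (nat_lit 0x03), dw (nat_lit 0x01), dw (nat_lit 0x03), dw (nat_lit 0x05), dw (nat_lit 0x03), dw (nat_lit 0x01), dw (nat_lit 0x05)
], (.cons (nat_lit 2) [dw (nat_lit 0x01030703), dw (nat_lit 0x0608030203)] [dw (nat_lit 0x01), dw (nat_lit 0x03), dw (nat_lit 0x01), dw (nat_lit 0x01)]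
.nil), [dw (nat_lit 0x0405), dw (nat_lit 0x0402)]⟩]⟩
noncomputable def ex2 : List Word := [[nat_lit 10]]
noncomputable def ws2 : List Word := List.append ex2 (lev2.gens ws3)
noncomputable def rels2 : List (Word × Word) := List.append (lev2.rels ws3) (memRels (lev2.gens ws3) ex2 [dw (nat_lit 0x02090401060903070907)])
noncomputable def lev1 : Level := ⟨nat_lit 7,
[⟨[nat_lit 4], [dw (nat_lit 0x0207), dw (nat_lit 0x0c0709), dw (nat_lit 0x080c070505)], [dw (nat_lit 0x0108060609), dw (nat_lit 0x05010108060609), dw (nat_lit 0x07010508090b09)],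
[⟨nat_lit 0, [], nat_lit 1, [], []⟩,
⟨nat_lit 1, [], nat_lit 1, dw (nat_lit 0x0107), dw (nat_lit 0x05020b06090b09)⟩,
⟨nat_lit 1, dw (nat_lit 0x09), nat_lit 0, [], dw (nat_lit 0x0401090b0505090b)⟩],
[dw (nat_lit 0x01), dw (nat_lit 0x03), dw (nat_lit 0x01), dw (nat_lit 0x05), dw (nat_lit 0x01), dw (nat_lit 0x01)]⟩],
[⟨dw (nat_lit 0x01), (nat_lit 0x4008244202004620498309900), [dw (nat_lit 0x01), dw (nat_lit 0x03), dw (nat_lit 0x07), dw (nat_lit 0x09), dw (nat_lit 0x05), dw (nat_lit 0x01)], (.cons (nat_lit 1) [dw (nat_lit 0x0501)] [dw (nat_lit 0x01), dw (nat_lit 0x0101), dw (nat_lit 0x03), dw (nat_lit 0x01), dw (nat_lit 0x03), dw (nat_lit 0x01), dw (nat_lit 0x01), dw (nat_lit 0x01)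
, dw (nat_lit 0x01)]
(.cons (nat_lit 2) [dw (nat_lit 0x060707), dw (nat_lit 0x070a050b)] [dw (nat_lit 0x01), dw (nat_lit 0x03), dw (nat_lit 0x01), dw (nat_lit 0x03), dw (nat_lit 0x01), dw (nat_lit 0x01), dw (nat_lit 0x01)]
.nil)), [dw (nat_lit 0x08020808050b), dw (nat_lit 0x040b08060b09), dw (nat_lit 0x050802060b050b090b)]⟩]⟩
noncomputable def ex1 : List Word := [[nat_lit 6]]
noncomputable def ws1 : List Word := List.append ex1 (lev1.gens ws2)
noncomputable def rels1 : List (Word × Word) := List.append (lev1.rels ws2) (memRels (lev1.gens ws2) ex1 [dw (nat_lit 0x060109030a)])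
noncomputable def lev0 : Level := ⟨nat_lit 0,
[⟨[nat_lit 0], [dw (nat_lit 0x0109), dw (nat_lit 0x0c0905), dw (nat_lit 0x0a0b0b0f)], [dw (nat_lit 0x08020a050d0c0a), dw (nat_lit 0x04010a0b050d0c090d), dw (nat_lit 0x060305080c0909)],
[⟨nat_lit 0, [], nat_lit 1, [], []⟩,
⟨nat_lit 1, [], nat_lit 1, dw (nat_lit 0x0f03), dw (nat_lit 0x020b0b050b0a0a0d0f0d)⟩,
⟨nat_lit 2, [], nat_lit 2, dw (nat_lit 0x02), dw (nat_lit 0x04050d050c0d0c090f0d0f0d)⟩,
⟨nat_lit 1, dw (nat_lit 0x04), nat_lit 2, dw (nat_lit 0x04), dw (nat_lit 0x030307060b0b0a0f0d0f)⟩,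
⟨nat_lit 2, dw (nat_lit 0x03), nat_lit 1, dw (nat_lit 0x08), dw (nat_lit 0x0b0105050c0a0f0d)⟩,
⟨nat_lit 1, dw (nat_lit 0x0101), nat_lit 0, [], dw (nat_lit 0x09010a0609090d)⟩],
[dw (nat_lit 0x01), dw (nat_lit 0x03), dw (nat_lit 0x01), dw (nat_lit 0x05), dw (nat_lit 0x01), dw (nat_lit 0x03), dw (nat_lit 0x01), dw (nat_lit 0x05)
, dw (nat_lit 0x01), dw (nat_lit 0x03)]⟩],
[⟨dw (nat_lit 0x01), (nat_lit 0xbff7dbbdfdffb9dfb67cf667e), [dw (nat_lit 0x01), dw (nat_lit 0x03), dw (nat_lit 0x05), dw (nat_lit 0x01), dw (nat_lit 0x07), dw (nat_lit 0x09), dw (nat_lit 0x0f), dw (nat_lit 0x01)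
, dw (nat_lit 0x01)], (.cons (nat_lit 7) [dw (nat_lit 0x010f01)] [dw (nat_lit 0x01), dw (nat_lit 0x03), dw (nat_lit 0x0303), dw (nat_lit 0x05), dw (nat_lit 0x03), dw (nat_lit 0x03), dw (nat_lit 0x03)]
(.cons (nat_lit 2) [dw (nat_lit 0x09)] [dw (nat_lit 0x01), dw (nat_lit 0x0101), dw (nat_lit 0x05), dw (nat_lit 0x01), dw (nat_lit 0x0101), dw (nat_lit 0x0401), dw (nat_lit 0x01), dw (nat_lit 0x0101)
, dw (nat_lit 0x01)]
(.cons (nat_lit 3) [dw (nat_lit 0x0e100d0d), dw (nat_lit 0x0d0f0d)] [dw (nat_lit 0x03), dw (nat_lit 0x01), dw (nat_lit 0x03), dw (nat_lit 0x01)]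
.nil))), [dw (nat_lit 0x0303080a050b090f0d), dw (nat_lit 0x050c0a0a), dw (nat_lit 0x020b0f050b0f090f0d0f), dw (nat_lit 0x020505050c090f0d)]⟩,
⟨dw (nat_lit 0x010101), (nat_lit 0x4008244202004620498309980), [dw (nat_lit 0x01), dw (nat_lit 0x03), dw (nat_lit 0x01), dw (nat_lit 0x0b), dw (nat_lit 0x03), dw (nat_lit 0x01)], (.cons (nat_lit 1) [dw (nat_lit 0x05)] [dw (nat_lit 0x01), dw (nat_lit 0x0101), dw (nat_lit 0x03), dw (nat_lit 0x07), dw (nat_lit 0x01), dw (nat_lit 0x03), dw (nat_lit 0x01), dw (nat_lit 0x03)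
, dw (nat_lit 0x01), dw (nat_lit 0x01)]
(.cons (nat_lit 2) [dw (nat_lit 0x09)] [dw (nat_lit 0x01), dw (nat_lit 0x0206), dw (nat_lit 0x05), dw (nat_lit 0x01), dw (nat_lit 0x0101), dw (nat_lit 0x05), dw (nat_lit 0x01), dw (nat_lit 0x01)
, dw (nat_lit 0x01), dw (nat_lit 0x01)]
(.cons (nat_lit 3) [dw (nat_lit 0x0e0f), dw (nat_lit 0x10)] [dw (nat_lit 0x03), dw (nat_lit 0x01), dw (nat_lit 0x03), dw (nat_lit 0x01)]
.nil))), [dw (nat_lit 0x0a010709050f0a0f0d0f0d), dw (nat_lit 0x0c0d0c0a0f), dw (nat_lit 0x070309050c0c), dw (nat_lit 0x06010b05050d0f09090f)]⟩]⟩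
noncomputable def ex0 : List Word := [[nat_lit 2]]
noncomputable def ws0 : List Word := List.append ex0 (lev0.gens ws1)
noncomputable def rels0 : List (Word × Word) := List.append (lev0.rels ws1) (memRels (lev0.gens ws1) ex0 [dw (nat_lit 0x0103010b030d07070e0f0e0b0f)])
noncomputable def prim0 : List (List Word) := [[dw (nat_lit 0x01), dw (nat_lit 0x0101), dw (nat_lit 0x03), dw (nat_lit 0x05), dw (nat_lit 0x01), dw (nat_lit 0x07), dw (nat_lit 0x03), dw (nat_lit 0x09)
, dw (nat_lit 0x01)],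
[dw (nat_lit 0x01), dw (nat_lit 0x03), dw (nat_lit 0x05), dw (nat_lit 0x03), dw (nat_lit 0x0d), dw (nat_lit 0x05), dw (nat_lit 0x01), dw (nat_lit 0x03)
, dw (nat_lit 0x05), dw (nat_lit 0x07), dw (nat_lit 0x0b)]]
noncomputable def rels : List (Word × Word) := List.append rels0 (List.append rels1 (List.append rels2 (List.append rels3 (List.append rels4 ([])))))
noncomputable def defs : List Word := [dw (nat_lit 0x02020401030302030204), dw (nat_lit 0x0404020202040203), dw (nat_lit 0x0705050806070608), dw (nat_lit 0x06070608050508050705), dw (nat_lit 0x0b090b0a0b0a0b), dw (nat_lit 0x0909090c0a0b), dw (nat_lit 0x0e100d100d0d), dw (nat_lit 0x0f0f0d0d0d10100e0f0d)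
]
noncomputable def relsD : List (Word × Word) := defRels defs 2
noncomputable def relsO : List (Word × Word) := memRels ws0 (lets 2) [dw (nat_lit 0x03), dw (nat_lit 0x01)]
noncomputable def relsS : List (Word × Word) := []
noncomputable def allRels : List (Word × Word) := List.append rels (List.append relsD (List.append relsO relsS))
theorem reach_ok : subs (full 100) (orbRun nets (lets 2) reach (bits (List.map Prod.fst ss))) = true := by decide +kernel
theorem co0 : coChk R0 = true := by decide +kernel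
theorem lf0 : lfChk 100 n0 R0 X = true := by decide +kernel
theorem fx0 : us.all (fun u => mapChk R0 u u) = true := by decide +kernel
theorem co1 : coChk R1 = true := by decide +kernel
theorem lf1 : lfChk 100 n1 R1 X = true := by decide +kernel
theorem fx1 : us.all (fun u => mapChk R1 u u) = true := by decide +kernel
theorem seed_ok : seedChk 100 X ss = true := by decide +kernel
theorem fin_ok : finChk 100 X [21, 20, 19, 18, 17, 16, 15, 14, 13, 12, 11, 10, 9, 8, 7, 6, 5, 4, 3, 2, 1, 0] [] us [0, 0, 0, 1, 2, 3, 4, 5, 6, 7, 8, 9, 10, 11, 12, 13, 14, 15, 16, 17, 18, 19, 20, 21] xs xc = true := by decide +kernel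
theorem chk4 : lev4.chk 100 nets ws5 1 8 = true := by decide +kernel
theorem chk3 : lev3.chk 100 nets ws4 8 360 = true := by decide +kernel
theorem chk2 : lev2.chk 100 nets ws3 360 20160 = true := by decide +kernel
theorem chk1 : lev1.chk 100 nets ws2 20160 443520 = true := by decide +kernel
theorem primc0 : PM.primChk nets ws1 lev0 lev0.sos prim0 = true := by decide +kernel
theorem chk0 : lev0.chk 100 nets ws1 443520 44352000 = true := by decide +kernel
theorem rc0 : relsChk 100 nets 7 (idArr 100 7 7 0) allRels = true := by decide +kernel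
section
variable {Γ Ω : Type*} [Group Γ] [MulAction Γ Ω] (M : PM Γ Ω 100 nets)

theorem all_ok (hs : M.Sep 7 (idArr 100 7 7 0)) : Rels M.gen allRels := (M.rels_of_chk hs rc0)
theorem sep [FaithfulSMul Γ Ω] : M.Sep 7 (idArr 100 7 7 0) := M.sep_idArr (by decide)
theorem all_ok' [FaithfulSMul Γ Ω] : Rels M.gen allRels := all_ok M (sep M)
theorem rels_of_all {gen : ℕ → Γ} (h : Rels gen allRels) : Rels gen rels := Rels.left h
theorem relsD_of_all {gen : ℕ → Γ} (h : Rels gen allRels) : Rels gen relsD := Rels.left (Rels.right h)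
theorem relsO_of_all {gen : ℕ → Γ} (h : Rels gen allRels) : Rels gen relsO := Rels.left (Rels.right (Rels.right h))
theorem relsS_of_all {gen : ℕ → Γ} (h : Rels gen allRels) : Rels gen relsS := Rels.right (Rels.right (Rels.right h))
theorem card5 (_hR : Rels M.gen rels) : Nat.card (sub M.gen ws5) = 1 := M.card_nil
theorem fixw5 (_hR : Rels M.gen rels) : M.FixTriv ws5 [] := M.fixTriv_nil
theorem r4 (hR : Rels M.gen rels) : Rels M.gen rels4 := (Rels.left (Rels.right (Rels.right (Rels.right (Rels.right hR)))))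
theorem res4 (hR : Rels M.gen rels) : M.LevelRes ws5 lev4 8 := M.level (card5 M hR) chk4 (Rels.left (r4 M hR))
theorem ext4 (hR : Rels M.gen rels) : sub M.gen ws4 = sub M.gen (lev4.gens ws5) := sub_extend (Rels.right (r4 M hR))
theorem card4 (hR : Rels M.gen rels) : Nat.card (sub M.gen ws4) = 8 := by rw [ext4 M hR]; exact (res4 M hR).card
theorem fix4 (hR : Rels M.gen rels) : M.FixTriv (lev4.gens ws5) [3] := (res4 M hR).fixTriv M (fixw5 M hR)
theorem fixw4 (hR : Rels M.gen rels) : M.FixTriv ws4 [3] := fun g hg => fix4 M hR g (ext4 M hR ▸ hg)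
theorem stab4 (hR : Rels M.gen rels) : sub M.gen ws4 ⊓ MulAction.stabilizer Γ (M.dec 3) = sub M.gen ws5 := by rw [ext4 M hR]; exact (res4 M hR).stab
theorem orb4 (hR : Rels M.gen rels) (y : Ω) : y ∈ M.S lev4.orb ↔ ∃ g ∈ sub M.gen ws4, g • M.dec 3 = y := by rw [ext4 M hR]; exact (res4 M hR).orb y
theorem r3 (hR : Rels M.gen rels) : Rels M.gen rels3 := (Rels.left (Rels.right (Rels.right (Rels.right hR))))
theorem res3 (hR : Rels M.gen rels) : M.LevelRes ws4 lev3 360 := M.level (card4 M hR) chk3 (Rels.left (r3 M hR))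
theorem ext3 (hR : Rels M.gen rels) : sub M.gen ws3 = sub M.gen (lev3.gens ws4) := sub_extend (Rels.right (r3 M hR))
theorem card3 (hR : Rels M.gen rels) : Nat.card (sub M.gen ws3) = 360 := by rw [ext3 M hR]; exact (res3 M hR).card
theorem fix3 (hR : Rels M.gen rels) : M.FixTriv (lev3.gens ws4) [2, 3] := (res3 M hR).fixTriv M (fixw4 M hR)
theorem fixw3 (hR : Rels M.gen rels) : M.FixTriv ws3 [2, 3] := fun g hg => fix3 M hR g (ext3 M hR ▸ hg)
theorem stab3 (hR : Rels M.gen rels) : sub M.gen ws3 ⊓ MulAction.stabilizer Γ (M.dec 2) = sub M.gen ws4 := by rw [ext3 M hR]; exact (res3 M hR).stab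
theorem orb3 (hR : Rels M.gen rels) (y : Ω) : y ∈ M.S lev3.orb ↔ ∃ g ∈ sub M.gen ws3, g • M.dec 2 = y := by rw [ext3 M hR]; exact (res3 M hR).orb y
theorem r2 (hR : Rels M.gen rels) : Rels M.gen rels2 := (Rels.left (Rels.right (Rels.right hR)))
theorem res2 (hR : Rels M.gen rels) : M.LevelRes ws3 lev2 20160 := M.level (card3 M hR) chk2 (Rels.left (r2 M hR))
theorem ext2 (hR : Rels M.gen rels) : sub M.gen ws2 = sub M.gen (lev2.gens ws3) := sub_extend (Rels.right (r2 M hR))
theorem card2 (hR : Rels M.gen rels) : Nat.card (sub M.gen ws2) = 20160 := by rw [ext2 M hR]; exact (res2 M hR).card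
theorem fix2 (hR : Rels M.gen rels) : M.FixTriv (lev2.gens ws3) [1, 2, 3] := (res2 M hR).fixTriv M (fixw3 M hR)
theorem fixw2 (hR : Rels M.gen rels) : M.FixTriv ws2 [1, 2, 3] := fun g hg => fix2 M hR g (ext2 M hR ▸ hg)
theorem stab2 (hR : Rels M.gen rels) : sub M.gen ws2 ⊓ MulAction.stabilizer Γ (M.dec 1) = sub M.gen ws3 := by rw [ext2 M hR]; exact (res2 M hR).stab
theorem orb2 (hR : Rels M.gen rels) (y : Ω) : y ∈ M.S lev2.orb ↔ ∃ g ∈ sub M.gen ws2, g • M.dec 1 = y := by rw [ext2 M hR]; exact (res2 M hR).orb y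
theorem r1 (hR : Rels M.gen rels) : Rels M.gen rels1 := (Rels.left (Rels.right hR))
theorem res1 (hR : Rels M.gen rels) : M.LevelRes ws2 lev1 443520 := M.level (card2 M hR) chk1 (Rels.left (r1 M hR))
theorem ext1 (hR : Rels M.gen rels) : sub M.gen ws1 = sub M.gen (lev1.gens ws2) := sub_extend (Rels.right (r1 M hR))
theorem card1 (hR : Rels M.gen rels) : Nat.card (sub M.gen ws1) = 443520 := by rw [ext1 M hR]; exact (res1 M hR).card
theorem fix1 (hR : Rels M.gen rels) : M.FixTriv (lev1.gens ws2) [7, 1, 2, 3] := (res1 M hR).fixTriv M (fixw2 M hR)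
theorem fixw1 (hR : Rels M.gen rels) : M.FixTriv ws1 [7, 1, 2, 3] := fun g hg => fix1 M hR g (ext1 M hR ▸ hg)
theorem stab1 (hR : Rels M.gen rels) : sub M.gen ws1 ⊓ MulAction.stabilizer Γ (M.dec 7) = sub M.gen ws2 := by rw [ext1 M hR]; exact (res1 M hR).stab
theorem orb1 (hR : Rels M.gen rels) (y : Ω) : y ∈ M.S lev1.orb ↔ ∃ g ∈ sub M.gen ws1, g • M.dec 7 = y := by rw [ext1 M hR]; exact (res1 M hR).orb y
theorem r0 (hR : Rels M.gen rels) : Rels M.gen rels0 := (Rels.left hR)
theorem res0 (hR : Rels M.gen rels) : M.LevelRes ws1 lev0 44352000 := M.level (card1 M hR) chk0 (Rels.left (r0 M hR))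
theorem ext0 (hR : Rels M.gen rels) : sub M.gen ws0 = sub M.gen (lev0.gens ws1) := sub_extend (Rels.right (r0 M hR))
theorem card0 (hR : Rels M.gen rels) : Nat.card (sub M.gen ws0) = 44352000 := by rw [ext0 M hR]; exact (res0 M hR).card
theorem fix0 (hR : Rels M.gen rels) : M.FixTriv (lev0.gens ws1) [0, 7, 1, 2, 3] := (res0 M hR).fixTriv M (fixw1 M hR)
theorem fixw0 (hR : Rels M.gen rels) : M.FixTriv ws0 [0, 7, 1, 2, 3] := fun g hg => fix0 M hR g (ext0 M hR ▸ hg)
theorem stab0 (hR : Rels M.gen rels) : sub M.gen ws0 ⊓ MulAction.stabilizer Γ (M.dec 0) = sub M.gen ws1 := by rw [ext0 M hR]; exact (res0 M hR).stab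
theorem orb0 (hR : Rels M.gen rels) (y : Ω) : y ∈ M.S lev0.orb ↔ ∃ g ∈ sub M.gen ws0, g • M.dec 0 = y := by rw [ext0 M hR]; exact (res0 M hR).orb y
theorem max0 (hR : Rels M.gen rels) (X : Subgroup Γ) (h1 : sub M.gen ws1 ≤ X) (h2 : X ≤ sub M.gen ws0) : X = sub M.gen ws1 ∨ X = sub M.gen ws0 := by rw [ext0 M hR] at h2 ⊢; exact (res0 M hR).max M primc0 X h1 h2
theorem orig_eq {gen : ℕ → Γ} (h : Rels gen allRels) : sub gen (lets 2) = sub gen ws0 :=
  sub_lets_eq_of_rels (ds := defs) (by decide +kernel) (relsD_of_all h) (by decide +kernel) (relsO_of_all h)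
theorem gen_mem {gen : ℕ → Γ} (h : Rels gen allRels) {X : Subgroup Γ} (h0 : ∀ l < 2, gen l ∈ X) : sub gen ws0 ≤ X :=
  sub_le_of_wsIn (lo := 0) (gen_mem_of_defRels (ds := defs) (fun l _ hl => h0 l hl) (by decide +kernel) (relsD_of_all h)) (by decide +kernel)

end

noncomputable def gs : ℕ → Cfsg.Co0 := getL 1 [coOf _ co0, coOf _ co1]

section
variable {H : Subgroup Cfsg.Co0} {T : SubMulAction H Λ}

theorem exists_pm (hH : ∀ R h, us.all (fun u => mapChk R u u) = true → coOf R h ∈ H)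
    (hu : ∀ u ∈ us, ∃ x : Λ, x.1 = vecN u ∧ ∀ g : H, g • x = x)
    (hT : ∀ s ∈ ss, s.1 < 100 ∧ ∀ x : Λ, x.1 = vecN s.2 → x ∈ T) (hc : (T : Set Λ).ncard = 100) :
    ∃ M : PM H T 100 nets, LM X M ∧ ∀ l < 2, (M.gen l).1 = gs l := by
  obtain ⟨M, h1, h2⟩ := lm_of_lf (T := T) (gen := getL 1 [⟨_, hH _ co0 fx0⟩, ⟨_, hH _ co1 fx1⟩]) (by norm_num) (by norm_num) nets_ok (by decide +kernel) reach_ok seed_ok
    (fun l hl => by interval_cases l; exacts [⟨_, co0, lf0, rfl⟩, ⟨_, co1, lf1, rfl⟩]) hT hc (ds := defs) (by decide +kernel) (by decide +kernel)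
    (relsD_of_all (all_ok' _))
  refine ⟨M, h1, fun l hl => ?_⟩
  rw [h2 (h1.faithful fin_ok hu) l hl]
  interval_cases l <;> rfl

variable {M : PM H T 100 nets} (hM : LM X M) (hu : ∀ u ∈ us, ∃ x : Λ, x.1 = vecN u ∧ ∀ g : H, g • x = x)
include hM hu

theorem faith : FaithfulSMul H T := hM.faithful fin_ok hu
theorem allR : Rels M.gen allRels := have := faith hM hu; all_ok' M
theorem relR : Rels M.gen rels := rels_of_all (allR hM hu)

end

end H14.HSc
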