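import Cfsg.Agent.H14.Conway1
import Cfsg.Agent.H14.C2c
import Cfsg.Agent.H14.C3c
import Cfsg.Agent.H14.McLc
import Cfsg.Agent.H14.HSc
import Cfsg.Agent.H14.CoH

/-! The permutation machines of the Conway groups: `P2` (`C2 = Co2` on 4600 vectors), `P3`
(`C3 = Co3` on 552), `P3h` (`Co3` on 11178), `PMc` (`CM = McL` on 275), `PH` (`CH = HS` on 100);
orders, simplicity, the centre of `Co0`, simplicity of `Co1`, standard positions. -/

set_option autoImplicit false

namespace H14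
open Cfsg MulAction Finset
open scoped Pointwise

theorem fixH1 {u : Λ} {y : ℕ} (hu : u.1 = vecN y) (R : List ℕ) (h : coChk R = true)
    (e : [y].all (fun u => mapChk R u u) = true) : coOf R h ∈ stabilizer Co0 u :=
  coOf_smul h (List.all_eq_true.1 e y (by simp)) hu hu

theorem fixH2 {u w : Λ} {y z : ℕ} (hu : u.1 = vecN y) (hw : w.1 = vecN z) (R : List ℕ)
    (h : coChk R = true) (e : [y, z].all (fun u => mapChk R u u) = true) :
    coOf R h ∈ stabilizer Co0 u ⊓ stabilizer Co0 w :=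
  ⟨coOf_smul h (List.all_eq_true.1 e y (by simp)) hu hu,
    coOf_smul h (List.all_eq_true.1 e z (by simp)) hw hw⟩

theorem fixU1 {u : Λ} {y : ℕ} (hu : u.1 = vecN y) :
    ∀ v ∈ [y], ∃ x : Λ, x.1 = vecN v ∧ ∀ g : stabilizer Co0 u, g • x = x :=
  fa_cons ⟨u, hu, fun g => g.2⟩ fa_nil

theorem fixU2 {u w : Λ} {y z : ℕ} (hu : u.1 = vecN y) (hw : w.1 = vecN z) : ∀ v ∈ [y, z], ∃ x : Λ,
    x.1 = vecN v ∧ ∀ g : (stabilizer Co0 u ⊓ stabilizer Co0 w : Subgroup Co0), g • x = x :=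
  fa_cons ⟨u, hu, fun g => g.2.1⟩ (fa_cons ⟨w, hw, fun g => g.2.2⟩ fa_nil)

theorem seed1 {u : Λ} {c : ℤ} {N y : ℕ} (hN : 0 < N)
    (h : sqNorm (vecN y) = 32 ∧ dotInt u.1 (vecN y) = c) :
    ∀ s ∈ [(0, y)], s.1 < N ∧ ∀ x : Λ, x.1 = vecN s.2 → x ∈ Cls1 u c :=
  fa_cons ⟨hN, fun x hx => by show sqNorm x.1 = 32 ∧ _; rw [hx]; exact h⟩ fa_nil

theorem seed2 {u w : Λ} {c d : ℤ} {N y : ℕ} (hN : 0 < N)
    (h : sqNorm (vecN y) = 32 ∧ dotInt u.1 (vecN y) = c ∧ dotInt w.1 (vecN y) = d) :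
    ∀ s ∈ [(0, y)], s.1 < N ∧ ∀ x : Λ, x.1 = vecN s.2 → x ∈ Cls2 u w c d :=
  fa_cons ⟨hN, fun x hx => by show sqNorm x.1 = 32 ∧ _; rw [hx]; exact h⟩ fa_nil

section
variable {Γ Ω : Type*} [Group Γ] [MulAction Γ Ω] {n : ℕ} {L : List Net}

theorem PM.trans_of_reach (M : PM Γ Ω n L) {ws sch : List Word} {s : ℕ}
    (h : subs (full n) (orbRun L ws sch (bits [s])) = true) (x : Ω) :
    ∃ g ∈ sub M.gen ws, g • M.dec s = x := by
  obtain ⟨g, hg, y, hy, e⟩ := M.orb_sound _ _ _ (M.S_mono h (M.mem_S_full' x))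
  rw [PM.mem_S, testBit_bits, List.mem_singleton] at hy
  exact ⟨g, hg, by rw [← hy, M.dec_enc, e]⟩

/-- Points of a set contained in a suborbit are conjugate under the point stabiliser. -/
theorem PM.LevelRes.conn {M : PM Γ Ω n L} {wsH : List Word} {lev : Level} {N' : ℕ}
    (h : M.LevelRes wsH lev N') {C : ℕ} (hc : lev.sos.any (fun s => subs C s.O) = true) {x y : Ω}
    (hx : x ∈ M.S C) (hy : y ∈ M.S C) : ∃ g ∈ sub M.gen wsH, g • x = y := by
  obtain ⟨s, hs, e⟩ := List.any_eq_true.1 hc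
  obtain ⟨a, ha, rfl⟩ := ((h.subOrb s hs).1 x).1 (M.S_mono e hx)
  obtain ⟨b, hb, rfl⟩ := ((h.subOrb s hs).1 y).1 (M.S_mono e hy)
  exact ⟨b * a⁻¹, mul_mem hb (inv_mem ha), by rw [mul_smul, inv_smul_smul]⟩

theorem simple_of_eq_top {H : Subgroup Γ} (h : H = ⊤) (hs : IsSimpleGroup H) : IsSimpleGroup Γ := by
  subst h; exact Subgroup.topEquiv.symm.isSimpleGroup

end

theorem pop_cls3 : pop 196560 (Nat.land (clsV 196560 LB.X pV (-24)) (clsV 196560 LB.X pU 16)) = 275 ∧
    pop 196560 (Nat.land (clsV 196560 LB.X pV (-24)) (clsV 196560 LB.X pU' 0)) = 100 ∧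
    pop 196560 (Nat.land (clsV 196560 LB.X pV (-16)) (clsV 196560 LB.X pU 0)) = 2025 := by
  decide +kernel

theorem nU : sqNorm U.1 ≤ 64 := by rw [norm_U]; norm_num
theorem nU' : sqNorm U'.1 ≤ 64 := by rw [norm_U']; norm_num
theorem nV : sqNorm VV.1 ≤ 64 := by rw [norm_VV]; norm_num

abbrev T2 := Cls1 U 16
abbrev T3 := Cls1 VV (-24)
abbrev T3h := Cls1 VV (-16)
abbrev TM := Cls2 VV U (-24) 16
abbrev TH := Cls2 VV U' (-24) 0

theorem ncard_T2 : (T2 : Set Λ).ncard = 4600 := (ncard_Cls1 U_eq nU (by norm_num)).trans pop_cls.1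
theorem ncard_T3 : (T3 : Set Λ).ncard = 552 :=
  (ncard_Cls1 VV_eq nV (by norm_num)).trans pop_cls2.2.2.1
theorem ncard_T3h : (T3h : Set Λ).ncard = 11178 :=
  (ncard_Cls1 VV_eq nV (by norm_num)).trans pop_cls2.2.2.2
theorem ncard_TM : (TM : Set Λ).ncard = 275 :=
  (ncard_Cls2 VV_eq nV U_eq nU (by norm_num) (by norm_num)).trans pop_cls3.1
theorem ncard_TH : (TH : Set Λ).ncard = 100 :=
  (ncard_Cls2 VV_eq nV U'_eq nU' (by norm_num) (by norm_num)).trans pop_cls3.2.1

theorem ex_P2 : ∃ M : PM C2 T2 4600 C2c.nets, LM C2c.X M ∧ ∀ l < 4, (M.gen l).1 = C2c.gs l :=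
  C2c.exists_pm (fixH1 U_eq) (fixU1 U_eq) (seed1 (by norm_num) (by decide +kernel)) ncard_T2
theorem ex_P3 : ∃ M : PM C3 T3 552 C3c.nets, LM C3c.X M ∧ ∀ l < 3, (M.gen l).1 = C3c.gs l :=
  C3c.exists_pm (fixH1 VV_eq) (fixU1 VV_eq) (seed1 (by norm_num) (by decide +kernel)) ncard_T3
theorem ex_P3h : ∃ M : PM C3 T3h 11178 CoH.nets, LM CoH.X M ∧ ∀ l < 3, (M.gen l).1 = CoH.gs l :=
  CoH.exists_pm (fixH1 VV_eq) (fixU1 VV_eq) (seed1 (by norm_num) (by decide +kernel)) ncard_T3h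
theorem ex_PMc : ∃ M : PM CM TM 275 McLc.nets, LM McLc.X M ∧ ∀ l < 2, (M.gen l).1 = McLc.gs l :=
  McLc.exists_pm (fixH2 VV_eq U_eq) (fixU2 VV_eq U_eq) (seed2 (by norm_num) (by decide +kernel)) ncard_TM
theorem ex_PH : ∃ M : PM CH TH 100 HSc.nets, LM HSc.X M ∧ ∀ l < 2, (M.gen l).1 = HSc.gs l :=
  HSc.exists_pm (fixH2 VV_eq U'_eq) (fixU2 VV_eq U'_eq) (seed2 (by norm_num) (by decide +kernel))
    ncard_TH

noncomputable def P2 : PM C2 T2 4600 C2c.nets := ex_P2.choose
noncomputable def P3 : PM C3 T3 552 C3c.nets := ex_P3.choose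
noncomputable def P3h : PM C3 T3h 11178 CoH.nets := ex_P3h.choose
noncomputable def PMc : PM CM TM 275 McLc.nets := ex_PMc.choose
noncomputable def PH : PM CH TH 100 HSc.nets := ex_PH.choose
theorem P2_lm : LM C2c.X P2 := ex_P2.choose_spec.1
theorem P3_lm : LM C3c.X P3 := ex_P3.choose_spec.1
theorem P3h_lm : LM CoH.X P3h := ex_P3h.choose_spec.1
theorem PMc_lm : LM McLc.X PMc := ex_PMc.choose_spec.1
theorem PH_lm : LM HSc.X PH := ex_PH.choose_spec.1
instance : FaithfulSMul C2 T2 := C2c.faith P2_lm (fixU1 U_eq)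
instance : FaithfulSMul C3 T3 := C3c.faith P3_lm (fixU1 VV_eq)
instance : FaithfulSMul C3 T3h := CoH.faith P3h_lm (fixU1 VV_eq)
instance : FaithfulSMul CM TM := McLc.faith PMc_lm (fixU2 VV_eq U_eq)
instance : FaithfulSMul CH TH := HSc.faith PH_lm (fixU2 VV_eq U'_eq)
theorem P2_all : Rels P2.gen C2c.allRels := C2c.all_ok' P2
theorem P3_all : Rels P3.gen C3c.allRels := C3c.all_ok' P3
theorem PMc_all : Rels PMc.gen McLc.allRels := McLc.all_ok' PMc
theorem PH_all : Rels PH.gen HSc.allRels := HSc.all_ok' PH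
theorem P2_rels : Rels P2.gen C2c.rels := C2c.rels_of_all P2_all
theorem P3_rels : Rels P3.gen C3c.rels := C3c.rels_of_all P3_all
theorem PMc_rels : Rels PMc.gen McLc.rels := McLc.rels_of_all PMc_all
theorem PH_rels : Rels PH.gen HSc.rels := HSc.rels_of_all PH_all

theorem P3h_dec0 : (P3h.dec 0 : Λ) = U' := P3h_lm.dec_eq (by norm_num) (by decide +kernel) U'_eq
theorem PH_dec0 : (PH.dec 0 : Λ) = U := PH_lm.dec_eq (by norm_num) (by decide +kernel) U_eq
theorem P3_dec0 : (P3.dec 0 : Λ) = U := P3_lm.dec_eq (by norm_num) (by decide +kernel) U_eq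
/-- `(4, 0, 4, 0^21)` -/
abbrev W : Λ := l4 none (some 1) 4 rfl
abbrev pW : ℕ := 0x848080808080808080808080808080808080808080808480
theorem W_eq : W.1 = vecN pW := by decide +kernel
theorem P2_dec0 : (P2.dec 0 : Λ) = W := P2_lm.dec_eq (by norm_num) (by decide +kernel) W_eq
theorem PMc_dec0 : (PMc.dec 0 : Λ) = W := PMc_lm.dec_eq (by norm_num) (by decide +kernel) W_eq

theorem T3h_trans {x : Λ} (hx : x ∈ T3h) : ∃ g ∈ C3, g • U' = x := by
  obtain ⟨g, -, e⟩ := P3h.trans_of_reach (s := 0) CoH.reach_ok ⟨x, hx⟩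
  exact ⟨g, g.2, by rw [← P3h_dec0]; exact congrArg Subtype.val e⟩

theorem card_CH : Nat.card CH = 44352000 := by
  have h := card_inf_stabilizer_mul C3 U'
  have e : {y | ∃ g ∈ C3, g • U' = y} = (T3h : Set Λ) := Set.ext fun y =>
    ⟨fun ⟨g, hg, e⟩ => e ▸ T3h.smul_mem ⟨g, hg⟩ (show U' ∈ T3h from ⟨norm_U', by decide +kernel⟩),
      T3h_trans⟩
  rw [e, ncard_T3h, card_C3] at h
  exact Nat.eq_of_mul_eq_mul_right (by norm_num) (h.trans (show _ = 44352000 * 11178 by norm_num))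

theorem P2_top : sub P2.gen C2c.ws0 = ⊤ :=
  Subgroup.eq_top_of_card_eq _ ((C2c.card0 P2 P2_rels).trans card_C2.symm)
theorem P3_top : sub P3.gen C3c.ws0 = ⊤ :=
  Subgroup.eq_top_of_card_eq _ ((C3c.card0 P3 P3_rels).trans card_C3.symm)
theorem PMc_top : sub PMc.gen McLc.ws0 = ⊤ :=
  Subgroup.eq_top_of_card_eq _ ((McLc.card0 PMc PMc_rels).trans card_CM.symm)
theorem PH_top : sub PH.gen HSc.ws0 = ⊤ :=
  Subgroup.eq_top_of_card_eq _ ((HSc.card0 PH PH_rels).trans card_CH.symm)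

/-! ### Simplicity -/

theorem pair_faithful {u : Λ} {k : ℤ} (hu : sqNorm u.1 = 2 * k) (hk : 4 < k) {g : Co0}
    (hg : g • u = u) (S : Set Λ) (h1 : ∀ x ∈ S, dotInt u.1 x.1 = k ∧ (g • x = x ∨ g • x = u - x))
    (h2 : ∀ x ∈ S, ∀ y ∈ S, 2 * dotInt x.1 y.1 ≠ k)
    (h3 : ∀ z : V, dotInt u.1 z = 0 → (∀ x ∈ S, dotInt x.1 z = 0) → z = 0)
    {w : Λ} (hw : dotInt u.1 w.1 = 8) : g = 1 := by
  by_cases h : ∀ x ∈ S, g • x = x
  · refine co_ext fun v p => congrFun (sub_eq_zero.1 (h3 ((g • v : Λ).1 - v.1) ?_ fun x hx => ?_)) p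
    · rw [dot_sub, dot_smul_of_fix hg, sub_self]
    · rw [dot_sub, dot_smul_of_fix (h x hx), sub_self]
  exfalso
  push Not at h
  obtain ⟨y, hy, hy'⟩ := h
  have h4 : ∀ x ∈ S, g • x = u - x := fun x hx => (h1 x hx).2.resolve_left fun e => by
    have := dot_smul_of_fix e y
    rw [(h1 y hy).2.resolve_left hy', AddSubgroup.coe_sub, dot_sub, dot_comm, (h1 x hx).1] at this
    exact h2 x hx y hy (by omega)
  have h5 : dotInt u.1 (w.1 + (g • w : Λ).1) = 16 := by rw [dot_add, dot_smul_of_fix hg, hw]; rfl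
  have h6 : k • (w.1 + (g • w : Λ).1) - (8 : ℤ) • u.1 = 0 := by
    have zs : ∀ (x y : V) (a : ℤ), dotInt x (a • y) = a * dotInt x y := fun x y a => by
      simp only [dotInt, mul_sum, Pi.smul_apply, smul_eq_mul, mul_left_comm]
    refine h3 _ (by rw [dot_sub, zs, zs, h5, dot_self, hu]; ring) fun x hx => ?_
    have := dot_smul g (u - x) w
    rw [smul_sub, hg, h4 x hx, sub_sub_cancel, AddSubgroup.coe_sub, sub_dot, hw] at this
    rw [dot_sub, zs, zs, dot_add, this, dot_comm x.1 u.1, (h1 x hx).1]; ring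
  have h7 := congrArg sqNorm (sub_eq_zero.1 h6)
  rw [sqNorm_zsmul, sqNorm_zsmul, hu] at h7
  have h8 := min_norm (add_mem w.2 (g • w).2) fun e => by rw [e] at h5; simp [dotInt] at h5
  nlinarith

theorem dot_l4 (p q : GolayPt) (s : ℤ) (hs : s % 8 = 4) (z : V) :
    dotInt (l4 p q s hs).1 z = 4 * z p + s * z q := by
  simp [l4, add_dot, dotInt, Pi.single_apply, add_mul, sum_add_distrib]

theorem U_eq_l4 : U = l4 none (some 0) 4 rfl := Subtype.ext (by decide +kernel)

theorem simple_C2 : IsSimpleGroup C2 := simple_of_eq_top P2_top <| C2c.simple P2 P2_all fun g _ h => by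
  have e : (P2.dec 453 : Λ) = U - W := P2_lm.dec_eq (by norm_num)
    (y := 0x808080808080808080808080808080808080808080807c84) (by decide +kernel) (by decide +kernel)
  have key : ∀ x ∈ T2, g.1 • x = x ∨ g.1 • x = U - x := fun x hx => by
    obtain ⟨a, -, ha⟩ := P2.trans_of_reach (s := 0) C2c.reach_ok ⟨x, hx⟩
    have := h a (P2_top ▸ Subgroup.mem_top a)
    rw [ha] at this
    refine this.imp (congrArg Subtype.val) fun h => (congrArg Subtype.val h).trans ?_
    show a.1 • (P2.dec 453 : Λ) = _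
    rw [e, smul_sub, mem_stabilizer_iff.1 a.2, ← P2_dec0]
    exact congrArg (U - ·) (congrArg Subtype.val ha)
  have hd : ∀ q s hs, q ≠ none → q ≠ some 0 → dotInt U.1 (l4 none q s hs).1 = 16 := fun q s hs h1 h2 => by
    rw [U_eq_l4, dot_l4, l4_apply, l4_apply]; simp [h1.symm, h2.symm]
  refine Subtype.ext (pair_faithful (k := 16) norm_U (by norm_num) g.2
    {x | ∃ q s hs, q ≠ none ∧ q ≠ some 0 ∧ s ^ 2 = 16 ∧ x = l4 none q s hs} ?_ ?_ ?_
    (w := -lT) (by decide +kernel))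
  · rintro _ ⟨q, s, hs, h1, h2, h3, rfl⟩
    exact ⟨hd q s hs h1 h2, key _ ⟨norm_l4 h1.symm hs h3, hd q s hs h1 h2⟩⟩
  · rintro _ ⟨q, s, hs, h1, -, h3, rfl⟩ _ ⟨r, t, ht, h4, -, h6, rfl⟩
    rw [dot_l4, l4_apply, l4_apply, if_pos rfl, if_neg h4.symm, if_neg h1]
    rcases pm_of_sq 4 h3 with rfl | rfl <;> rcases pm_of_sq 4 h6 with rfl | rfl <;> split_ifs <;> omega
  · intro z h1 h2
    have h3 : ∀ q, q ≠ none → q ≠ some 0 → z none = 0 ∧ z q = 0 := fun q a b => by
      have e1 := h2 _ ⟨q, 4, rfl, a, b, rfl, rfl⟩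
      have e2 := h2 _ ⟨q, -4, rfl, a, b, rfl, rfl⟩
      rw [dot_l4] at e1 e2
      omega
    have h4 := (h3 (some 1) (by decide) (by decide)).1
    rw [U_eq_l4, dot_l4] at h1
    funext q
    by_cases a : q = none; · rw [a]; exact h4
    by_cases b : q = some 0; · rw [b]; show z _ = 0; omega
    exact (h3 q a b).2

theorem dot_VV (z : V) : dotInt VV.1 z = -(∑ i, z i) - 4 * z none := by
  have : ∀ i, VV.1 i * z i = -z i - if i = none then 4 * z none else 0 := fun i => by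
    show (if i = none then -5 else -1) * z i = _
    split_ifs with h
    · rw [h]; ring
    · ring
  simp [dotInt, this]

theorem simple_C3 : IsSimpleGroup C3 := simple_of_eq_top P3_top <| C3c.simple P3 P3_all fun g _ h => by
  have e : (P3.dec 546 : Λ) = -VV - U := P3_lm.dec_eq (by norm_num)
    (y := 0x81818181818181818181818181818181818181818181817d) (by decide +kernel) (by decide +kernel)
  have key : ∀ x ∈ T3, g.1 • x = x ∨ g.1 • x = -VV - x := fun x hx => by
    obtain ⟨a, -, ha⟩ := P3.trans_of_reach (s := 0) C3c.reach_ok ⟨x, hx⟩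
    have := h a (P3_top ▸ Subgroup.mem_top a)
    rw [ha] at this
    refine this.imp (congrArg Subtype.val) fun h => (congrArg Subtype.val h).trans ?_
    show a.1 • (P3.dec 546 : Λ) = _
    rw [e, smul_sub, smul_neg, mem_stabilizer_iff.1 a.2, ← P3_dec0]
    exact congrArg (-VV - ·) (congrArg Subtype.val ha)
  have hd : ∀ q ≠ none, dotInt VV.1 (l4 none q 4 rfl).1 = -24 := by decide +kernel
  refine Subtype.ext (pair_faithful (u := -VV) (k := 24) (by decide +kernel) (by norm_num)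
    (by rw [smul_neg, mem_stabilizer_iff.1 g.2]) {x | ∃ q ≠ none, x = l4 none q 4 rfl} ?_ ?_ ?_
    (w := fr (some 0)) (by decide +kernel))
  · rintro _ ⟨q, h1, rfl⟩
    exact ⟨(neg_dot _ _).trans (by rw [hd q h1]; rfl), key _ ⟨norm_l4 h1.symm rfl rfl, hd q h1⟩⟩
  · intro x _ y _
    have := eight_dvd_dot x.2 y.2
    omega
  · intro z h1 h2
    have h3 : ∀ q ≠ none, z q = -z none := fun q a => by
      have e1 := h2 _ ⟨q, a, rfl⟩
      rw [dot_l4] at e1
      omega
    rw [show (-VV).1 = -VV.1 from rfl, neg_dot, dot_VV, ← add_sum_erase _ _ (mem_univ none),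
      sum_congr rfl fun q hq => h3 q (ne_of_mem_erase hq), sum_const, nsmul_eq_mul, card_erase_univ] at h1
    funext q
    by_cases a : q = none; · rw [a]; show z _ = 0; omega
    rw [h3 q a]; show _ = (0 : ℤ); omega

theorem simple_CM : IsSimpleGroup CM := simple_of_eq_top PMc_top (McLc.simple PMc PMc_all)

theorem permH_inj : Function.Injective permH := fun σ τ e =>
  (mon_inj (hc := empty_mem_GC) (hd := empty_mem_GC) (congrArg _ e)).1

theorem permH_fix {σ : M24} {x : Λ} (h : ∀ p, x.1 (σ • p) = x.1 p) : permH σ • x = x :=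
  Subtype.ext (funext fun p => by obtain ⟨q, rfl⟩ := smul_surj σ p; rw [permH_apply', h])

theorem permH_VV {σ : M24} (h : σ • (none : GolayPt) = none) : permH σ • VV = VV :=
  permH_fix fun p => by
    have : σ • p = none ↔ p = none := by rw [← smul_left_cancel_iff σ (x := p), h]
    show (if _ then _ else _) = if _ then _ else _
    simp only [this]

theorem permH_l4 (σ : M24) (p q : GolayPt) (s : ℤ) (hs : s % 8 = 4) :
    permH σ • l4 p q s hs = l4 (σ • p) (σ • q) s hs := Subtype.ext (funext fun i => by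
  rw [permH_apply, l4_apply, l4_apply]; simp only [inv_smul_eq_iff])

theorem U'_eq_l4 : U' = l4 none (some 0) (-4) rfl := Subtype.ext (by decide +kernel)

/-- The stabiliser of `V`, `U`, `U'` is the permutation group `M22`. -/
theorem map_G22 : G22.map permH = CH ⊓ stabilizer Co0 U := by
  refine eq_of_le_of_card (n := 443520) (by norm_num) ?_
    ((Subgroup.card_map_of_injective permH_inj).trans card_G22) ?_
  · rintro _ ⟨σ, h, rfl⟩
    have h1 : σ • (none : GolayPt) = none := h.1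
    have h2 : σ • (some 0 : GolayPt) = some 0 := h.2
    exact ⟨⟨permH_VV h1, show _ • U' = U' by rw [U'_eq_l4, permH_l4, h1, h2]⟩,
      show _ • U = U by rw [U_eq_l4, permH_l4, h1, h2]⟩
  · have h := card_inf_stabilizer_mul CH U
    have e : {y | ∃ g ∈ CH, g • U = y} = (TH : Set Λ) := Set.ext fun y =>
      ⟨fun ⟨g, hg, e⟩ => e ▸ TH.smul_mem ⟨g, hg⟩ (PH_dec0 ▸ (PH.dec 0).2), fun hy => by
        obtain ⟨g, -, e⟩ := PH.trans_of_reach (s := 0) HSc.reach_ok ⟨y, hy⟩
        exact ⟨g, g.2, by rw [← PH_dec0]; exact congrArg Subtype.val e⟩⟩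
    rw [e, ncard_TH, card_CH] at h
    omega

theorem PH_one (g : CH) : g ∈ sub PH.gen HSc.ws1 ↔ g.1 • U = U := by
  rw [← HSc.stab0 PH PH_rels, PH_top, top_inf_eq, mem_stabilizer_iff, ← PH_dec0]
  exact Subtype.ext_iff

theorem simple_CH : IsSimpleGroup CH := by
  have : IsSimpleGroup (sub PH.gen HSc.ws1) :=
    have := simple_G22
    ((mapSubtypeEquiv (K := CH ⊓ stabilizer Co0 U) _ inf_le_left fun g =>
      (PH_one g).trans ⟨fun h => ⟨g.2, h⟩, fun h => h.2⟩).trans ((MulEquiv.subgroupCongr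
        map_G22.symm).trans (G22.equivMapOfInjective permH permH_inj).symm)).isSimpleGroup
  refine simple_of_eq_top PH_top (simple_of_sylow (H := sub PH.gen HSc.ws1) (PH_top ▸ le_top)
    (HSc.max0 PH PH_rels) ?_ (p := 5) (k := 2) (m := 4)
    (by rw [HSc.card0 PH PH_rels, HSc.card1 PH PH_rels]; norm_num) (by norm_num) (by norm_num)
    (by norm_num) (by norm_num) (by decide))
  rw [HSc.ext0 PH PH_rels]
  exact (HSc.res0 PH PH_rels).corefree PH (HSc.fix0 PH PH_rels) (by decide +kernel)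

/-! ### The centre and `Co1` -/

theorem negOne_sq : negOne * negOne = 1 :=
  co_ext fun x p => by rw [mul_smul, negOne_smul, negOne_smul, neg_neg, one_smul]

theorem U_ne_neg : U ≠ -U := fun e => absurd (congrArg Subtype.val e) (by decide +kernel)

theorem negOne_ne_one : negOne ≠ 1 := fun e => U_ne_neg (by rw [← negOne_smul, e, one_smul])

theorem negOne_comm (g : Co0) : g * negOne = negOne * g :=
  co_ext fun x p => by rw [mul_smul, mul_smul, negOne_smul, negOne_smul, smul_neg]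

theorem eq_of_C2_fix {x : Λ} (hx : sqNorm x.1 = 32) (h : ∀ g ∈ C2, g • x = x) : x = U ∨ x = -U := by
  rcases dot_min_cases norm_U hx with h1 | h1 | h1
  · exact Or.inl h1
  · exact Or.inr h1
  exfalso
  have h2 : {y : Λ | sqNorm y.1 = 32 ∧ dotInt U.1 y.1 = dotInt U.1 x.1}.ncard ≤ 1 := by
    rw [← Set.ncard_singleton x]
    refine Set.ncard_le_ncard (fun y hy => ?_)
    obtain ⟨g, h2, h3⟩ := pair_trans norm_U hx norm_U hy.1 hy.2.symm
    exact h3.symm.trans (h g h2)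
  have := pop_cls
  simp only [mem_insert, mem_singleton] at h1
  rcases h1 with h1 | h1 | h1 | h1 | h1 <;> rw [h1, ncard_dot norm_U (by norm_num)] at h2 <;> omega

theorem mem_center_Co0 {g : Co0} : g ∈ Subgroup.center Co0 ↔ g = 1 ∨ g = negOne := by
  constructor
  · intro h
    have h1 := Subgroup.mem_center_iff.1 h
    have key : ∀ z : Co0, (∀ a, a * z = z * a) → z • U = U → z = 1 := fun z h e =>
      eq_one_of_fix_min fun x hx => by
        obtain ⟨a, -, rfl⟩ := min_std hx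
        rw [← mul_smul, ← h, mul_smul, e]
    refine (eq_of_C2_fix ((sqNorm_smul g U).trans norm_U) fun a ha => by
      rw [← mul_smul, h1, mul_smul, mem_stabilizer_iff.1 ha]).imp (key g h1) fun e => ?_
    have := key (negOne * g) (fun a => by rw [← mul_assoc, negOne_comm, mul_assoc, h1, mul_assoc])
      (by rw [mul_smul, e, negOne_smul, neg_neg])
    rw [← one_mul g, ← negOne_sq, mul_assoc, this, mul_one]
  · rintro (rfl | rfl)
    exacts [one_mem _, Subgroup.mem_center_iff.2 negOne_comm]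

theorem card_center_Co0 : Nat.card (Subgroup.center Co0) = 2 := by
  rw [← SetLike.coe_sort_coe, Nat.card_coe_set_eq, ← Set.ncard_pair negOne_ne_one.symm]
  congr 1
  ext g
  exact mem_center_Co0

theorem card_Co1 : Nat.card Spor.Co1 = 4157776806543360000 := by
  have := Subgroup.card_eq_card_quotient_mul_card_subgroup (Subgroup.center Co0)
  rw [card_Co0, card_center_Co0] at this
  exact Nat.eq_of_mul_eq_mul_right two_pos (this.symm.trans (by norm_num))

/-- The stabiliser of `±U` is a maximal subgroup. -/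
theorem eq_top_of_C2_le {X : Subgroup Co0} (h1 : C2 ≤ X) (h2 : negOne ∈ X) {x : Co0} (hx : x ∈ X)
    (h3 : x • U ≠ U) (h4 : x • U ≠ -U) : X = ⊤ := by
  let C : ℤ → Prop := fun c => ∀ y : Λ, sqNorm y.1 = 32 → dotInt U.1 y.1 = c → ∃ g ∈ X, g • U = y
  have c1 : ∀ g ∈ X, C (dotInt U.1 (g • U : Λ).1) := fun g hg y hy e => by
    obtain ⟨a, ha, e'⟩ := pair_trans norm_U ((sqNorm_smul g U).trans norm_U) norm_U hy e.symm
    exact ⟨a * g, mul_mem (h1 ha) hg, by rw [mul_smul, e']⟩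
  have c2 : ∀ c, C c → C (-c) := fun c h y hy e => by
    obtain ⟨g, hg, e'⟩ := h (-y) ((sqNorm_neg _).trans hy) ((dot_neg _ _).trans (by rw [e, neg_neg]))
    exact ⟨negOne * g, mul_mem h2 hg, by rw [mul_smul, e', negOne_smul, neg_neg]⟩
  have c3 : ∀ c, C c → ∀ (y z : Λ) {d : ℤ}, sqNorm y.1 = 32 ∧ sqNorm z.1 = 32 ∧ dotInt U.1 y.1 = c ∧
      dotInt U.1 z.1 = c ∧ dotInt y.1 z.1 = d → C d := fun c h y z d ⟨a1, a2, a3, a4, a5⟩ => by
    subst a5
    obtain ⟨g, hg, rfl⟩ := h y a1 a3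
    obtain ⟨k, hk, rfl⟩ := h z a2 a4
    have := c1 _ (mul_mem (inv_mem hg) hk)
    rwa [← dot_smul g, mul_smul, smul_inv_smul] at this
  have a16 : C 16 := by
    have e8 : C 8 → C 16 := fun h =>
      c3 _ h (-lT) (-⟨_, (isL_tv (some 0)).mem⟩) (by decide +kernel)
    have e0 : C 0 → C 16 := fun h =>
      c3 _ h (l4 (some 1) (some 2) 4 rfl) (l4 (some 1) (some 3) 4 rfl) (by decide +kernel)
    have := c1 x hx
    rcases dot_min_cases norm_U ((sqNorm_smul x U).trans norm_U) with h | h | h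
    · exact absurd h h3
    · exact absurd h h4
    simp only [mem_insert, mem_singleton] at h
    rcases h with h | h | h | h | h <;> rw [h] at this
    exacts [this, e8 this, e0 this, e8 (c2 _ this), c2 _ this]
  have a8 : C 8 := c3 _ a16 lO (l4 none (some 4) 4 rfl) (by decide +kernel)
  have a0 : C 0 := c3 _ a16 W (l4 none (some 1) (-4) rfl) (by decide +kernel)
  refine eq_top_iff.2 fun g _ => ?_
  have hn := (sqNorm_smul g U).trans norm_U
  obtain ⟨k, hk, e⟩ : ∃ k ∈ X, k • U = g • U := by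
    rcases dot_min_cases norm_U hn with h | h | h
    · exact ⟨1, one_mem _, by rw [h, one_smul]⟩
    · exact ⟨_, h2, by rw [h, negOne_smul]⟩
    simp only [mem_insert, mem_singleton] at h
    rcases h with h | h | h | h | h
    exacts [a16 _ hn h, a8 _ hn h, a0 _ hn h, c2 _ a8 _ hn h, c2 _ a16 _ hn h]
  simpa using mul_mem hk (h1 (show (k⁻¹ * g) • U = U by rw [mul_smul, ← e, inv_smul_smul]))

theorem center_C2 {g : Co0} (hg : g ∈ C2) (h : ∀ a ∈ C2, a * g = g * a) : g = 1 := by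
  have := simple_C2
  rcases (Subgroup.center C2).normal_of_characteristic.eq_bot_or_eq_top with h1 | h1
  · exact congrArg Subtype.val (h1.le (Subgroup.mem_center_iff.2 fun a => Subtype.ext (h a a.2) :
      (⟨g, hg⟩ : C2) ∈ _))
  · exfalso
    let _ : CommGroup C2 := { (inferInstance : Group C2) with
      mul_comm := fun a b => Subgroup.mem_center_iff.1 (h1.ge trivial) a }
    have := IsSimpleGroup.prime_card (α := C2)
    rw [card_C2] at this
    exact absurd this (by norm_num)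

theorem normal_Co0 (X : Subgroup Co0) [hX : X.Normal] (hn : negOne ∈ X) :
    X = Subgroup.center Co0 ∨ X = ⊤ := by
  have := simple_C2
  by_cases h0 : ∀ x ∈ X, x • U = U ∨ x • U = -U
  · refine Or.inl (le_antisymm (fun x hx => ?_) fun g hg => (mem_center_Co0.1 hg).elim
      (· ▸ one_mem _) (· ▸ hn))
    rcases nml_of_simple (X ⊓ C2) inf_le_right (fun g hg x hx => ⟨hX.conj_mem x hx.1 g,
      C2.mul_mem (C2.mul_mem hg hx.2) (C2.inv_mem hg)⟩) with h1 | h1
    · refine mem_center_Co0.2 ((h0 x hx).imp (fun e => h1.le ⟨hx, e⟩) fun e => ?_)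
      have : negOne * x = 1 := h1.le ⟨mul_mem hn hx,
        show (negOne * x) • U = U by rw [mul_smul, e, negOne_smul, neg_neg]⟩
      rw [← one_mul x, ← negOne_sq, mul_assoc, this, mul_one]
    · exfalso
      obtain ⟨a, ha⟩ := min_trans norm_U (y := W) (by decide +kernel)
      obtain ⟨b, h2, h3⟩ := pair_trans (x := W) (y := l4 none (some 2) 4 rfl) norm_U
        (by decide +kernel) norm_U (by decide +kernel) (by decide +kernel)
      have := h0 _ (hX.conj_mem' b (h1 h2).1 a)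
      rw [mul_smul, mul_smul, ha, h3, inv_smul_eq_iff, inv_smul_eq_iff, smul_neg, ha] at this
      exact absurd (this.imp (congrArg Subtype.val) (congrArg Subtype.val)) (by decide +kernel)
  right
  push Not at h0
  obtain ⟨x0, hx0, h3, h4⟩ := h0
  rcases nml_of_simple (X ⊓ C2) inf_le_right (fun g hg x hx => ⟨hX.conj_mem x hx.1 g,
    C2.mul_mem (C2.mul_mem hg hx.2) (C2.inv_mem hg)⟩) with h1 | h1
  swap; · exact eq_top_of_C2_le (h1.trans inf_le_left) hn hx0 h3 h4
  exfalso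
  have h5 : X ⊔ C2 = ⊤ := eq_top_of_C2_le le_sup_right (Subgroup.mem_sup_left hn)
    (Subgroup.mem_sup_left hx0) h3 h4
  have hc : Nat.card X = 196560 := by
    have := card_inf_stabilizer_mul X U
    rw [h1, Subgroup.card_bot, one_mul] at this
    rw [← this, ← ncard_shell32]
    congr 1
    ext y
    refine ⟨fun ⟨g, _, e⟩ => e ▸ (sqNorm_smul g U).trans norm_U, fun hy => ?_⟩
    obtain ⟨g, -, rfl⟩ := min_std hy
    obtain ⟨a, ha, b, hb, rfl⟩ := exists_mul_of_mem_sup (G := ⊤) le_top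
      (fun g _ x hx => hX.conj_mem x hx g) (h5.ge (Subgroup.mem_top g))
    exact ⟨a, ha, by rw [mul_smul, mem_stabilizer_iff.1 hb]⟩
  -- elements of different odd prime orders move `U` to different classes
  have key : ∀ x ∈ X, ∀ y ∈ X, dotInt U.1 (x • U : Λ).1 = dotInt U.1 (y • U : Λ).1 →
      orderOf x = orderOf y := fun x hx y hy e => by
    obtain ⟨a, ha, e'⟩ := pair_trans norm_U ((sqNorm_smul x U).trans norm_U) norm_U
      ((sqNorm_smul y U).trans norm_U) e
    have : y⁻¹ * (a * x * a⁻¹) = 1 := h1.le ⟨X.mul_mem (X.inv_mem hy) (hX.conj_mem x hx a), show _ • U = U by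
      rw [mul_smul, mul_smul, mul_smul, inv_smul_eq_iff.2 ha.symm, e', inv_smul_smul]⟩
    rw [inv_mul_eq_one.1 this]
    exact (MulAut.conj a).orderOf_eq x |>.symm
  have ex : ∀ p : ℕ, p.Prime → p ∣ 196560 → ∃ x ∈ X, orderOf x = p := fun p hp hd => by
    have := Fact.mk hp
    obtain ⟨x, hx⟩ := exists_prime_orderOf_dvd_card' (G := X) p (hc ▸ hd)
    exact ⟨x, x.2, (Subgroup.orderOf_coe x).trans hx⟩
  have cl : ∀ x ∈ X, 2 < orderOf x → dotInt U.1 (x • U : Λ).1 ∈ ({16, 8, 0, -8, -16} : Finset ℤ) :=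
    fun x hx ho => by
      refine ((dot_min_cases norm_U ((sqNorm_smul x U).trans norm_U)).resolve_left fun e => ?_).resolve_left
        fun e => ?_
      · rw [show x = 1 from h1.le ⟨hx, e⟩, orderOf_one] at ho; omega
      · rw [key x hx _ hn (by rw [e, negOne_smul]), orderOf_eq_prime (p := 2) (by rw [sq, negOne_sq])
          negOne_ne_one] at ho
        omega
  have om : ∀ x : Co0, ∀ p : ℕ, orderOf x = p → p.Coprime 2 → orderOf (negOne * x) = 2 * p :=
    fun x p h hp => by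
      have h2 := orderOf_eq_prime (p := 2) (x := negOne) (by rw [sq, negOne_sq]) negOne_ne_one
      rw [(show Commute negOne x from (negOne_comm x).symm).orderOf_mul_eq_mul_orderOf_of_coprime
        (by rw [h, h2]; exact hp.symm), h, h2]
  obtain ⟨a, ha, oa⟩ := ex 3 (by norm_num) (by norm_num)
  obtain ⟨b, hb, ob⟩ := ex 5 (by norm_num) (by norm_num)
  obtain ⟨c, hc', oc⟩ := ex 7 (by norm_num) (by norm_num)
  let f : Fin 6 → X := ![⟨a, ha⟩, ⟨b, hb⟩, ⟨c, hc'⟩, ⟨_, mul_mem hn ha⟩, ⟨_, mul_mem hn hb⟩,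
    ⟨_, mul_mem hn hc'⟩]
  have hf : ∀ i, orderOf (f i).1 = ![3, 5, 7, 6, 10, 14] i := fun i => by
    fin_cases i
    exacts [oa, ob, oc, om a 3 oa (by norm_num), om b 5 ob (by norm_num), om c 7 oc (by norm_num)]
  obtain ⟨i, -, j, -, hij, e⟩ := exists_ne_map_eq_of_card_lt_of_maps_to (s := univ)
    (t := ({16, 8, 0, -8, -16} : Finset ℤ)) (by decide) (f := fun i => dotInt U.1 ((f i).1 • U : Λ).1)
    fun i _ => cl _ (f i).2 (by rw [hf]; revert i; decide)
  have := key _ (f i).2 _ (f j).2 e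
  rw [hf, hf] at this
  exact hij ((show Function.Injective ![3, 5, 7, 6, 10, 14] by decide) this)

theorem simple_Co1 : IsSimpleGroup Spor.Co1 := by
  have : Nontrivial Spor.Co1 := Finite.one_lt_card_iff_nontrivial.1 (by rw [card_Co1]; norm_num)
  refine ⟨fun N hN => ?_⟩
  have h := normal_Co0 (N.comap (QuotientGroup.mk' _)) (by
    rw [Subgroup.mem_comap, (QuotientGroup.eq_one_iff _).2 (mem_center_Co0.2 (Or.inr rfl) :
      negOne ∈ _) |> fun h => (h : QuotientGroup.mk' _ negOne = 1)]; exact one_mem _)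
  rw [← N.map_comap_eq_self_of_surjective (QuotientGroup.mk'_surjective _)]
  refine h.imp (fun e => ?_) fun e => ?_
  · rw [e, Subgroup.map_eq_bot_iff, QuotientGroup.ker_mk']
  · rw [e]; exact Subgroup.map_top_of_surjective _ (QuotientGroup.mk'_surjective _)

/-! ### Standard positions -/

theorem std48 {u : Λ} (hu : sqNorm u.1 = 48) : ∃ g : Co0, g • VV = u :=
  shell_trans (norm_VV.trans hu.symm) nV

theorem std24 {u x : Λ} (hu : sqNorm u.1 = 48) (hx : sqNorm x.1 = 32) (h : dotInt u.1 x.1 = -24) :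
    ∃ g : Co0, g • VV = u ∧ g • U = x := by
  obtain ⟨g, h1, h2⟩ := tri_trans (u := VV) (v := u) (a := -U) (b := -x) (norm_VV.trans hu.symm)
    (by decide +kernel) (by decide +kernel) ((sqNorm_neg _).trans hx)
    (by rw [show (-x).1 = -x.1 from rfl, sub_neg_eq_add, sqNorm_add]; omega)
  exact ⟨g, h1, neg_injective (by rw [← smul_neg, h2])⟩

theorem std16 {u x : Λ} (hu : sqNorm u.1 = 48) (hx : sqNorm x.1 = 32) (h : dotInt u.1 x.1 = -16) :
    ∃ g : Co0, g • VV = u ∧ g • U' = x := by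
  obtain ⟨a, rfl⟩ := std48 hu
  obtain ⟨x, rfl⟩ := smul_surj a x
  rw [sqNorm_smul] at hx
  rw [dot_smul] at h
  obtain ⟨g, hg, rfl⟩ := T3h_trans ⟨hx, h⟩
  exact ⟨a * g, by rw [mul_smul, mem_stabilizer_iff.1 hg], mul_smul _ _ _⟩

noncomputable def stabEquiv1 (g : Co0) (u : Λ) : stabilizer Co0 u ≃* stabilizer Co0 (g • u) :=
  conjEquiv g fun x => conj_mem_stabilizer g x u

noncomputable def stabEquiv2 (g : Co0) (u w : Λ) : (stabilizer Co0 u ⊓ stabilizer Co0 w : Subgroup Co0) ≃*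
    (stabilizer Co0 (g • u) ⊓ stabilizer Co0 (g • w) : Subgroup Co0) :=
  conjEquiv g fun x => by simp only [Subgroup.mem_inf, conj_mem_stabilizer]

noncomputable def stabEquiv3 (g : Co0) (u w v : Λ) :
    (stabilizer Co0 u ⊓ stabilizer Co0 w ⊓ stabilizer Co0 v : Subgroup Co0) ≃*
    (stabilizer Co0 (g • u) ⊓ stabilizer Co0 (g • w) ⊓ stabilizer Co0 (g • v) : Subgroup Co0) :=
  conjEquiv g fun x => by simp only [Subgroup.mem_inf, conj_mem_stabilizer]

noncomputable def eCo2 : C2 ≃* Spor.Co2 :=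
  mapSubtypeEquiv _ inf_le_left fun x => ⟨fun h => ⟨x.2, h⟩, fun h => h.2⟩
noncomputable def eCo3 : C3 ≃* Spor.Co3 :=
  mapSubtypeEquiv _ inf_le_left fun x => ⟨fun h => ⟨x.2, h⟩, fun h => h.2⟩
noncomputable def eMcL : CM ≃* Spor.McL :=
  mapSubtypeEquiv _ (inf_le_left.trans inf_le_left) fun x =>
    ⟨fun h => ⟨⟨x.2, h.1⟩, h.2⟩, fun h => ⟨h.1.2, h.2⟩⟩
noncomputable def eHS : CH ≃* Spor.HS :=
  mapSubtypeEquiv _ (inf_le_left.trans inf_le_left) fun x =>
    ⟨fun h => ⟨⟨x.2, h.1⟩, h.2⟩, fun h => ⟨h.1.2, h.2⟩⟩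

theorem simple_card_of_equiv {G H : Type*} [Group G] [Group H] (e : G ≃* H) {n : ℕ}
    (h1 : IsSimpleGroup G) (h2 : Nat.card G = n) : IsSimpleGroup H ∧ Nat.card H = n :=
  ⟨e.symm.isSimpleGroup, (Nat.card_congr e.toEquiv).symm.trans h2⟩

theorem isCo1 : IsSimpleGroup Spor.Co1 ∧ Nat.card Spor.Co1 = 4157776806543360000 :=
  ⟨simple_Co1, card_Co1⟩
theorem isCo2 : IsSimpleGroup Spor.Co2 ∧ Nat.card Spor.Co2 = 42305421312000 :=
  simple_card_of_equiv eCo2 simple_C2 card_C2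
theorem isCo3 : IsSimpleGroup Spor.Co3 ∧ Nat.card Spor.Co3 = 495766656000 :=
  simple_card_of_equiv eCo3 simple_C3 card_C3
theorem isMcL : IsSimpleGroup Spor.McL ∧ Nat.card Spor.McL = 898128000 :=
  simple_card_of_equiv eMcL simple_CM card_CM
theorem isHS : IsSimpleGroup Spor.HS ∧ Nat.card Spor.HS = 44352000 :=
  simple_card_of_equiv eHS simple_CH card_CH

end H14
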