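import Cfsg.Agent.H14.Enum3
import Cfsg.Agent.H14.Conway2

/-! Pointwise stabilisers and enumerations for the machines of `McL`, `HS`, `Co3`, `Co2`. -/

set_option autoImplicit false
set_option maxRecDepth 100000

namespace H14
open Cfsg MulAction
open scoped Pointwise

theorem PMc_eq0 : ⊤ ⊓ PMc.fixL [] = sub PMc.gen McLc.ws0 := PMc.inf_fixL_nil PMc_top
theorem PMc_eq1 : ⊤ ⊓ PMc.fixL [0] = sub PMc.gen McLc.ws1 :=
  PMc.inf_fixL_cons PMc_eq0 (McLc.stab0 PMc PMc_rels)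
theorem PMc_eq2 : ⊤ ⊓ PMc.fixL [2, 0] = sub PMc.gen McLc.ws2 :=
  PMc.inf_fixL_cons PMc_eq1 (McLc.stab1 PMc PMc_rels)
theorem PMc_eq3 : ⊤ ⊓ PMc.fixL [6, 2, 0] = sub PMc.gen McLc.ws3 :=
  PMc.inf_fixL_cons PMc_eq2 (McLc.stab2 PMc PMc_rels)
theorem PMc_eq4 : ⊤ ⊓ PMc.fixL [3, 6, 2, 0] = sub PMc.gen McLc.ws4 :=
  PMc.inf_fixL_cons PMc_eq3 (McLc.stab3 PMc PMc_rels)
theorem PMc_eq5 : ⊤ ⊓ PMc.fixL [1, 3, 6, 2, 0] = sub PMc.gen McLc.ws5 :=
  PMc.inf_fixL_cons PMc_eq4 (McLc.stab4 PMc PMc_rels)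
theorem PMc_eq6 : ⊤ ⊓ PMc.fixL [4, 1, 3, 6, 2, 0] = sub PMc.gen McLc.ws6 :=
  PMc.inf_fixL_cons PMc_eq5 (McLc.stab5 PMc PMc_rels)
noncomputable def PMc_Ts6 : List (List Word) := []
noncomputable def PMc_Ts5 : List (List Word) := List.map (flat McLc.ws5) [[], dw (nat_lit 0x02)] :: PMc_Ts6
noncomputable def PMc_Ts4 : List (List Word) := List.map (flat McLc.ws4) [[], dw (nat_lit 0x02), dw (nat_lit 0x04), dw (nat_lit 0x03), dw (nat_lit 0x06), dw (nat_lit 0x05), dw (nat_lit 0x0204), dw (nat_lit 0x0206)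
, dw (nat_lit 0x0208)] :: PMc_Ts5
noncomputable def PMc_Ts3 : List (List Word) := List.map (flat McLc.ws3) [[], dw (nat_lit 0x02), dw (nat_lit 0x01), dw (nat_lit 0x04), dw (nat_lit 0x03), dw (nat_lit 0x06), dw (nat_lit 0x05), dw (nat_lit 0x0202)
, dw (nat_lit 0x0204), dw (nat_lit 0x0203), dw (nat_lit 0x0206), dw (nat_lit 0x0205), dw (nat_lit 0x0208), dw (nat_lit 0x020a), dw (nat_lit 0x0209), dw (nat_lit 0x020c)
, dw (nat_lit 0x0104), dw (nat_lit 0x0103), dw (nat_lit 0x0106), dw (nat_lit 0x0105), dw (nat_lit 0x0109), dw (nat_lit 0x0402), dw (nat_lit 0x0401), dw (nat_lit 0x040c)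
, dw (nat_lit 0x040b), dw (nat_lit 0x040e), dw (nat_lit 0x0302), dw (nat_lit 0x0301), dw (nat_lit 0x030c), dw (nat_lit 0x0602), dw (nat_lit 0x0601), dw (nat_lit 0x0502)
, dw (nat_lit 0x020204), dw (nat_lit 0x020209), dw (nat_lit 0x020401), dw (nat_lit 0x020406), dw (nat_lit 0x020405), dw (nat_lit 0x020409), dw (nat_lit 0x02040c), dw (nat_lit 0x02040e)
, dw (nat_lit 0x020301), dw (nat_lit 0x020305), dw (nat_lit 0x020308), dw (nat_lit 0x02030a), dw (nat_lit 0x02030c), dw (nat_lit 0x02030e), dw (nat_lit 0x020602), dw (nat_lit 0x020604)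
, dw (nat_lit 0x020603), dw (nat_lit 0x020801), dw (nat_lit 0x020902), dw (nat_lit 0x010309), dw (nat_lit 0x010503), dw (nat_lit 0x04010b)] :: PMc_Ts4
noncomputable def PMc_Ts2 : List (List Word) := List.map (flat McLc.ws2) [[], dw (nat_lit 0x02), dw (nat_lit 0x01), dw (nat_lit 0x04), dw (nat_lit 0x03), dw (nat_lit 0x0202), dw (nat_lit 0x0204), dw (nat_lit 0x0203)
, dw (nat_lit 0x0206), dw (nat_lit 0x0205), dw (nat_lit 0x0208), dw (nat_lit 0x0207), dw (nat_lit 0x020a), dw (nat_lit 0x0209), dw (nat_lit 0x020c), dw (nat_lit 0x020e)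
, dw (nat_lit 0x020d), dw (nat_lit 0x0210), dw (nat_lit 0x0212), dw (nat_lit 0x0108), dw (nat_lit 0x010c), dw (nat_lit 0x0110), dw (nat_lit 0x010f), dw (nat_lit 0x0405)
, dw (nat_lit 0x040f), dw (nat_lit 0x0308), dw (nat_lit 0x0307), dw (nat_lit 0x0309), dw (nat_lit 0x020202), dw (nat_lit 0x020301)] :: PMc_Ts3
theorem PMc_cov6 : Cover PMc.gen (sub PMc.gen McLc.ws6) PMc_Ts6 := Cover.nil
theorem PMc_cov5 : Cover PMc.gen (sub PMc.gen McLc.ws5) PMc_Ts5 :=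
  PMc.cover_step (McLc.stab5 PMc PMc_rels) (McLc.orb5 PMc PMc_rels) (by decide +kernel) PMc_cov6
theorem PMc_cov4 : Cover PMc.gen (sub PMc.gen McLc.ws4) PMc_Ts4 :=
  PMc.cover_step (McLc.stab4 PMc PMc_rels) (McLc.orb4 PMc PMc_rels) (by decide +kernel) PMc_cov5
theorem PMc_cov3 : Cover PMc.gen (sub PMc.gen McLc.ws3) PMc_Ts3 :=
  PMc.cover_step (McLc.stab3 PMc PMc_rels) (McLc.orb3 PMc PMc_rels) (by decide +kernel) PMc_cov4
theorem PMc_cov2 : Cover PMc.gen (sub PMc.gen McLc.ws2) PMc_Ts2 :=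
  PMc.cover_step (McLc.stab2 PMc PMc_rels) (McLc.orb2 PMc PMc_rels) (by decide +kernel) PMc_cov3
theorem PH_eq0 : ⊤ ⊓ PH.fixL [] = sub PH.gen HSc.ws0 := PH.inf_fixL_nil PH_top
theorem PH_eq1 : ⊤ ⊓ PH.fixL [0] = sub PH.gen HSc.ws1 :=
  PH.inf_fixL_cons PH_eq0 (HSc.stab0 PH PH_rels)
theorem PH_eq2 : ⊤ ⊓ PH.fixL [7, 0] = sub PH.gen HSc.ws2 :=
  PH.inf_fixL_cons PH_eq1 (HSc.stab1 PH PH_rels)
theorem PH_eq3 : ⊤ ⊓ PH.fixL [1, 7, 0] = sub PH.gen HSc.ws3 :=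
  PH.inf_fixL_cons PH_eq2 (HSc.stab2 PH PH_rels)
theorem PH_eq4 : ⊤ ⊓ PH.fixL [2, 1, 7, 0] = sub PH.gen HSc.ws4 :=
  PH.inf_fixL_cons PH_eq3 (HSc.stab3 PH PH_rels)
theorem PH_eq5 : ⊤ ⊓ PH.fixL [3, 2, 1, 7, 0] = sub PH.gen HSc.ws5 :=
  PH.inf_fixL_cons PH_eq4 (HSc.stab4 PH PH_rels)
noncomputable def PH_Ts5 : List (List Word) := []
noncomputable def PH_Ts4 : List (List Word) := List.map (flat HSc.ws4) [[], dw (nat_lit 0x02), dw (nat_lit 0x04), dw (nat_lit 0x0204), dw (nat_lit 0x0402), dw (nat_lit 0x020402), dw (nat_lit 0x040204), dw (nat_lit 0x02040204)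
] :: PH_Ts5
noncomputable def PH_Ts3 : List (List Word) := List.map (flat HSc.ws3) [[], dw (nat_lit 0x02), dw (nat_lit 0x01), dw (nat_lit 0x04), dw (nat_lit 0x03), dw (nat_lit 0x0202), dw (nat_lit 0x0204), dw (nat_lit 0x0203)
, dw (nat_lit 0x0208), dw (nat_lit 0x0101), dw (nat_lit 0x0104), dw (nat_lit 0x0103), dw (nat_lit 0x0108), dw (nat_lit 0x0404), dw (nat_lit 0x0406), dw (nat_lit 0x0408)
, dw (nat_lit 0x0302), dw (nat_lit 0x0303), dw (nat_lit 0x0308), dw (nat_lit 0x020203), dw (nat_lit 0x020208), dw (nat_lit 0x020404), dw (nat_lit 0x020408), dw (nat_lit 0x020303)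
, dw (nat_lit 0x020306), dw (nat_lit 0x020801), dw (nat_lit 0x020804), dw (nat_lit 0x020803), dw (nat_lit 0x010104), dw (nat_lit 0x010103), dw (nat_lit 0x010404), dw (nat_lit 0x010406)
, dw (nat_lit 0x010306), dw (nat_lit 0x010308), dw (nat_lit 0x010804), dw (nat_lit 0x010806), dw (nat_lit 0x040406), dw (nat_lit 0x040604), dw (nat_lit 0x040801), dw (nat_lit 0x02020302)
, dw (nat_lit 0x02020806), dw (nat_lit 0x02040408), dw (nat_lit 0x02030603), dw (nat_lit 0x02080408), dw (nat_lit 0x01030603)] :: PH_Ts4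
noncomputable def PH_Ts2 : List (List Word) := List.map (flat HSc.ws2) [[], dw (nat_lit 0x02), dw (nat_lit 0x01), dw (nat_lit 0x04), dw (nat_lit 0x03), dw (nat_lit 0x0202), dw (nat_lit 0x0204), dw (nat_lit 0x0203)
, dw (nat_lit 0x0206), dw (nat_lit 0x0205), dw (nat_lit 0x0208), dw (nat_lit 0x020a), dw (nat_lit 0x020c), dw (nat_lit 0x0104), dw (nat_lit 0x0106), dw (nat_lit 0x0105)
, dw (nat_lit 0x0108), dw (nat_lit 0x0107), dw (nat_lit 0x010c), dw (nat_lit 0x0401), dw (nat_lit 0x0404), dw (nat_lit 0x0405), dw (nat_lit 0x0302), dw (nat_lit 0x0301)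
, dw (nat_lit 0x0306), dw (nat_lit 0x0308), dw (nat_lit 0x020202), dw (nat_lit 0x020204), dw (nat_lit 0x020203), dw (nat_lit 0x020206), dw (nat_lit 0x020208), dw (nat_lit 0x020402)
, dw (nat_lit 0x020401), dw (nat_lit 0x020404), dw (nat_lit 0x020301), dw (nat_lit 0x020303), dw (nat_lit 0x020306), dw (nat_lit 0x020307), dw (nat_lit 0x020604), dw (nat_lit 0x020607)
, dw (nat_lit 0x02060a), dw (nat_lit 0x02060c), dw (nat_lit 0x020503), dw (nat_lit 0x02050c), dw (nat_lit 0x020805), dw (nat_lit 0x020808), dw (nat_lit 0x020a02), dw (nat_lit 0x020a0c)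
, dw (nat_lit 0x020c08), dw (nat_lit 0x020c07), dw (nat_lit 0x010402), dw (nat_lit 0x01040a), dw (nat_lit 0x010808), dw (nat_lit 0x010706), dw (nat_lit 0x010707), dw (nat_lit 0x040107)
] :: PH_Ts3
theorem PH_cov5 : Cover PH.gen (sub PH.gen HSc.ws5) PH_Ts5 := Cover.nil
theorem PH_cov4 : Cover PH.gen (sub PH.gen HSc.ws4) PH_Ts4 :=
  PH.cover_step (HSc.stab4 PH PH_rels) (HSc.orb4 PH PH_rels) (by decide +kernel) PH_cov5
theorem PH_cov3 : Cover PH.gen (sub PH.gen HSc.ws3) PH_Ts3 :=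
  PH.cover_step (HSc.stab3 PH PH_rels) (HSc.orb3 PH PH_rels) (by decide +kernel) PH_cov4
theorem PH_cov2 : Cover PH.gen (sub PH.gen HSc.ws2) PH_Ts2 :=
  PH.cover_step (HSc.stab2 PH PH_rels) (HSc.orb2 PH PH_rels) (by decide +kernel) PH_cov3
theorem P3_eq0 : ⊤ ⊓ P3.fixL [] = sub P3.gen C3c.ws0 := P3.inf_fixL_nil P3_top
theorem P3_eq1 : ⊤ ⊓ P3.fixL [0] = sub P3.gen C3c.ws1 :=
  P3.inf_fixL_cons P3_eq0 (C3c.stab0 P3 P3_rels)
theorem P3_eq2 : ⊤ ⊓ P3.fixL [1, 0] = sub P3.gen C3c.ws2 :=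
  P3.inf_fixL_cons P3_eq1 (C3c.stab1 P3 P3_rels)
theorem P3_eq3 : ⊤ ⊓ P3.fixL [3, 1, 0] = sub P3.gen C3c.ws3 :=
  P3.inf_fixL_cons P3_eq2 (C3c.stab2 P3 P3_rels)
theorem P3_eq4 : ⊤ ⊓ P3.fixL [9, 3, 1, 0] = sub P3.gen C3c.ws4 :=
  P3.inf_fixL_cons P3_eq3 (C3c.stab3 P3 P3_rels)
theorem P3_eq5 : ⊤ ⊓ P3.fixL [5, 9, 3, 1, 0] = sub P3.gen C3c.ws5 :=
  P3.inf_fixL_cons P3_eq4 (C3c.stab4 P3 P3_rels)
theorem P3_eq6 : ⊤ ⊓ P3.fixL [2, 5, 9, 3, 1, 0] = sub P3.gen C3c.ws6 :=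
  P3.inf_fixL_cons P3_eq5 (C3c.stab5 P3 P3_rels)
theorem P3_eq7 : ⊤ ⊓ P3.fixL [4, 2, 5, 9, 3, 1, 0] = sub P3.gen C3c.ws7 :=
  P3.inf_fixL_cons P3_eq6 (C3c.stab6 P3 P3_rels)
noncomputable def P3_Ts7 : List (List Word) := []
noncomputable def P3_Ts6 : List (List Word) := List.map (flat C3c.ws6) [[], dw (nat_lit 0x02)] :: P3_Ts7
noncomputable def P3_Ts5 : List (List Word) := List.map (flat C3c.ws5) [[], dw (nat_lit 0x02), dw (nat_lit 0x04), dw (nat_lit 0x03), dw (nat_lit 0x06), dw (nat_lit 0x05), dw (nat_lit 0x0204), dw (nat_lit 0x0205)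
, dw (nat_lit 0x0208)] :: P3_Ts6
noncomputable def P3_Ts4 : List (List Word) := List.map (flat C3c.ws4) [[], dw (nat_lit 0x02), dw (nat_lit 0x01), dw (nat_lit 0x04), dw (nat_lit 0x03), dw (nat_lit 0x06), dw (nat_lit 0x05), dw (nat_lit 0x0204)
, dw (nat_lit 0x0203), dw (nat_lit 0x0206), dw (nat_lit 0x0205), dw (nat_lit 0x0208), dw (nat_lit 0x020a), dw (nat_lit 0x0209), dw (nat_lit 0x020e), dw (nat_lit 0x0104)
, dw (nat_lit 0x0106), dw (nat_lit 0x0105), dw (nat_lit 0x0402), dw (nat_lit 0x0401), dw (nat_lit 0x0406), dw (nat_lit 0x0405), dw (nat_lit 0x0408), dw (nat_lit 0x040a)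
, dw (nat_lit 0x0409), dw (nat_lit 0x040c), dw (nat_lit 0x0306), dw (nat_lit 0x0309), dw (nat_lit 0x0602), dw (nat_lit 0x0604), dw (nat_lit 0x0603), dw (nat_lit 0x0606)
, dw (nat_lit 0x060e), dw (nat_lit 0x0501), dw (nat_lit 0x0504), dw (nat_lit 0x0503), dw (nat_lit 0x020401), dw (nat_lit 0x020404), dw (nat_lit 0x020306), dw (nat_lit 0x020602)
, dw (nat_lit 0x020601), dw (nat_lit 0x020604), dw (nat_lit 0x020603), dw (nat_lit 0x020606), dw (nat_lit 0x020504), dw (nat_lit 0x020503), dw (nat_lit 0x020a06), dw (nat_lit 0x020901)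
, dw (nat_lit 0x020905), dw (nat_lit 0x010604), dw (nat_lit 0x010502), dw (nat_lit 0x040106), dw (nat_lit 0x040803), dw (nat_lit 0x03060e)] :: P3_Ts5
noncomputable def P3_Ts3 : List (List Word) := List.map (flat C3c.ws3) [[], dw (nat_lit 0x02), dw (nat_lit 0x01), dw (nat_lit 0x04), dw (nat_lit 0x0202), dw (nat_lit 0x0204), dw (nat_lit 0x0203), dw (nat_lit 0x0205)
, dw (nat_lit 0x0207), dw (nat_lit 0x020a), dw (nat_lit 0x020e), dw (nat_lit 0x020d), dw (nat_lit 0x0210), dw (nat_lit 0x0103), dw (nat_lit 0x0106), dw (nat_lit 0x0108)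
, dw (nat_lit 0x0109), dw (nat_lit 0x010e), dw (nat_lit 0x010d), dw (nat_lit 0x0402), dw (nat_lit 0x0406), dw (nat_lit 0x0408), dw (nat_lit 0x0407), dw (nat_lit 0x02020e)
, dw (nat_lit 0x020212), dw (nat_lit 0x020307), dw (nat_lit 0x020312), dw (nat_lit 0x020703), dw (nat_lit 0x020a04), dw (nat_lit 0x020d02)] :: P3_Ts4
theorem P3_cov7 : Cover P3.gen (sub P3.gen C3c.ws7) P3_Ts7 := Cover.nil
theorem P3_cov6 : Cover P3.gen (sub P3.gen C3c.ws6) P3_Ts6 :=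
  P3.cover_step (C3c.stab6 P3 P3_rels) (C3c.orb6 P3 P3_rels) (by decide +kernel) P3_cov7
theorem P3_cov5 : Cover P3.gen (sub P3.gen C3c.ws5) P3_Ts5 :=
  P3.cover_step (C3c.stab5 P3 P3_rels) (C3c.orb5 P3 P3_rels) (by decide +kernel) P3_cov6
theorem P3_cov4 : Cover P3.gen (sub P3.gen C3c.ws4) P3_Ts4 :=
  P3.cover_step (C3c.stab4 P3 P3_rels) (C3c.orb4 P3 P3_rels) (by decide +kernel) P3_cov5
theorem P3_cov3 : Cover P3.gen (sub P3.gen C3c.ws3) P3_Ts3 :=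
  P3.cover_step (C3c.stab3 P3 P3_rels) (C3c.orb3 P3 P3_rels) (by decide +kernel) P3_cov4
theorem P2_eq0 : ⊤ ⊓ P2.fixL [] = sub P2.gen C2c.ws0 := P2.inf_fixL_nil P2_top
theorem P2_eq1 : ⊤ ⊓ P2.fixL [0] = sub P2.gen C2c.ws1 :=
  P2.inf_fixL_cons P2_eq0 (C2c.stab0 P2 P2_rels)
theorem P2_eq2 : ⊤ ⊓ P2.fixL [1, 0] = sub P2.gen C2c.ws2 :=
  P2.inf_fixL_cons P2_eq1 (C2c.stab1 P2 P2_rels)
theorem P2_eq3 : ⊤ ⊓ P2.fixL [8, 1, 0] = sub P2.gen C2c.ws3 :=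
  P2.inf_fixL_cons P2_eq2 (C2c.stab2 P2 P2_rels)
theorem P2_eq4 : ⊤ ⊓ P2.fixL [2, 8, 1, 0] = sub P2.gen C2c.ws4 :=
  P2.inf_fixL_cons P2_eq3 (C2c.stab3 P2 P2_rels)
theorem P2_eq5 : ⊤ ⊓ P2.fixL [4, 2, 8, 1, 0] = sub P2.gen C2c.ws5 :=
  P2.inf_fixL_cons P2_eq4 (C2c.stab4 P2 P2_rels)
theorem P2_eq6 : ⊤ ⊓ P2.fixL [55, 4, 2, 8, 1, 0] = sub P2.gen C2c.ws6 :=
  P2.inf_fixL_cons P2_eq5 (C2c.stab5 P2 P2_rels)
theorem P2_eq7 : ⊤ ⊓ P2.fixL [3, 55, 4, 2, 8, 1, 0] = sub P2.gen C2c.ws7 :=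
  P2.inf_fixL_cons P2_eq6 (C2c.stab6 P2 P2_rels)
noncomputable def P2_Ts7 : List (List Word) := []
noncomputable def P2_Ts6 : List (List Word) := List.map (flat C2c.ws6) [[], dw (nat_lit 0x02), dw (nat_lit 0x01)] :: P2_Ts7
noncomputable def P2_Ts5 : List (List Word) := List.map (flat C2c.ws5) [[], dw (nat_lit 0x02), dw (nat_lit 0x04), dw (nat_lit 0x03), dw (nat_lit 0x06), dw (nat_lit 0x05), dw (nat_lit 0x08), dw (nat_lit 0x07)
, dw (nat_lit 0x0206), dw (nat_lit 0x0205), dw (nat_lit 0x0208), dw (nat_lit 0x0207), dw (nat_lit 0x0406), dw (nat_lit 0x0405), dw (nat_lit 0x0408), dw (nat_lit 0x0407)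
, dw (nat_lit 0x0306), dw (nat_lit 0x0305), dw (nat_lit 0x0308), dw (nat_lit 0x0307), dw (nat_lit 0x0604), dw (nat_lit 0x0608), dw (nat_lit 0x0607), dw (nat_lit 0x060a)
, dw (nat_lit 0x0503), dw (nat_lit 0x0508), dw (nat_lit 0x0507), dw (nat_lit 0x0803), dw (nat_lit 0x0805), dw (nat_lit 0x0809), dw (nat_lit 0x0704), dw (nat_lit 0x0706)
, dw (nat_lit 0x020608), dw (nat_lit 0x020607), dw (nat_lit 0x020508), dw (nat_lit 0x020507), dw (nat_lit 0x020805), dw (nat_lit 0x020706), dw (nat_lit 0x040604), dw (nat_lit 0x040608)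
, dw (nat_lit 0x040607), dw (nat_lit 0x040508), dw (nat_lit 0x040507), dw (nat_lit 0x040805), dw (nat_lit 0x040809), dw (nat_lit 0x040706), dw (nat_lit 0x030608), dw (nat_lit 0x030607)
, dw (nat_lit 0x030508), dw (nat_lit 0x030507), dw (nat_lit 0x030805), dw (nat_lit 0x030706), dw (nat_lit 0x060408), dw (nat_lit 0x060407), dw (nat_lit 0x060803), dw (nat_lit 0x060809)
, dw (nat_lit 0x060709), dw (nat_lit 0x060a07), dw (nat_lit 0x050308), dw (nat_lit 0x050307), dw (nat_lit 0x050704), dw (nat_lit 0x080306), dw (nat_lit 0x070405), dw (nat_lit 0x02060803)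
] :: P2_Ts6
noncomputable def P2_Ts4 : List (List Word) := List.map (flat C2c.ws4) [[], dw (nat_lit 0x02), dw (nat_lit 0x01), dw (nat_lit 0x06), dw (nat_lit 0x08), dw (nat_lit 0x07), dw (nat_lit 0x0202), dw (nat_lit 0x0208)
, dw (nat_lit 0x0207), dw (nat_lit 0x020b), dw (nat_lit 0x020d), dw (nat_lit 0x0105), dw (nat_lit 0x0108), dw (nat_lit 0x0107), dw (nat_lit 0x0608), dw (nat_lit 0x0607)
, dw (nat_lit 0x0802), dw (nat_lit 0x0805), dw (nat_lit 0x0808), dw (nat_lit 0x080b), dw (nat_lit 0x0810), dw (nat_lit 0x0702), dw (nat_lit 0x0704), dw (nat_lit 0x0706)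
, dw (nat_lit 0x0707), dw (nat_lit 0x020802), dw (nat_lit 0x020801), dw (nat_lit 0x020806), dw (nat_lit 0x020805), dw (nat_lit 0x02080d), dw (nat_lit 0x02070c), dw (nat_lit 0x010706)
] :: P2_Ts5
theorem P2_cov7 : Cover P2.gen (sub P2.gen C2c.ws7) P2_Ts7 := Cover.nil
theorem P2_cov6 : Cover P2.gen (sub P2.gen C2c.ws6) P2_Ts6 :=
  P2.cover_step (C2c.stab6 P2 P2_rels) (C2c.orb6 P2 P2_rels) (by decide +kernel) P2_cov7
theorem P2_cov5 : Cover P2.gen (sub P2.gen C2c.ws5) P2_Ts5 :=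
  P2.cover_step (C2c.stab5 P2 P2_rels) (C2c.orb5 P2 P2_rels) (by decide +kernel) P2_cov6
theorem P2_cov4 : Cover P2.gen (sub P2.gen C2c.ws4) P2_Ts4 :=
  P2.cover_step (C2c.stab4 P2 P2_rels) (C2c.orb4 P2 P2_rels) (by decide +kernel) P2_cov5

end H14
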