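import Cfsg.Agent.H14.CoS

/-! Generated certificate (toolsL) for the group CoS7 of degree 28 and order 147. -/
set_option Elab.async false
set_option autoImplicit false
set_option maxRecDepth 100000
set_option maxHeartbeats 0
set_option linter.unusedSectionVars false
set_option linter.unusedVariables false

namespace L.H14CoS7
open H14 Cfsg

universe u

noncomputable def n0 : Net := (.cons (nat_lit 1) (nat_lit 0x4501000)
(.cons (nat_lit 2) (nat_lit 0x200220)
(.cons (nat_lit 4) (nat_lit 0x20000)
(.cons (nat_lit 8) (nat_lit 0x80)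
(.cons (nat_lit 16) (nat_lit 0x80)
(.cons (nat_lit 8) (nat_lit 0x200a0)
(.cons (nat_lit 4) (nat_lit 0xa0208)
(.cons (nat_lit 2) (nat_lit 0x1320132)
(.cons (nat_lit 1) (nat_lit 0x1154115)
.nil)))))))))
theorem n0_ok : Net.ok 28 n0 = true := by decide +kernel
noncomputable def n1 : Net := (.cons (nat_lit 1) (nat_lit 0x4401000)
(.cons (nat_lit 2) (nat_lit 0x1033220)
(.cons (nat_lit 4) (nat_lit 0x40200)
(.cons (nat_lit 8) (nat_lit 0x20010)
(.cons (nat_lit 16) (nat_lit 0x210)
(.cons (nat_lit 8) (nat_lit 0x60030)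
(.cons (nat_lit 4) (nat_lit 0x50e08)
(.cons (nat_lit 2) (nat_lit 0x3203132)
(.cons (nat_lit 1) (nat_lit 0x1005415)
.nil)))))))))
theorem n1_ok : Net.ok 28 n1 = true := by decide +kernel
noncomputable def n2 : Net := (.cons (nat_lit 1) (nat_lit 0x140410)
(.cons (nat_lit 2) (nat_lit 0x20)
(.cons (nat_lit 4) (nat_lit 0xc0000)
(.cons (nat_lit 8) (nat_lit 0x80)
(.cons (nat_lit 16) (nat_lit 0x80)
(.cons (nat_lit 8) (nat_lit 0xc0080)
(.cons (nat_lit 4) (nat_lit 0xe020c)
(.cons (nat_lit 2) (nat_lit 0x3030132)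
(.cons (nat_lit 1) (nat_lit 0x4511004)
.nil)))))))))
theorem n2_ok : Net.ok 28 n2 = true := by decide +kernel
noncomputable def nets : List Net := [n0, n1, n2]
theorem nets_ok : netsOk 28 nets = true := List.all_eq_true.2 (fa_cons n0_ok (fa_cons n1_ok (fa_cons n2_ok (fa_nil))))
noncomputable def defs : List Word := []
noncomputable def R0 : List Nat := [nat_lit 0x82807e80808282828080808080827e82807e84827e807e80,
  nat_lit 0x7e80828080827e7e8080808480828282807e808282807e80,
  nat_lit 0x807e807e7e8080807e7e82827e80808082808280807e8482,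
  nat_lit 0x82807e807c827e7e80808080807e82828082807e7e807e80,
  nat_lit 0x808280827e808080827e7e828280807c82808280807e807e,
  nat_lit 0x828082808082827e8080808080827e828082807e8280827c,
  nat_lit 0x82807e80807e827e7c8080808082827e807e807e82807e80,
  nat_lit 0x8280828080827e82808480808082827e807e807e7e808280,
  nat_lit 0x807e7c8282808080828282827e80808082807e80807e807e,
  nat_lit 0x8082807e828080807e7e7e827e8080807e807e807c7e807e,
  nat_lit 0x82807e8080827e7e80808080807e7e7e7c7e808282808280,
  nat_lit 0x807e808282808080827e7e827e8080807e80827c80828082,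
  nat_lit 0x82808280807e7e8280808080807e7e82807e807e827c7e80,
  nat_lit 0x82807e80807e7e8280807c80808282828082808282808280,
  nat_lit 0x807e80827e8080847e7e8282828080807e807e808082807e,
  nat_lit 0x80828082828080807e828282828080807e848280807e8082,
  nat_lit 0x827c8280807e7e7e8080808080827e7e808280827e807e80,
  nat_lit 0x807e807e828080807e827e82827c8080828082808082807e,
  nat_lit 0x82808284807e827e80808080807e8282807e80827e808280,
  nat_lit 0x808280827e8080807e827e827e807c8082807e8080828082,
  nat_lit 0x8280828080828282808080807c7e827e8082808282807e80,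
  nat_lit 0x8082807e7e7c8080828282827e8080807e8082808082807e,
  nat_lit 0x807e807e7e80848082827e82828080807e807e80807e8082,
  nat_lit 0x7c7e80827e8080807e827e7e7e8080807e808280807e807e]
noncomputable def R1 : List Nat := [nat_lit 0x82807e8080827e82808080808082827e848280827e807e80,
  nat_lit 0x7e80828080827e7e8480808080828282807e808282807e80,
  nat_lit 0x807e807e7e808080827e827e7e80808082808280807e8482,
  nat_lit 0x8082808282808480827e82827e808080828082808082807e,
  nat_lit 0x8082807e82808080827e7e7e7e8080807e807e807c7e807e,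
  nat_lit 0x828082808082827e8080808084827e7e807e80827e808280,
  nat_lit 0x807e807e8280808082827e7e827c8080828082808082807e,
  nat_lit 0x7e807e80807e7e7e8080808080827e7e808280828280827c,
  nat_lit 0x847e80827e80808082827e827e8080807e808280807e807e,
  nat_lit 0x8082807e7e808080828282828280808082807e7c807e807e,
  nat_lit 0x7e807e8480827e7e80808080807e827e807e807e7e808280,
  nat_lit 0x808280827e80808082827e7e7e807c8082807e8080828082,
  nat_lit 0x80828082828080808282827e828080807e848280807e8082,
  nat_lit 0x808280827e8080807e7e7e7e8280808482808280807e807e,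
  nat_lit 0x8280828080827e7e807c8080807e7e7e8082807e82807e80,
  nat_lit 0x7e807e808082828280808080807e7e7e807e8082827c7e80,
  nat_lit 0x82807e80807e827e8080807c8082827e807e807e82807e80,
  nat_lit 0x7e808280807e7e828080808080827e7e807e847e7e807e80,
  nat_lit 0x82848280807e7e8280808080807e827e807e808282808280,
  nat_lit 0x807e80827e808084827e827e828080807e807e808082807e,
  nat_lit 0x7e8082807c7e827e80808080807e827e808280827e807e80,
  nat_lit 0x80827c7e7e808080827e7e82828080807e80828080828082,
  nat_lit 0x807e8082827c8080827e7e828280808082807e80807e8082,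
  nat_lit 0x7e8082808082828280807c808082827e8082807e82808280]
noncomputable def R2 : List Nat := [nat_lit 0x7e80827e808282808082827c808080808080828080807c80,
  nat_lit 0x807e80808280807e7e80807e82827e7e827e807e7e82827e,
  nat_lit 0x808280808280807e8280808282828282827e80827e7e7e7e,
  nat_lit 0x80828080828080827e80808282827e827e82807e7e827e82,
  nat_lit 0x7e8082827c7e828080827e808480808080807e8080808080,
  nat_lit 0x807e8080828080828280807e8282827e7e8280827e7e8282,
  nat_lit 0x8280827e807e82807c7e82808080848080807e8080808080,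
  nat_lit 0x80828080828080827e80807e827e7e8282828082827e827e,
  nat_lit 0x7e808282847e828080827e807c80808080807e8080808080,
  nat_lit 0x807e80808280807e7e808082827e7e7e7e7e8082827e7e82,
  nat_lit 0x82807e8280828280808282808080808080807e7c807c8080,
  nat_lit 0x82808282807e7e8080828280807c8080808082807c808080,
  nat_lit 0x7e80828280827e7c807e82808080808080847e8080808080,
  nat_lit 0x82808282807e7e8080828280808480808080828084808080,
  nat_lit 0x7e847e82807e8280807e82808080807c8080828080808080,
  nat_lit 0x808280808280807e8280807e827e82827e7e807e82828282,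
  nat_lit 0x7e807e7e807e7e80808282808080808084807e8080808084,
  nat_lit 0x7e7c7e82807e8280807e8280808080848080828080808080,
  nat_lit 0x7e807e7e807e7e8080828280808080807c807e808080807c,
  nat_lit 0x8280827e807e8280847e828080807c8080807e8080808080,
  nat_lit 0x82807e8280828280808282808080808080807e8480848080,
  nat_lit 0x807e80808280808282808082827e827e8282807e82827e7e,
  nat_lit 0x7e80828280827e84807e828080808080807c7e8080808080,
  nat_lit 0x7e80827e8082828080828284808080808080828080808480]
noncomputable def X : List Q := [⟨(nat_lit 0x8730cda),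
(nat_lit 0x38ca301),
(nat_lit 0xa9c2528),
(nat_lit 0xa9c2528)⟩,
⟨(nat_lit 0xa60944),
(nat_lit 0x24920b8),
(nat_lit 0x24920f6),
(nat_lit 0x24920b6)⟩,
⟨(nat_lit 0xa6097f),
(nat_lit 0x24920aa),
(nat_lit 0x2492085),
(nat_lit 0x249208d)⟩,
⟨(nat_lit 0x6852fd8),
(nat_lit 0x2720026),
(nat_lit 0x46a062a),
(nat_lit 0x46a062a)⟩,
⟨(nat_lit 0x8622310),
(nat_lit 0x39c4cf2),
(nat_lit 0xa8d0ae2),
(nat_lit 0xa8d0ae2)⟩,
⟨(nat_lit 0x4a920b4),
(nat_lit 0x6e60943),
(nat_lit 0x2460946),
(nat_lit 0x6460946)⟩,
⟨(nat_lit 0x18a2f82),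
(nat_lit 0x6e48071),
(nat_lit 0x3650670),
(nat_lit 0x3650670)⟩,
⟨(nat_lit 0x2491934),
(nat_lit 0xa639c3),
(nat_lit 0xa620c6),
(nat_lit 0xa630c6)⟩,
⟨(nat_lit 0x3930810),
(nat_lit 0x86cb572),
(nat_lit 0x17c21e2),
(nat_lit 0x17c21e2)⟩,
⟨(nat_lit 0x2c8c90),
(nat_lit 0xe932372),
(nat_lit 0x2c3a562),
(nat_lit 0x2c3a562)⟩,
⟨(nat_lit 0x8d505b0),
(nat_lit 0x62a7860),
(nat_lit 0xa3a2c42),
(nat_lit 0xa3a2c42)⟩,
⟨(nat_lit 0x1638aa0),
(nat_lit 0x2ae2956),
(nat_lit 0x38ca352),
(nat_lit 0x38ca352)⟩,
⟨(nat_lit 0xa839193),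
(nat_lit 0xee2a68),
(nat_lit 0x86cb861),
(nat_lit 0x86cb861)⟩,
⟨(nat_lit 0x33532d6),
(nat_lit 0x4ca4da0),
(nat_lit 0x1da1b24),
(nat_lit 0x1da1b24)⟩,
⟨(nat_lit 0x63611a0),
(nat_lit 0x8c8ea56),
(nat_lit 0x4d93852),
(nat_lit 0x4d93852)⟩,
⟨(nat_lit 0x1656513),
(nat_lit 0x2aa89e8),
(nat_lit 0x38a4ce1),
(nat_lit 0x38a4ce1)⟩,
⟨(nat_lit 0xc50182),
(nat_lit 0x8320c71),
(nat_lit 0x22a2870),
(nat_lit 0x22a2870)⟩,
⟨(nat_lit 0xbe4a802),
(nat_lit 0xf4371),
(nat_lit 0x90b81f0),
(nat_lit 0x90b81f0)⟩,
⟨(nat_lit 0x1c038f1),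
(nat_lit 0x27f8202),
(nat_lit 0x32f1103),
(nat_lit 0x32f1103)⟩,
⟨(nat_lit 0x8a57820),
(nat_lit 0x70a85d6),
(nat_lit 0xa4a51d2),
(nat_lit 0xa4a51d2)⟩,
⟨(nat_lit 0xa90943),
(nat_lit 0x24020b4),
(nat_lit 0x24660b1),
(nat_lit 0x24620b1)⟩,
⟨(nat_lit 0xbec41d8),
(nat_lit 0xb0c26),
(nat_lit 0x903682a),
(nat_lit 0x903682a)⟩,
⟨(nat_lit 0x4dc0a93),
(nat_lit 0x3272968),
(nat_lit 0x6332361),
(nat_lit 0x6332361)⟩,
⟨(nat_lit 0xa2008a6),
(nat_lit 0x2df9158),
(nat_lit 0x8cf2154),
(nat_lit 0x8cf2154)⟩]
noncomputable def ss : List (Nat × Nat) := [(0, 0x807e807e807e82827e80807e8080808082828280807e8082), (7, 0x8181817f7f817d817f8183818181817d7f81817f817f7f81), (14, 0x80807e847e8082807e828280808280808080808280808080), (21, 0x817f8181817f817f8381817f837f817f7f7f83817f818181)]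
noncomputable def xs : List Nat := [nat_lit 0x807e807e807e82827e80807e8080808082828280807e8082,
  nat_lit 0x81817f817f7f8181817f81817f7d7f7f7f817f7f7f837d81,
  nat_lit 0x7e8082828280808080827e80828080807e807e80827e7e80,
  nat_lit 0x82827e80808080808280808280808080808080807e7c827e,
  nat_lit 0x7f81817f7f817f7f817f81817f818383817f818381817f81,
  nat_lit 0x817f7f7f81817f7f7f817f7f81837f7f817f817f7f837f7d,
  nat_lit 0x8181817f7f817d817f8183818181817d7f81817f817f7f81,
  nat_lit 0x7f7f81817f7d7f8183817f817f817f7f83817f818181817f,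
  nat_lit 0x807e80808082828080827e827e808280807e807e7e808082,
  nat_lit 0x80808280828080827e808280807e7e82807e80827e80807e,
  nat_lit 0x81837f818181817f7f7f7f7f837f818183817f7f81818181,
  nat_lit 0x828080807e7e8080807e7e7e808280827c80808080808080,
  nat_lit 0x80807e847e8082807e828280808280808080808280808080,
  nat_lit 0x8280808082827e808282807e7e807e828082808080808082,
  nat_lit 0x7f7f7f81817f7f81817d818181817f81817d817d817f7f81,
  nat_lit 0x7f7f7f7d7f7f7f7f7f817f83837f7f817f817f817f818181,
  nat_lit 0x7f83817d817f83818181817f7f81817f7f7f7f7f8181817f,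
  nat_lit 0x7f8183817f7f7f7d7f7f7f7f7f7f817f8181817f7d7f7f7f,
  nat_lit 0x817f8181817f817f8381817f837f817f7f7f83817f818181,
  nat_lit 0x7f81817f7d838181817f7f7f81817d7f817f7f817f7f7f81,
  nat_lit 0x7f818181818181817f7f7f837f817f817f83837f8181817f,
  nat_lit 0x80827e80827e7e807e807e807e80807e807e808280808082,
  nat_lit 0x837f817f7f7f817d7f8181817f7f7f81817f7f7f837f7f7f,
  nat_lit 0x807e808082808080807e82808082828080827c807e808080]
noncomputable def xc : List Nat := [nat_lit 0x828181818080818180808182818282808082828080828081,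
  nat_lit 0x808280818281828181828080818281818280808080828181,
  nat_lit 0x808280818281828181828080818281818280828081808280,
  nat_lit 0x818080818282818280828181828080808080818080818182,
  nat_lit 0x828181818080808082818180828181808081808181818081,
  nat_lit 0x828280808280818282818080828182828180828281828080,
  nat_lit 0x828281808282818281808280828080808080808081818280,
  nat_lit 0x808180828182818282818080808181818180828281828080,
  nat_lit 0x818282828080818180808182808280818081808181818081,
  nat_lit 0x808081808182828280808281818282808082808181818081,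
  nat_lit 0x818182808081818081808281808082818282818281818181,
  nat_lit 0x808281828180828280818180818181828082828081808081,
  nat_lit 0x828082828181828280818180828081808282808280818282,
  nat_lit 0x828181828281818081808281808181808182818082808082,
  nat_lit 0x828281808082818080828181828081808282828081808081,
  nat_lit 0x808281828180828182818281828180828281808280818282,
  nat_lit 0x818181828280818280828181808282808181808081818280,
  nat_lit 0x828080808080828082828182828082818182808081818280,
  nat_lit 0x808281818082808080808081808082818280808082828180,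
  nat_lit 0x818181808280828182818281808081828181828081808081,
  nat_lit 0x808280818281818080818081818281818280818182818080,
  nat_lit 0x828080808080808182828081808282808181818080818182,
  nat_lit 0x818282818182808281818282818181828082808280818282,
  nat_lit 0x828282818180808080808081828180808281828080828281]
noncomputable def reach : List Word := [dw (nat_lit 0x01), dw (nat_lit 0x03), dw (nat_lit 0x05), dw (nat_lit 0x01), dw (nat_lit 0x01)]
noncomputable def TAn0 : Net := (.cons (nat_lit 1) (nat_lit 0x1)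
(.cons (nat_lit 2) (nat_lit 0x1)
.nil))
noncomputable def rkA_0 : Nat := (nat_lit 0x2)
noncomputable def TA : Tbl := ⟨nat_lit 3, nat_lit 2, [TAn0], nat_lit 1, [rkA_0]⟩
noncomputable def MA_0 : Nat := (nat_lit 0x1)
noncomputable def wsA : List Word := [dw (nat_lit 0x05)]
noncomputable def vsA : List Word := []
noncomputable def scA : List Nat := dw (nat_lit 0x0201)
noncomputable def rA_0 : Word := dw (nat_lit 0x010101)
noncomputable def skA : List (List Nat × Nat) := [(rA_0, MA_0)]
noncomputable def lvA : List (Word × Word) := lvRels [] wsA vsA 0 skA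
noncomputable def TBn0 : Net := (.cons (nat_lit 1) (nat_lit 0x540510104140)
(.cons (nat_lit 2) (nat_lit 0x310210220020)
(.cons (nat_lit 4) (nat_lit 0x50f010f0c00)
(.cons (nat_lit 8) (nat_lit 0x8800150000)
(.cons (nat_lit 16) (nat_lit 0xe8c6)
(.cons (nat_lit 32) (nat_lit 0x1f8c6)
(.cons (nat_lit 16) (nat_lit 0x100007e86)
(.cons (nat_lit 8) (nat_lit 0xd6001d005c)
(.cons (nat_lit 4) (nat_lit 0xc0f01010806)
(.cons (nat_lit 2) (nat_lit 0x320310313100)
(.cons (nat_lit 1) (nat_lit 0x105144140)
.nil)))))))))))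
noncomputable def TBn1 : Net := (.cons (nat_lit 1) (nat_lit 0x454405040444)
(.cons (nat_lit 2) (nat_lit 0x220112100000)
(.cons (nat_lit 4) (nat_lit 0xc09080a0e00)
(.cons (nat_lit 8) (nat_lit 0xf00430000)
(.cons (nat_lit 16) (nat_lit 0x100008b10)
(.cons (nat_lit 32) (nat_lit 0x18f10)
(.cons (nat_lit 16) (nat_lit 0x8450)
(.cons (nat_lit 8) (nat_lit 0x7d00b700f0)
(.cons (nat_lit 4) (nat_lit 0x205010e0b06)
(.cons (nat_lit 2) (nat_lit 0x123310231202)
(.cons (nat_lit 1) (nat_lit 0x5445014445)
.nil)))))))))))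
noncomputable def TBn2 : Net := (.cons (nat_lit 1) (nat_lit 0x540551011100)
(.cons (nat_lit 2) (nat_lit 0x31013201310)
(.cons (nat_lit 4) (nat_lit 0xc0105000500)
(.cons (nat_lit 8) (nat_lit 0x6500e70000)
(.cons (nat_lit 16) (nat_lit 0x10000e00c)
(.cons (nat_lit 32) (nat_lit 0x1e20c)
(.cons (nat_lit 16) (nat_lit 0xb6bc)
(.cons (nat_lit 8) (nat_lit 0x3f000f00ac)
(.cons (nat_lit 4) (nat_lit 0x7010e030b06)
(.cons (nat_lit 2) (nat_lit 0x322122013033)
(.cons (nat_lit 1) (nat_lit 0x100414144414)
.nil)))))))))))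
noncomputable def rkB_0 : Nat := (nat_lit 0xa61685a0a220)
noncomputable def rkB_1 : Nat := (nat_lit 0x57a800d80000142bff93fc3c0a144849f5e1a)
noncomputable def rkB_2 : Nat := (nat_lit 0x1dcc741d0c00111fe0f838888)
noncomputable def TB : Tbl := ⟨nat_lit 49, nat_lit 6, [TBn0, TBn1, TBn2], nat_lit 3, [rkB_0, rkB_1, rkB_2]⟩
noncomputable def MB_0 : Nat := (nat_lit 0x781e199e)
noncomputable def MB_1 : Nat := (nat_lit 0x108287a1d1551958862191557)
noncomputable def MB_2 : Nat := (nat_lit 0x10082020000004022a0291ed4200100141075)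
noncomputable def MB_3 : Nat := (nat_lit 0x127200060002920002b434014000015c1d)
noncomputable def wsB : List Word := [dw (nat_lit 0x05), dw (nat_lit 0x01), dw (nat_lit 0x03)]
noncomputable def vsB : List Word := [dw (nat_lit 0x01)]
noncomputable def scB : List Nat := dw (nat_lit 0x0201050201060205010402010502010602010503)
noncomputable def rB_0 : Word := dw (nat_lit 0x010101)
noncomputable def rB_1 : Word := dw (nat_lit 0x0602050501)
noncomputable def rB_2 : Word := dw (nat_lit 0x06040503)
noncomputable def rB_3 : Word := dw (nat_lit 0x0402030301)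
noncomputable def skB : List (List Nat × Nat) := [(rB_0, MB_0), (rB_1, MB_1), (rB_2, MB_2), (rB_3, MB_3)]
noncomputable def lvB : List (Word × Word) := lvRels wsA wsB vsB 1 skB
noncomputable def chB : Lv := (.cons (nat_lit 0) [dw (nat_lit 0x03)] [dw (nat_lit 0x01), dw (nat_lit 0x0101), dw (nat_lit 0x05), dw (nat_lit 0x01)]
(.cons (nat_lit 7) [dw (nat_lit 0x0603)] [dw (nat_lit 0x01), dw (nat_lit 0x03), dw (nat_lit 0x03), dw (nat_lit 0x01), dw (nat_lit 0x03)]
(.cons (nat_lit 1) [dw (nat_lit 0x01)] [dw (nat_lit 0x01), dw (nat_lit 0x01)]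
.nil)))
noncomputable def CW : List (Word × Word × Nat) := []
noncomputable def l7 : List (Word × Word) := pairs CW
noncomputable def lbB_m7_0 : Nat := (nat_lit 0)
noncomputable def lbB_m7_1 : Nat := (nat_lit 0x2511cbc29a220563858d711102a43d0f47110)
noncomputable def lbB_m7_2 : Nat := (nat_lit 0)
noncomputable def BB_m7 : Lab := ⟨nat_lit 7, nat_lit 1, nat_lit 3, [lbB_m7_0, lbB_m7_1, lbB_m7_2]⟩
noncomputable def itsB_m7_0 : List It := [⟨rB_0, MB_0, nat_lit 0, []⟩,
  ⟨rB_1, MB_1, nat_lit 1, []⟩,
  ⟨rB_2, MB_2, nat_lit 2, [(nat_lit 7, [nat_lit 5])]⟩,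
  ⟨rB_3, MB_3, nat_lit 1, []⟩]
noncomputable def itsB_m7 : List It := itsB_m7_0
noncomputable def tgB_m7 : Tg := ⟨[(nat_lit 1, rB_3, nat_lit 1), (nat_lit 2, rB_1, nat_lit 1)], [], [rB_2], [[nat_lit 2]]⟩
theorem co0 : coChk R0 = true := by decide +kernel
theorem lf0 : H14.lfChk 28 n0 R0 X = true := by decide +kernel
theorem co1 : coChk R1 = true := by decide +kernel
theorem lf1 : H14.lfChk 28 n1 R1 X = true := by decide +kernel
theorem co2 : coChk R2 = true := by decide +kernel
theorem lf2 : H14.lfChk 28 n2 R2 X = true := by decide +kernel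
theorem seed_ok : seedChk 28 X ss = true := by decide +kernel
theorem span_ok : spanB 28 X [0, 1, 2, 3, 4, 5, 7, 8, 9, 10, 11, 12, 14, 15, 16, 17, 18, 19, 21, 22, 23, 24, 25, 26] xs xc = true := by decide +kernel
theorem reach_ok : subs (full 28) (orbRun nets (lets 3) reach (bits (List.map Prod.fst ss))) = true := by decide +kernel
theorem skcA : TA.skelChk 1 0 scA skA = true := by decide +kernel
theorem rcA : relsChk 28 nets 5 (idArr 28 5 5 0) lvA = true := by decide +kernel
theorem skcB : TB.skelChk 3 1 scB skB = true := by decide +kernel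
theorem rcB : relsChk 28 nets 5 (idArr 28 5 5 0) lvB = true := by decide +kernel
theorem chcB : Nat.ble 147 ((chB.sbst wsB).val 28 nets) = true := by decide +kernel
theorem icB_m7_0 : allL (TB.itChk BB_m7) itsB_m7_0 = true := by decide +kernel
theorem lcB_m7 : labChk TB 1 BB_m7 tgB_m7 itsB_m7 = true := by decide +kernel
theorem dc : relsChk 28 nets 5 (idArr 28 5 5 0) (defRels defs 3) = true := by decide +kernel
theorem skelA : TA.Skel 1 0 scA skA := Tbl.skel_of_chk skcA
theorem skelB : TB.Skel 3 1 scB skB := Tbl.skel_of_chk skcB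
section
variable {G : Type u} {Ω : Type*} [Group G] [MulAction G Ω] [FaithfulSMul G Ω] (M : PM G Ω 28 nets)

theorem RA : Rels M.gen lvA := (M.rels_of_idArr (by decide) rcA)
theorem UA : FinLe (sub M.gen wsA) 3 := finLe_level skelA (RA M) (finLe_nil _) (by decide +kernel)
theorem RB : Rels M.gen lvB := (M.rels_of_idArr (by decide) rcB)
theorem UB : FinLe (sub M.gen wsB) 147 := finLe_level skelB (RB M) (UA M) (by decide +kernel)
theorem LB  : 147 ≤ Nat.card (sub M.gen wsB) := low_of_lv M (UB M) chcB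
theorem LA  : 3 ≤ Nat.card (sub M.gen wsA) := le_level skelB (RB M) (UA M) (LB M) (by decide +kernel)
theorem SA_m7  : SecAll M.gen 7 l7 wsA := secAll_bottom (UA M) (LA M) (by decide +kernel)
theorem SB_m7 : SecAll M.gen 7 l7 wsB :=
  secAll_level (T := TB) (ws := wsB) (wsH := wsA) (k := 1) (sched := scB) (B := BB_m7) (its := itsB_m7) (t := tgB_m7) (vs := vsB) skelB icB_m7_0 lcB_m7 (RB M)
    (UA M) (LB M) (by decide +kernel) (by decide +kernel) (SA_m7 M)
theorem T7_0  : SecAll M.gen 7 l7 wsB := SB_m7 M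
theorem T7  : SecAll M.gen 7 [] wsB := T7_0 M
theorem Rdefs : Rels M.gen (defRels defs 3) := (M.rels_of_idArr (by decide) dc)
end

section
variable {G : Type u} {Ω : Type*} [Group G] [MulAction G Ω]

noncomputable def mach (E : Enc Ω 28) (hr : ∀ l < 3, ∃ g : G, E.Real (getL Net.nil nets l) g) : PM G Ω 28 nets :=
  PM.ofReal G E (by decide) nets_ok (real_of_slp E (by decide) (by decide) nets_ok hr (ds := defs) (by decide +kernel) (by decide +kernel)
    (Rdefs (permPM 28 nets (by decide) (by decide) nets_ok)))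
end

theorem sec (gen : ℕ → Co0) : SecTop gen 7 [] := by
  obtain ⟨H, T, _, E, hr⟩ := exists_enc (by norm_num) (by norm_num) nets_ok (by decide +kernel) reach_ok seed_ok
    (fun l hl => by interval_cases l; exacts [⟨_, co0, lf0⟩, ⟨_, co1, lf1⟩, ⟨_, co2, lf2⟩]) span_ok
  exact secTop_sub card_Co0 (UB (mach E hr)) (LB (mach E hr)) (by decide +kernel) (T7 (mach E hr)) gen

end L.H14CoS7
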