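import Cfsg.Agent.H14.Design2
import Cfsg.Agent.S0358

/-! Uniqueness of the binary Golay code. -/

set_option autoImplicit false
set_option maxRecDepth 100000
open Cfsg Finset

namespace H14

section
variable {α : Type*} [Fintype α] [DecidableEq α]

omit [DecidableEq α] in
theorem mem_support₂ {w : α → ZMod 2} {i : α} : i ∈ support₂ w ↔ w i ≠ 0 := by simp [support₂]

theorem hn_eq (w : α → ZMod 2) : hammingNorm w = (support₂ w).card := by
  rw [hammingNorm, support₂]

theorem support₂_sub (u v : α → ZMod 2) : support₂ (u - v) = symmDiff (support₂ u) (support₂ v) := by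
  ext i
  simp only [mem_support₂, mem_symmDiff, Pi.sub_apply]
  generalize u i = a; generalize v i = b
  revert a b; decide

theorem dot_eq_card (v w : α → ZMod 2) : ∑ i, v i * w i = ((support₂ v ∩ support₂ w).card : ZMod 2) := by
  rw [card_eq_sum_ones, Nat.cast_sum, ← sum_subset (subset_univ _)]
  · refine sum_congr rfl fun i hi => ?_
    simp only [mem_support₂, mem_inter] at hi
    rw [(zmod2_cases _).resolve_left hi.1, (zmod2_cases _).resolve_left hi.2]; rfl
  · intro i _ hi
    simp only [mem_support₂, mem_inter, not_and_or, not_not] at hi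
    rcases hi with hi | hi <;> simp [hi]

theorem support₂_surj : Function.Surjective (support₂ : (α → ZMod 2) → Finset α) := fun s =>
  ⟨fun i => if i ∈ s then 1 else 0, by ext i; simp [mem_support₂]⟩

theorem hn_sub (u v : α → ZMod 2) : hammingNorm (u - v) + 2 * (support₂ u ∩ support₂ v).card =
    hammingNorm u + hammingNorm v := by
  rw [hn_eq, hn_eq, hn_eq, support₂_sub, card_symmDiff_add]
end

variable {C : Submodule (ZMod 2) (Fin 24 → ZMod 2)}

/-- The short words of a coset. -/
def shortW (C : Submodule (ZMod 2) (Fin 24 → ZMod 2)) (w : Fin 24 → ZMod 2) : Set (Fin 24 → ZMod 2) :=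
  {u | u - w ∈ C ∧ hammingNorm u ≤ 4}

theorem shortW_le (hmin : ∀ w ∈ C, w ≠ 0 → 8 ≤ hammingNorm w) {w u v : Fin 24 → ZMod 2}
    (hu : u ∈ shortW C w) (hv : v ∈ shortW C w) (h : u ≠ v) :
    hammingNorm u = 4 ∧ Disjoint (support₂ u) (support₂ v) := by
  have h1 := hmin (u - v) (by simpa using C.sub_mem hu.1 hv.1) (sub_ne_zero.2 h)
  have h2 := hn_sub u v
  have h3 := hu.2
  have h4 := hv.2
  exact ⟨by omega, disjoint_iff_inter_eq_empty.2 (card_eq_zero.1 (by omega))⟩

theorem coset_dichotomy (hdim : Module.finrank (ZMod 2) C = 12)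
    (hmin : ∀ w ∈ C, w ≠ 0 → 8 ≤ hammingNorm w) (w : Fin 24 → ZMod 2) :
    (∃ u, shortW C w = {u} ∧ hammingNorm u ≤ 3) ∨
      ((shortW C w).ncard = 6 ∧ ∀ u ∈ shortW C w, hammingNorm u = 4) := by
  classical
  let ω : ℕ → ℕ := fun n => if n ≤ 3 then 6 else if n = 4 then 1 else 0
  let F : ((Fin 24 → ZMod 2) ⧸ C) → ℕ := fun q =>
    ∑ u ∈ univ.filter (fun u => Submodule.Quotient.mk (p := C) u = q), ω (hammingNorm u)
  have key : ∀ w, (∃ u, shortW C w = {u} ∧ hammingNorm u ≤ 3 ∧ F (Submodule.Quotient.mk w) = 6) ∨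
      ((shortW C w).ncard = F (Submodule.Quotient.mk w) ∧ F (Submodule.Quotient.mk w) ≤ 6 ∧
        ∀ u ∈ shortW C w, hammingNorm u = 4) := by
    intro w
    have e : F (Submodule.Quotient.mk w) = ∑ u ∈ (shortW C w).toFinset, ω (hammingNorm u) := by
      refine (sum_subset (fun u hu => ?_) fun u hu hu' => ?_).symm
      · exact mem_filter.2 ⟨mem_univ _, (Submodule.Quotient.eq _).2 (Set.mem_toFinset.1 hu).1⟩
      · have : ¬ hammingNorm u ≤ 4 := fun h =>
          hu' (Set.mem_toFinset.2 ⟨(Submodule.Quotient.eq _).1 (mem_filter.1 hu).2, h⟩)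
        simp only [ω]
        rw [if_neg (by omega), if_neg (by omega)]
    by_cases h : ∃ u ∈ shortW C w, hammingNorm u ≤ 3
    · obtain ⟨u, hu, h⟩ := h
      have h1 : shortW C w = {u} := Set.eq_singleton_iff_unique_mem.2 ⟨hu, fun v hv => by
        by_contra ne
        have := (shortW_le hmin hu hv (Ne.symm ne)).1
        omega⟩
      refine .inl ⟨u, h1, h, ?_⟩
      simp only [e, h1, Set.toFinset_singleton, sum_singleton, ω, if_pos h]
    · have h4 : ∀ u ∈ shortW C w, hammingNorm u = 4 := fun u hu => by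
        have := hu.2
        have : ¬ hammingNorm u ≤ 3 := fun h' => h ⟨u, hu, h'⟩
        omega
      have h5 : F (Submodule.Quotient.mk w) = (shortW C w).toFinset.card := by
        rw [e, card_eq_sum_ones]
        exact sum_congr rfl fun u hu => by rw [h4 u (Set.mem_toFinset.1 hu)]; rfl
      refine .inr ⟨by rw [h5, Set.ncard_eq_toFinset_card'], ?_, h4⟩
      have h6 := card_le_univ ((shortW C w).toFinset.biUnion support₂)
      rw [card_biUnion fun u hu v hv ne => (shortW_le hmin (by simpa using hu) (by simpa using hv) ne).2,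
        sum_congr rfl (g := fun _ => 4) fun u hu => by rw [← hn_eq, h4 u (Set.mem_toFinset.1 hu)],
        sum_const, Fintype.card_fin, smul_eq_mul] at h6
      omega
  have : Fintype ((Fin 24 → ZMod 2) ⧸ C) := Fintype.ofFinite _
  have h1 : ∑ q, F q = 24576 := by
    rw [show ∑ q, F q = ∑ u, ω (hammingNorm u) by
      convert sum_fiberwise univ (Submodule.Quotient.mk (p := C)) fun u => ω (hammingNorm u), Fintype.sum_bijective support₂ ⟨support₂_inj, support₂_surj⟩ _
      (fun s => ω s.card) fun u => by rw [hn_eq], ← powerset_univ, sum_powerset_apply_card ω]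
    decide +kernel
  have h2 : Fintype.card ((Fin 24 → ZMod 2) ⧸ C) = 4096 := by
    have h3 := Submodule.card_eq_card_quotient_mul_card C
    rw [Module.natCard_eq_pow_finrank (K := ZMod 2) (V := C), hdim, Nat.card_fun, Nat.card_zmod,
      Nat.card_fin, Nat.card_eq_fintype_card] at h3
    omega
  have h3 := (sum_eq_sum_iff_of_le (s := univ) (f := F) (g := fun _ => 6) fun q _ => by
    obtain ⟨w, rfl⟩ := Submodule.Quotient.mk_surjective C q
    rcases key w with ⟨_, -, -, h⟩ | h
    · exact h.le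
    · exact h.2.1).1 (by rw [h1, sum_const, card_univ, h2]; rfl) (Submodule.Quotient.mk w) (mem_univ _)
  rcases key w with ⟨u, h4, h5, -⟩ | h
  · exact .inl ⟨u, h4, h5⟩
  · exact .inr ⟨h.1.trans h3, h.2.2⟩

theorem code_steiner (hdim : Module.finrank (ZMod 2) C = 12)
    (horth : ∀ v ∈ C, ∀ w ∈ C, ∑ i, v i * w i = 0) (hmin : ∀ w ∈ C, w ≠ 0 → 8 ≤ hammingNorm w) :
    IsSteinerSystem 5 8 (wordsOfWeight (C : Set (Fin 24 → ZMod 2)) 8) := by
  refine ⟨fun _ h => h.2, fun T hT => existsUnique_of_exists_of_unique ?_ ?_⟩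
  · obtain ⟨w, rfl⟩ := support₂_surj T
    obtain ⟨u, hu⟩ : (shortW C w).Nonempty := by
      rcases coset_dichotomy hdim hmin w with ⟨u, h, -⟩ | h
      · exact h ▸ Set.singleton_nonempty u
      · exact Set.nonempty_of_ncard_ne_zero (by omega)
    have h1 := hn_sub u w
    have h2 := hu.2
    rw [← hn_eq] at hT
    have h3 := hmin _ hu.1 (sub_ne_zero.2 (by rintro rfl; omega))
    have h4 := horth _ hu.1 _ hu.1
    rw [dot_eq_card, inter_self, ZMod.natCast_eq_zero_iff, ← hn_eq] at h4
    refine ⟨support₂ (u - w), ⟨⟨_, hu.1, rfl⟩, by rw [← hn_eq]; omega⟩, ?_⟩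
    rw [support₂_sub, (disjoint_iff_inter_eq_empty.2 (card_eq_zero.1 (by omega))).symmDiff_eq_sup]
    exact subset_union_right
  · rintro _ _ ⟨⟨⟨u, hu, rfl⟩, h1⟩, h2⟩ ⟨⟨⟨v, hv, rfl⟩, h3⟩, h4⟩
    by_contra ne
    have h5 := hmin _ (C.sub_mem hu hv) (sub_ne_zero.2 (by rintro rfl; exact ne rfl))
    have h6 := hn_sub u v
    have h7 := card_le_card (subset_inter h2 h4)
    rw [← hn_eq] at h1 h3
    omega

theorem code_equiv (hdim : Module.finrank (ZMod 2) C = 12)
    (horth : ∀ v ∈ C, ∀ w ∈ C, ∑ i, v i * w i = 0) (hmin : ∀ w ∈ C, w ≠ 0 → 8 ≤ hammingNorm w) :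
    ∃ e : Fin 24 ≃ GolayPt, (∀ w : GolayPt → ZMod 2, w ∈ golayCode ↔ (fun i => w (e i)) ∈ C) ∧
      ∀ w : GolayPt → ZMod 2, hammingNorm (fun i => w (e i)) = hammingNorm w := by
  obtain ⟨f, hf⟩ := mod24 (Fintype.card_fin 24) (code_steiner hdim horth hmin)
  let e : Fin 24 ≃ GolayPt := Equiv.ofBijective f ⟨f.injective, fun p => (hf.rng p).1
    (show p ∈ bset (full 24) from bset_full ▸ mem_univ p)⟩
  let L := LinearEquiv.funCongrLeft (ZMod 2) (ZMod 2) e
  have h0 : ∀ w : GolayPt → ZMod 2, (support₂ fun i => w (e i)).map f = support₂ w := fun w => by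
    ext p
    obtain ⟨i, rfl⟩ := e.surjective p
    exact (mem_map' f).trans (mem_support₂.trans mem_support₂.symm)
  have h1 : golayCode.map L.toLinearMap ≤ C := by
    rintro _ ⟨w, hw, rfl⟩
    obtain ⟨m, hm, rfl⟩ := mem_golayCode.1 hw
    refine hm.induction (P := fun m => L (bword m) ∈ C) (by rw [bword_zero, map_zero]; exact C.zero_mem)
      (fun a b ha hb => by rw [bword_xor, map_add]; exact C.add_mem ha hb) fun b hb => ?_
    obtain ⟨⟨u, hu, e1⟩, -⟩ := (hf.mem (support₂ fun i => bword b (e i))).2 (by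
      rw [h0, support_bword]
      exact oct_mem _ (List.all_eq_true.1 (show gB.all oct = true by decide +kernel) b hb))
    exact (show u = L (bword b) from support₂_inj e1) ▸ hu
  have h2 : golayCode.map L.toLinearMap = C := Submodule.eq_of_le_of_finrank_eq h1
    (by rw [LinearEquiv.finrank_map_eq, hdim, Cfsg.Agent.S0358.result])
  refine ⟨e, fun w => ?_, fun w => by rw [hn_eq, hn_eq, ← h0, card_map]⟩
  rw [← h2]
  exact ⟨fun h => ⟨w, h, rfl⟩, fun ⟨v, hv, e1⟩ => (L.injective e1 : v = w) ▸ hv⟩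

end H14
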