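import Cfsg.Agent.H14.Dw2

/-! Generated certificate (tools14/pkgen) for the permutation group M24e of degree 24, order 244823040, base 0 1 2 3 4 5 6. -/
set_option autoImplicit false
set_option maxRecDepth 100000
set_option maxHeartbeats 0

namespace H14.M24e
open H14

noncomputable def n0 : Net := (.cons (nat_lit 1) (nat_lit 0x140)
(.cons (nat_lit 2) (nat_lit 0x301100)
(.cons (nat_lit 4) (nat_lit 0x70000)
(.cons (nat_lit 8) (nat_lit 0xa)
(.cons (nat_lit 16) (nat_lit 0x5b)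
(.cons (nat_lit 8) (nat_lit 0xb4)
(.cons (nat_lit 4) (nat_lit 0x90e00)
(.cons (nat_lit 2) (nat_lit 0x312301)
(.cons (nat_lit 1) (nat_lit 0x444551)
.nil)))))))))
theorem n0_ok : Net.ok 24 n0 = true := by decide +kernel
noncomputable def n1 : Net := (.cons (nat_lit 1) (nat_lit 0x44114)
(.cons (nat_lit 2) (nat_lit 0x2120)
(.cons (nat_lit 4) (nat_lit 0x500)
(.cons (nat_lit 8) (nat_lit 0x6)
(.cons (nat_lit 16) (nat_lit 0x87)
(.cons (nat_lit 8) (nat_lit 0x76)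
(.cons (nat_lit 4) (nat_lit 0x7050c)
(.cons (nat_lit 2) (nat_lit 0x333313)
(.cons (nat_lit 1) (nat_lit 0x545555)
.nil)))))))))
theorem n1_ok : Net.ok 24 n1 = true := by decide +kernel
noncomputable def n2 : Net := (.cons (nat_lit 1) (nat_lit 0x400000)
(.cons (nat_lit 8) (nat_lit 0x80)
(.cons (nat_lit 16) (nat_lit 0x80)
(.cons (nat_lit 4) (nat_lit 0x80808)
(.cons (nat_lit 2) (nat_lit 0x222222)
(.cons (nat_lit 1) (nat_lit 0x555555)
.nil))))))
theorem n2_ok : Net.ok 24 n2 = true := by decide +kernel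
noncomputable def n3 : Net := (.cons (nat_lit 1) (nat_lit 0x410400)
(.cons (nat_lit 2) (nat_lit 0x213300)
(.cons (nat_lit 4) (nat_lit 0xa0100)
(.cons (nat_lit 8) (nat_lit 0x90)
(.cons (nat_lit 16) (nat_lit 0x9e)
(.cons (nat_lit 8) (nat_lit 0x86)
(.cons (nat_lit 4) (nat_lit 0xe020c)
(.cons (nat_lit 2) (nat_lit 0x232022)
(.cons (nat_lit 1) (nat_lit 0x444150)
.nil)))))))))
theorem n3_ok : Net.ok 24 n3 = true := by decide +kernel
noncomputable def n4 : Net := (.cons (nat_lit 1) (nat_lit 0x104050)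
(.cons (nat_lit 2) (nat_lit 0x13020)
(.cons (nat_lit 4) (nat_lit 0x20900)
(.cons (nat_lit 8) (nat_lit 0x34)
(.cons (nat_lit 16) (nat_lit 0x34)
(.cons (nat_lit 8) (nat_lit 0x48)
(.cons (nat_lit 4) (nat_lit 0x40c00)
(.cons (nat_lit 2) (nat_lit 0x32030)
(.cons (nat_lit 1) (nat_lit 0x111500)
.nil)))))))))
theorem n4_ok : Net.ok 24 n4 = true := by decide +kernel
noncomputable def n5 : Net := (.cons (nat_lit 1) (nat_lit 0x440)
(.cons (nat_lit 2) (nat_lit 0x12330)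
(.cons (nat_lit 4) (nat_lit 0xe0a00)
(.cons (nat_lit 8) (nat_lit 0x60)
(.cons (nat_lit 16) (nat_lit 0xe0)
(.cons (nat_lit 8) (nat_lit 0x84)
(.cons (nat_lit 4) (nat_lit 0xc0608)
(.cons (nat_lit 2) (nat_lit 0x323020)
(.cons (nat_lit 1) (nat_lit 0x400500)
.nil)))))))))
theorem n5_ok : Net.ok 24 n5 = true := by decide +kernel
noncomputable def n6 : Net := (.cons (nat_lit 1) (nat_lit 0x401400)
(.cons (nat_lit 2) (nat_lit 0x100120)
(.cons (nat_lit 4) (nat_lit 0x70b00)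
(.cons (nat_lit 8) (nat_lit 0x87)
(.cons (nat_lit 16) (nat_lit 0xef)
(.cons (nat_lit 8) (nat_lit 0x97)
(.cons (nat_lit 4) (nat_lit 0xa0e08)
(.cons (nat_lit 2) (nat_lit 0x112320)
(.cons (nat_lit 1) (nat_lit 0x500550)
.nil)))))))))
theorem n6_ok : Net.ok 24 n6 = true := by decide +kernel
noncomputable def n7 : Net := (.cons (nat_lit 1) (nat_lit 0x44500)
(.cons (nat_lit 2) (nat_lit 0x30100)
(.cons (nat_lit 4) (nat_lit 0x40700)
(.cons (nat_lit 8) (nat_lit 0x41)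
(.cons (nat_lit 16) (nat_lit 0xc1)
(.cons (nat_lit 8) (nat_lit 0xb1)
(.cons (nat_lit 4) (nat_lit 0x80b00)
(.cons (nat_lit 2) (nat_lit 0x30200)
(.cons (nat_lit 1) (nat_lit 0x450050)
.nil)))))))))
theorem n7_ok : Net.ok 24 n7 = true := by decide +kernel
noncomputable def n8 : Net := (.cons (nat_lit 1) (nat_lit 0x450000)
(.cons (nat_lit 2) (nat_lit 0x133200)
(.cons (nat_lit 4) (nat_lit 0x20500)
(.cons (nat_lit 8) (nat_lit 0x16)
(.cons (nat_lit 16) (nat_lit 0xf6)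
(.cons (nat_lit 8) (nat_lit 0xc6)
(.cons (nat_lit 4) (nat_lit 0xc0800)
(.cons (nat_lit 2) (nat_lit 0x231230)
(.cons (nat_lit 1) (nat_lit 0x500510)
.nil)))))))))
theorem n8_ok : Net.ok 24 n8 = true := by decide +kernel
noncomputable def n9 : Net := (.cons (nat_lit 1) (nat_lit 0x101400)
(.cons (nat_lit 2) (nat_lit 0x232100)
(.cons (nat_lit 4) (nat_lit 0x50a00)
(.cons (nat_lit 8) (nat_lit 0x6)
(.cons (nat_lit 16) (nat_lit 0x96)
(.cons (nat_lit 8) (nat_lit 0xb6)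
(.cons (nat_lit 4) (nat_lit 0x70b00)
(.cons (nat_lit 2) (nat_lit 0x100030)
(.cons (nat_lit 1) (nat_lit 0x114100)
.nil)))))))))
theorem n9_ok : Net.ok 24 n9 = true := by decide +kernel
noncomputable def n10 : Net := (.cons (nat_lit 1) (nat_lit 0x555040)
(.cons (nat_lit 2) (nat_lit 0x330200)
(.cons (nat_lit 4) (nat_lit 0x80c00)
(.cons (nat_lit 8) (nat_lit 0x1d)
(.cons (nat_lit 16) (nat_lit 0x9d)
(.cons (nat_lit 8) (nat_lit 0x5d)
(.cons (nat_lit 4) (nat_lit 0xb0b00)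
(.cons (nat_lit 2) (nat_lit 0x133220)
(.cons (nat_lit 1) (nat_lit 0x510540)
.nil)))))))))
theorem n10_ok : Net.ok 24 n10 = true := by decide +kernel
noncomputable def n11 : Net := (.cons (nat_lit 1) (nat_lit 0x50140)
(.cons (nat_lit 2) (nat_lit 0x112200)
(.cons (nat_lit 4) (nat_lit 0x40400)
(.cons (nat_lit 8) (nat_lit 0x8d)
(.cons (nat_lit 16) (nat_lit 0xad)
(.cons (nat_lit 8) (nat_lit 0xcd)
(.cons (nat_lit 4) (nat_lit 0x300)
(.cons (nat_lit 2) (nat_lit 0x103120)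
(.cons (nat_lit 1) (nat_lit 0x414140)
.nil)))))))))
theorem n11_ok : Net.ok 24 n11 = true := by decide +kernel
noncomputable def n12 : Net := (.cons (nat_lit 1) (nat_lit 0x544140)
(.cons (nat_lit 2) (nat_lit 0x3000)
(.cons (nat_lit 4) (nat_lit 0xc00)
(.cons (nat_lit 8) (nat_lit 0x31)
(.cons (nat_lit 16) (nat_lit 0x31)
(.cons (nat_lit 8) (nat_lit 0xd1)
(.cons (nat_lit 4) (nat_lit 0x90100)
(.cons (nat_lit 2) (nat_lit 0x131020)
(.cons (nat_lit 1) (nat_lit 0x544140)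
.nil)))))))))
theorem n12_ok : Net.ok 24 n12 = true := by decide +kernel
noncomputable def n13 : Net := (.cons (nat_lit 1) (nat_lit 0x505400)
(.cons (nat_lit 2) (nat_lit 0x111000)
(.cons (nat_lit 4) (nat_lit 0x60800)
(.cons (nat_lit 8) (nat_lit 0x1a)
(.cons (nat_lit 16) (nat_lit 0x5a)
(.cons (nat_lit 8) (nat_lit 0x9a)
(.cons (nat_lit 4) (nat_lit 0x600)
(.cons (nat_lit 2) (nat_lit 0x333300)
(.cons (nat_lit 1) (nat_lit 0x141400)
.nil)))))))))
theorem n13_ok : Net.ok 24 n13 = true := by decide +kernel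
noncomputable def nets : List Net := [n0, n1, n2, n3, n4, n5, n6, n7, n8, n9, n10, n11, n12, n13]
theorem nets_ok : netsOk 24 nets = true := List.all_eq_true.2 (fa_cons n0_ok (fa_cons n1_ok (fa_cons n2_ok (fa_cons n3_ok (fa_cons n4_ok (fa_cons n5_ok (fa_cons n6_ok (fa_cons n7_ok (fa_cons n8_ok (fa_cons n9_ok (fa_cons n10_ok (fa_cons n11_ok (fa_cons n12_ok (fa_cons n13_ok (fa_nil)))))))))))))))
noncomputable def ws7 : List Word := []
noncomputable def lev6 : Level := ⟨nat_lit 6,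
[⟨[nat_lit 26], [], [],
[⟨nat_lit 0, [], nat_lit 1, [], []⟩,
⟨nat_lit 1, [], nat_lit 2, [], []⟩,
⟨nat_lit 2, [], nat_lit 0, [], []⟩],
[]⟩],
[⟨dw (nat_lit 0x01), (nat_lit 0x200000), [], .nil, []⟩,
⟨dw (nat_lit 0x02), (nat_lit 0x10000), [], .nil, []⟩]⟩
noncomputable def ex6 : List Word := []
noncomputable def ws6 : List Word := List.append ex6 (lev6.gens ws7)
noncomputable def rels6 : List (Word × Word) := List.append (lev6.rels ws7) (memRels (lev6.gens ws7) ex6 [])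
noncomputable def lev5 : Level := ⟨nat_lit 5,
[⟨[nat_lit 20], [], [],
[⟨nat_lit 0, [], nat_lit 1, [], []⟩,
⟨nat_lit 1, [], nat_lit 1, dw (nat_lit 0x02), dw (nat_lit 0x02)⟩,
⟨nat_lit 2, [], nat_lit 5, dw (nat_lit 0x02), dw (nat_lit 0x02)⟩,
⟨nat_lit 3, [], nat_lit 4, dw (nat_lit 0x02), dw (nat_lit 0x01)⟩,
⟨nat_lit 4, [], nat_lit 2, [], []⟩,
⟨nat_lit 5, [], nat_lit 3, [], []⟩,
⟨nat_lit 1, dw (nat_lit 0x01), nat_lit 1, dw (nat_lit 0x01), dw (nat_lit 0x01)⟩,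
⟨nat_lit 1, dw (nat_lit 0x02), nat_lit 0, [], dw (nat_lit 0x01)⟩,
⟨nat_lit 2, dw (nat_lit 0x01), nat_lit 3, dw (nat_lit 0x02), dw (nat_lit 0x02)⟩,
⟨nat_lit 2, dw (nat_lit 0x02), nat_lit 4, dw (nat_lit 0x01), []⟩,
⟨nat_lit 3, dw (nat_lit 0x01), nat_lit 2, dw (nat_lit 0x02), dw (nat_lit 0x01)⟩,
⟨nat_lit 3, dw (nat_lit 0x02), nat_lit 5, dw (nat_lit 0x01), []⟩,
⟨nat_lit 4, dw (nat_lit 0x01), nat_lit 3, dw (nat_lit 0x01), dw (nat_lit 0x02)⟩,
⟨nat_lit 4, dw (nat_lit 0x02), nat_lit 5, [], dw (nat_lit 0x02)⟩,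
⟨nat_lit 5, dw (nat_lit 0x01), nat_lit 2, dw (nat_lit 0x01), dw (nat_lit 0x01)⟩,
⟨nat_lit 5, dw (nat_lit 0x02), nat_lit 4, [], dw (nat_lit 0x01)⟩],
[]⟩,
⟨[nat_lit 24], [], [],
[⟨nat_lit 0, [], nat_lit 2, [], []⟩,
⟨nat_lit 1, [], nat_lit 3, [], []⟩,
⟨nat_lit 2, [], nat_lit 2, dw (nat_lit 0x02), dw (nat_lit 0x02)⟩,
⟨nat_lit 3, [], nat_lit 4, [], []⟩,
⟨nat_lit 4, [], nat_lit 1, [], []⟩,
⟨nat_lit 5, [], nat_lit 1, dw (nat_lit 0x02), dw (nat_lit 0x02)⟩,
⟨nat_lit 1, dw (nat_lit 0x01), nat_lit 5, dw (nat_lit 0x01), dw (nat_lit 0x01)⟩,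
⟨nat_lit 1, dw (nat_lit 0x02), nat_lit 4, dw (nat_lit 0x01), []⟩,
⟨nat_lit 2, dw (nat_lit 0x01), nat_lit 2, dw (nat_lit 0x01), dw (nat_lit 0x01)⟩,
⟨nat_lit 2, dw (nat_lit 0x02), nat_lit 0, [], dw (nat_lit 0x01)⟩,
⟨nat_lit 3, dw (nat_lit 0x01), nat_lit 5, dw (nat_lit 0x02), dw (nat_lit 0x01)⟩,
⟨nat_lit 3, dw (nat_lit 0x02), nat_lit 1, dw (nat_lit 0x01), []⟩,
⟨nat_lit 4, dw (nat_lit 0x01), nat_lit 5, [], dw (nat_lit 0x01)⟩,
⟨nat_lit 4, dw (nat_lit 0x02), nat_lit 3, dw (nat_lit 0x01), []⟩,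
⟨nat_lit 5, dw (nat_lit 0x01), nat_lit 3, dw (nat_lit 0x02), dw (nat_lit 0x02)⟩,
⟨nat_lit 5, dw (nat_lit 0x02), nat_lit 4, dw (nat_lit 0x02), dw (nat_lit 0x02)⟩],
[]⟩],
[⟨dw (nat_lit 0x01), (nat_lit 0x210040), [dw (nat_lit 0x01), dw (nat_lit 0x01)], .nil, []⟩,
⟨dw (nat_lit 0x03), (nat_lit 0x2900), [dw (nat_lit 0x01), dw (nat_lit 0x01)], .nil, []⟩,
⟨dw (nat_lit 0x0301), (nat_lit 0x824000), [dw (nat_lit 0x01), dw (nat_lit 0x01)], .nil, []⟩,
⟨dw (nat_lit 0x0401), (nat_lit 0x508000), [dw (nat_lit 0x01), dw (nat_lit 0x01)], .nil, []⟩,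
⟨dw (nat_lit 0x0402), (nat_lit 0xc0200), [dw (nat_lit 0x01), dw (nat_lit 0x01)], .nil, []⟩]⟩
noncomputable def ex5 : List Word := [[nat_lit 22]]
noncomputable def ws5 : List Word := List.append ex5 (lev5.gens ws6)
noncomputable def rels5 : List (Word × Word) := List.append (lev5.rels ws6) (memRels (lev5.gens ws6) ex5 [dw (nat_lit 0x050106)])
noncomputable def lev4 : Level := ⟨nat_lit 4,
[⟨[nat_lit 14], [dw (nat_lit 0x05)], [dw (nat_lit 0x06)],
[⟨nat_lit 0, [], nat_lit 1, [], []⟩,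
⟨nat_lit 1, [], nat_lit 0, [], []⟩,
⟨nat_lit 2, [], nat_lit 1, dw (nat_lit 0x01), []⟩,
⟨nat_lit 1, dw (nat_lit 0x01), nat_lit 2, [], []⟩,
⟨nat_lit 1, dw (nat_lit 0x03), nat_lit 1, dw (nat_lit 0x04), dw (nat_lit 0x04)⟩,
⟨nat_lit 1, dw (nat_lit 0x08), nat_lit 1, dw (nat_lit 0x08), dw (nat_lit 0x070507)⟩,
⟨nat_lit 1, dw (nat_lit 0x0802), nat_lit 1, dw (nat_lit 0x0802), dw (nat_lit 0x030507)⟩,
⟨nat_lit 1, dw (nat_lit 0x0401), nat_lit 1, dw (nat_lit 0x0302), dw (nat_lit 0x060407)⟩],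
[dw (nat_lit 0x01), dw (nat_lit 0x01)]⟩],
[⟨dw (nat_lit 0x01), (nat_lit 0xffeb60), [dw (nat_lit 0x01), dw (nat_lit 0x03), dw (nat_lit 0x01), dw (nat_lit 0x05), dw (nat_lit 0x05)], (.cons (nat_lit 5) [dw (nat_lit 0x05)] [dw (nat_lit 0x01), dw (nat_lit 0x01)]
.nil), [dw (nat_lit 0x06)]⟩,
⟨dw (nat_lit 0x010301), (nat_lit 0x1480), [dw (nat_lit 0x01), dw (nat_lit 0x01)], (.cons (nat_lit 5) [dw (nat_lit 0x0203), dw (nat_lit 0x0207), dw (nat_lit 0x0106), dw (nat_lit 0x0205)] [dw (nat_lit 0x01), dw (nat_lit 0x03), dw (nat_lit 0x05), dw (nat_lit 0x07)]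
.nil), [dw (nat_lit 0x0504), dw (nat_lit 0x030507), dw (nat_lit 0x040608), dw (nat_lit 0x0502)]⟩]⟩
noncomputable def ex4 : List Word := [[nat_lit 16], [nat_lit 18]]
noncomputable def ws4 : List Word := List.append ex4 (lev4.gens ws5)
noncomputable def rels4 : List (Word × Word) := List.append (lev4.rels ws5) (memRels (lev4.gens ws5) ex4 [dw (nat_lit 0x05030109), dw (nat_lit 0x05040103070a)])
noncomputable def lev3 : Level := ⟨nat_lit 3,
[⟨[nat_lit 12], [dw (nat_lit 0x0302), dw (nat_lit 0x0b05), dw (nat_lit 0x0d)], [dw (nat_lit 0x0b010b0e), dw (nat_lit 0x0a010a0e), dw (nat_lit 0x05030108)],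
[⟨nat_lit 0, [], nat_lit 1, [], []⟩,
⟨nat_lit 1, [], nat_lit 1, dw (nat_lit 0x01), dw (nat_lit 0x05)⟩,
⟨nat_lit 1, dw (nat_lit 0x02), nat_lit 0, [], dw (nat_lit 0x01)⟩,
⟨nat_lit 1, dw (nat_lit 0x05), nat_lit 1, dw (nat_lit 0x0802), dw (nat_lit 0x0b010e)⟩],
[dw (nat_lit 0x05), dw (nat_lit 0x05), dw (nat_lit 0x01), dw (nat_lit 0x05), dw (nat_lit 0x03), dw (nat_lit 0x05)]⟩],
[⟨dw (nat_lit 0x01), (nat_lit 0xfffff0), [dw (nat_lit 0x01), dw (nat_lit 0x03), dw (nat_lit 0x07), dw (nat_lit 0x05), dw (nat_lit 0x01)], (.cons (nat_lit 4) [dw (nat_lit 0x060b), dw (nat_lit 0x010103)] [dw (nat_lit 0x01), dw (nat_lit 0x03), dw (nat_lit 0x05), dw (nat_lit 0x01), dw (nat_lit 0x03)]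
(.cons (nat_lit 5) [dw (nat_lit 0x0b0908)] [dw (nat_lit 0x01), dw (nat_lit 0x01)]
.nil)), [dw (nat_lit 0x0804070b), dw (nat_lit 0x0804070b0e), dw (nat_lit 0x0101070d)]⟩]⟩
noncomputable def ex3 : List Word := []
noncomputable def ws3 : List Word := List.append ex3 (lev3.gens ws4)
noncomputable def rels3 : List (Word × Word) := List.append (lev3.rels ws4) (memRels (lev3.gens ws4) ex3 [])
noncomputable def lev2 : Level := ⟨nat_lit 2,
[⟨[nat_lit 8], [dw (nat_lit 0x0501), dw (nat_lit 0x030f), dw (nat_lit 0x040b05)], [dw (nat_lit 0x0101030d), dw (nat_lit 0x0a02070d0c), dw (nat_lit 0x10010b030d10)],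
[⟨nat_lit 0, [], nat_lit 1, [], []⟩,
⟨nat_lit 1, [], nat_lit 1, dw (nat_lit 0x02), dw (nat_lit 0x09030e0a10)⟩,
⟨nat_lit 1, dw (nat_lit 0x0402), nat_lit 0, [], dw (nat_lit 0x04050f0d10)⟩],
[dw (nat_lit 0x01), dw (nat_lit 0x03), dw (nat_lit 0x01), dw (nat_lit 0x03), dw (nat_lit 0x01), dw (nat_lit 0x05)]⟩],
[⟨dw (nat_lit 0x01), (nat_lit 0xfffff8), [dw (nat_lit 0x01), dw (nat_lit 0x05), dw (nat_lit 0x07), dw (nat_lit 0x09), dw (nat_lit 0x01), dw (nat_lit 0x01)], (.cons (nat_lit 3) [dw (nat_lit 0x010d)] [dw (nat_lit 0x01), dw (nat_lit 0x0101), dw (nat_lit 0x03), dw (nat_lit 0x01), dw (nat_lit 0x05), dw (nat_lit 0x01)]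
(.cons (nat_lit 4) [dw (nat_lit 0x060303), dw (nat_lit 0x0e0505)] [dw (nat_lit 0x01), dw (nat_lit 0x03), dw (nat_lit 0x05), dw (nat_lit 0x01), dw (nat_lit 0x03)]
(.cons (nat_lit 5) [dw (nat_lit 0x0e0b09)] [dw (nat_lit 0x01), dw (nat_lit 0x01)]
.nil))), [dw (nat_lit 0x0f01030e10), dw (nat_lit 0x0206030910), dw (nat_lit 0x0b010b030d0c10), dw (nat_lit 0x02020e040b0d0f)]⟩]⟩
noncomputable def ex2 : List Word := [[nat_lit 10]]
noncomputable def ws2 : List Word := List.append ex2 (lev2.gens ws3)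
noncomputable def rels2 : List (Word × Word) := List.append (lev2.rels ws3) (memRels (lev2.gens ws3) ex2 [dw (nat_lit 0x08010e03030c05100b)])
noncomputable def lev1 : Level := ⟨nat_lit 1,
[⟨[nat_lit 6], [dw (nat_lit 0x0105), dw (nat_lit 0x0607), dw (nat_lit 0x071107)], [dw (nat_lit 0x14020a050d07120d), dw (nat_lit 0x0e010606070f1114), dw (nat_lit 0x13030b051208110e14)],
[⟨nat_lit 0, [], nat_lit 1, [], []⟩,
⟨nat_lit 1, [], nat_lit 1, dw (nat_lit 0x10), dw (nat_lit 0x050110060a0d1113)⟩,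
⟨nat_lit 1, dw (nat_lit 0x0d02), nat_lit 0, [], dw (nat_lit 0x0a010a05071114)⟩],
[dw (nat_lit 0x01), dw (nat_lit 0x0101), dw (nat_lit 0x05), dw (nat_lit 0x03), dw (nat_lit 0x01), dw (nat_lit 0x05), dw (nat_lit 0x01), dw (nat_lit 0x03)
]⟩],
[⟨dw (nat_lit 0x01), (nat_lit 0xfffffc), [dw (nat_lit 0x01), dw (nat_lit 0x03), dw (nat_lit 0x05), dw (nat_lit 0x01), dw (nat_lit 0x03), dw (nat_lit 0x01)], (.cons (nat_lit 2) [dw (nat_lit 0x0109)] [dw (nat_lit 0x01), dw (nat_lit 0x0202), dw (nat_lit 0x05), dw (nat_lit 0x01), dw (nat_lit 0x03), dw (nat_lit 0x05), dw (nat_lit 0x03), dw (nat_lit 0x01)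
]
(.cons (nat_lit 3) [dw (nat_lit 0x0607)] [dw (nat_lit 0x01), dw (nat_lit 0x03), dw (nat_lit 0x05), dw (nat_lit 0x01), dw (nat_lit 0x03), dw (nat_lit 0x07), dw (nat_lit 0x01)]
(.cons (nat_lit 4) [dw (nat_lit 0x0c11), dw (nat_lit 0x070709)] [dw (nat_lit 0x01), dw (nat_lit 0x03), dw (nat_lit 0x05), dw (nat_lit 0x01), dw (nat_lit 0x03)]
(.cons (nat_lit 5) [dw (nat_lit 0x110f0e)] [dw (nat_lit 0x01), dw (nat_lit 0x01)]
.nil)))), [dw (nat_lit 0x0a0210050e07110d), dw (nat_lit 0x14020d09051210), dw (nat_lit 0x04010e09051407110d14), dw (nat_lit 0x03010f05070a101213), dw (nat_lit 0x070109110d14)]⟩]⟩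
noncomputable def ex1 : List Word := []
noncomputable def ws1 : List Word := List.append ex1 (lev1.gens ws2)
noncomputable def rels1 : List (Word × Word) := List.append (lev1.rels ws2) (memRels (lev1.gens ws2) ex1 [])
noncomputable def lev0 : Level := ⟨nat_lit 0,
[⟨[nat_lit 0], [dw (nat_lit 0x020b), dw (nat_lit 0x05), dw (nat_lit 0x070b)], [dw (nat_lit 0x0501150514070b1412), dw (nat_lit 0x050115050d0b0915), dw (nat_lit 0x010f0316070d0b091215)],
[⟨nat_lit 0, [], nat_lit 1, [], []⟩,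
⟨nat_lit 1, [], nat_lit 0, [], dw (nat_lit 0x0a010903160910)⟩,
⟨nat_lit 1, dw (nat_lit 0x01), nat_lit 1, dw (nat_lit 0x0a), dw (nat_lit 0x0c02040414070c1310)⟩],
[dw (nat_lit 0x03), dw (nat_lit 0x0404), dw (nat_lit 0x05), dw (nat_lit 0x03), dw (nat_lit 0x01), dw (nat_lit 0x0404), dw (nat_lit 0x01)]⟩],
[⟨dw (nat_lit 0x01), (nat_lit 0xfffffe), [dw (nat_lit 0x01), dw (nat_lit 0x03), dw (nat_lit 0x01), dw (nat_lit 0x03), dw (nat_lit 0x11), dw (nat_lit 0x03), dw (nat_lit 0x01), dw (nat_lit 0x01)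
], (.cons (nat_lit 1) [dw (nat_lit 0x020b)] [dw (nat_lit 0x01), dw (nat_lit 0x03), dw (nat_lit 0x01), dw (nat_lit 0x03), dw (nat_lit 0x0303), dw (nat_lit 0x01), dw (nat_lit 0x03), dw (nat_lit 0x03)
]
(.cons (nat_lit 2) [dw (nat_lit 0x05)] [dw (nat_lit 0x01), dw (nat_lit 0x0101), dw (nat_lit 0x03), dw (nat_lit 0x09), dw (nat_lit 0x01), dw (nat_lit 0x0101), dw (nat_lit 0x01)]
(.cons (nat_lit 3) [dw (nat_lit 0x070b)] [dw (nat_lit 0x01), dw (nat_lit 0x0301), dw (nat_lit 0x07), dw (nat_lit 0x01), dw (nat_lit 0x07), dw (nat_lit 0x01)]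
(.cons (nat_lit 4) [dw (nat_lit 0x0e11), dw (nat_lit 0x0c0f0b)] [dw (nat_lit 0x01), dw (nat_lit 0x03), dw (nat_lit 0x01), dw (nat_lit 0x05), dw (nat_lit 0x01), dw (nat_lit 0x01)]
(.cons (nat_lit 5) [dw (nat_lit 0x1311)] [dw (nat_lit 0x01), dw (nat_lit 0x01)]
.nil))))), [dw (nat_lit 0x0d0204100b070b140f15), dw (nat_lit 0x02100415070a1113), dw (nat_lit 0x0801100308080a0b121415), dw (nat_lit 0x0701040d0716091312), dw (nat_lit 0x01010f0312071209121415), dw (nat_lit 0x07010c0411070b0f16)]⟩]⟩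
noncomputable def ex0 : List Word := [[nat_lit 2], [nat_lit 4]]
noncomputable def ws0 : List Word := List.append ex0 (lev0.gens ws1)
noncomputable def rels0 : List (Word × Word) := List.append (lev0.rels ws1) (memRels (lev0.gens ws1) ex0 [dw (nat_lit 0x0103050d090d0b161418), dw (nat_lit 0x030e011203080d09130b11)])
noncomputable def rels : List (Word × Word) := List.append rels0 (List.append rels1 (List.append rels2 (List.append rels3 (List.append rels4 (List.append rels5 (List.append rels6 ([])))))))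
noncomputable def defs : List Word := [dw (nat_lit 0x030604), dw (nat_lit 0x0104), dw (nat_lit 0x080809090908080907), dw (nat_lit 0x09090c09090b0b090b0b0909090b), dw (nat_lit 0x0a0c0909090c0a), dw (nat_lit 0x0d0d100e0f0f), dw (nat_lit 0x0e0e0e1010100e0f0d), dw (nat_lit 0x10121214140f)
, dw (nat_lit 0x14101210), dw (nat_lit 0x121310140f1310101412), dw (nat_lit 0x161717)]
noncomputable def relsD : List (Word × Word) := defRels defs 3
noncomputable def relsO : List (Word × Word) := memRels ws0 (lets 3) [dw (nat_lit 0x0108160a1b0d101719), dw (nat_lit 0x01), dw (nat_lit 0x03)]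
noncomputable def relsS : List (Word × Word) := []
noncomputable def allRels : List (Word × Word) := List.append rels (List.append relsD (List.append relsO relsS))
theorem chk6 : lev6.chk 24 nets ws7 1 3 = true := by decide +kernel
theorem chk5 : lev5.chk 24 nets ws6 3 48 = true := by decide +kernel
theorem chk4 : lev4.chk 24 nets ws5 48 960 = true := by decide +kernel
theorem chk3 : lev3.chk 24 nets ws4 960 20160 = true := by decide +kernel
theorem chk2 : lev2.chk 24 nets ws3 20160 443520 = true := by decide +kernel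
theorem chk1 : lev1.chk 24 nets ws2 443520 10200960 = true := by decide +kernel
theorem chk0 : lev0.chk 24 nets ws1 10200960 244823040 = true := by decide +kernel
theorem rc0 : relsChk 24 nets 5 (idArr 24 5 5 0) allRels = true := by decide +kernel
section
variable {Γ Ω : Type*} [Group Γ] [MulAction Γ Ω] (M : PM Γ Ω 24 nets)

theorem all_ok (hs : M.Sep 5 (idArr 24 5 5 0)) : Rels M.gen allRels := (M.rels_of_chk hs rc0)
theorem sep [FaithfulSMul Γ Ω] : M.Sep 5 (idArr 24 5 5 0) := M.sep_idArr (by decide)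
theorem all_ok' [FaithfulSMul Γ Ω] : Rels M.gen allRels := all_ok M (sep M)
theorem rels_of_all {gen : ℕ → Γ} (h : Rels gen allRels) : Rels gen rels := Rels.left h
theorem relsD_of_all {gen : ℕ → Γ} (h : Rels gen allRels) : Rels gen relsD := Rels.left (Rels.right h)
theorem relsO_of_all {gen : ℕ → Γ} (h : Rels gen allRels) : Rels gen relsO := Rels.left (Rels.right (Rels.right h))
theorem relsS_of_all {gen : ℕ → Γ} (h : Rels gen allRels) : Rels gen relsS := Rels.right (Rels.right (Rels.right h))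
theorem card7 (_hR : Rels M.gen rels) : Nat.card (sub M.gen ws7) = 1 := M.card_nil
theorem fixw7 (_hR : Rels M.gen rels) : M.FixTriv ws7 [] := M.fixTriv_nil
theorem r6 (hR : Rels M.gen rels) : Rels M.gen rels6 := (Rels.left (Rels.right (Rels.right (Rels.right (Rels.right (Rels.right (Rels.right hR)))))))
theorem res6 (hR : Rels M.gen rels) : M.LevelRes ws7 lev6 3 := M.level (card7 M hR) chk6 (Rels.left (r6 M hR))
theorem ext6 (hR : Rels M.gen rels) : sub M.gen ws6 = sub M.gen (lev6.gens ws7) := sub_extend (Rels.right (r6 M hR))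
theorem card6 (hR : Rels M.gen rels) : Nat.card (sub M.gen ws6) = 3 := by rw [ext6 M hR]; exact (res6 M hR).card
theorem fix6 (hR : Rels M.gen rels) : M.FixTriv (lev6.gens ws7) [6] := (res6 M hR).fixTriv M (fixw7 M hR)
theorem fixw6 (hR : Rels M.gen rels) : M.FixTriv ws6 [6] := fun g hg => fix6 M hR g (ext6 M hR ▸ hg)
theorem stab6 (hR : Rels M.gen rels) : sub M.gen ws6 ⊓ MulAction.stabilizer Γ (M.dec 6) = sub M.gen ws7 := by rw [ext6 M hR]; exact (res6 M hR).stab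
theorem orb6 (hR : Rels M.gen rels) (y : Ω) : y ∈ M.S lev6.orb ↔ ∃ g ∈ sub M.gen ws6, g • M.dec 6 = y := by rw [ext6 M hR]; exact (res6 M hR).orb y
theorem r5 (hR : Rels M.gen rels) : Rels M.gen rels5 := (Rels.left (Rels.right (Rels.right (Rels.right (Rels.right (Rels.right hR))))))
theorem res5 (hR : Rels M.gen rels) : M.LevelRes ws6 lev5 48 := M.level (card6 M hR) chk5 (Rels.left (r5 M hR))
theorem ext5 (hR : Rels M.gen rels) : sub M.gen ws5 = sub M.gen (lev5.gens ws6) := sub_extend (Rels.right (r5 M hR))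
theorem card5 (hR : Rels M.gen rels) : Nat.card (sub M.gen ws5) = 48 := by rw [ext5 M hR]; exact (res5 M hR).card
theorem fix5 (hR : Rels M.gen rels) : M.FixTriv (lev5.gens ws6) [5, 6] := (res5 M hR).fixTriv M (fixw6 M hR)
theorem fixw5 (hR : Rels M.gen rels) : M.FixTriv ws5 [5, 6] := fun g hg => fix5 M hR g (ext5 M hR ▸ hg)
theorem stab5 (hR : Rels M.gen rels) : sub M.gen ws5 ⊓ MulAction.stabilizer Γ (M.dec 5) = sub M.gen ws6 := by rw [ext5 M hR]; exact (res5 M hR).stab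
theorem orb5 (hR : Rels M.gen rels) (y : Ω) : y ∈ M.S lev5.orb ↔ ∃ g ∈ sub M.gen ws5, g • M.dec 5 = y := by rw [ext5 M hR]; exact (res5 M hR).orb y
theorem r4 (hR : Rels M.gen rels) : Rels M.gen rels4 := (Rels.left (Rels.right (Rels.right (Rels.right (Rels.right hR)))))
theorem res4 (hR : Rels M.gen rels) : M.LevelRes ws5 lev4 960 := M.level (card5 M hR) chk4 (Rels.left (r4 M hR))
theorem ext4 (hR : Rels M.gen rels) : sub M.gen ws4 = sub M.gen (lev4.gens ws5) := sub_extend (Rels.right (r4 M hR))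
theorem card4 (hR : Rels M.gen rels) : Nat.card (sub M.gen ws4) = 960 := by rw [ext4 M hR]; exact (res4 M hR).card
theorem fix4 (hR : Rels M.gen rels) : M.FixTriv (lev4.gens ws5) [4, 5, 6] := (res4 M hR).fixTriv M (fixw5 M hR)
theorem fixw4 (hR : Rels M.gen rels) : M.FixTriv ws4 [4, 5, 6] := fun g hg => fix4 M hR g (ext4 M hR ▸ hg)
theorem stab4 (hR : Rels M.gen rels) : sub M.gen ws4 ⊓ MulAction.stabilizer Γ (M.dec 4) = sub M.gen ws5 := by rw [ext4 M hR]; exact (res4 M hR).stab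
theorem orb4 (hR : Rels M.gen rels) (y : Ω) : y ∈ M.S lev4.orb ↔ ∃ g ∈ sub M.gen ws4, g • M.dec 4 = y := by rw [ext4 M hR]; exact (res4 M hR).orb y
theorem r3 (hR : Rels M.gen rels) : Rels M.gen rels3 := (Rels.left (Rels.right (Rels.right (Rels.right hR))))
theorem res3 (hR : Rels M.gen rels) : M.LevelRes ws4 lev3 20160 := M.level (card4 M hR) chk3 (Rels.left (r3 M hR))
theorem ext3 (hR : Rels M.gen rels) : sub M.gen ws3 = sub M.gen (lev3.gens ws4) := sub_extend (Rels.right (r3 M hR))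
theorem card3 (hR : Rels M.gen rels) : Nat.card (sub M.gen ws3) = 20160 := by rw [ext3 M hR]; exact (res3 M hR).card
theorem fix3 (hR : Rels M.gen rels) : M.FixTriv (lev3.gens ws4) [3, 4, 5, 6] := (res3 M hR).fixTriv M (fixw4 M hR)
theorem fixw3 (hR : Rels M.gen rels) : M.FixTriv ws3 [3, 4, 5, 6] := fun g hg => fix3 M hR g (ext3 M hR ▸ hg)
theorem stab3 (hR : Rels M.gen rels) : sub M.gen ws3 ⊓ MulAction.stabilizer Γ (M.dec 3) = sub M.gen ws4 := by rw [ext3 M hR]; exact (res3 M hR).stab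
theorem orb3 (hR : Rels M.gen rels) (y : Ω) : y ∈ M.S lev3.orb ↔ ∃ g ∈ sub M.gen ws3, g • M.dec 3 = y := by rw [ext3 M hR]; exact (res3 M hR).orb y
theorem r2 (hR : Rels M.gen rels) : Rels M.gen rels2 := (Rels.left (Rels.right (Rels.right hR)))
theorem res2 (hR : Rels M.gen rels) : M.LevelRes ws3 lev2 443520 := M.level (card3 M hR) chk2 (Rels.left (r2 M hR))
theorem ext2 (hR : Rels M.gen rels) : sub M.gen ws2 = sub M.gen (lev2.gens ws3) := sub_extend (Rels.right (r2 M hR))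
theorem card2 (hR : Rels M.gen rels) : Nat.card (sub M.gen ws2) = 443520 := by rw [ext2 M hR]; exact (res2 M hR).card
theorem fix2 (hR : Rels M.gen rels) : M.FixTriv (lev2.gens ws3) [2, 3, 4, 5, 6] := (res2 M hR).fixTriv M (fixw3 M hR)
theorem fixw2 (hR : Rels M.gen rels) : M.FixTriv ws2 [2, 3, 4, 5, 6] := fun g hg => fix2 M hR g (ext2 M hR ▸ hg)
theorem stab2 (hR : Rels M.gen rels) : sub M.gen ws2 ⊓ MulAction.stabilizer Γ (M.dec 2) = sub M.gen ws3 := by rw [ext2 M hR]; exact (res2 M hR).stab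
theorem orb2 (hR : Rels M.gen rels) (y : Ω) : y ∈ M.S lev2.orb ↔ ∃ g ∈ sub M.gen ws2, g • M.dec 2 = y := by rw [ext2 M hR]; exact (res2 M hR).orb y
theorem r1 (hR : Rels M.gen rels) : Rels M.gen rels1 := (Rels.left (Rels.right hR))
theorem res1 (hR : Rels M.gen rels) : M.LevelRes ws2 lev1 10200960 := M.level (card2 M hR) chk1 (Rels.left (r1 M hR))
theorem ext1 (hR : Rels M.gen rels) : sub M.gen ws1 = sub M.gen (lev1.gens ws2) := sub_extend (Rels.right (r1 M hR))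
theorem card1 (hR : Rels M.gen rels) : Nat.card (sub M.gen ws1) = 10200960 := by rw [ext1 M hR]; exact (res1 M hR).card
theorem fix1 (hR : Rels M.gen rels) : M.FixTriv (lev1.gens ws2) [1, 2, 3, 4, 5, 6] := (res1 M hR).fixTriv M (fixw2 M hR)
theorem fixw1 (hR : Rels M.gen rels) : M.FixTriv ws1 [1, 2, 3, 4, 5, 6] := fun g hg => fix1 M hR g (ext1 M hR ▸ hg)
theorem stab1 (hR : Rels M.gen rels) : sub M.gen ws1 ⊓ MulAction.stabilizer Γ (M.dec 1) = sub M.gen ws2 := by rw [ext1 M hR]; exact (res1 M hR).stab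
theorem orb1 (hR : Rels M.gen rels) (y : Ω) : y ∈ M.S lev1.orb ↔ ∃ g ∈ sub M.gen ws1, g • M.dec 1 = y := by rw [ext1 M hR]; exact (res1 M hR).orb y
theorem r0 (hR : Rels M.gen rels) : Rels M.gen rels0 := (Rels.left hR)
theorem res0 (hR : Rels M.gen rels) : M.LevelRes ws1 lev0 244823040 := M.level (card1 M hR) chk0 (Rels.left (r0 M hR))
theorem ext0 (hR : Rels M.gen rels) : sub M.gen ws0 = sub M.gen (lev0.gens ws1) := sub_extend (Rels.right (r0 M hR))
theorem card0 (hR : Rels M.gen rels) : Nat.card (sub M.gen ws0) = 244823040 := by rw [ext0 M hR]; exact (res0 M hR).card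
theorem fix0 (hR : Rels M.gen rels) : M.FixTriv (lev0.gens ws1) [0, 1, 2, 3, 4, 5, 6] := (res0 M hR).fixTriv M (fixw1 M hR)
theorem fixw0 (hR : Rels M.gen rels) : M.FixTriv ws0 [0, 1, 2, 3, 4, 5, 6] := fun g hg => fix0 M hR g (ext0 M hR ▸ hg)
theorem stab0 (hR : Rels M.gen rels) : sub M.gen ws0 ⊓ MulAction.stabilizer Γ (M.dec 0) = sub M.gen ws1 := by rw [ext0 M hR]; exact (res0 M hR).stab
theorem orb0 (hR : Rels M.gen rels) (y : Ω) : y ∈ M.S lev0.orb ↔ ∃ g ∈ sub M.gen ws0, g • M.dec 0 = y := by rw [ext0 M hR]; exact (res0 M hR).orb y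
theorem orig_eq {gen : ℕ → Γ} (h : Rels gen allRels) : sub gen (lets 3) = sub gen ws0 :=
  sub_lets_eq_of_rels (ds := defs) (by decide +kernel) (relsD_of_all h) (by decide +kernel) (relsO_of_all h)
theorem gen_mem {gen : ℕ → Γ} (h : Rels gen allRels) {X : Subgroup Γ} (h0 : ∀ l < 3, gen l ∈ X) : sub gen ws0 ≤ X :=
  sub_le_of_wsIn (lo := 0) (gen_mem_of_defRels (ds := defs) (fun l _ hl => h0 l hl) (by decide +kernel) (relsD_of_all h)) (by decide +kernel)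

end

end H14.M24e
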