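import Cfsg.Agent.H14.LB
import Cfsg.Agent.H14.M24e

/-! The 196560 minimal vectors of the Leech lattice.  `bg` = five explicit elements of `Co0`
(0, 1: permutations generating the stabiliser of `{∞, 0}`; 2: a sign change; 3: Conway's `ξ`-type
element; 4: the translation), `bf` numbers the minimal vectors (`Min`), `BM` is the machine on
them.  Transitivity (`min_trans`), counting (`ncard_min`), the suborbits of the stabiliser of
`U = (4, 4, 0^22)` (`cls_trans`). -/

set_option autoImplicit false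

namespace H14
open Cfsg MulAction Finset
open scoped Pointwise

/-- `R / 8` is the matrix of the permutation `T` followed by sign changes on `c`. -/
noncomputable def monChk (R : List Nat) (T : Net) (c : Nat) : Bool :=
  allLt (fun p => allLt (fun q => eqZ (bv (getL 0 R p) q)
    (ite' (Nat.beq p (T.pt q)) (ite' (tb c p) (-8) 8) 0)) 24) 24

theorem coOf_mon {R : List ℕ} (h : coChk R = true) {T : Net} {c : ℕ} (hm : monChk R T c = true)
    {σ : M24} (hσ : gE.Real T σ) (hc : bset c ∈ GC) : coOf R h = sgn (bset c) hc * permH σ :=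
  coOf_eq h fun q p => by
    have h1 : bv (getL 0 R (gi p)) (gi q) = _ := of_decide_eq_true (all24 (all24 hm p) q)
    have h2 : T.pt (gi q) = gi (σ • q) := (hσ q).symm
    rw [h2, ite'_beq, tb_eq] at h1
    rw [mul_smul, sgn_apply, permH_apply]
    refine h1.trans ?_
    simp only [fr, Pi.single_apply, inv_smul_eq_iff, mem_bset]
    cases c.testBit (gi p) <;> split_ifs <;> simp_all [ite']

theorem coOf_perm {R : List ℕ} (h : coChk R = true) {T : Net} (hm : monChk R T 0 = true)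
    {σ : M24} (hσ : gE.Real T σ) : coOf R h = permH σ := by
  rw [coOf_mon h hm hσ (bset_zero ▸ empty_mem_GC)]
  convert one_mul _
  rw [← sgn_empty]; congr 1

theorem coOf_sgn {R : List ℕ} (h : coChk R = true) {c : ℕ} (hm : monChk R Net.nil c = true)
    (hc : bset c ∈ GC) : coOf R h = sgn (bset c) hc := by
  rw [coOf_mon h hm (σ := 1) (fun _ => by rw [one_smul]; rfl) hc, map_one, mul_one]

theorem M24e_ok : M24e.nets.all golayOk = true := by decide +kernel
noncomputable def Pe : PM M24 GolayPt 24 M24e.nets := m24PM _ M24e_ok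
theorem Pe_all : Rels Pe.gen M24e.allRels := M24e.all_ok' Pe
theorem Pe_top : sub Pe.gen (lets 3) = ⊤ :=
  (M24e.orig_eq Pe_all).trans (eq_top_of_card (M24e.card0 Pe (M24e.rels_of_all Pe_all)))

/-- A subgroup containing all permutations and one sign change on an octad contains `Mon`. -/
theorem Mon_le' {K : Subgroup Co0} (h1 : ∀ σ, permH σ ∈ K) {o : Finset GolayPt} (ho : o ∈ octads)
    (h2 : sgn o ho.1 ∈ K) : Mon ≤ K := Mon_le (fun _ _ => h1 _) fun b hb => by
  obtain ⟨σ, e⟩ := octad_trans ho (bset_mem_octads (m := b) (by revert b; decide +kernel))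
  have := mul_mem (mul_mem (h1 σ) h2) (inv_mem (h1 σ))
  rw [← sgn_smul] at this
  convert this using 2; exact e.symm

/-- The generators of `Co0`. -/
noncomputable def bg : ℕ → Co0 :=
  getL 1 [coOf _ LB.co0, coOf _ LB.co1, coOf _ LB.co2, coOf _ LB.co3, coOf _ LB.co4]

theorem Mon_le_bg : Mon ≤ sub bg (lets 5) := by
  refine Mon_le' (fun σ => ?_) (bset_mem_octads (m := 0x200f68) (by decide +kernel)) ?_
  · have : (⊤ : Subgroup M24) ≤ (sub bg (lets 5)).comap permH := Pe_top ▸ sub_lets_le fun l hl => by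
      rw [Subgroup.mem_comap]
      interval_cases l
      · rw [← coOf_perm LB.co0 (by decide +kernel) (Pe.spec 0)]; exact gen_mem_lets (l := 0) (by norm_num)
      · rw [← coOf_perm LB.co1 (by decide +kernel) (Pe.spec 1)]; exact gen_mem_lets (l := 1) (by norm_num)
      · rw [← coOf_perm LB.co4 (by decide +kernel) (Pe.spec 2)]; exact gen_mem_lets (l := 4) (by norm_num)
    exact this (Subgroup.mem_top σ)
  · rw [← coOf_sgn LB.co2 (by decide +kernel)]; exact gen_mem_lets (l := 2) (by norm_num)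

theorem exists_bf : ∃ f, LF bg 5 196560 LB.nets (LB.ss.map Prod.fst) LB.X f :=
  leech_fam (by norm_num) (by norm_num) LB.nets_ok (by decide +kernel) LB.reach_ok LB.seed_ok
    fun l hl => by
      interval_cases l
      exacts [⟨_, LB.co0, LB.lf0, fun _ => rfl⟩, ⟨_, LB.co1, LB.lf1, fun _ => rfl⟩,
        ⟨_, LB.co2, LB.lf2, fun _ => rfl⟩, ⟨_, LB.co3, LB.lf3, fun _ => rfl⟩,
        ⟨_, LB.co4, LB.lf4, fun _ => rfl⟩]

/-- The numbering of the minimal vectors. -/
noncomputable def bf : ℕ → Λ := exists_bf.choose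
theorem bF : LF bg 5 196560 LB.nets (LB.ss.map Prod.fst) LB.X bf := exists_bf.choose_spec

/-- `U = (4, 4, 0^22)` packed. -/
abbrev pU : ℕ := 0x848080808080808080808080808080808080808080808084
abbrev U : Λ := Spor.leechU
theorem U_eq : U.1 = vecN pU := by decide +kernel
theorem norm_U : sqNorm U.1 = 32 := by decide +kernel

theorem bf_zero : bf 0 = U := bF.eq_of_colChk (by norm_num) (y := pU) (by
  have := LB.seed_ok
  simp only [seedChk, LB.ss, List.all_cons, Bool.and_eq_true] at this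
  exact this.1.1) U_eq

/-- The vectors of a given norm. -/
def Shell (k : ℤ) : SubMulAction Co0 Λ where
  carrier := {x | sqNorm x.1 = k}
  smul_mem' g x h := (sqNorm_smul g x).trans h

theorem mem_Shell {k : ℤ} {x : Λ} : x ∈ Shell k ↔ sqNorm x.1 = k := Iff.rfl

theorem bf_seed {i : ℕ} (hi : i < 196560) : ∃ g ∈ sub bg (lets 5), g • U = bf i := by
  obtain ⟨s, hs, g, hg, e⟩ := bF.fam.exists_seed hi
  obtain rfl : s = 0 := List.mem_singleton.1 hs
  exact ⟨g, hg, bf_zero ▸ e⟩

theorem norm_bf {i : ℕ} (hi : i < 196560) : sqNorm (bf i).1 = 32 := by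
  obtain ⟨g, -, e⟩ := bf_seed hi
  rw [← e, sqNorm_smul, norm_U]

theorem exists_bf_eq {x : Λ} (hx : sqNorm x.1 = 32) : ∃ i < 196560, bf i = x := by
  obtain ⟨g, hg, h⟩ := min_cases hx
  have key : ∀ i < 196560, bf i = g • x → ∃ i < 196560, bf i = x := fun i hi e => by
    obtain ⟨j, hj, e'⟩ := bF.fam.exists_smul_eq (inv_mem (Mon_le_bg hg)) hi
    exact ⟨j, hj, by rw [e', e, inv_smul_smul]⟩
  rcases h with h | h | h
  · exact key 0 (by norm_num) (bf_zero.trans h.symm)
  · exact key 58 (by norm_num) ((bF.eq_of_colChk (by norm_num) LB.colO (by decide +kernel)).trans h.symm)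
  · exact key 60585 (by norm_num)
      ((bF.eq_of_colChk (by norm_num) LB.colT (by decide +kernel)).trans h.symm)

theorem min_std {x : Λ} (hx : sqNorm x.1 = 32) : ∃ g ∈ sub bg (lets 5), g • U = x := by
  obtain ⟨i, hi, rfl⟩ := exists_bf_eq hx
  exact bf_seed hi

theorem min_trans {x y : Λ} (hx : sqNorm x.1 = 32) (hy : sqNorm y.1 = 32) : ∃ g : Co0, g • x = y := by
  obtain ⟨g, -, rfl⟩ := min_std hx
  obtain ⟨h, -, rfl⟩ := min_std hy
  exact ⟨h * g⁻¹, by rw [mul_smul, inv_smul_smul]⟩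

/-- Counting minimal vectors with a property. -/
theorem ncard_min {P : Λ → Prop} {S : ℕ} (h : ∀ i < 196560, P (bf i) ↔ S.testBit i = true) :
    {x : Λ | sqNorm x.1 = 32 ∧ P x}.ncard = pop 196560 S := by
  rw [← bF.fam.ncard_image h]
  congr 1
  ext x
  constructor
  · rintro ⟨h1, h2⟩
    obtain ⟨i, hi, rfl⟩ := exists_bf_eq h1
    exact ⟨i, ⟨hi, h2⟩, rfl⟩
  · rintro ⟨i, ⟨hi, h2⟩, rfl⟩
    exact ⟨norm_bf hi, h2⟩

theorem ncard_coe (P : V → Prop) :
    {x : V | x ∈ leechLattice ∧ P x}.ncard = {x : Λ | P x.1}.ncard := by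
  rw [← Set.ncard_image_of_injective _ Subtype.val_injective]
  congr 1
  ext x
  exact ⟨fun h => ⟨⟨x, h.1⟩, h.2, rfl⟩, fun ⟨y, h, e⟩ => e ▸ ⟨y.2, h⟩⟩

theorem ncard_shell32 : {x : Λ | sqNorm x.1 = 32}.ncard = 196560 := by
  rw [← bF.fam.ncard_range]
  congr 1
  ext x
  exact ⟨fun h => let ⟨i, hi, e⟩ := exists_bf_eq h; ⟨i, hi, e⟩, fun ⟨i, hi, e⟩ => e ▸ norm_bf hi⟩

/-- `4 e_p + s e_q`. -/
theorem four_mem {p q : GolayPt} {s : ℤ} (hs : s % 8 = 4) :
    (Pi.single p 4 + Pi.single q s : V) ∈ leechLattice :=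
  (isL_of_four (fun i => by simp only [Pi.add_apply, Pi.single_apply]; split_ifs <;> omega)
    (by simp only [Pi.add_apply, sum_add_distrib, sum_pi_single', mem_univ, if_true]; omega)).mem

theorem norm_four {p q : GolayPt} (h : p ≠ q) (s : ℤ) :
    sqNorm (Pi.single p 4 + Pi.single q s : V) = 16 + s ^ 2 := by
  rw [sqNorm_add]
  simp [sqNorm, dotInt, Pi.single_apply, h, h.symm]

theorem eq_one_of_fix_min {g : Co0} (h : ∀ x : Λ, sqNorm x.1 = 32 → g • x = x) : g = 1 :=
  eq_one_of_fix_frame fun p => by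
    obtain ⟨q, hq⟩ := exists_ne p
    have e : fr p = ⟨_, four_mem (p := p) (q := q) (s := 4) rfl⟩ +
        ⟨_, four_mem (p := p) (q := q) (s := -4) rfl⟩ := Subtype.ext (funext fun i => by
      simp only [fr, AddSubgroup.coe_add, Pi.add_apply, Pi.single_apply]; split_ifs <;> omega)
    rw [e, smul_add, h _ (norm_four hq.symm _), h _ (norm_four hq.symm _)]

instance : FaithfulSMul Co0 (Shell 32) := ⟨fun {a b} h => by
  rw [← one_mul b, ← mul_inv_eq_iff_eq_mul]
  refine eq_one_of_fix_min fun x hx => ?_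
  have := congrArg Subtype.val (h (b⁻¹ • ⟨x, hx⟩))
  rwa [smul_inv_smul, ← mul_smul] at this⟩

/-- The machine on the minimal vectors. -/
noncomputable def BM : PM Co0 (Shell 32) 196560 LB.nets :=
  bF.fam.pm (fun _ => norm_bf) (fun _ => exists_bf_eq) (ds := []) rfl (by decide +kernel) (Rels.nil _)

theorem BM_enc (x : Shell 32) : bf (BM.enc x) = x := bF.fam.pm_enc _ _ _ _ _ x
theorem BM_dec {i : ℕ} (hi : i < 196560) : (BM.dec i : Λ) = bf i := by
  rw [← BM_enc, BM.enc_dec i hi]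
theorem BM_gen {l : ℕ} (hl : l < 5) : BM.gen l = bg l := bF.fam.pm_gen _ _ _ _ _ hl

theorem sub_BM {k : ℕ} (hk : k ≤ 5) : sub BM.gen (lets k) = sub bg (lets k) := by
  rw [sub_lets_eq, sub_lets_eq, Set.image_congr (s := {l | l < k}) fun l hl => BM_gen (lt_of_lt_of_le hl hk)]

theorem mem_S_clsV {y : ℕ} {u : Λ} (hu : u.1 = vecN y) (hn : sqNorm u.1 ≤ 64) {c : ℤ}
    (hc : 8 ∣ c ∧ -64 ≤ c ∧ c ≤ 64) (x : Shell 32) :
    x ∈ BM.S (clsV 196560 LB.X y c) ↔ dotInt u.1 x.1.1 = c := by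
  rw [PM.mem_S, bF.testBit_clsV' (BM.enc_lt x) hu hn (norm_bf (BM.enc_lt x)) hc, BM_enc]

/-- The stabiliser of `U` (`Co2`). -/
abbrev C2 : Subgroup Co0 := stabilizer Co0 U

theorem bg_le_C2 : sub bg (lets 4) ≤ C2 := sub_lets_le fun l hl => by
  interval_cases l
  exacts [coOf_smul LB.co0 (by decide +kernel) U_eq U_eq, coOf_smul LB.co1 (by decide +kernel) U_eq U_eq,
    coOf_smul LB.co2 (by decide +kernel) U_eq U_eq, coOf_smul LB.co3 (by decide +kernel) U_eq U_eq]

theorem cls_std {c : ℤ} (hc : 8 ∣ c ∧ -64 ≤ c ∧ c ≤ 64) {s : ℕ} (hs : s < 196560) {sch : List Word}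
    (h : subs (clsV 196560 LB.X pU c) (orbRun LB.nets (lets 4) sch (bit s)) = true) {x : Λ}
    (hx : sqNorm x.1 = 32) (hd : dotInt U.1 x.1 = c) : ∃ g ∈ sub bg (lets 4), g • bf s = x := by
  obtain ⟨g, hg, e⟩ := BM.orb_sound_bit _ _ hs
    (BM.S_mono h ((mem_S_clsV U_eq (by rw [norm_U]; norm_num) hc ⟨x, hx⟩).2 hd))
  exact ⟨g, sub_BM (k := 4) (by norm_num) ▸ hg, by rw [← BM_dec hs]; exact congrArg Subtype.val e⟩

theorem neg_eq_smul (x : Λ) : -x = negOne • x := (negOne_smul x).symm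

theorem smul_neg' (g : Co0) (x : Λ) : g • -x = -(g • x) := smul_neg g x

/-- The inner products of minimal vectors. -/
theorem dot_min_cases {x y : Λ} (hx : sqNorm x.1 = 32) (hy : sqNorm y.1 = 32) :
    y = x ∨ y = -x ∨ dotInt x.1 y.1 ∈ ({16, 8, 0, -8, -16} : Finset ℤ) := by
  by_cases h1 : y = x; · exact Or.inl h1
  by_cases h2 : y = -x; · exact Or.inr (Or.inl h2)
  have a1 := min_norm (sub_mem x.2 y.2) fun e => h1 (Subtype.ext (sub_eq_zero.1 e).symm)
  have a2 := min_norm (add_mem x.2 y.2) fun e => h2 (Subtype.ext (eq_neg_of_add_eq_zero_right e))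
  have a3 := eight_dvd_dot x.2 y.2
  rw [sqNorm_sub] at a1
  rw [sqNorm_add] at a2
  simp only [mem_insert, mem_singleton]
  omega

/-- The group generated by the first four generators is transitive on the minimal vectors with a
given inner product with `U`. -/
theorem cls_trans0 {x y : Λ} (hx : sqNorm x.1 = 32) (hy : sqNorm y.1 = 32)
    (hd : dotInt U.1 x.1 = dotInt U.1 y.1) : ∃ g ∈ sub bg (lets 4), g • x = y := by
  have key : ∀ {x y : Λ}, sqNorm x.1 = 32 → sqNorm y.1 = 32 → dotInt U.1 x.1 = dotInt U.1 y.1 →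
      dotInt U.1 x.1 ∈ ({16, 8, 0} : Finset ℤ) → ∃ g ∈ sub bg (lets 4), g • x = y := by
    intro x y hx hy hd hc
    have fin : ∀ z : Λ, (∃ g ∈ sub bg (lets 4), g • z = x) → (∃ g ∈ sub bg (lets 4), g • z = y) →
        ∃ g ∈ sub bg (lets 4), g • x = y := by
      rintro z ⟨g, hg, rfl⟩ ⟨h, hh, rfl⟩
      exact ⟨h * g⁻¹, mul_mem hh (inv_mem hg), by rw [mul_smul, inv_smul_smul]⟩
    simp only [mem_insert, mem_singleton] at hc
    rcases hc with hc | hc | hc
    · exact fin _ (cls_std (by norm_num) (by norm_num) LB.orb16_ok hx hc)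
        (cls_std (by norm_num) (by norm_num) LB.orb16_ok hy (hd ▸ hc))
    · exact fin _ (cls_std (by norm_num) (by norm_num) LB.orb8_ok hx hc)
        (cls_std (by norm_num) (by norm_num) LB.orb8_ok hy (hd ▸ hc))
    · exact fin _ (cls_std (by norm_num) (by norm_num) LB.orb0_ok hx hc)
        (cls_std (by norm_num) (by norm_num) LB.orb0_ok hy (hd ▸ hc))
  have ext : ∀ {x y : Λ}, sqNorm x.1 = 32 → sqNorm y.1 = 32 → dotInt U.1 x.1 = dotInt U.1 y.1 →
      x = U → y = U := by
    rintro _ y - hy hd rfl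
    have := sqNorm_sub U.1 y.1
    rw [← hd, dot_self, hy, norm_U] at this
    exact Subtype.ext (sub_eq_zero.1 (sqNorm_eq_zero this)).symm
  have ng : ∀ x : Λ, sqNorm x.1 = 32 → sqNorm (-x).1 = 32 := fun x h => (sqNorm_neg _).trans h
  have ngd : dotInt U.1 (-x).1 = dotInt U.1 (-y).1 :=
    (dot_neg _ _).trans ((congrArg Neg.neg hd).trans (dot_neg _ _).symm)
  rcases dot_min_cases norm_U hx with h | h | h
  · exact ⟨1, one_mem _, by rw [ext hx hy hd h, h, one_smul]⟩
  · have h' : -x = U := by rw [h, neg_neg]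
    exact ⟨1, one_mem _, neg_injective (by rw [one_smul, ext (ng x hx) (ng y hy) ngd h', h'])⟩
  · by_cases h2 : 0 ≤ dotInt U.1 x.1
    · exact key hx hy hd (by simp only [mem_insert, mem_singleton] at h ⊢; omega)
    · obtain ⟨g, hg, e⟩ := key (ng x hx) (ng y hy) ngd (by
        have : dotInt U.1 (-x).1 = -dotInt U.1 x.1 := dot_neg _ _
        simp only [mem_insert, mem_singleton] at h ⊢; omega)
      exact ⟨g, hg, neg_injective (by rw [← smul_neg', e])⟩

/-- `Co0` is transitive on pairs of minimal vectors with a given inner product. -/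
theorem pair_trans {u x v y : Λ} (hu : sqNorm u.1 = 32) (hx : sqNorm x.1 = 32) (hv : sqNorm v.1 = 32)
    (hy : sqNorm y.1 = 32) (hd : dotInt u.1 x.1 = dotInt v.1 y.1) :
    ∃ g : Co0, g • u = v ∧ g • x = y := by
  obtain ⟨a, -, rfl⟩ := min_std hu
  obtain ⟨b, -, rfl⟩ := min_std hv
  obtain ⟨x, rfl⟩ := smul_surj a x
  obtain ⟨y, rfl⟩ := smul_surj b y
  rw [sqNorm_smul] at hx hy
  rw [dot_smul, dot_smul] at hd
  obtain ⟨g, hg, rfl⟩ := cls_trans0 hx hy hd
  exact ⟨b * g * a⁻¹, by rw [mul_smul, inv_smul_smul, mul_smul, mem_stabilizer_iff.1 (bg_le_C2 hg)],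
    by rw [mul_smul, inv_smul_smul, mul_smul]⟩

/-- The number of minimal vectors with a given inner product with a minimal vector. -/
theorem ncard_dot {u : Λ} (hu : sqNorm u.1 = 32) {c : ℤ} (hc : 8 ∣ c ∧ -64 ≤ c ∧ c ≤ 64) :
    {x : Λ | sqNorm x.1 = 32 ∧ dotInt u.1 x.1 = c}.ncard = pop 196560 (clsV 196560 LB.X pU c) := by
  obtain ⟨a, -, rfl⟩ := min_std hu
  rw [← ncard_min (P := fun x => dotInt U.1 x.1 = c) fun i hi =>
    (bF.testBit_clsV' hi U_eq (by rw [norm_U]; norm_num) (norm_bf hi) hc).symm,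
    ← Set.ncard_image_of_injective {x : Λ | sqNorm x.1 = 32 ∧ dotInt U.1 x.1 = c} (MulAction.injective a)]
  congr 1
  ext x
  obtain ⟨x, rfl⟩ := smul_surj a x
  rw [(MulAction.injective a).mem_set_image]
  simp only [Set.mem_ofPred_eq, sqNorm_smul, dot_smul]

theorem pop_cls : pop 196560 (clsV 196560 LB.X pU 16) = 4600 ∧
    pop 196560 (clsV 196560 LB.X pU 8) = 47104 ∧ pop 196560 (clsV 196560 LB.X pU 0) = 93150 ∧
    pop 196560 (clsV 196560 LB.X pU (-8)) = 47104 ∧ pop 196560 (clsV 196560 LB.X pU (-16)) = 4600 := by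
  decide +kernel

end H14
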