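import Cfsg.Agent.H14.LeechT
import Cfsg.Prelude.Def_SporadicCombinatorics

/-! The standard frame and its stabiliser `Mon` (`mem_Mon_iff`, `card_Mon`), transitivity on
vectors of norm 48 and 64 (`tri_trans`, `trans48`, `trans64`), the orders of `Co0`, of the
stabilisers of short vectors and pairs, and the numbers of vectors of norm 48 and 64. -/

set_option autoImplicit false

namespace H14
open Cfsg MulAction Finset
open scoped Pointwise

theorem dot_fr (p : GolayPt) (x : V) : dotInt (fr p).1 x = 8 * x p := by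
  simp [fr, dotInt, Pi.single_apply]

theorem norm_fr (p : GolayPt) : sqNorm (fr p).1 = 64 := by simp [fr, sqNorm, Pi.single_apply]

theorem fr_apply (p q : GolayPt) : (fr p).1 q = if q = p then 8 else 0 := Pi.single_apply _ _ _

theorem mon_fr (σ : M24) {c : Finset GolayPt} (hc : c ∈ GC) (p : GolayPt) :
    (sgn c hc * permH σ) • fr p = if σ • p ∈ c then -fr (σ • p) else fr (σ • p) :=
  Subtype.ext (funext fun q => by
    rw [mul_smul, sgn_apply, permH_apply, fr_apply]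
    split_ifs <;> simp_all [fr_apply, inv_smul_eq_iff])

theorem mem_Mon_of_frame {g : Co0} (h : ∀ p, ∃ q, g • fr p = fr q ∨ g • fr p = -fr q) : g ∈ Mon := by
  choose s hs using h
  have key : ∀ (x : Λ) p, (g • x : Λ).1 (s p) = if g • fr p = fr (s p) then x.1 p else -x.1 p := by
    intro x p
    have h1 := dot_smul g (fr p) x
    rw [dot_fr] at h1
    split_ifs with h2
    · rw [h2, dot_fr] at h1; omega
    · rw [(hs p).resolve_left h2, show (-fr (s p) : Λ).1 = -(fr (s p)).1 from rfl, neg_dot,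
        dot_fr] at h1
      omega
  have inj : Function.Injective s := fun p q e => by
    have h1 := key (fr p) p
    have h2 := key (fr p) q
    rw [← e, h1, fr_apply, fr_apply, if_pos rfl] at h2
    by_contra h3
    rw [if_neg (Ne.symm h3)] at h2
    split_ifs at h2 <;> omega
  let σ : Equiv.Perm GolayPt := Equiv.ofBijective s (Finite.injective_iff_bijective.1 inj)
  have hσ : σ ∈ M24 := mem_M24_iff.2 fun t ht => by
    obtain ⟨m, hm⟩ := mem_leech.1 (g • (⟨_, (isL_ind ht).mem⟩ : Λ)).2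
    refine GC_congr hm.code fun q => ?_
    obtain ⟨p, rfl⟩ := σ.surjective q
    rw [show σ p = σ • p from rfl, smul_mem_smul_finset_iff, mem_cs, show σ • p = s p from rfl, key]
    simp only [ind]
    split_ifs <;> simp [*]
  let c := univ.filter fun q => g • fr (σ⁻¹ q) ≠ fr q
  have hc' : ∀ p, s p ∈ c ↔ g • fr p ≠ fr (s p) := fun p => by
    rw [mem_filter, show σ⁻¹ (s p) = p from σ.symm_apply_apply p]; simp
  have hc : c ∈ GC := by
    obtain ⟨m, hm⟩ := mem_leech.1 (g • lT).2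
    refine GC_congr hm.code fun q => ?_
    obtain ⟨p, rfl⟩ := σ.surjective q
    rw [show σ p = s p from rfl, hc', mem_cs, key]
    simp only [lT, tv]
    split_ifs with h1 <;> simp [h1]
  refine ⟨⟨σ, hσ⟩, c, hc, eq_of_frame fun p => ?_⟩
  rw [mon_fr, show (⟨σ, hσ⟩ : M24) • p = s p from rfl]
  split_ifs with h1
  · exact (hs p).resolve_left ((hc' p).1 h1)
  · exact not_not.1 (mt (hc' p).2 h1)

theorem mem_Mon_iff {g : Co0} : g ∈ Mon ↔ ∀ p, ∃ q, g • fr p = fr q ∨ g • fr p = -fr q :=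
  ⟨fun ⟨σ, c, hc, e⟩ p => ⟨σ • p, by rw [e, mon_fr]; split_ifs <;> simp⟩, mem_Mon_of_frame⟩

theorem fr_ne_neg (p q : GolayPt) : fr p ≠ -fr q := fun e => by
  have : (fr p).1 p = -(fr q).1 p := congrFun (congrArg Subtype.val e) p
  rw [fr_apply, fr_apply, if_pos rfl] at this
  split_ifs at this <;> omega

theorem fr_inj : Function.Injective fr := fun p q e => by
  have : (fr p).1 p = (fr q).1 p := congrFun (congrArg Subtype.val e) p
  rw [fr_apply, fr_apply, if_pos rfl] at this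
  split_ifs at this with h
  exacts [h, by omega]

theorem mon_inj {σ τ : M24} {c d : Finset GolayPt} {hc : c ∈ GC} {hd : d ∈ GC}
    (e : sgn c hc * permH σ = sgn d hd * permH τ) : σ = τ ∧ c = d := by
  have h1 : ∀ p, σ • p = τ • p ∧ (σ • p ∈ c ↔ τ • p ∈ d) := fun p => by
    have := mon_fr σ hc p
    rw [e, mon_fr] at this
    split_ifs at this with a b b
    · exact ⟨(fr_inj (neg_injective this)).symm, by simp [a, b]⟩
    · exact absurd this.symm (fr_ne_neg _ _)
    · exact absurd this (fr_ne_neg _ _)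
    · exact ⟨(fr_inj this).symm, by simp [a, b]⟩
  obtain rfl : σ = τ := Subtype.ext (Equiv.ext fun p => (h1 p).1)
  exact ⟨rfl, ext fun q => by obtain ⟨p, rfl⟩ := smul_surj σ q; exact (h1 p).2⟩

theorem card_Mon : Nat.card Mon = 4096 * 244823040 := by
  rw [← ncard_GC, ← card_M24, ← Nat.card_coe_set_eq, ← Nat.card_prod]
  refine (Nat.card_eq_of_bijective (fun x : GC × M24 =>
    (⟨sgn x.1.1 x.1.2 * permH x.2, x.2, x.1.1, x.1.2, rfl⟩ : Mon)) ⟨fun x y e => ?_, ?_⟩).symm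
  · have := mon_inj (congrArg Subtype.val e)
    exact Prod.ext (Subtype.ext this.2) this.1
  · rintro ⟨_, σ, c, hc, rfl⟩; exact ⟨(⟨c, hc⟩, σ), rfl⟩

/-- `4 e_p + s e_q`. -/
def l4 (p q : GolayPt) (s : ℤ) (hs : s % 8 = 4) : Λ := ⟨_, four_mem (p := p) (q := q) hs⟩

theorem l4_apply (p q : GolayPt) (s : ℤ) (hs : s % 8 = 4) (i : GolayPt) :
    (l4 p q s hs).1 i = (if i = p then 4 else 0) + if i = q then s else 0 := by
  simp only [l4, Pi.add_apply, Pi.single_apply]

theorem norm_l4 {p q : GolayPt} (h : p ≠ q) {s : ℤ} (hs : s % 8 = 4) (h2 : s ^ 2 = 16) :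
    sqNorm (l4 p q s hs).1 = 32 := (norm_four h s).trans (by omega)

theorem shape_four {a : Λ} (ha : sqNorm a.1 = 32) {p : GolayPt} (hp : a.1 p = 4) :
    ∃ q ≠ p, a = l4 p q 4 rfl ∨ a = l4 p q (-4) rfl := by
  obtain ⟨m, h⟩ := mem_leech.1 a.2
  obtain rfl : m = 0 := by have := h.par p; omega
  have h0 : (cs a.1).card = 0 := by
    have h1 := sqNorm_split a.1 (cs a.1)
    have h2 := le_sum_sq fun i (hi : i ∈ cs a.1) => four_le_sq (h.two hi)
    have h3 := sum_sq_erase a.1 (c := (cs a.1)ᶜ) (p := p) (by simp [hp])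
    have h4 := sum_sq_nonneg a.1 ((cs a.1)ᶜ.erase p)
    have h5 := card_mem_GC h.code
    rw [hp] at h3
    omega
  have h4 : ∀ i, a.1 i % 4 = 0 := fun i => h.zero (by rw [card_eq_zero.1 h0]; simp)
  have h5 := sqNorm_erase a.1 p
  rw [hp] at h5
  obtain ⟨q, hq, hq'⟩ := exists_four (c := univ.erase p) (fun i _ => h4 i) (by omega) (by omega)
  have h6 := eq_of_sum_sq (x := a.1) (c := (univ.erase p).erase q) (a := 0)
    (fun _ _ => sq_nonneg _) (by have := sum_sq_erase a.1 hq; omega)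
  have key : ∀ s hs, a.1 q = s → a = l4 p q s hs := fun s hs e => Subtype.ext (funext fun i => by
    rw [l4_apply]
    by_cases h1 : i = p
    · rw [h1, if_pos rfl, if_neg (ne_of_mem_erase hq).symm, hp]; rfl
    by_cases h2 : i = q
    · rw [if_neg h1, if_pos h2, h2, e, zero_add]
    · rw [if_neg h1, if_neg h2]; exact pow_eq_zero_iff two_ne_zero |>.1 (h6 i (by simp [h1, h2])))
  exact ⟨q, ne_of_mem_erase hq, (pm_of_sq 4 hq').imp (key _ _) (key _ _)⟩

theorem fr_eq_add (p q : GolayPt) : fr p = l4 p q 4 rfl + l4 p q (-4) rfl :=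
  Subtype.ext (funext fun i => by
    rw [AddSubgroup.coe_add, Pi.add_apply, l4_apply, l4_apply, fr_apply]; split_ifs <;> omega)

theorem fr_eq_sub (p q : GolayPt) : fr q = l4 p q 4 rfl - l4 p q (-4) rfl :=
  Subtype.ext (funext fun i => by
    rw [AddSubgroup.coe_sub, Pi.sub_apply, l4_apply, l4_apply, fr_apply]; split_ifs <;> omega)

theorem stab_fr_le (p : GolayPt) : stabilizer Co0 (fr p) ≤ Mon := fun g hg => mem_Mon_of_frame fun q => by
  by_cases h : p = q
  · exact ⟨p, Or.inl (h ▸ hg)⟩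
  have h1 := dot_smul_of_fix hg (l4 p q 4 rfl)
  rw [dot_fr, dot_fr, l4_apply, if_pos rfl, if_neg h] at h1
  have e : g • fr q = g • l4 p q 4 rfl + g • l4 p q 4 rfl - fr p := by
    rw [← mem_stabilizer_iff.1 hg, ← smul_add, ← smul_sub, fr_eq_add p q, fr_eq_sub p q]
    congr 1; abel
  obtain ⟨r, -, h2 | h2⟩ := shape_four ((sqNorm_smul g (l4 p q 4 rfl)).trans (norm_l4 h rfl rfl))
    (p := p) (by omega)
  · exact ⟨r, Or.inl (by rw [e, h2, fr_eq_add p r, fr_eq_sub p r]; abel)⟩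
  · exact ⟨r, Or.inr (by rw [e, h2, fr_eq_add p r, fr_eq_sub p r]; abel)⟩

theorem exists_GC_mem (p : GolayPt) (a : Prop) : ∃ c ∈ GC, (p ∈ c ↔ a) := by
  by_cases h : a
  exacts [⟨univ, univ_mem_GC, by simp [h]⟩, ⟨∅, empty_mem_GC, by simp [h]⟩]

theorem ncard_frame : {y : Λ | ∃ q, y = fr q ∨ y = -fr q}.ncard = 48 := by
  have : {y : Λ | ∃ q, y = fr q ∨ y = -fr q} = Set.range fr ∪ Set.range fun q => -fr q := by
    ext y; simp only [Set.mem_ofPred_eq, Set.mem_union, Set.mem_range, exists_or, eq_comm]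
  rw [this, Set.ncard_union_eq, Set.ncard_range_of_injective fr_inj,
    Set.ncard_range_of_injective (f := fun q => -fr q) (neg_injective.comp fr_inj),
    Nat.card_eq_fintype_card, card_golayPt]
  rw [Set.disjoint_left]
  rintro _ ⟨p, rfl⟩ ⟨q, e⟩
  exact fr_ne_neg p q e.symm

theorem card_stab_fr (p : GolayPt) : Nat.card (stabilizer Co0 (fr p)) = 2048 * 10200960 := by
  have h := card_inf_stabilizer_mul Mon (fr p)
  have e : {y | ∃ g ∈ Mon, g • fr p = y} = {y : Λ | ∃ q, y = fr q ∨ y = -fr q} := by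
    ext y
    constructor
    · rintro ⟨g, hg, rfl⟩; exact mem_Mon_iff.1 hg p
    · rintro ⟨q, h⟩
      obtain ⟨σ, rfl⟩ := M24_exists_smul1 p q
      obtain ⟨c, hc, e⟩ := exists_GC_mem (σ • p) (y ≠ fr (σ • p))
      refine ⟨_, ⟨σ, c, hc, rfl⟩, ?_⟩
      rw [mon_fr]
      split_ifs with h1
      · exact (h.resolve_left (e.1 h1)).symm
      · exact (not_not.1 (mt e.2 h1)).symm
  rw [e, ncard_frame, card_Mon, inf_eq_right.2 (stab_fr_le p)] at h
  omega

/-! ### Triangles -/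

theorem tri_trans {u v a b : Λ} (h : sqNorm u.1 = sqNorm v.1) (ha : sqNorm a.1 = 32)
    (ha' : sqNorm (u.1 - a.1) = 32) (hb : sqNorm b.1 = 32) (hb' : sqNorm (v.1 - b.1) = 32) :
    ∃ g : Co0, g • u = v ∧ g • a = b := by
  obtain ⟨g, h1, h2⟩ := pair_trans (x := u - a) (y := v - b) ha ha' hb hb' (by
    have e1 := sqNorm_add a.1 (u.1 - a.1)
    have e2 := sqNorm_add b.1 (v.1 - b.1)
    rw [add_sub_cancel] at e1 e2
    show dotInt a.1 (u.1 - a.1) = dotInt b.1 (v.1 - b.1)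
    omega)
  exact ⟨g, by rw [← sub_add_cancel u a, smul_add, h1, h2, sub_add_cancel], h1⟩

theorem exists_tri {u : Λ} (h : sqNorm u.1 = 48 ∨ sqNorm u.1 = 64) :
    ∃ a : Λ, sqNorm a.1 = 32 ∧ sqNorm (u.1 - a.1) = 32 := by
  rcases h with h | h
  · obtain ⟨a, ha, h1, h2⟩ := split48 u.2 h
    exact ⟨⟨a, ha⟩, h1, by rw [sqNorm_sub, dot_comm, h, h1, h2]; rfl⟩
  · obtain ⟨a, ha, h1, h2⟩ := split64 u.2 h
    exact ⟨⟨a, ha⟩, h1, by rw [sqNorm_sub, dot_comm, h, h1, h2]; rfl⟩

theorem shell_trans {u v : Λ} (h : sqNorm u.1 = sqNorm v.1) (hu : sqNorm u.1 ≤ 64) :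
    ∃ g : Co0, g • u = v := by
  by_cases h0 : u.1 = 0
  · have : v.1 = 0 := sqNorm_eq_zero (by rw [← h, h0]; simp [sqNorm])
    exact ⟨1, Subtype.ext (h0.trans this.symm)⟩
  have h1 := min_norm u.2 h0
  have h2 := sixteen_dvd u.2
  by_cases h3 : sqNorm u.1 = 32
  · exact min_trans h3 (h ▸ h3)
  obtain ⟨a, ha⟩ := exists_tri (u := u) (by omega)
  obtain ⟨b, hb⟩ := exists_tri (u := v) (by omega)
  exact (tri_trans h ha.1 ha.2 hb.1 hb.2).imp fun _ h => h.1

theorem orbit_eq_shell {u : Λ} (hu : sqNorm u.1 ≤ 64) :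
    orbit Co0 u = {x : Λ | sqNorm x.1 = sqNorm u.1} :=
  Set.ext fun _ => ⟨fun ⟨g, e⟩ => e ▸ sqNorm_smul g u, fun h => shell_trans h.symm hu⟩

theorem card_stab_mul_shell {u : Λ} (hu : sqNorm u.1 ≤ 64) :
    Nat.card (stabilizer Co0 u) * {x : Λ | sqNorm x.1 = sqNorm u.1}.ncard = Nat.card Co0 := by
  rw [← orbit_eq_shell hu, card_stabilizer_mul]

theorem card_pair_mul {u x : Λ} (hu : sqNorm u.1 = 32) (hx : sqNorm x.1 = 32) :
    Nat.card (stabilizer Co0 u ⊓ stabilizer Co0 x : Subgroup Co0) *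
      {y : Λ | sqNorm y.1 = 32 ∧ dotInt u.1 y.1 = dotInt u.1 x.1}.ncard =
        Nat.card (stabilizer Co0 u) := by
  refine Eq.trans ?_ (card_inf_stabilizer_mul _ x)
  congr 2
  ext y
  exact ⟨fun h => pair_trans hu hx hu h.1 h.2.symm,
    fun ⟨g, hg, e⟩ => e ▸ ⟨(sqNorm_smul g x).trans hx, dot_smul_of_fix hg x⟩⟩

theorem norm_sub_iff {u y : Λ} {k : ℤ} (hu : sqNorm u.1 = 2 * k) (hy : sqNorm y.1 = 32) :
    sqNorm (u.1 - y.1) = 32 ↔ dotInt u.1 y.1 = k := by rw [sqNorm_sub]; omega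

theorem card_tri_mul {u x : Λ} {k : ℤ} (hu : sqNorm u.1 = 2 * k) (hx : sqNorm x.1 = 32)
    (hd : dotInt u.1 x.1 = k) :
    Nat.card (stabilizer Co0 u ⊓ stabilizer Co0 x : Subgroup Co0) * (Cls1 u k : Set Λ).ncard =
      Nat.card (stabilizer Co0 u) := by
  refine Eq.trans ?_ (card_inf_stabilizer_mul _ x)
  congr 2
  ext y
  exact ⟨fun h => tri_trans rfl hx ((norm_sub_iff hu hx).2 hd) h.1 ((norm_sub_iff hu h.1).2 h.2),
    fun ⟨g, hg, e⟩ => e ▸ (Cls1 u k).smul_mem ⟨g, hg⟩ ⟨hx, hd⟩⟩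

theorem stab_inf_sub (u x : Λ) :
    stabilizer Co0 u ⊓ stabilizer Co0 x = stabilizer Co0 x ⊓ stabilizer Co0 (u - x) := by
  ext g
  simp only [Subgroup.mem_inf, mem_stabilizer_iff, smul_sub]
  exact ⟨fun h => ⟨h.2, by rw [h.1, h.2]⟩, fun h => ⟨by rw [h.1] at h; simpa using h.2, h.1⟩⟩

theorem stab_neg (u : Λ) : stabilizer Co0 (-u) = stabilizer Co0 u := by
  ext g; simp only [mem_stabilizer_iff, smul_neg, neg_inj]

abbrev U' : Λ := Spor.leechU'
abbrev VV : Λ := Spor.leechV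
abbrev pU' : ℕ := 0x84808080808080808080808080808080808080808080807c
abbrev pV : ℕ := 0x7b7f7f7f7f7f7f7f7f7f7f7f7f7f7f7f7f7f7f7f7f7f7f7f
abbrev pF : ℕ := 0x888080808080808080808080808080808080808080808080
theorem U'_eq : U'.1 = vecN pU' := by decide +kernel
theorem VV_eq : VV.1 = vecN pV := by decide +kernel
theorem fr_eq : (fr none).1 = vecN pF := by decide +kernel
theorem norm_U' : sqNorm U'.1 = 32 := by decide +kernel
theorem norm_VV : sqNorm VV.1 = 48 := by decide +kernel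

theorem pop_cls2 : pop 196560 (clsV 196560 LB.X pF 32) = 46 ∧
    pop 196560 (clsV 196560 LB.X pV 24) = 552 ∧ pop 196560 (clsV 196560 LB.X pV (-24)) = 552 ∧
    pop 196560 (clsV 196560 LB.X pV (-16)) = 11178 := by decide +kernel

theorem card_C2 : Nat.card C2 = 42305421312000 := by
  have h1 := card_tri_mul (u := fr none) (x := U) (k := 32) (norm_fr _) norm_U (by decide +kernel)
  have h2 := card_pair_mul (x := fr none - U) norm_U (by decide +kernel)
  rw [ncard_Cls1 fr_eq (norm_fr _).le (by norm_num), pop_cls2.1, card_stab_fr, stab_inf_sub] at h1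
  rw [show dotInt U.1 (fr none - U).1 = 0 by decide +kernel, ncard_dot norm_U (by norm_num),
    pop_cls.2.2.1] at h2
  rw [← h2, Nat.eq_of_mul_eq_mul_right (by norm_num) (h1.trans (show _ = 454164480 * 46 by norm_num))]

theorem card_Co0 : Nat.card Co0 = 8315553613086720000 := by
  rw [← card_stab_mul_shell (u := U) (by rw [norm_U]; norm_num), norm_U, ncard_shell32, card_C2]

instance finite_Co0 : Finite Co0 := Nat.finite_of_card_ne_zero (by rw [card_Co0]; norm_num)

theorem card_stab32 {u : Λ} (hu : sqNorm u.1 = 32) : Nat.card (stabilizer Co0 u) = 42305421312000 := by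
  have := card_stab_mul_shell (u := u) (by omega)
  rw [hu, ncard_shell32, card_Co0] at this
  omega

theorem card_pair {u x : Λ} (hu : sqNorm u.1 = 32) (hx : sqNorm x.1 = 32) {c : ℤ}
    (hc : dotInt u.1 x.1 = c) (hc' : 8 ∣ c ∧ -64 ≤ c ∧ c ≤ 64) :
    Nat.card (stabilizer Co0 u ⊓ stabilizer Co0 x : Subgroup Co0) *
      pop 196560 (clsV 196560 LB.X pU c) = 42305421312000 := by
  rw [← ncard_dot hu hc', ← hc, card_pair_mul hu hx, card_stab32 hu]

theorem card_pair8 {u x : Λ} (hu : sqNorm u.1 = 32) (hx : sqNorm x.1 = 32) (hc : dotInt u.1 x.1 = -8) :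
    Nat.card (stabilizer Co0 u ⊓ stabilizer Co0 x : Subgroup Co0) = 898128000 := by
  have := card_pair hu hx hc (by norm_num)
  rw [pop_cls.2.2.2.1] at this; omega

theorem card_pair16 {u x : Λ} (hu : sqNorm u.1 = 32) (hx : sqNorm x.1 = 32)
    (hc : dotInt u.1 x.1 = -16) :
    Nat.card (stabilizer Co0 u ⊓ stabilizer Co0 x : Subgroup Co0) = 9196830720 := by
  have := card_pair hu hx hc (by norm_num)
  rw [pop_cls.2.2.2.2] at this; omega

/-- `Co3`, `McL`, `HS` inside `Co0`. -/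
abbrev C3 : Subgroup Co0 := stabilizer Co0 VV
abbrev CM : Subgroup Co0 := stabilizer Co0 VV ⊓ stabilizer Co0 U
abbrev CH : Subgroup Co0 := stabilizer Co0 VV ⊓ stabilizer Co0 U'

theorem card_CM : Nat.card CM = 898128000 := by
  rw [CM, ← stab_neg U, stab_inf_sub]
  exact card_pair8 (by decide +kernel) (by decide +kernel) (by decide +kernel)

theorem card_C3 : Nat.card C3 = 495766656000 := by
  have h1 := card_tri_mul (u := VV) (x := -U) (k := 24) norm_VV (by decide +kernel) (by decide +kernel)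
  rw [ncard_Cls1 VV_eq (by rw [norm_VV]; norm_num) (by norm_num), pop_cls2.2.1, stab_neg, card_CM] at h1
  exact h1.symm

theorem ncard_shell48 : {x : Λ | sqNorm x.1 = 48}.ncard = 16773120 := by
  have := card_stab_mul_shell (u := VV) (by rw [norm_VV]; norm_num)
  rw [norm_VV, card_C3, card_Co0] at this
  omega

theorem ncard_shell64 : {x : Λ | sqNorm x.1 = 64}.ncard = 398034000 := by
  have := card_stab_mul_shell (norm_fr none).le
  rw [norm_fr, card_stab_fr, card_Co0] at this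
  omega

theorem mem_stdCross {v : Λ} : v.1 ∈ stdCross ↔ ∃ q, v = fr q ∨ v = -fr q := by
  constructor
  · rintro ⟨q, s, rfl | rfl, e⟩
    · exact ⟨q, Or.inl (Subtype.ext e)⟩
    · exact ⟨q, Or.inr (Subtype.ext (e.trans (Pi.single_neg q 8)))⟩
  · rintro ⟨q, rfl | rfl⟩
    · exact ⟨q, 8, Or.inl rfl, rfl⟩
    · exact ⟨q, -8, Or.inr rfl, (Pi.single_neg q 8).symm⟩

theorem mem_Mon_iff' {g : Co0} : g ∈ Mon ↔ ∀ v : Λ, v.1 ∈ stdCross → (g • v : Λ).1 ∈ stdCross := by
  rw [mem_Mon_iff]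
  simp only [mem_stdCross]
  refine ⟨fun h v ⟨q, e⟩ => ?_, fun h p => h _ ⟨p, Or.inl rfl⟩⟩
  obtain ⟨r, hr⟩ := h q
  rcases e with rfl | rfl
  · exact ⟨r, hr⟩
  · exact ⟨r, by rw [smul_neg, neg_inj, neg_eq_iff_eq_neg]; exact hr.symm⟩

end H14
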