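import Cfsg.Agent.L.KC
import Cfsg.Agent.H14.KhJ3

/-! Generated certificate (toolsL/cg.hpp). -/
set_option autoImplicit false
set_option maxRecDepth 200000
set_option Elab.async false
set_option linter.unusedVariables false
set_option linter.unusedSectionVars false

namespace L.CvJ32
open H14 L.KhJ3T L.KhJ3
variable {G Ω : Type*} [Group G] [Finite G] [MulAction G Ω]

noncomputable def w0 : Word := [nat_lit 19, nat_lit 13, nat_lit 10]
noncomputable def w1 : Word := [nat_lit 15, nat_lit 7, nat_lit 24, nat_lit 7, nat_lit 19, nat_lit 8]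
noncomputable def w2 : Word := [nat_lit 24, nat_lit 0, nat_lit 17, nat_lit 9, nat_lit 0, nat_lit 25]
noncomputable def w3 : Word := [nat_lit 5, nat_lit 10, nat_lit 18, nat_lit 4, nat_lit 25, nat_lit 0, nat_lit 23]
noncomputable def w4 : Word := [nat_lit 22, nat_lit 19, nat_lit 15, nat_lit 15, nat_lit 21, nat_lit 12]
noncomputable def w5 : Word := [nat_lit 2, nat_lit 17, nat_lit 7, nat_lit 15, nat_lit 21, nat_lit 6, nat_lit 14]
noncomputable def w6 : Word := [nat_lit 22, nat_lit 4, nat_lit 22, nat_lit 4, nat_lit 15, nat_lit 12, nat_lit 23]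
noncomputable def zs : List Word := [w0, w1, w2, w3, w4, w5, w6]
noncomputable def w7 : Word := [nat_lit 17, nat_lit 15, nat_lit 0, nat_lit 12, nat_lit 15, nat_lit 10]
noncomputable def w8 : Word := [nat_lit 3, nat_lit 18, nat_lit 17, nat_lit 7]
noncomputable def w9 : Word := [nat_lit 18, nat_lit 21, nat_lit 10, nat_lit 7, nat_lit 20, nat_lit 7, nat_lit 20]
noncomputable def hs : List Word := [w7, w8, w9]
noncomputable def ws : List Word := List.append zs hs
theorem k10 : nrmRow F bs0 ws (nat_lit 7) (nat_lit 0) (nat_lit 1) [[nat_lit 2],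
 [nat_lit 12, nat_lit 6, nat_lit 4],
 [nat_lit 12, nat_lit 6],
 [nat_lit 10, nat_lit 8],
 [nat_lit 10],
 [nat_lit 12]] (nat_lit 255) = true := by decide +kernel
theorem k11 : nrmRow F bs0 ws (nat_lit 7) (nat_lit 1) (nat_lit 2) [[nat_lit 8, nat_lit 4],
 [nat_lit 12, nat_lit 10, nat_lit 6],
 [nat_lit 12, nat_lit 8],
 [nat_lit 10],
 [nat_lit 12]] (nat_lit 255) = true := by decide +kernel
theorem k12 : nrmRow F bs0 ws (nat_lit 7) (nat_lit 2) (nat_lit 3) [[nat_lit 12, nat_lit 6],
 [nat_lit 12, nat_lit 8],
 [nat_lit 12, nat_lit 10],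
 [nat_lit 12]] (nat_lit 255) = true := by decide +kernel
theorem k13 : nrmRow F bs0 ws (nat_lit 7) (nat_lit 3) (nat_lit 4) [[nat_lit 12, nat_lit 8],
 [nat_lit 10],
 [nat_lit 12]] (nat_lit 255) = true := by decide +kernel
theorem k14 : nrmRow F bs0 ws (nat_lit 7) (nat_lit 4) (nat_lit 5) [[nat_lit 10],
 [nat_lit 12]] (nat_lit 255) = true := by decide +kernel
theorem k15 : nrmRow F bs0 ws (nat_lit 7) (nat_lit 5) (nat_lit 6) [[nat_lit 12]] (nat_lit 255) = true := by decide +kernel
theorem k16 : nrmRow F bs0 ws (nat_lit 7) (nat_lit 6) (nat_lit 7) [] (nat_lit 255) = true := by decide +kernel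
theorem k17 : nrmRow F bs0 ws (nat_lit 7) (nat_lit 7) (nat_lit 2) [[nat_lit 12, nat_lit 10, nat_lit 8, nat_lit 6, nat_lit 4],
 [nat_lit 12, nat_lit 10, nat_lit 8, nat_lit 6],
 [nat_lit 10, nat_lit 6],
 [nat_lit 12, nat_lit 10],
 [nat_lit 12]] (nat_lit 236) = true := by decide +kernel
theorem k18 : nrmRow F bs0 ws (nat_lit 7) (nat_lit 8) (nat_lit 5) [[nat_lit 12],
 [nat_lit 10]] (nat_lit 160) = true := by decide +kernel
theorem k19 : nrmRow F bs0 ws (nat_lit 7) (nat_lit 9) (nat_lit 6) [[nat_lit 12]] (nat_lit 192) = true := by decide +kernel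
noncomputable def nm : List Nat := [nat_lit 255, nat_lit 255, nat_lit 255, nat_lit 255, nat_lit 255, nat_lit 255, nat_lit 255, nat_lit 236, nat_lit 160, nat_lit 192]
theorem hn (M : PM G Ω 6156 H15.StdJ3.nets) (hN : Nat.card G = 50232960) : NrmL (loc M.gen ws) 7 0 nm :=
  (nrm_cons (base0 M hN) k10 (nrm_cons (base0 M hN) k11 (nrm_cons (base0 M hN) k12 (nrm_cons (base0 M hN) k13 (nrm_cons (base0 M hN) k14 (nrm_cons (base0 M hN) k15 (nrm_cons (base0 M hN) k16 (nrm_cons (base0 M hN) k17 (nrm_cons (base0 M hN) k18 (nrm_cons (base0 M hN) k19 trivial))))))))))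
noncomputable def s20 : Nat := (nat_lit 0x20000000000000000000000000000000000000000000000000000000000000000000000000000000000000000000000000000000000000000000000000000800000000000000000000000000000000000000000000000000000000040100000000000000000000000000000000000000000000000000000000000020000000000000000000000000000000000000000000000000000000000000000000000000000000000000000000000000000000000000000000000000000000000000000000000000000000000000000000000000000000000000000000000000000000000000000000000000000000000000000000000000000000000000000000000000000000000000000000000000000000000000000000000000000000000000000000000000000000000000000000000000000000000000080000000000000000000000000000000000000000000000000000000000000000000000000000000000000000800000000000000000000000000000000000000000000000000000000000000000000000000000000000000000000000000000000000000000000000000000000000000000000000000000000000000000000000000000000000000000000000000000000000000000000000000000000000000000000000000000000000000000000000000000000000400080000000000000200000000000000000000000000000000000000000000000000000000000000000000000000000000000000000000000000000000000000000000000000000000000000000000000000000000000000000000004000000000000000000000000000000000000000000000000000000000010000000000000000000000000000000000000000000000000000000000000000000000000000000000400000000000000000000010000000000000000000000000000000000000000000000000000200000000000000001000000000000000000000000)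
noncomputable def s21 : Nat := (nat_lit 0x40000000000000000000000000000000000000000000000000000000000000000000000000000000000000000000000000000000000000000000000000000000000200000000000000000000000000000000000000000000000000000000000000000000000000000000000000000000000000000000000000000000000000000000000000000000000000000000000000000000000000000000000000000000000000000000000000000000000000000000000000000000000000000000000000000000000000000000000000000000000000000000000000000000000000000000000000000000000000000000000000000000000000000008000000000000000000000000000000000000400000000000000000000000000000000000000000000000000000000000000000000000000000000000000000000000000000000000080000000000000000000000000000000000000000000000000000000000000000000000000000000000000000000000000000080000000000000000000000000000000000000000000000000000000000000000000000000000000000000000000000000000000000000000000000000000000000000000000000000000000000000000000000000000000000000000000000000000000000000000000000000000000000000000000000000000000000000000000000000000000000000000000000000000000000000000000000000000000000000000000000000000000000000000000000000000000000000000000000000000080000000000000000000000000000000000000000000000000000000000000000000000000000000000000000000000000000000000000000000000000000000000000000000000000000000000000000000000000000000000000000000000000000000000000000000000000000000000000000000000000000000000000000000000000000000000000000000000000000000000000000000000000000000000000000000000000000000000000000004000000)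
noncomputable def c22 : Chn := [((nat_lit 96), s20), ((nat_lit 26), s21)]
noncomputable def d23 : List OD := [⟨[nat_lit 0, nat_lit 1, nat_lit 2], [], (dn (nat_lit 20) (nat_lit 0x4dc034dc0105e0305e021a9431a9412cfc34de83595431bb831bb8207483074820748101803))⟩,
 ⟨[nat_lit 0, nat_lit 1, nat_lit 5], [], (dn (nat_lit 20) (nat_lit 0x169c35da833c2833c282006830068200681))⟩]
theorem k24 : ocChk (nat_lit 6156) H15.StdJ3.nets F zs c22 d23 [] = true := by decide +kernel
theorem o25 (M : PM G Ω 6156 H15.StdJ3.nets) (hN : Nat.card G = 50232960) : OC M (Nn (loc M.gen ws) 7 0) [] c22 :=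
  oc_of (sub_le_Nn M.gen zs hs (m := 7) rfl) k24
theorem k26 : powChk F bs0 ws (nat_lit 2) (nat_lit 7) nm [[],
 [],
 [nat_lit 12],
 [nat_lit 12],
 [nat_lit 12],
 [],
 []] = true := by decide +kernel
theorem pc (M : PM G Ω 6156 H15.StdJ3.nets) (hN : Nat.card G = 50232960) : Pc (loc M.gen ws) 2 7 ∧ ∀ i ≤ 7, Nat.card (Nn (loc M.gen ws) 7 i) = 2 ^ (7 - i) :=
  pc_of (base0 M hN) (by norm_num) (hn M hN) k26 (OC.le_card' (o25 M hN) (by decide +kernel))
noncomputable def ra : Word := [nat_lit 22, nat_lit 4, nat_lit 22, nat_lit 4, nat_lit 15, nat_lit 12, nat_lit 23] -- fix 76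
noncomputable def reps : List Word := [ra]
noncomputable def cl : List (Word × Nat) := [([], (nat_lit 6)),
 ([nat_lit 10], (nat_lit 6)),
 ([nat_lit 8], (nat_lit 6)),
 ([nat_lit 2], (nat_lit 6)),
 ([], (nat_lit 5)),
 ([nat_lit 8], (nat_lit 5)),
 ([nat_lit 4], (nat_lit 5)),
 ([nat_lit 2], (nat_lit 5)),
 ([], (nat_lit 4)),
 ([nat_lit 6], (nat_lit 4)),
 ([nat_lit 4], (nat_lit 4)),
 ([nat_lit 2], (nat_lit 4)),
 ([nat_lit 6, nat_lit 2], (nat_lit 4)),
 ([nat_lit 4, nat_lit 2], (nat_lit 4)),
 ([], (nat_lit 3)),
 ([nat_lit 4], (nat_lit 3)),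
 ([nat_lit 2], (nat_lit 3)),
 ([nat_lit 4, nat_lit 2], (nat_lit 3)),
 ([], (nat_lit 2)),
 ([nat_lit 2], (nat_lit 2)),
 ([], (nat_lit 1)),
 ([nat_lit 0], (nat_lit 1)),
 ([], (nat_lit 0))]
noncomputable def i27 : List (List Ins) := [[Ins.leaf (nat_lit 1000) [], Ins.leaf (nat_lit 0) []],
 [Ins.leaf (nat_lit 0) [nat_lit 3, nat_lit 4, nat_lit 9, nat_lit 9], Ins.leaf (nat_lit 0) [nat_lit 2, nat_lit 13, nat_lit 14, nat_lit 8, nat_lit 24, nat_lit 6, nat_lit 3]],
 [Ins.ord (nat_lit 6) (nat_lit 1) [], Ins.ord (nat_lit 6) (nat_lit 1) []],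
 [Ins.leaf (nat_lit 0) [nat_lit 19, nat_lit 24, nat_lit 20, nat_lit 7, nat_lit 15, nat_lit 9], Ins.leaf (nat_lit 0) [nat_lit 24, nat_lit 21, nat_lit 14, nat_lit 8, nat_lit 23, nat_lit 4, nat_lit 20]],
 [Ins.ref (nat_lit 0), Ins.ref (nat_lit 1)],
 [Ins.ref (nat_lit 2), Ins.jmp (nat_lit 2) [nat_lit 0] []],
 [Ins.jmp (nat_lit 2) [nat_lit 1, nat_lit 18] [], Ins.jmp (nat_lit 1) [nat_lit 19] [nat_lit 12]],
 [Ins.ref (nat_lit 3), Ins.jmp (nat_lit 3) [nat_lit 6] [nat_lit 12]],
 [Ins.ref (nat_lit 4), Ins.ref (nat_lit 5)],
 [Ins.jmp (nat_lit 5) [nat_lit 15] [nat_lit 12, nat_lit 10], Ins.jmp (nat_lit 5) [nat_lit 14] [nat_lit 12]],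
 [Ins.ref (nat_lit 6), Ins.jmp (nat_lit 6) [nat_lit 2] []],
 [Ins.ref (nat_lit 7), Ins.jmp (nat_lit 7) [nat_lit 4] [nat_lit 12]],
 [Ins.jmp (nat_lit 5) [nat_lit 17] [nat_lit 12], Ins.jmp (nat_lit 5) [nat_lit 4, nat_lit 17] [nat_lit 12, nat_lit 10]],
 [Ins.ord (nat_lit 4) (nat_lit 1) [], Ins.ord (nat_lit 4) (nat_lit 1) [nat_lit 12]],
 [Ins.ref (nat_lit 8), Ins.ref (nat_lit 9)],
 [Ins.ref (nat_lit 10), Ins.jmp (nat_lit 10) [nat_lit 0] [nat_lit 12]],
 [Ins.ref (nat_lit 11), Ins.ref (nat_lit 12)],
 [Ins.ref (nat_lit 13), Ins.jmp (nat_lit 13) [nat_lit 0] [nat_lit 12]],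
 [Ins.ref (nat_lit 14), Ins.ref (nat_lit 15)],
 [Ins.ref (nat_lit 16), Ins.ref (nat_lit 17)],
 [Ins.ref (nat_lit 18), Ins.ref (nat_lit 19)],
 [Ins.jmp (nat_lit 19) [nat_lit 15] [nat_lit 8], Ins.jmp (nat_lit 19) [nat_lit 14] [nat_lit 12, nat_lit 8]],
 [Ins.ref (nat_lit 20), Ins.ref (nat_lit 21)]]
theorem k28 : cvChk F bs0 ws (nat_lit 2) (nat_lit 7) nm reps cl i27 (nat_lit 0) (nat_lit 23) = true := by decide +kernel
theorem v29 (M : PM G Ω 6156 H15.StdJ3.nets) (hN : Nat.card G = 50232960) : CvA (loc M.gen ws) (Rp M.gen reps) 2 7 cl 23 :=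
  cv_step (base0 M hN) (by norm_num) (hn M hN) (pc M hN).1 (cv_zero _ _ _ _ _) k28
theorem cover (M : PM G Ω 6156 H15.StdJ3.nets) (hN : Nat.card G = 50232960) : ∀ g : G, g ^ 2 = 1 → g = 1 ∨ ∃ w ∈ reps, IsConj (ev M.gen w) g :=
  cv_end (k := 22) (by norm_num) (pc M hN).2 hN (v29 M hN) (by decide +kernel)

end L.CvJ32
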