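import Cfsg.Agent.L.KC
import Cfsg.Agent.H14.KhM22

/-! Generated certificate (toolsL/cg.hpp). -/
set_option autoImplicit false
set_option maxRecDepth 200000
set_option Elab.async false
set_option linter.unusedVariables false
set_option linter.unusedSectionVars false

namespace L.CvM223
open H14 L.KhM22T L.KhM22
variable {G Ω : Type*} [Group G] [Finite G] [MulAction G Ω]

noncomputable def w0 : Word := [nat_lit 10, nat_lit 9, nat_lit 14, nat_lit 21]
noncomputable def w1 : Word := [nat_lit 13, nat_lit 20, nat_lit 14, nat_lit 2]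
noncomputable def zs : List Word := [w0, w1]
noncomputable def w2 : Word := [nat_lit 17, nat_lit 21, nat_lit 10, nat_lit 18]
noncomputable def hs : List Word := [w2]
noncomputable def ws : List Word := List.append zs hs
theorem k3 : nrmRow F bs0 ws (nat_lit 2) (nat_lit 0) (nat_lit 1) [[nat_lit 2]] (nat_lit 7) = true := by decide +kernel
theorem k4 : nrmRow F bs0 ws (nat_lit 2) (nat_lit 1) (nat_lit 2) [] (nat_lit 7) = true := by decide +kernel
theorem k5 : nrmRow F bs0 ws (nat_lit 2) (nat_lit 2) (nat_lit 1) [[nat_lit 3]] (nat_lit 6) = true := by decide +kernel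
noncomputable def nm : List Nat := [nat_lit 7, nat_lit 7, nat_lit 6]
theorem hn (M : PM G Ω 24 H14.M22c.nets) (hN : Nat.card G = 443520) : NrmL (loc M.gen ws) 2 0 nm :=
  (nrm_cons (base0 M hN) k3 (nrm_cons (base0 M hN) k4 (nrm_cons (base0 M hN) k5 trivial)))
noncomputable def c6 : Chn := [((nat_lit 1), (nat_lit 0x4402)), ((nat_lit 4), (nat_lit 0x240010))]
noncomputable def d7 : List OD := [⟨[nat_lit 1], [], (dn (nat_lit 12) (nat_lit 0x281041))⟩,
 ⟨[nat_lit 0], [], (dn (nat_lit 12) (nat_lit 0x481101))⟩]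
theorem k8 : ocChk (nat_lit 24) H14.M22c.nets F zs c6 d7 [] = true := by decide +kernel
theorem o9 (M : PM G Ω 24 H14.M22c.nets) (hN : Nat.card G = 443520) : OC M (Nn (loc M.gen ws) 2 0) [] c6 :=
  oc_of (sub_le_Nn M.gen zs hs (m := 2) rfl) k8
theorem k10 : powChk F bs0 ws (nat_lit 3) (nat_lit 2) nm [[],
 []] = true := by decide +kernel
theorem pc (M : PM G Ω 24 H14.M22c.nets) (hN : Nat.card G = 443520) : Pc (loc M.gen ws) 3 2 ∧ ∀ i ≤ 2, Nat.card (Nn (loc M.gen ws) 2 i) = 3 ^ (2 - i) :=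
  pc_of (base0 M hN) (by norm_num) (hn M hN) k10 (OC.le_card' (o9 M hN) (by decide +kernel))
noncomputable def ra : Word := [nat_lit 13, nat_lit 20, nat_lit 14, nat_lit 2] -- fix 6
noncomputable def reps : List Word := [ra]
noncomputable def cl : List (Word × Nat) := [([], (nat_lit 1)),
 ([nat_lit 0], (nat_lit 1)),
 ([], (nat_lit 0))]
noncomputable def i11 : List (List Ins) := [[Ins.leaf (nat_lit 1000) [], Ins.leaf (nat_lit 0) [], Ins.leaf (nat_lit 0) [nat_lit 17, nat_lit 21, nat_lit 10, nat_lit 18]],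
 [Ins.leaf (nat_lit 0) [nat_lit 7, nat_lit 22, nat_lit 17, nat_lit 12], Ins.leaf (nat_lit 0) [nat_lit 23, nat_lit 14, nat_lit 9, nat_lit 16, nat_lit 0], Ins.leaf (nat_lit 0) [nat_lit 23, nat_lit 16, nat_lit 12, nat_lit 11, nat_lit 5]],
 [Ins.ref (nat_lit 0), Ins.ref (nat_lit 1), Ins.jmp (nat_lit 1) [nat_lit 5] []]]
theorem k12 : cvChk F bs0 ws (nat_lit 3) (nat_lit 2) nm reps cl i11 (nat_lit 0) (nat_lit 3) = true := by decide +kernel
theorem v13 (M : PM G Ω 24 H14.M22c.nets) (hN : Nat.card G = 443520) : CvA (loc M.gen ws) (Rp M.gen reps) 3 2 cl 3 :=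
  cv_step (base0 M hN) (by norm_num) (hn M hN) (pc M hN).1 (cv_zero _ _ _ _ _) k12
theorem cover (M : PM G Ω 24 H14.M22c.nets) (hN : Nat.card G = 443520) : ∀ g : G, g ^ 3 = 1 → g = 1 ∨ ∃ w ∈ reps, IsConj (ev M.gen w) g :=
  cv_end (k := 2) (by norm_num) (pc M hN).2 hN (v13 M hN) (by decide +kernel)

end L.CvM223
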