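import Cfsg.Agent.H14.KhMcLT
import Cfsg.Agent.L.KF

/-! Generated certificate (toolsL/cg.hpp). -/
set_option autoImplicit false
set_option maxRecDepth 200000
set_option Elab.async false
set_option linter.unusedVariables false
set_option linter.unusedSectionVars false

namespace L.KhMcL
open H14 L.KhMcLT
variable {G Ω : Type*} [Group G] [Finite G] [MulAction G Ω]

noncomputable def w0 : Word := [nat_lit 0]
noncomputable def w1 : Word := [nat_lit 2]
noncomputable def w2 : Word := [nat_lit 4]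
theorem k3 : orbChk (nat_lit 275) H14.McLc.nets F [] (sel [w0, w1, w2] [nat_lit 0, nat_lit 1, nat_lit 2]) [dw (nat_lit 0x01), dw (nat_lit 0x03), dw (nat_lit 0x05), dw (nat_lit 0x01), dw (nat_lit 0x03), dw (nat_lit 0x05), dw (nat_lit 0x01), dw (nat_lit 0x03)
, dw (nat_lit 0x05), dw (nat_lit 0x01), dw (nat_lit 0x05)] (dn (nat_lit 16) (nat_lit 0x3841224125811e811ac13d81180212823f82398236c20dc2)) (bit (nat_lit 0)) (full (nat_lit 275)) = true := by decide +kernel
theorem o4 (M : PM G Ω 275 H14.McLc.nets) (hN : Nat.card G = 898128000) : Orb M ⊤ [] (nat_lit 0) (full (nat_lit 275)) :=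
  (Orb.ext le_top (orb_bit ⊤ [] (b := (nat_lit 0)) rfl) k3)
noncomputable def s5 : Nat := (nat_lit 0x648625a84ec6a1005d108c61988aee4a2c7a4514cc630650939d47182ca1a674b2544)
noncomputable def w6 : Word := [nat_lit 8]
noncomputable def w7 : Word := [nat_lit 10]
noncomputable def w8 : Word := [nat_lit 12]
theorem k9 : orbChk (nat_lit 275) H14.McLc.nets F [nat_lit 0] (sel [w6, w7, w8] [nat_lit 0, nat_lit 1, nat_lit 2]) [dw (nat_lit 0x01), dw (nat_lit 0x03), dw (nat_lit 0x01), dw (nat_lit 0x05), dw (nat_lit 0x03), dw (nat_lit 0x05), dw (nat_lit 0x01), dw (nat_lit 0x05)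
, dw (nat_lit 0x03)] (dn (nat_lit 16) (nat_lit 0x0f42330104412741)) (bit (nat_lit 2)) s5 = true := by decide +kernel
theorem o10 (M : PM G Ω 275 H14.McLc.nets) (hN : Nat.card G = 898128000) : Orb M ⊤ [nat_lit 0] (nat_lit 2) s5 :=
  (Orb.ext le_top (orb_bit ⊤ [nat_lit 0] (b := (nat_lit 2)) rfl) k9)
noncomputable def s11 : Nat := (nat_lit 0x800000000440000601002a20020400010c06000008098010808008040b0040)
noncomputable def w12 : Word := [nat_lit 14]
theorem k13 : orbChk (nat_lit 275) H14.McLc.nets F [nat_lit 2, nat_lit 0] (sel [w8, w12] [nat_lit 0, nat_lit 1]) [dw (nat_lit 0x01), dw (nat_lit 0x03), dw (nat_lit 0x01)] (dn (nat_lit 16) (nat_lit 0x1c8104c10dc20dc114c11a422842284111c211c12e822e81040212c212c11a813dc23dc10442044108c208c13482)) (bit (nat_lit 6)) s11 = true := by decide +kernel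
theorem o14 (M : PM G Ω 275 H14.McLc.nets) (hN : Nat.card G = 898128000) : Orb M ⊤ [nat_lit 2, nat_lit 0] (nat_lit 6) s11 :=
  (Orb.ext le_top (orb_bit ⊤ [nat_lit 2, nat_lit 0] (b := (nat_lit 6)) rfl) k13)
noncomputable def s15 : Nat := (nat_lit 0x180110168008586b20e001800114002001019000038031044c6220408010018041088)
noncomputable def w16 : Word := [nat_lit 16]
noncomputable def w17 : Word := [nat_lit 18]
noncomputable def w18 : Word := [nat_lit 20]
theorem k19 : orbChk (nat_lit 275) H14.McLc.nets F [nat_lit 6, nat_lit 2, nat_lit 0] (sel [w16, w17, w18] [nat_lit 0, nat_lit 1, nat_lit 2]) [dw (nat_lit 0x01), dw (nat_lit 0x03), dw (nat_lit 0x01), dw (nat_lit 0x03), dw (nat_lit 0x01), dw (nat_lit 0x05)] (dn (nat_lit 16) (nat_lit 0x0a01104117013883180112830481148214811581368101c201c11b022b022b013cc143c23d8239c23282)) (bit (nat_lit 3)) s15 = true := by decide +kernel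
theorem o20 (M : PM G Ω 275 H14.McLc.nets) (hN : Nat.card G = 898128000) : Orb M ⊤ [nat_lit 6, nat_lit 2, nat_lit 0] (nat_lit 3) s15 :=
  (Orb.ext le_top (orb_bit ⊤ [nat_lit 6, nat_lit 2, nat_lit 0] (b := (nat_lit 3)) rfl) k19)
noncomputable def s21 : Nat := (nat_lit 0x10000000020000000000000020000100080000100004000000000200000000000002)
noncomputable def w22 : Word := [nat_lit 22]
noncomputable def w23 : Word := [nat_lit 24]
theorem k24 : orbChk (nat_lit 275) H14.McLc.nets F [nat_lit 3, nat_lit 6, nat_lit 2, nat_lit 0] (sel [w22, w23] [nat_lit 0, nat_lit 1]) [] (dn (nat_lit 16) (nat_lit 0x430222c22b423a420e420e4100420041)) (bit (nat_lit 1)) s21 = true := by decide +kernel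
theorem o25 (M : PM G Ω 275 H14.McLc.nets) (hN : Nat.card G = 898128000) : Orb M ⊤ [nat_lit 3, nat_lit 6, nat_lit 2, nat_lit 0] (nat_lit 1) s21 :=
  (Orb.ext le_top (orb_bit ⊤ [nat_lit 3, nat_lit 6, nat_lit 2, nat_lit 0] (b := (nat_lit 1)) rfl) k24)
noncomputable def s26 : Nat := (nat_lit 0x2000000000000000000000000000000000000000000000000000000000000010)
noncomputable def w27 : Word := [nat_lit 28]
theorem k28 : orbChk (nat_lit 275) H14.McLc.nets F [nat_lit 1, nat_lit 3, nat_lit 6, nat_lit 2, nat_lit 0] (sel [w27] [nat_lit 0]) [] (dn (nat_lit 16) (nat_lit 0x0101)) (bit (nat_lit 4)) s26 = true := by decide +kernel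
theorem o29 (M : PM G Ω 275 H14.McLc.nets) (hN : Nat.card G = 898128000) : Orb M ⊤ [nat_lit 1, nat_lit 3, nat_lit 6, nat_lit 2, nat_lit 0] (nat_lit 4) s26 :=
  (Orb.ext le_top (orb_bit ⊤ [nat_lit 1, nat_lit 3, nat_lit 6, nat_lit 2, nat_lit 0] (b := (nat_lit 4)) rfl) k28)
noncomputable def c30 : Chn := [((nat_lit 0), (full (nat_lit 275))), ((nat_lit 2), s5), ((nat_lit 6), s11), ((nat_lit 3), s15), ((nat_lit 1), s21), ((nat_lit 4), s26)]
theorem k31 : Nat.ble 898128000 (cval (nat_lit 275) c30) = true := by decide +kernel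
theorem e32 (M : PM G Ω 275 H14.McLc.nets) (hN : Nat.card G = 898128000) : EC M ⊤ [] c30 :=
  ec_top (c := c30) ⟨(o4 M hN), ⟨(o10 M hN), ⟨(o14 M hN), ⟨(o20 M hN), ⟨(o25 M hN), ⟨(o29 M hN), trivial⟩⟩⟩⟩⟩⟩ hN k31
noncomputable def bs0 : List Nat := [nat_lit 0, nat_lit 2, nat_lit 6, nat_lit 3, nat_lit 1, nat_lit 4]
theorem base0 (M : PM G Ω 275 H14.McLc.nets) (hN : Nat.card G = 898128000) : IsBase M bs0 :=
  base_of_ec (e32 M hN) (by decide +kernel)
noncomputable def s33 : Nat := (nat_lit 0x1b79da57b1395effa2ef739e677511b5d385baeb339cf9af6c62b8e7d35e598b4daba)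
noncomputable def w34 : Word := [nat_lit 26]
theorem k35 : orbChk (nat_lit 275) H14.McLc.nets F [nat_lit 0] (sel [w6, w7, w8, w12, w16, w17, w18, w22, w23, w34, w27] [nat_lit 0, nat_lit 1, nat_lit 2, nat_lit 3, nat_lit 4, nat_lit 5, nat_lit 6, nat_lit 7, nat_lit 8, nat_lit 9, nat_lit 10]) [dw (nat_lit 0x01), dw (nat_lit 0x03), dw (nat_lit 0x05), dw (nat_lit 0x0b), dw (nat_lit 0x01), dw (nat_lit 0x03), dw (nat_lit 0x05), dw (nat_lit 0x09)
, dw (nat_lit 0x0b)] [] (bit (nat_lit 1)) s33 = true := by decide +kernel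
theorem o36 (M : PM G Ω 275 H14.McLc.nets) (hN : Nat.card G = 898128000) : Orb M ⊤ [nat_lit 0] (nat_lit 1) s33 :=
  (Orb.ext le_top (orb_bit ⊤ [nat_lit 0] (b := (nat_lit 1)) rfl) k35)

end L.KhMcL
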