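import Cfsg.Agent.L.KC
import Cfsg.Agent.H14.KhMcL

/-! Generated certificate (toolsL/cg.hpp). -/
set_option autoImplicit false
set_option maxRecDepth 200000
set_option Elab.async false
set_option linter.unusedVariables false
set_option linter.unusedSectionVars false

namespace L.CvMcL2
open H14 L.KhMcLT L.KhMcL
variable {G Ω : Type*} [Group G] [Finite G] [MulAction G Ω]

noncomputable def w0 : Word := [nat_lit 10, nat_lit 9, nat_lit 21, nat_lit 10, nat_lit 12]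
noncomputable def w1 : Word := [nat_lit 24, nat_lit 14, nat_lit 28, nat_lit 12, nat_lit 14]
noncomputable def w2 : Word := [nat_lit 17, nat_lit 18, nat_lit 12, nat_lit 14, nat_lit 14]
noncomputable def w3 : Word := [nat_lit 21, nat_lit 19, nat_lit 13, nat_lit 21, nat_lit 7, nat_lit 10, nat_lit 14, nat_lit 10]
noncomputable def w4 : Word := [nat_lit 24, nat_lit 16, nat_lit 15, nat_lit 2, nat_lit 0, nat_lit 9, nat_lit 23]
noncomputable def w5 : Word := [nat_lit 2, nat_lit 25, nat_lit 14, nat_lit 10, nat_lit 20, nat_lit 2, nat_lit 2, nat_lit 23]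
noncomputable def w6 : Word := [nat_lit 26, nat_lit 16, nat_lit 3, nat_lit 16, nat_lit 12, nat_lit 2]
noncomputable def zs : List Word := [w0, w1, w2, w3, w4, w5, w6]
noncomputable def w7 : Word := [nat_lit 0, nat_lit 28, nat_lit 15, nat_lit 10, nat_lit 7, nat_lit 19, nat_lit 4]
noncomputable def w8 : Word := [nat_lit 8, nat_lit 10, nat_lit 12, nat_lit 10, nat_lit 18]
noncomputable def w9 : Word := [nat_lit 1, nat_lit 13, nat_lit 26, nat_lit 10, nat_lit 9, nat_lit 17, nat_lit 0]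
noncomputable def w10 : Word := [nat_lit 18, nat_lit 25, nat_lit 14, nat_lit 21, nat_lit 0, nat_lit 25, nat_lit 2]
noncomputable def hs : List Word := [w7, w8, w9, w10]
noncomputable def ws : List Word := List.append zs hs
theorem k11 : nrmRow F bs0 ws (nat_lit 7) (nat_lit 0) (nat_lit 1) [[nat_lit 4, nat_lit 2],
 [nat_lit 4],
 [nat_lit 12, nat_lit 10, nat_lit 6],
 [nat_lit 10, nat_lit 8],
 [nat_lit 10],
 [nat_lit 12]] (nat_lit 255) = true := by decide +kernel
theorem k12 : nrmRow F bs0 ws (nat_lit 7) (nat_lit 1) (nat_lit 2) [[nat_lit 4],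
 [nat_lit 12, nat_lit 8, nat_lit 6],
 [nat_lit 8],
 [nat_lit 12, nat_lit 10],
 [nat_lit 12]] (nat_lit 255) = true := by decide +kernel
theorem k13 : nrmRow F bs0 ws (nat_lit 7) (nat_lit 2) (nat_lit 3) [[nat_lit 10, nat_lit 6],
 [nat_lit 12, nat_lit 8],
 [nat_lit 10],
 [nat_lit 12]] (nat_lit 255) = true := by decide +kernel
theorem k14 : nrmRow F bs0 ws (nat_lit 7) (nat_lit 3) (nat_lit 4) [[nat_lit 8],
 [nat_lit 10],
 [nat_lit 12]] (nat_lit 255) = true := by decide +kernel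
theorem k15 : nrmRow F bs0 ws (nat_lit 7) (nat_lit 4) (nat_lit 5) [[nat_lit 10],
 [nat_lit 12]] (nat_lit 255) = true := by decide +kernel
theorem k16 : nrmRow F bs0 ws (nat_lit 7) (nat_lit 5) (nat_lit 6) [[nat_lit 12]] (nat_lit 255) = true := by decide +kernel
theorem k17 : nrmRow F bs0 ws (nat_lit 7) (nat_lit 6) (nat_lit 7) [] (nat_lit 255) = true := by decide +kernel
theorem k18 : nrmRow F bs0 ws (nat_lit 7) (nat_lit 7) (nat_lit 5) [[nat_lit 12],
 [nat_lit 10]] (nat_lit 160) = true := by decide +kernel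
theorem k19 : nrmRow F bs0 ws (nat_lit 7) (nat_lit 8) (nat_lit 3) [[nat_lit 12, nat_lit 8, nat_lit 6],
 [nat_lit 10],
 [nat_lit 12, nat_lit 10, nat_lit 8],
 [nat_lit 12]] (nat_lit 216) = true := by decide +kernel
theorem k20 : nrmRow F bs0 ws (nat_lit 7) (nat_lit 9) (nat_lit 3) [[nat_lit 6],
 [nat_lit 12, nat_lit 8, nat_lit 6],
 [nat_lit 12, nat_lit 10],
 [nat_lit 12]] (nat_lit 232) = true := by decide +kernel
theorem k21 : nrmRow F bs0 ws (nat_lit 7) (nat_lit 10) (nat_lit 6) [[nat_lit 12]] (nat_lit 192) = true := by decide +kernel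
noncomputable def nm : List Nat := [nat_lit 255, nat_lit 255, nat_lit 255, nat_lit 255, nat_lit 255, nat_lit 255, nat_lit 255, nat_lit 160, nat_lit 216, nat_lit 232, nat_lit 192]
theorem hn (M : PM G Ω 275 H14.McLc.nets) (hN : Nat.card G = 898128000) : NrmL (loc M.gen ws) 7 0 nm :=
  (nrm_cons (base0 M hN) k11 (nrm_cons (base0 M hN) k12 (nrm_cons (base0 M hN) k13 (nrm_cons (base0 M hN) k14 (nrm_cons (base0 M hN) k15 (nrm_cons (base0 M hN) k16 (nrm_cons (base0 M hN) k17 (nrm_cons (base0 M hN) k18 (nrm_cons (base0 M hN) k19 (nrm_cons (base0 M hN) k20 (nrm_cons (base0 M hN) k21 trivial)))))))))))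
noncomputable def s22 : Nat := (nat_lit 0x4000000000000002080000402000000004000000080002444000010000100004009)
noncomputable def s23 : Nat := (nat_lit 0x40000000000100000000000000000000000000000000000080000010000000000)
noncomputable def s24 : Nat := (nat_lit 0x20000040000000000000000000000000)
noncomputable def c25 : Chn := [((nat_lit 0), s22), ((nat_lit 40), s23), ((nat_lit 102), s24)]
noncomputable def d26 : List OD := [⟨[nat_lit 0, nat_lit 1, nat_lit 3], [], (dn (nat_lit 16) (nat_lit 0x080303830382428342821482334333410d030d012c832c822a422a410003))⟩,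
 ⟨[nat_lit 0, nat_lit 1], [], (dn (nat_lit 16) (nat_lit 0x408110c20a01))⟩,
 ⟨[nat_lit 1], [], (dn (nat_lit 16) (nat_lit 0x1981))⟩]
theorem k27 : ocChk (nat_lit 275) H14.McLc.nets F zs c25 d26 [] = true := by decide +kernel
theorem o28 (M : PM G Ω 275 H14.McLc.nets) (hN : Nat.card G = 898128000) : OC M (Nn (loc M.gen ws) 7 0) [] c25 :=
  oc_of (sub_le_Nn M.gen zs hs (m := 7) rfl) k27
theorem k29 : powChk F bs0 ws (nat_lit 2) (nat_lit 7) nm [[],
 [],
 [],
 [],
 [],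
 [],
 []] = true := by decide +kernel
theorem pc (M : PM G Ω 275 H14.McLc.nets) (hN : Nat.card G = 898128000) : Pc (loc M.gen ws) 2 7 ∧ ∀ i ≤ 7, Nat.card (Nn (loc M.gen ws) 7 i) = 2 ^ (7 - i) :=
  pc_of (base0 M hN) (by norm_num) (hn M hN) k29 (OC.le_card' (o28 M hN) (by decide +kernel))
noncomputable def ra : Word := [nat_lit 26, nat_lit 16, nat_lit 3, nat_lit 16, nat_lit 12, nat_lit 2] -- fix 35
noncomputable def reps : List Word := [ra]
noncomputable def cl : List (Word × Nat) := [([], (nat_lit 6)),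
 ([nat_lit 10], (nat_lit 6)),
 ([nat_lit 8, nat_lit 4], (nat_lit 6)),
 ([], (nat_lit 5)),
 ([nat_lit 8], (nat_lit 5)),
 ([nat_lit 4], (nat_lit 5)),
 ([nat_lit 8, nat_lit 4], (nat_lit 5)),
 ([], (nat_lit 4)),
 ([nat_lit 6], (nat_lit 4)),
 ([nat_lit 4], (nat_lit 4)),
 ([nat_lit 6, nat_lit 4], (nat_lit 4)),
 ([], (nat_lit 3)),
 ([nat_lit 4], (nat_lit 3)),
 ([], (nat_lit 2)),
 ([nat_lit 2], (nat_lit 2)),
 ([nat_lit 0], (nat_lit 2)),
 ([nat_lit 2, nat_lit 0], (nat_lit 2)),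
 ([], (nat_lit 1)),
 ([nat_lit 0], (nat_lit 1)),
 ([], (nat_lit 0))]
noncomputable def i30 : List (List Ins) := [[Ins.leaf (nat_lit 1000) [], Ins.leaf (nat_lit 0) []],
 [Ins.leaf (nat_lit 0) [nat_lit 6, nat_lit 22, nat_lit 14, nat_lit 11, nat_lit 9, nat_lit 16, nat_lit 3], Ins.leaf (nat_lit 0) [nat_lit 20, nat_lit 28, nat_lit 8, nat_lit 19, nat_lit 7, nat_lit 8, nat_lit 18, nat_lit 2]],
 [Ins.ord (nat_lit 6) (nat_lit 1) [], Ins.ord (nat_lit 6) (nat_lit 1) []],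
 [Ins.ref (nat_lit 0), Ins.ref (nat_lit 1)],
 [Ins.jmp (nat_lit 1) [nat_lit 16] [], Ins.jmp (nat_lit 1) [nat_lit 0, nat_lit 16] []],
 [Ins.jmp (nat_lit 1) [nat_lit 18, nat_lit 21, nat_lit 16] [nat_lit 12], Ins.jmp (nat_lit 1) [nat_lit 6, nat_lit 18, nat_lit 21, nat_lit 16] [nat_lit 12]],
 [Ins.ref (nat_lit 2), Ins.jmp (nat_lit 2) [nat_lit 6] []],
 [Ins.ref (nat_lit 3), Ins.ref (nat_lit 4)],
 [Ins.jmp (nat_lit 4) [nat_lit 15] [nat_lit 12, nat_lit 10], Ins.jmp (nat_lit 4) [nat_lit 2, nat_lit 15] [nat_lit 12]],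
 [Ins.ref (nat_lit 5), Ins.ref (nat_lit 6)],
 [Ins.jmp (nat_lit 6) [nat_lit 15] [], Ins.jmp (nat_lit 6) [nat_lit 2, nat_lit 15] [nat_lit 10]],
 [Ins.ref (nat_lit 7), Ins.ref (nat_lit 8)],
 [Ins.ref (nat_lit 9), Ins.ref (nat_lit 10)],
 [Ins.ref (nat_lit 11), Ins.ref (nat_lit 12)],
 [Ins.jmp (nat_lit 12) [nat_lit 16] [], Ins.jmp (nat_lit 12) [nat_lit 0, nat_lit 16] []],
 [Ins.jmp (nat_lit 12) [nat_lit 19] [nat_lit 10], Ins.jmp (nat_lit 12) [nat_lit 2, nat_lit 19] [nat_lit 10]],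
 [Ins.ord (nat_lit 2) (nat_lit 1) [], Ins.ord (nat_lit 2) (nat_lit 1) []],
 [Ins.ref (nat_lit 13), Ins.ref (nat_lit 14)],
 [Ins.ref (nat_lit 15), Ins.ref (nat_lit 16)],
 [Ins.ref (nat_lit 17), Ins.ref (nat_lit 18)]]
theorem k31 : cvChk F bs0 ws (nat_lit 2) (nat_lit 7) nm reps cl i30 (nat_lit 0) (nat_lit 20) = true := by decide +kernel
theorem v32 (M : PM G Ω 275 H14.McLc.nets) (hN : Nat.card G = 898128000) : CvA (loc M.gen ws) (Rp M.gen reps) 2 7 cl 20 :=
  cv_step (base0 M hN) (by norm_num) (hn M hN) (pc M hN).1 (cv_zero _ _ _ _ _) k31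
theorem cover (M : PM G Ω 275 H14.McLc.nets) (hN : Nat.card G = 898128000) : ∀ g : G, g ^ 2 = 1 → g = 1 ∨ ∃ w ∈ reps, IsConj (ev M.gen w) g :=
  cv_end (k := 19) (by norm_num) (pc M hN).2 hN (v32 M hN) (by decide +kernel)

end L.CvMcL2
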