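import Cfsg.Agent.H14.KhTitsT
import Cfsg.Agent.L.KF

/-! Generated certificate (toolsL/cg.hpp). -/
set_option autoImplicit false
set_option maxRecDepth 200000
set_option Elab.async false
set_option linter.unusedVariables false
set_option linter.unusedSectionVars false

namespace L.KhTits
open H14 L.KhTitsT
variable {G Ω : Type*} [Group G] [Finite G] [MulAction G Ω]

noncomputable def w0 : Word := [nat_lit 0]
noncomputable def w1 : Word := [nat_lit 2]
noncomputable def w2 : Word := [nat_lit 4]
theorem k3 : orbChk (nat_lit 1755) H15.StdTits.nets F [] (sel [w0, w1, w2] [nat_lit 0, nat_lit 1, nat_lit 2]) [dw (nat_lit 0x03), dw (nat_lit 0x01), dw (nat_lit 0x03), dw (nat_lit 0x05), dw (nat_lit 0x01), dw (nat_lit 0x03), dw (nat_lit 0x05), dw (nat_lit 0x01)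
, dw (nat_lit 0x03), dw (nat_lit 0x05), dw (nat_lit 0x03), dw (nat_lit 0x01), dw (nat_lit 0x03), dw (nat_lit 0x05), dw (nat_lit 0x03), dw (nat_lit 0x01)
, dw (nat_lit 0x03), dw (nat_lit 0x05), dw (nat_lit 0x01)] (dn (nat_lit 20) (nat_lit 0x08dc3152430a6821a38212d021af420adc20f4c218ac21b14210c4205fc2)) (bit (nat_lit 0)) (full (nat_lit 1755)) = true := by decide +kernel
theorem o4 (M : PM G Ω 1755 H15.StdTits.nets) (hN : Nat.card G = 17971200) : Orb M ⊤ [] (nat_lit 0) (full (nat_lit 1755)) :=
  (Orb.ext le_top (orb_bit ⊤ [] (b := (nat_lit 0)) rfl) k3)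
noncomputable def s5 : Nat := (nat_lit 0x1000000000000000000000000000000000000000000000100000000000000000000000000000000000000000000000000000000000000000000000000000000000000000000000000000000000000000000000000000000000000000000000000000000000000000000000000000000000000000000000000008000000000000000800000100100000000080800000000000000400000100000000000000000000000000)
noncomputable def w6 : Word := [nat_lit 6]
theorem k7 : orbChk (nat_lit 1755) H15.StdTits.nets F [nat_lit 0] (sel [w0, w6] [nat_lit 0, nat_lit 1]) [] (dn (nat_lit 20) (nat_lit 0x03b0203b01031c2031c1054c2054c10208201a0201a01)) (bit (nat_lit 104)) s5 = true := by decide +kernel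
theorem o8 (M : PM G Ω 1755 H15.StdTits.nets) (hN : Nat.card G = 17971200) : Orb M ⊤ [nat_lit 0] (nat_lit 104) s5 :=
  (Orb.ext le_top (orb_bit ⊤ [nat_lit 0] (b := (nat_lit 104)) rfl) k7)
noncomputable def s9 : Nat := (nat_lit 0x10048000010004000000000000000080000000000000000040000002000010000000000000000000000008000000000003000000000c02400000000000000000020000000010080000000000801000000000000002000000000020800000001002000000000000000000000000000000020000400000020000000000000008004100002000000000000000400000020500000000800004000020080600000000002000000000409400000840000000000101000040000000000002014000000002000000800000000000080000000000002008002000000200010)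
noncomputable def w10 : Word := [nat_lit 10]
noncomputable def w11 : Word := [nat_lit 12]
noncomputable def w12 : Word := [nat_lit 14]
theorem k13 : orbChk (nat_lit 1755) H15.StdTits.nets F [nat_lit 104, nat_lit 0] (sel [w10, w11, w12] [nat_lit 0, nat_lit 1, nat_lit 2]) [dw (nat_lit 0x01), dw (nat_lit 0x03), dw (nat_lit 0x01), dw (nat_lit 0x05), dw (nat_lit 0x03), dw (nat_lit 0x01)] (dn (nat_lit 20) (nat_lit 0x0658108243051010334115fc215fc10ce8217d41178010958309582196c100c41097410b7c30ae4218483184821848112a011a7831a78108cc208cc106883068820688109e8309e8203d0313343)) (bit (nat_lit 4)) s9 = true := by decide +kernel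
theorem o14 (M : PM G Ω 1755 H15.StdTits.nets) (hN : Nat.card G = 17971200) : Orb M ⊤ [nat_lit 104, nat_lit 0] (nat_lit 4) s9 :=
  (Orb.ext le_top (orb_bit ⊤ [nat_lit 104, nat_lit 0] (b := (nat_lit 4)) rfl) k13)
noncomputable def s15 : Nat := (nat_lit 0x4000000000000000000000000000800000080000000000000000000000400000002000000000000000000000000000000000000000000000000000000000000000000000000000000000000000000000000000000000000000080008000000000000000000000000000000000000000000000000080000000000000000000000020000000000000000000000000100000000000010000000000400000000800000000000000000000000000000000000000000000000000000000000000000000000000000000000000000020001000000000000000002)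
noncomputable def w16 : Word := [nat_lit 16]
noncomputable def w17 : Word := [nat_lit 18]
theorem k18 : orbChk (nat_lit 1755) H15.StdTits.nets F [nat_lit 4, nat_lit 104, nat_lit 0] (sel [w12, w16, w17] [nat_lit 0, nat_lit 1, nat_lit 2]) [] (dn (nat_lit 20) (nat_lit 0x012031ad8316b4316b42191c30f6c30f6c20f6c1016430ac430ac420ac41000430004200041)) (bit (nat_lit 1)) s15 = true := by decide +kernel
theorem o19 (M : PM G Ω 1755 H15.StdTits.nets) (hN : Nat.card G = 17971200) : Orb M ⊤ [nat_lit 4, nat_lit 104, nat_lit 0] (nat_lit 1) s15 :=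
  (Orb.ext le_top (orb_bit ⊤ [nat_lit 4, nat_lit 104, nat_lit 0] (b := (nat_lit 1)) rfl) k18)
noncomputable def c20 : Chn := [((nat_lit 0), (full (nat_lit 1755))), ((nat_lit 104), s5), ((nat_lit 4), s9), ((nat_lit 1), s15)]
theorem k21 : Nat.ble 17971200 (cval (nat_lit 1755) c20) = true := by decide +kernel
theorem e22 (M : PM G Ω 1755 H15.StdTits.nets) (hN : Nat.card G = 17971200) : EC M ⊤ [] c20 :=
  ec_top (c := c20) ⟨(o4 M hN), ⟨(o8 M hN), ⟨(o14 M hN), ⟨(o19 M hN), trivial⟩⟩⟩⟩ hN k21
noncomputable def bs0 : List Nat := [nat_lit 0, nat_lit 104, nat_lit 4, nat_lit 1]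
theorem base0 (M : PM G Ω 1755 H15.StdTits.nets) (hN : Nat.card G = 17971200) : IsBase M bs0 :=
  base_of_ec (e22 M hN) (by decide +kernel)
noncomputable def s23 : Nat := (nat_lit 0x1016168f4c2149162904485843980484c688a821dc0a890ab34608812a36825010c5609c221224858950408a010682238407e83a6ea24d8a444da1175a87406a3c9ae1134380f229de00c02220c3d41882b83a89a3a673700401486081128cc2be2be86a28f04a25800024d200103c0144a611ad48c8a117889481546400c1982e7b29d461e61a12d98a048249085426a70395a1e6dd94540b40a08b160e6a1c8555281d4d008a5394b2640c7960b4848829bb098ad641552017d17229ca504f808b81b05180070955302108b28700182e10734a15a81541c2a507e)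
noncomputable def w24 : Word := [nat_lit 8]
theorem k25 : orbChk (nat_lit 1755) H15.StdTits.nets F [nat_lit 0] (sel [w0, w2, w6, w24, w10, w11, w12, w16, w17] [nat_lit 0, nat_lit 1, nat_lit 2, nat_lit 3, nat_lit 4, nat_lit 5, nat_lit 6, nat_lit 7, nat_lit 8]) [dw (nat_lit 0x01), dw (nat_lit 0x03), dw (nat_lit 0x05), dw (nat_lit 0x07), dw (nat_lit 0x0f), dw (nat_lit 0x11), dw (nat_lit 0x0d), dw (nat_lit 0x09)
, dw (nat_lit 0x05), dw (nat_lit 0x07), dw (nat_lit 0x0d)] (dn (nat_lit 20) (nat_lit 0x043090f6430c4030bf8616fc60334514e481120210909153810240617242110c112a420a3c604d410bd86)) (bit (nat_lit 1)) s23 = true := by decide +kernel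
theorem o26 (M : PM G Ω 1755 H15.StdTits.nets) (hN : Nat.card G = 17971200) : Orb M ⊤ [nat_lit 0] (nat_lit 1) s23 :=
  (Orb.ext le_top (orb_bit ⊤ [nat_lit 0] (b := (nat_lit 1)) rfl) k25)
noncomputable def s27 : Nat := (nat_lit 0x8000000020004000480000200000200000000000001000000000222000000000010000040000000000000000080000400200000000000000100020001008000400000001000000000201100020000000400000000000080000080040080000000000000100014020004000000000000020000000000000020400000000000008000400000000000200000000000008010000000000000000008000000008100000000001001000801080100001000000100000200008200100000000010022000000004080300002000c0020000030000880000080440800000480)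
theorem k28 : orbChk (nat_lit 1755) H15.StdTits.nets F [nat_lit 0] (sel [w0, w2, w6, w24, w10, w11, w12, w16, w17] [nat_lit 0, nat_lit 1, nat_lit 2, nat_lit 3, nat_lit 4, nat_lit 5, nat_lit 6, nat_lit 7, nat_lit 8]) [dw (nat_lit 0x01), dw (nat_lit 0x05), dw (nat_lit 0x07), dw (nat_lit 0x0b), dw (nat_lit 0x01), dw (nat_lit 0x05)] (dn (nat_lit 20) (nat_lit 0x008c90e74804ac703942136870fcc90ee040ff870ff850650800a8600a8405c0405c0204608046060460211d48098c80c4860e3880d5480d5440ea090ea080ea070ea04083c807ac907ac70028900288001c7001c5)) (bit (nat_lit 7)) s27 = true := by decide +kernel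
theorem o29 (M : PM G Ω 1755 H15.StdTits.nets) (hN : Nat.card G = 17971200) : Orb M ⊤ [nat_lit 0] (nat_lit 7) s27 :=
  (Orb.ext le_top (orb_bit ⊤ [nat_lit 0] (b := (nat_lit 7)) rfl) k28)
noncomputable def s30 : Nat := (nat_lit 0x67e9e970b1deb2e9d27bb7a5bc67f97b397757de23f476f54cb9f55cd5c97dafef2a9f639deddb7a76afbf75fe797dd87bd817c5915db274bab25ce8a4783f9583651eecac7f0dd621df2edddd3c2ae77947c5765c598c0ffbfe379b7e6d733d41d41795c70fa1d87ffbdb2dffefc3feb959ee52b7375ee8572b7eab9bff3e675184962b9e19e5ed0675fb7db6f7ab5948fc6a5e19226babf4b75f74e9f114e37aaad7e2a2fe75a46a459af3868f4b7b765644f475293caacf682e8dc624ad907f747643a67cf8f68acf1eb54d78ece7d1678cb5e253aa3e3d5ab00)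
theorem k31 : orbChk (nat_lit 1755) H15.StdTits.nets F [nat_lit 0] (sel [w0, w2, w6, w24, w10, w11, w12, w16, w17] [nat_lit 0, nat_lit 1, nat_lit 2, nat_lit 3, nat_lit 4, nat_lit 5, nat_lit 6, nat_lit 7, nat_lit 8]) [dw (nat_lit 0x01), dw (nat_lit 0x03), dw (nat_lit 0x05), dw (nat_lit 0x07), dw (nat_lit 0x0b), dw (nat_lit 0x0f), dw (nat_lit 0x11), dw (nat_lit 0x09)
, dw (nat_lit 0x05), dw (nat_lit 0x0b), dw (nat_lit 0x0d), dw (nat_lit 0x09)] (dn (nat_lit 20) (nat_lit 0x09ac111741198880a3841aa4400ec801d0100c840db8402bc213bc21ad04105c1)) (bit (nat_lit 8)) s30 = true := by decide +kernel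
theorem o32 (M : PM G Ω 1755 H15.StdTits.nets) (hN : Nat.card G = 17971200) : Orb M ⊤ [nat_lit 0] (nat_lit 8) s30 :=
  (Orb.ext le_top (orb_bit ⊤ [nat_lit 0] (b := (nat_lit 8)) rfl) k31)

end L.KhTits
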