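import Cfsg.Agent.L.KC
import Cfsg.Agent.H14.KhTits

/-! Generated certificate (toolsL/cg.hpp). -/
set_option autoImplicit false
set_option maxRecDepth 200000
set_option Elab.async false
set_option linter.unusedVariables false
set_option linter.unusedSectionVars false

namespace L.CvTits3
open H14 L.KhTitsT L.KhTits
variable {G Ω : Type*} [Group G] [Finite G] [MulAction G Ω]

noncomputable def w0 : Word := [nat_lit 10, nat_lit 2, nat_lit 7, nat_lit 3, nat_lit 7, nat_lit 2, nat_lit 6, nat_lit 14]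
noncomputable def w1 : Word := [nat_lit 16, nat_lit 11, nat_lit 13, nat_lit 3, nat_lit 4, nat_lit 8, nat_lit 14]
noncomputable def w2 : Word := [nat_lit 15, nat_lit 7, nat_lit 3, nat_lit 11, nat_lit 3, nat_lit 15, nat_lit 11, nat_lit 4]
noncomputable def zs : List Word := [w0, w1, w2]
noncomputable def w3 : Word := [nat_lit 6, nat_lit 2, nat_lit 7, nat_lit 3, nat_lit 8, nat_lit 2, nat_lit 18]
noncomputable def w4 : Word := [nat_lit 7, nat_lit 2, nat_lit 0, nat_lit 9, nat_lit 3, nat_lit 10, nat_lit 18]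
noncomputable def w5 : Word := [nat_lit 18, nat_lit 11, nat_lit 14, nat_lit 11, nat_lit 4, nat_lit 2, nat_lit 7, nat_lit 0]
noncomputable def hs : List Word := [w3, w4, w5]
noncomputable def ws : List Word := List.append zs hs
theorem k6 : nrmRow F bs0 ws (nat_lit 3) (nat_lit 0) (nat_lit 1) [[nat_lit 4, nat_lit 2],
 [nat_lit 4]] (nat_lit 15) = true := by decide +kernel
theorem k7 : nrmRow F bs0 ws (nat_lit 3) (nat_lit 1) (nat_lit 2) [[nat_lit 4]] (nat_lit 15) = true := by decide +kernel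
theorem k8 : nrmRow F bs0 ws (nat_lit 3) (nat_lit 2) (nat_lit 3) [] (nat_lit 15) = true := by decide +kernel
theorem k9 : nrmRow F bs0 ws (nat_lit 3) (nat_lit 3) (nat_lit 2) [[nat_lit 5]] (nat_lit 12) = true := by decide +kernel
theorem k10 : nrmRow F bs0 ws (nat_lit 3) (nat_lit 4) (nat_lit 1) [[nat_lit 5, nat_lit 3],
 [nat_lit 4]] (nat_lit 14) = true := by decide +kernel
theorem k11 : nrmRow F bs0 ws (nat_lit 3) (nat_lit 5) (nat_lit 2) [[nat_lit 4]] (nat_lit 12) = true := by decide +kernel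
noncomputable def nm : List Nat := [nat_lit 15, nat_lit 15, nat_lit 15, nat_lit 12, nat_lit 14, nat_lit 12]
theorem hn (M : PM G Ω 1755 H15.StdTits.nets) (hN : Nat.card G = 17971200) : NrmL (loc M.gen ws) 3 0 nm :=
  (nrm_cons (base0 M hN) k6 (nrm_cons (base0 M hN) k7 (nrm_cons (base0 M hN) k8 (nrm_cons (base0 M hN) k9 (nrm_cons (base0 M hN) k10 (nrm_cons (base0 M hN) k11 trivial))))))
noncomputable def s12 : Nat := (nat_lit 0x400040000000000000000000000000000000000000000004000000000000000000080004100000000001000000000000000000000001000000000000000000100000000000000000000004000100000000000000020000000000000000000000000000040000000000000000000001000000000000000000000000000000000000000000400000000000200000000002000000400000000000800000000000000000000004000000000002000040000000000000000000000200400000000000000000000800000002000000000000000000000000000000001)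
noncomputable def c13 : Chn := [((nat_lit 0), s12)]
noncomputable def d14 : List OD := [⟨[nat_lit 1, nat_lit 0], [], (dn (nat_lit 20) (nat_lit 0x0934209e421ae82029c20d501134021340116a0216fc20588108c8208c8106982069811470111d8211d810eb820eb81080c2119021190118382183810000200001))⟩]
theorem k15 : ocChk (nat_lit 1755) H15.StdTits.nets F zs c13 d14 [] = true := by decide +kernel
theorem o16 (M : PM G Ω 1755 H15.StdTits.nets) (hN : Nat.card G = 17971200) : OC M (Nn (loc M.gen ws) 3 0) [] c13 :=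
  oc_of (sub_le_Nn M.gen zs hs (m := 3) rfl) k15
theorem k17 : powChk F bs0 ws (nat_lit 3) (nat_lit 3) nm [[],
 [],
 []] = true := by decide +kernel
theorem pc (M : PM G Ω 1755 H15.StdTits.nets) (hN : Nat.card G = 17971200) : Pc (loc M.gen ws) 3 3 ∧ ∀ i ≤ 3, Nat.card (Nn (loc M.gen ws) 3 i) = 3 ^ (3 - i) :=
  pc_of (base0 M hN) (by norm_num) (hn M hN) k17 (OC.le_card' (o16 M hN) (by decide +kernel))
noncomputable def ra : Word := [nat_lit 15, nat_lit 7, nat_lit 3, nat_lit 11, nat_lit 3, nat_lit 15, nat_lit 11, nat_lit 4] -- fix 0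
noncomputable def reps : List Word := [ra]
noncomputable def cl : List (Word × Nat) := [([], (nat_lit 2)),
 ([nat_lit 2], (nat_lit 2)),
 ([nat_lit 0], (nat_lit 2)),
 ([], (nat_lit 1)),
 ([nat_lit 0], (nat_lit 1)),
 ([], (nat_lit 0))]
noncomputable def i18 : List (List Ins) := [[Ins.leaf (nat_lit 1000) [], Ins.leaf (nat_lit 0) [], Ins.leaf (nat_lit 0) [nat_lit 9, nat_lit 10, nat_lit 16, nat_lit 3, nat_lit 8, nat_lit 18, nat_lit 2]],
 [Ins.leaf (nat_lit 0) [nat_lit 14, nat_lit 13, nat_lit 11, nat_lit 2, nat_lit 18, nat_lit 4, nat_lit 10], Ins.leaf (nat_lit 0) [nat_lit 14, nat_lit 10, nat_lit 0, nat_lit 2, nat_lit 13, nat_lit 3, nat_lit 13, nat_lit 9], Ins.leaf (nat_lit 0) [nat_lit 2, nat_lit 10, nat_lit 0, nat_lit 2, nat_lit 14, nat_lit 12, nat_lit 2]],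
 [Ins.leaf (nat_lit 0) [nat_lit 10, nat_lit 13, nat_lit 3, nat_lit 9, nat_lit 16, nat_lit 13, nat_lit 9], Ins.leaf (nat_lit 0) [nat_lit 7, nat_lit 12, nat_lit 12, nat_lit 0, nat_lit 3, nat_lit 8, nat_lit 13], Ins.leaf (nat_lit 0) [nat_lit 18, nat_lit 10, nat_lit 10, nat_lit 3, nat_lit 11, nat_lit 13]],
 [Ins.ref (nat_lit 0), Ins.ref (nat_lit 1), Ins.jmp (nat_lit 1) [nat_lit 7] [nat_lit 5]],
 [Ins.ref (nat_lit 2), Ins.jmp (nat_lit 1) [nat_lit 10] [nat_lit 4], Ins.jmp (nat_lit 2) [nat_lit 7] []],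
 [Ins.ref (nat_lit 3), Ins.ref (nat_lit 4), Ins.jmp (nat_lit 4) [nat_lit 9] []]]
theorem k19 : cvChk F bs0 ws (nat_lit 3) (nat_lit 3) nm reps cl i18 (nat_lit 0) (nat_lit 6) = true := by decide +kernel
theorem v20 (M : PM G Ω 1755 H15.StdTits.nets) (hN : Nat.card G = 17971200) : CvA (loc M.gen ws) (Rp M.gen reps) 3 3 cl 6 :=
  cv_step (base0 M hN) (by norm_num) (hn M hN) (pc M hN).1 (cv_zero _ _ _ _ _) k19
theorem cover (M : PM G Ω 1755 H15.StdTits.nets) (hN : Nat.card G = 17971200) : ∀ g : G, g ^ 3 = 1 → g = 1 ∨ ∃ w ∈ reps, IsConj (ev M.gen w) g :=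
  cv_end (k := 5) (by norm_num) (pc M hN).2 hN (v20 M hN) (by decide +kernel)

end L.CvTits3
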