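import Cfsg.Agent.L.KC
import Cfsg.Agent.H14.KhTits

/-! Generated certificate (toolsL/cg.hpp). -/
set_option autoImplicit false
set_option maxRecDepth 200000
set_option Elab.async false
set_option linter.unusedVariables false
set_option linter.unusedSectionVars false

namespace L.CvTits5
open H14 L.KhTitsT L.KhTits
variable {G Ω : Type*} [Group G] [Finite G] [MulAction G Ω]

noncomputable def w0 : Word := [nat_lit 15, nat_lit 10, nat_lit 15, nat_lit 7, nat_lit 2, nat_lit 18, nat_lit 3, nat_lit 0]
noncomputable def w1 : Word := [nat_lit 14, nat_lit 3, nat_lit 14, nat_lit 0, nat_lit 2, nat_lit 10]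
noncomputable def zs : List Word := [w0, w1]
noncomputable def w2 : Word := [nat_lit 10, nat_lit 16, nat_lit 18, nat_lit 7, nat_lit 3, nat_lit 14, nat_lit 18]
noncomputable def hs : List Word := [w2]
noncomputable def ws : List Word := List.append zs hs
theorem k3 : nrmRow F bs0 ws (nat_lit 2) (nat_lit 0) (nat_lit 1) [[nat_lit 2]] (nat_lit 7) = true := by decide +kernel
theorem k4 : nrmRow F bs0 ws (nat_lit 2) (nat_lit 1) (nat_lit 2) [] (nat_lit 7) = true := by decide +kernel
theorem k5 : nrmRow F bs0 ws (nat_lit 2) (nat_lit 2) (nat_lit 1) [[nat_lit 2, nat_lit 2]] (nat_lit 6) = true := by decide +kernel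
noncomputable def nm : List Nat := [nat_lit 7, nat_lit 7, nat_lit 6]
theorem hn (M : PM G Ω 1755 H15.StdTits.nets) (hN : Nat.card G = 17971200) : NrmL (loc M.gen ws) 2 0 nm :=
  (nrm_cons (base0 M hN) k3 (nrm_cons (base0 M hN) k4 (nrm_cons (base0 M hN) k5 trivial)))
noncomputable def s6 : Nat := (nat_lit 0x800000000000000000000000000000000000000000000000000000000000000000000000000000000000000000000000000000000000000000000000000000000000000000040000000000000000000000000000000000000000000000000000000000000000000000000000000000000000000000000000000000000000000000000000000000000000000000000000000000001000000000000000000000000000000000000000000000000000000000000000000000000000021000000000)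
noncomputable def s7 : Nat := (nat_lit 0x400000000000000000000000000008000000000000000000000000000000000000000000000000000000000000000000000000000000000000000000000000000000000000000000000000000000000000000000000000000000000000000000000800000000000000000000000000000000000000000000000000000000000000000000000000000000000000000000000000000000000000000000000000000000002000000000001000000000000000000000000000)
noncomputable def c8 : Chn := [((nat_lit 36), s6), ((nat_lit 108), s7)]
noncomputable def d9 : List OD := [⟨[nat_lit 1], [], (dn (nat_lit 20) (nat_lit 0x17fc10f4810570100901))⟩,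
 ⟨[nat_lit 0], [], (dn (nat_lit 20) (nat_lit 0x0274116d81150c101b01))⟩]
theorem k10 : ocChk (nat_lit 1755) H15.StdTits.nets F zs c8 d9 [] = true := by decide +kernel
theorem o11 (M : PM G Ω 1755 H15.StdTits.nets) (hN : Nat.card G = 17971200) : OC M (Nn (loc M.gen ws) 2 0) [] c8 :=
  oc_of (sub_le_Nn M.gen zs hs (m := 2) rfl) k10
theorem k12 : powChk F bs0 ws (nat_lit 5) (nat_lit 2) nm [[],
 []] = true := by decide +kernel
theorem pc (M : PM G Ω 1755 H15.StdTits.nets) (hN : Nat.card G = 17971200) : Pc (loc M.gen ws) 5 2 ∧ ∀ i ≤ 2, Nat.card (Nn (loc M.gen ws) 2 i) = 5 ^ (2 - i) :=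
  pc_of (base0 M hN) (by norm_num) (hn M hN) k12 (OC.le_card' (o11 M hN) (by decide +kernel))
noncomputable def ra : Word := [nat_lit 14, nat_lit 3, nat_lit 14, nat_lit 0, nat_lit 2, nat_lit 10] -- fix 5
noncomputable def reps : List Word := [ra]
noncomputable def cl : List (Word × Nat) := [([], (nat_lit 1)),
 ([nat_lit 0], (nat_lit 1)),
 ([], (nat_lit 0))]
noncomputable def i13 : List (List Ins) := [[Ins.leaf (nat_lit 1000) [], Ins.leaf (nat_lit 0) [], Ins.leaf (nat_lit 0) [nat_lit 13, nat_lit 10, nat_lit 0, nat_lit 3, nat_lit 4, nat_lit 18, nat_lit 4], Ins.leaf (nat_lit 0) [nat_lit 10, nat_lit 16, nat_lit 18, nat_lit 7, nat_lit 3, nat_lit 14, nat_lit 18], Ins.leaf (nat_lit 0) [nat_lit 7, nat_lit 10, nat_lit 2, nat_lit 18, nat_lit 16, nat_lit 9]],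
 [Ins.leaf (nat_lit 0) [nat_lit 0, nat_lit 11, nat_lit 16, nat_lit 3, nat_lit 11, nat_lit 18, nat_lit 3, nat_lit 11], Ins.leaf (nat_lit 0) [nat_lit 14, nat_lit 11, nat_lit 2, nat_lit 16, nat_lit 2, nat_lit 12, nat_lit 3], Ins.leaf (nat_lit 0) [nat_lit 10, nat_lit 12, nat_lit 3, nat_lit 7, nat_lit 3, nat_lit 6, nat_lit 9, nat_lit 11], Ins.leaf (nat_lit 0) [nat_lit 15, nat_lit 11, nat_lit 16, nat_lit 3, nat_lit 14, nat_lit 0, nat_lit 16, nat_lit 2], Ins.leaf (nat_lit 0) [nat_lit 4, nat_lit 10, nat_lit 2, nat_lit 10, nat_lit 4, nat_lit 11]],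
 [Ins.ref (nat_lit 0), Ins.ref (nat_lit 1), Ins.jmp (nat_lit 1) [nat_lit 5] [], Ins.jmp (nat_lit 1) [nat_lit 4] [], Ins.jmp (nat_lit 1) [nat_lit 5, nat_lit 5] []]]
theorem k14 : cvChk F bs0 ws (nat_lit 5) (nat_lit 2) nm reps cl i13 (nat_lit 0) (nat_lit 3) = true := by decide +kernel
theorem v15 (M : PM G Ω 1755 H15.StdTits.nets) (hN : Nat.card G = 17971200) : CvA (loc M.gen ws) (Rp M.gen reps) 5 2 cl 3 :=
  cv_step (base0 M hN) (by norm_num) (hn M hN) (pc M hN).1 (cv_zero _ _ _ _ _) k14
theorem cover (M : PM G Ω 1755 H15.StdTits.nets) (hN : Nat.card G = 17971200) : ∀ g : G, g ^ 5 = 1 → g = 1 ∨ ∃ w ∈ reps, IsConj (ev M.gen w) g :=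
  cv_end (k := 2) (by norm_num) (pc M hN).2 hN (v15 M hN) (by decide +kernel)

end L.CvTits5
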