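import Cfsg.Agent.H14.KhJ2T
import Cfsg.Agent.L.KF

/-! Generated certificate (toolsL/cg.hpp). -/
set_option autoImplicit false
set_option maxRecDepth 200000
set_option Elab.async false
set_option linter.unusedVariables false
set_option linter.unusedSectionVars false

namespace L.KhJ2
open H14 L.KhJ2T
variable {G Ω : Type*} [Group G] [Finite G] [MulAction G Ω]

noncomputable def w0 : Word := [nat_lit 0]
noncomputable def w1 : Word := [nat_lit 2]
noncomputable def w2 : Word := [nat_lit 4]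
theorem k3 : orbChk (nat_lit 100) H15.StdJ2.nets F [] (sel [w0, w1, w2] [nat_lit 0, nat_lit 1, nat_lit 2]) [dw (nat_lit 0x01), dw (nat_lit 0x05), dw (nat_lit 0x03), dw (nat_lit 0x01), dw (nat_lit 0x05), dw (nat_lit 0x03), dw (nat_lit 0x05), dw (nat_lit 0x01)
, dw (nat_lit 0x03)] (dn (nat_lit 16) (nat_lit 0x02421142060106c104c1110307810c430a43)) (bit (nat_lit 0)) (full (nat_lit 100)) = true := by decide +kernel
theorem o4 (M : PM G Ω 100 H15.StdJ2.nets) (hN : Nat.card G = 604800) : Orb M ⊤ [] (nat_lit 0) (full (nat_lit 100)) :=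
  (Orb.ext le_top (orb_bit ⊤ [] (b := (nat_lit 0)) rfl) k3)
noncomputable def w5 : Word := [nat_lit 8]
noncomputable def w6 : Word := [nat_lit 10]
noncomputable def w7 : Word := [nat_lit 12]
theorem k8 : orbChk (nat_lit 100) H15.StdJ2.nets F [nat_lit 0] (sel [w5, w6, w7] [nat_lit 0, nat_lit 1, nat_lit 2]) [dw (nat_lit 0x01), dw (nat_lit 0x03), dw (nat_lit 0x01), dw (nat_lit 0x03), dw (nat_lit 0x05)] (dn (nat_lit 16) (nat_lit 0x098107c303021383140212c108c111c20a020a010d811182118100c10e8109010a41)) (bit (nat_lit 1)) (nat_lit 0x30003c9c50479c358900218de) = true := by decide +kernel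
theorem o9 (M : PM G Ω 100 H15.StdJ2.nets) (hN : Nat.card G = 604800) : Orb M ⊤ [nat_lit 0] (nat_lit 1) (nat_lit 0x30003c9c50479c358900218de) :=
  (Orb.ext le_top (orb_bit ⊤ [nat_lit 0] (b := (nat_lit 1)) rfl) k8)
theorem k10 : orbChk (nat_lit 100) H15.StdJ2.nets F [nat_lit 1, nat_lit 0] (sel [w7] [nat_lit 0]) [] (dn (nat_lit 16) (nat_lit 0x13810d810d01098101810081)) (bit (nat_lit 2)) (nat_lit 0x41000050004000000044) = true := by decide +kernel
theorem o11 (M : PM G Ω 100 H15.StdJ2.nets) (hN : Nat.card G = 604800) : Orb M ⊤ [nat_lit 1, nat_lit 0] (nat_lit 2) (nat_lit 0x41000050004000000044) :=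
  (Orb.ext le_top (orb_bit ⊤ [nat_lit 1, nat_lit 0] (b := (nat_lit 2)) rfl) k10)
noncomputable def w12 : Word := [nat_lit 14]
noncomputable def w13 : Word := [nat_lit 18]
theorem k14 : orbChk (nat_lit 100) H15.StdJ2.nets F [nat_lit 2, nat_lit 1, nat_lit 0] (sel [w12, w13] [nat_lit 0, nat_lit 1]) [dw (nat_lit 0x01), dw (nat_lit 0x03)] (dn (nat_lit 16) (nat_lit 0x140202c107021802180108c208c11841)) (bit (nat_lit 7)) (nat_lit 0x3000100850000010810020880) = true := by decide +kernel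
theorem o15 (M : PM G Ω 100 H15.StdJ2.nets) (hN : Nat.card G = 604800) : Orb M ⊤ [nat_lit 2, nat_lit 1, nat_lit 0] (nat_lit 7) (nat_lit 0x3000100850000010810020880) :=
  (Orb.ext le_top (orb_bit ⊤ [nat_lit 2, nat_lit 1, nat_lit 0] (b := (nat_lit 7)) rfl) k14)
noncomputable def w16 : Word := [nat_lit 20]
theorem k17 : orbChk (nat_lit 100) H15.StdJ2.nets F [nat_lit 7, nat_lit 2, nat_lit 1, nat_lit 0] (sel [w16] [nat_lit 0]) [] (dn (nat_lit 16) (nat_lit 0x0101)) (bit (nat_lit 4)) (nat_lit 0x200000000000000000010) = true := by decide +kernel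
theorem o18 (M : PM G Ω 100 H15.StdJ2.nets) (hN : Nat.card G = 604800) : Orb M ⊤ [nat_lit 7, nat_lit 2, nat_lit 1, nat_lit 0] (nat_lit 4) (nat_lit 0x200000000000000000010) :=
  (Orb.ext le_top (orb_bit ⊤ [nat_lit 7, nat_lit 2, nat_lit 1, nat_lit 0] (b := (nat_lit 4)) rfl) k17)
noncomputable def c19 : Chn := [((nat_lit 0), (full (nat_lit 100))), ((nat_lit 1), (nat_lit 0x30003c9c50479c358900218de)), ((nat_lit 2), (nat_lit 0x41000050004000000044)), ((nat_lit 7), (nat_lit 0x3000100850000010810020880)), ((nat_lit 4), (nat_lit 0x200000000000000000010))]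
theorem k20 : Nat.ble 604800 (cval (nat_lit 100) c19) = true := by decide +kernel
theorem e21 (M : PM G Ω 100 H15.StdJ2.nets) (hN : Nat.card G = 604800) : EC M ⊤ [] c19 :=
  ec_top (c := c19) ⟨(o4 M hN), ⟨(o9 M hN), ⟨(o11 M hN), ⟨(o15 M hN), ⟨(o18 M hN), trivial⟩⟩⟩⟩⟩ hN k20
noncomputable def bs0 : List Nat := [nat_lit 0, nat_lit 1, nat_lit 2, nat_lit 7, nat_lit 4]
theorem base0 (M : PM G Ω 100 H15.StdJ2.nets) (hN : Nat.card G = 604800) : IsBase M bs0 :=
  base_of_ec (e21 M hN) (by decide +kernel)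
noncomputable def w22 : Word := [nat_lit 16]
noncomputable def w23 : Word := [nat_lit 22]
theorem k24 : orbChk (nat_lit 100) H15.StdJ2.nets F [nat_lit 0] (sel [w5, w6, w7, w12, w22, w13, w16, w23] [nat_lit 0, nat_lit 1, nat_lit 2, nat_lit 3, nat_lit 4, nat_lit 5, nat_lit 6, nat_lit 7]) [dw (nat_lit 0x01), dw (nat_lit 0x03), dw (nat_lit 0x05), dw (nat_lit 0x01), dw (nat_lit 0x0b), dw (nat_lit 0x09), dw (nat_lit 0x05)] (dn (nat_lit 16) (nat_lit 0x0c87150715040a811684)) (bit (nat_lit 5)) (nat_lit 0xcfffc363afb863ca76ffde720) = true := by decide +kernel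
theorem o25 (M : PM G Ω 100 H15.StdJ2.nets) (hN : Nat.card G = 604800) : Orb M ⊤ [nat_lit 0] (nat_lit 5) (nat_lit 0xcfffc363afb863ca76ffde720) :=
  (Orb.ext le_top (orb_bit ⊤ [nat_lit 0] (b := (nat_lit 5)) rfl) k24)

end L.KhJ2
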