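import Cfsg.Agent.H14.CZ3
import Cfsg.Agent.H14.KhJ2
import Cfsg.Agent.H15.StdAlt5

/-! Generated certificate (toolsL/cg.hpp). -/
set_option autoImplicit false
set_option maxRecDepth 200000
set_option Elab.async false
set_option linter.unusedVariables false
set_option linter.unusedSectionVars false

namespace L.CzJ2
open H14 L.KhJ2T L.KhJ2
variable {G Ω : Type*} [Group G] [Finite G] [MulAction G Ω]

noncomputable def z : Word := [nat_lit 19, nat_lit 12, nat_lit 6, nat_lit 15, nat_lit 11, nat_lit 5]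
noncomputable def w0 : Word := [nat_lit 0]
noncomputable def w1 : Word := [nat_lit 2]
noncomputable def w2 : Word := [nat_lit 4]
theorem k3 : orbChk (nat_lit 100) H15.StdJ2.nets F [] (sel [w0, w1, w2] [nat_lit 0, nat_lit 1, nat_lit 2]) [dw (nat_lit 0x01), dw (nat_lit 0x03), dw (nat_lit 0x05), dw (nat_lit 0x01), dw (nat_lit 0x05), dw (nat_lit 0x03), dw (nat_lit 0x01), dw (nat_lit 0x05)
, dw (nat_lit 0x03), dw (nat_lit 0x05)] [] (bit (nat_lit 3)) (full (nat_lit 100)) = true := by decide +kernel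
theorem o4 (M : PM G Ω 100 H15.StdJ2.nets) (hN : Nat.card G = 604800) : Orb M ⊤ [] (nat_lit 3) (full (nat_lit 100)) :=
  (Orb.ext le_top (orb_bit ⊤ [] (b := (nat_lit 3)) rfl) k3)
noncomputable def w5 : Word := [nat_lit 18]
noncomputable def w6 : Word := [nat_lit 20]
noncomputable def w7 : Word := [nat_lit 8, nat_lit 4]
theorem k8 : orbChk (nat_lit 100) H15.StdJ2.nets F [nat_lit 3] (sel [w5, w6, w7] [nat_lit 0, nat_lit 1, nat_lit 2]) [dw (nat_lit 0x01), dw (nat_lit 0x03), dw (nat_lit 0x05)] (dn (nat_lit 16) (nat_lit 0x0043168313010c4301c30ec30dc104c20883118107420741108111c303830382038108410f4308c308c208c105430b410fc30fc2000305c1)) (bit (nat_lit 6)) (nat_lit 0x2408d2c4a89a6c4e20a852c3) = true := by decide +kernel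
theorem o9 (M : PM G Ω 100 H15.StdJ2.nets) (hN : Nat.card G = 604800) : Orb M ⊤ [nat_lit 3] (nat_lit 6) (nat_lit 0x2408d2c4a89a6c4e20a852c3) :=
  (Orb.ext le_top (orb_bit ⊤ [nat_lit 3] (b := (nat_lit 6)) rfl) k8)
noncomputable def w10 : Word := [nat_lit 20, nat_lit 18]
noncomputable def w11 : Word := [nat_lit 0, nat_lit 19, nat_lit 15, nat_lit 0]
noncomputable def w12 : Word := [nat_lit 6, nat_lit 11, nat_lit 22, nat_lit 2]
theorem k13 : orbChk (nat_lit 100) H15.StdJ2.nets F [nat_lit 6, nat_lit 3] (sel [w10, w11, w12] [nat_lit 0, nat_lit 1, nat_lit 2]) [dw (nat_lit 0x01), dw (nat_lit 0x03), dw (nat_lit 0x01)] (dn (nat_lit 16) (nat_lit 0x1203050115c30b030103010110c118821881064309030d811583158215811803180118430c830c82034303420341164316421641008300820a030a020a01154303c311030f030803)) (bit (nat_lit 32)) (nat_lit 0xf4bf40d18126413311f51a034) = true := by decide +kernel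
theorem o14 (M : PM G Ω 100 H15.StdJ2.nets) (hN : Nat.card G = 604800) : Orb M ⊤ [nat_lit 6, nat_lit 3] (nat_lit 32) (nat_lit 0xf4bf40d18126413311f51a034) :=
  (Orb.ext le_top (orb_bit ⊤ [nat_lit 6, nat_lit 3] (b := (nat_lit 32)) rfl) k13)
noncomputable def w15 : Word := [nat_lit 14, nat_lit 17, nat_lit 6, nat_lit 12]
theorem k16 : orbChk (nat_lit 100) H15.StdJ2.nets F [nat_lit 32, nat_lit 6, nat_lit 3] (sel [w15] [nat_lit 0]) [] (dn (nat_lit 16) (nat_lit 0x1281178106c1)) (bit (nat_lit 27)) (nat_lit 0x400004000000001008000000) = true := by decide +kernel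
theorem o17 (M : PM G Ω 100 H15.StdJ2.nets) (hN : Nat.card G = 604800) : Orb M ⊤ [nat_lit 32, nat_lit 6, nat_lit 3] (nat_lit 27) (nat_lit 0x400004000000001008000000) :=
  (Orb.ext le_top (orb_bit ⊤ [nat_lit 32, nat_lit 6, nat_lit 3] (b := (nat_lit 27)) rfl) k16)
noncomputable def c18 : Chn := [((nat_lit 3), (full (nat_lit 100))), ((nat_lit 6), (nat_lit 0x2408d2c4a89a6c4e20a852c3)), ((nat_lit 32), (nat_lit 0xf4bf40d18126413311f51a034)), ((nat_lit 27), (nat_lit 0x400004000000001008000000))]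
theorem k19 : Nat.ble 604800 (cval (nat_lit 100) c18) = true := by decide +kernel
theorem e20 (M : PM G Ω 100 H15.StdJ2.nets) (hN : Nat.card G = 604800) : EC M ⊤ [] c18 :=
  ec_top (c := c18) ⟨(o4 M hN), ⟨(o9 M hN), ⟨(o14 M hN), ⟨(o17 M hN), trivial⟩⟩⟩⟩ hN k19
noncomputable def p21 : Prs := [(z, z)]
theorem k22 : band (Nat.ble (nat_lit 100) (Nat.pow 2 (nat_lit 7))) (fsChk (nat_lit 100) (nat_lit 7) H15.StdJ2.nets z (nat_lit 0x10418004680a240120084548) (full (nat_lit 100)) 0 0 (nat_lit 7)) = true := by decide +kernel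
theorem f23 (M : PM G Ω 100 H15.StdJ2.nets) (hN : Nat.card G = 604800) : IsFix M z (nat_lit 0x10418004680a240120084548) :=
  fix_one k22
theorem k24 : relK F bs0 [(z, flat (fsts p21) [nat_lit 0]), (z, flat (snds p21) [nat_lit 0])] = true := by decide +kernel
noncomputable def b25 : List (Nat × Nat) := [((nat_lit 0x10418004680a240120084548), (nat_lit 0x10418004680a240120084548))]
noncomputable def y26 : List Word := []
theorem k27 : relK F bs0 (commR (snds p21) y26) = true := by decide +kernel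
theorem x28 (M : PM G Ω 100 H15.StdJ2.nets) (hN : Nat.card G = 604800) : Cx M (fun g => Pr M g p21) b25 [] p21 y26 :=
  cx_conj (tb_cons (f23 M hN) (f23 M hN) (rels_base (base0 M hN) k24) (fun _ _ => fa_nil)) (rels_base (base0 M hN) k27)
noncomputable def t29 : KT := KT.nil (SE.and (SE.lev (nat_lit 0)) (SE.tab (nat_lit 0))) [] [] []
theorem k30 : ktChk (nat_lit 100) H15.StdJ2.nets F c18 b25 [] p21 y26 [] [] (nat_lit 0) (nat_lit 3) (nat_lit 0x10418004680a240120084548) 0 t29 = true := by decide +kernel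
theorem l31 (M : PM G Ω 100 H15.StdJ2.nets) (hN : Nat.card G = 604800) : Cl M (fun g => Pr M g p21) [] [] (nat_lit 3) (nat_lit 0x10418004680a240120084548) :=
  cl_tree (e20 M hN) (x28 M hN) (dd0 _ _ _ _) k30
noncomputable def t32 : KT := KT.nil (SE.and (SE.lev (nat_lit 1)) (SE.tab (nat_lit 0))) [] [] []
theorem k33 : ktChk (nat_lit 100) H15.StdJ2.nets F c18 b25 [] p21 y26 [] [nat_lit 3] (nat_lit 1) (nat_lit 6) (nat_lit 0x8004280a240020084040) 0 t32 = true := by decide +kernel
theorem l34 (M : PM G Ω 100 H15.StdJ2.nets) (hN : Nat.card G = 604800) : Cl M (fun g => Pr M g p21) [] [nat_lit 3] (nat_lit 6) (nat_lit 0x8004280a240020084040) :=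
  cl_tree (e20 M hN) (x28 M hN) (dd0 _ _ _ _) k33
noncomputable def t35 : KT := KT.nil (SE.and (SE.lev (nat_lit 2)) (SE.tab (nat_lit 0))) [] [] []
theorem k36 : ktChk (nat_lit 100) H15.StdJ2.nets F c18 b25 [] p21 y26 [] [nat_lit 6, nat_lit 3] (nat_lit 2) (nat_lit 32) (nat_lit 0x4000000000000100000000) 0 t35 = true := by decide +kernel
theorem l37 (M : PM G Ω 100 H15.StdJ2.nets) (hN : Nat.card G = 604800) : Cl M (fun g => Pr M g p21) [] [nat_lit 6, nat_lit 3] (nat_lit 32) (nat_lit 0x4000000000000100000000) :=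
  cl_tree (e20 M hN) (x28 M hN) (dd0 _ _ _ _) k36
noncomputable def t38 : KT := KT.nil (SE.lev (nat_lit 3)) [] [] []
theorem k39 : ktChk (nat_lit 100) H15.StdJ2.nets F c18 b25 [] p21 y26 [] [nat_lit 32, nat_lit 6, nat_lit 3] (nat_lit 3) (nat_lit 27) (nat_lit 0x400004000000001008000000) 0 t38 = true := by decide +kernel
theorem l40 (M : PM G Ω 100 H15.StdJ2.nets) (hN : Nat.card G = 604800) : Cl M (fun g => Pr M g p21) [] [nat_lit 32, nat_lit 6, nat_lit 3] (nat_lit 27) (nat_lit 0x400004000000001008000000) :=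
  cl_tree (e20 M hN) (x28 M hN) (dd0 _ _ _ _) k39
noncomputable def c41 : Chn := [((nat_lit 3), (nat_lit 0x10418004680a240120084548)), ((nat_lit 6), (nat_lit 0x8004280a240020084040)), ((nat_lit 32), (nat_lit 0x4000000000000100000000)), ((nat_lit 27), (nat_lit 0x400004000000001008000000))]
theorem e42 (M : PM G Ω 100 H15.StdJ2.nets) (hN : Nat.card G = 604800) : SC M (cenP M p21 rfl) [] c41 :=
  ⟨Cl.lev (l31 M hN), ⟨Cl.lev (l34 M hN), ⟨Cl.lev (l37 M hN), ⟨Cl.lev (l40 M hN), (EC.sc_end (e20 M hN) (by decide +kernel))⟩⟩⟩⟩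
theorem up (M : PM G Ω 100 H15.StdJ2.nets) (hN : Nat.card G = 604800) : Nat.card (Subgroup.centralizer (sub M.gen [z] : Set G)) ≤ 1920 :=
  (cenP_eq (M := M) (ps := p21) rfl ▸ SC.card_le' (e42 M hN) (by decide +kernel) : Nat.card (Subgroup.centralizer (sub M.gen (fsts p21) : Set G)) ≤ _)
noncomputable def w43 : Word := [nat_lit 23, nat_lit 4, nat_lit 4, nat_lit 23, nat_lit 11]
noncomputable def w44 : Word := [nat_lit 4, nat_lit 4, nat_lit 3, nat_lit 19, nat_lit 11]
noncomputable def w45 : Word := [nat_lit 10, nat_lit 19, nat_lit 8, nat_lit 22]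
noncomputable def w46 : Word := [nat_lit 23, nat_lit 12, nat_lit 17, nat_lit 10]
noncomputable def ks : List Word := [w43, w44, w45, w46]
noncomputable def c47 : Chn := [((nat_lit 0), (nat_lit 0xfefbe7ffb97f5dbfedff7bab7)), ((nat_lit 1), (nat_lit 0x3000249c10041c25890001816)), ((nat_lit 2), (bit (nat_lit 2))), ((nat_lit 7), (bit (nat_lit 7))), ((nat_lit 4), (bit (nat_lit 4)))]
noncomputable def d48 : List OD := [⟨[nat_lit 3, nat_lit 0], [dw (nat_lit 0x03), dw (nat_lit 0x01)], (dn (nat_lit 16) (nat_lit 0x0b020e82148218821881030103c206010d420d4116c216c116010fc11001178218c1174201c106810c810481104210c2124107820781134216421641118205011682168103410a0115c215c10f010e41144214410542054102c202c108820881070212c212c10e0113821381114118021801024208c10a4111c211c10d820d810ac1094209410c020c011201110211010b8106c206c104020401))⟩,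
 ⟨[nat_lit 2, nat_lit 3], [], (dn (nat_lit 16) (nat_lit 0x11820d820a411001138214410101120212c1008211c211c10c0107c108c2098209810b820b810bc20bc100420041))⟩,
 ⟨[], [], []⟩,
 ⟨[], [], []⟩,
 ⟨[], [], []⟩]
theorem k49 : ocChk (nat_lit 100) H15.StdJ2.nets F ks c47 d48 [] = true := by decide +kernel
theorem o50 (M : PM G Ω 100 H15.StdJ2.nets) (hN : Nat.card G = 604800) : OC M (sub M.gen ks) [] c47 :=
  oc_of le_rfl k49
theorem ks_low (M : PM G Ω 100 H15.StdJ2.nets) (hN : Nat.card G = 604800) : 1920 ≤ Nat.card (sub M.gen ks) :=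
  (OC.le_card' (N := 1920) (o50 M hN) (by decide +kernel))
theorem k51 : relK F bs0 (commR [z] ks) = true := by decide +kernel
theorem cen (M : PM G Ω 100 H15.StdJ2.nets) (hN : Nat.card G = 604800) : (sub M.gen ks) ≤ (Subgroup.centralizer (sub M.gen [z] : Set G)) :=
  (le_cent_of (rels_base (base0 M hN) k51))
theorem eqC (M : PM G Ω 100 H15.StdJ2.nets) (hN : Nat.card G = 604800) : Subgroup.centralizer {ev M.gen z} = (sub M.gen ks) ∧ Nat.card (sub M.gen ks) = 1920 :=
  cent_single M.gen z ▸ eq_of_cards (cen M hN) (up M hN) (ks_low M hN)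
theorem k52 : relK F bs0 [(powW z 2, [])] = true := by decide +kernel
theorem r53 (M : PM G Ω 100 H15.StdJ2.nets) (hN : Nat.card G = 604800) : orderOf (ev M.gen z) = 2 :=
  order_of_rel (F := F) (b := 0) (by norm_num) (rels_base (base0 M hN) k52) (by decide +kernel)
theorem ord (M : PM G Ω 100 H15.StdJ2.nets) (hN : Nat.card G = 604800) : orderOf (ev M.gen z) = 2 :=
  (r53 M hN)
noncomputable def w54 : Word := [nat_lit 22, nat_lit 12, nat_lit 9, nat_lit 13]
noncomputable def w55 : Word := [nat_lit 7, nat_lit 10, nat_lit 2, nat_lit 15, nat_lit 4]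
noncomputable def w56 : Word := [nat_lit 20, nat_lit 2, nat_lit 11, nat_lit 0, nat_lit 23]
noncomputable def w57 : Word := [nat_lit 18, nat_lit 13, nat_lit 9, nat_lit 0, nat_lit 15, nat_lit 8]
noncomputable def qz : List Word := [w54, w55, w56, w57, z]
noncomputable def qws : List Word := List.append qz []
theorem k58 : nrmRow F bs0 qws (nat_lit 5) (nat_lit 0) (nat_lit 1) [[nat_lit 8, nat_lit 2],
 [nat_lit 8, nat_lit 4],
 [nat_lit 6],
 [nat_lit 8]] (nat_lit 63) = true := by decide +kernel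
theorem k59 : nrmRow F bs0 qws (nat_lit 5) (nat_lit 1) (nat_lit 2) [[nat_lit 8, nat_lit 4],
 [nat_lit 8, nat_lit 6],
 [nat_lit 8]] (nat_lit 63) = true := by decide +kernel
theorem k60 : nrmRow F bs0 qws (nat_lit 5) (nat_lit 2) (nat_lit 3) [[nat_lit 6],
 [nat_lit 8]] (nat_lit 63) = true := by decide +kernel
theorem k61 : nrmRow F bs0 qws (nat_lit 5) (nat_lit 3) (nat_lit 4) [[nat_lit 8]] (nat_lit 63) = true := by decide +kernel
theorem k62 : nrmRow F bs0 qws (nat_lit 5) (nat_lit 4) (nat_lit 5) [] (nat_lit 63) = true := by decide +kernel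
noncomputable def qnm : List Nat := [nat_lit 63, nat_lit 63, nat_lit 63, nat_lit 63, nat_lit 63]
theorem qhn (M : PM G Ω 100 H15.StdJ2.nets) (hN : Nat.card G = 604800) : NrmL (loc M.gen qws) 5 0 qnm :=
  (nrm_cons (base0 M hN) k58 (nrm_cons (base0 M hN) k59 (nrm_cons (base0 M hN) k60 (nrm_cons (base0 M hN) k61 (nrm_cons (base0 M hN) k62 trivial)))))
noncomputable def c63 : Chn := [((nat_lit 0), (nat_lit 0x41800020530090001220281)), ((nat_lit 8), (nat_lit 0x100000000000000000000100))]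
noncomputable def d64 : List OD := [⟨[nat_lit 1, nat_lit 2, nat_lit 3], [], (dn (nat_lit 16) (nat_lit 0x0e030d0301c314c314c214c10d4110431041150315021501000300020001))⟩,
 ⟨[nat_lit 0], [], (dn (nat_lit 16) (nat_lit 0x0201))⟩]
theorem k65 : ocChk (nat_lit 100) H15.StdJ2.nets F qz c63 d64 [] = true := by decide +kernel
theorem o66 (M : PM G Ω 100 H15.StdJ2.nets) (hN : Nat.card G = 604800) : OC M (Nn (loc M.gen qws) 5 0) [] c63 :=
  oc_of (sub_le_Nn M.gen qz [] (m := 5) rfl) k65
theorem k67 : powChk F bs0 qws (nat_lit 2) (nat_lit 5) qnm [[],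
 [nat_lit 8],
 [nat_lit 8],
 [nat_lit 8],
 []] = true := by decide +kernel
theorem qpc (M : PM G Ω 100 H15.StdJ2.nets) (hN : Nat.card G = 604800) : Pc (loc M.gen qws) 2 5 ∧ ∀ i ≤ 5, Nat.card (Nn (loc M.gen qws) 5 i) = 2 ^ (5 - i) :=
  pc_of (base0 M hN) (by norm_num) (qhn M hN) k67 (OC.le_card' (o66 M hN) (by decide +kernel))
noncomputable def q : List Word := List.drop 0 qz
theorem q_card (M : PM G Ω 100 H15.StdJ2.nets) (hN : Nat.card G = 604800) : Nat.card (sub M.gen q) = 2 ^ 5 :=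
  Nn_eq_sub M.gen qz [] (m := 5) rfl 0 ▸ (qpc M hN).2 0 (by decide)
noncomputable def v68 : List Word := [dw (nat_lit 0x050505), dw (nat_lit 0x050103050805), dw (nat_lit 0x0103050507), dw (nat_lit 0x040501060706), dw (nat_lit 0x0307030306)]
theorem k69 : relK F bs0 (memRels ks q v68) = true := by decide +kernel
theorem q_le (M : PM G Ω 100 H15.StdJ2.nets) (hN : Nat.card G = 604800) : (sub M.gen q) ≤ (sub M.gen ks) :=
  (sub_le_of_memRels (rels_base (base0 M hN) k69))
noncomputable def v70 : List (List Word) := [[dw (nat_lit 0x010307), dw (nat_lit 0x030507), dw (nat_lit 0x07), dw (nat_lit 0x05), dw (nat_lit 0x09)],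
 [dw (nat_lit 0x01030709), dw (nat_lit 0x030709), dw (nat_lit 0x03050709), dw (nat_lit 0x03), dw (nat_lit 0x09)],
 [dw (nat_lit 0x01), dw (nat_lit 0x01050709), dw (nat_lit 0x03), dw (nat_lit 0x010305), dw (nat_lit 0x09)],
 [dw (nat_lit 0x01), dw (nat_lit 0x0309), dw (nat_lit 0x030709), dw (nat_lit 0x01030507), dw (nat_lit 0x09)]]
theorem k71 : relK F bs0 (nrR q q ks v70) = true := by decide +kernel
theorem q_nrm (M : PM G Ω 100 H15.StdJ2.nets) (hN : Nat.card G = 604800) : (sub M.gen ks) ≤ (Subgroup.normalizer (sub M.gen q : Set G)) :=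
  (le_normalizer_of le_rfl (rels_base (base0 M hN) k71) (by decide +kernel))
noncomputable def w72 : Word := [nat_lit 3, nat_lit 14, nat_lit 16, nat_lit 4, nat_lit 13]
noncomputable def w73 : Word := [nat_lit 20, nat_lit 14, nat_lit 10, nat_lit 7, nat_lit 23, nat_lit 0]
noncomputable def w74 : Word := [nat_lit 19, nat_lit 16, nat_lit 12, nat_lit 4]
noncomputable def w75 : Word := [nat_lit 23, nat_lit 16, nat_lit 3, nat_lit 14, nat_lit 10]
noncomputable def w76 : Word := [nat_lit 20, nat_lit 13, nat_lit 3, nat_lit 13, nat_lit 17]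
noncomputable def extys : List Word := [w72, w44, w73, w74, w75, w76]
noncomputable def v77 : List Word := [dw (nat_lit 0x080307), dw (nat_lit 0x03), dw (nat_lit 0x070308), dw (nat_lit 0x010705010705), dw (nat_lit 0x060303050707), dw (nat_lit 0x040501070705)]
theorem k78 : relK F bs0 (memRels ks extys v77) = true := by decide +kernel
theorem exthy (M : PM G Ω 100 H15.StdJ2.nets) (hN : Nat.card G = 604800) : (sub M.gen extys) ≤ (sub M.gen ks) :=
  (sub_le_of_memRels (rels_base (base0 M hN) k78))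
noncomputable def v79 : List Word := [dw (nat_lit 0x01030509), dw (nat_lit 0x03050709), [], dw (nat_lit 0x01050709), dw (nat_lit 0x03), dw (nat_lit 0x01050709), [], []
, [], [], [], dw (nat_lit 0x010309), [], [], []]
theorem k80 : relK F bs0 (qR extys q H15.StdAlt5.rels v79) = true := by decide +kernel
noncomputable def v81 : Prs := [(dw (nat_lit 0x0206), dw (nat_lit 0x010309)),
 (dw (nat_lit 0x01), []),
 (dw (nat_lit 0x0408), dw (nat_lit 0x030709)),
 (dw (nat_lit 0x0b), dw (nat_lit 0x0709))]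
theorem k82 : relK F bs0 (sR extys q H15.StdAlt5.ws0 ks v81) = true := by decide +kernel
theorem extqs (M : PM G Ω 100 H15.StdJ2.nets) (hN : Nat.card G = 604800) : ∀ {X : Type*} [Group X], PresF G X H15.StdAlt5.rels H15.StdAlt5.ws0 → QS X (sub M.gen ks) (sub M.gen q) :=
  fun hP _ => quot_surj hP (q_le M hN) (exthy M hN) le_rfl le_rfl (rels_base (base0 M hN) k80) (rels_base (base0 M hN) k82) (by decide +kernel)
theorem k83 : relK F bs0 [(powW z 2, [])] = true := by decide +kernel
theorem r84 (M : PM G Ω 100 H15.StdJ2.nets) (hN : Nat.card G = 604800) : orderOf (ev M.gen z) = 2 :=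
  order_of_rel (F := F) (b := 0) (by norm_num) (rels_base (base0 M hN) k83) (by decide +kernel)
noncomputable def v85 : List Word := [dw (nat_lit 0x09)]
theorem k86 : relK F bs0 (memRels q [z] v85) = true := by decide +kernel
theorem exthz (M : PM G Ω 100 H15.StdJ2.nets) (hN : Nat.card G = 604800) : (sub M.gen [z]) ≤ (sub M.gen q) :=
  (sub_le_of_memRels (rels_base (base0 M hN) k86))
theorem k87 : orbChk (nat_lit 100) H15.StdJ2.nets F [] (sel [w0, w1, w2] [nat_lit 0, nat_lit 1, nat_lit 2]) [dw (nat_lit 0x01), dw (nat_lit 0x03), dw (nat_lit 0x05), dw (nat_lit 0x01), dw (nat_lit 0x03), dw (nat_lit 0x05), dw (nat_lit 0x01), dw (nat_lit 0x03)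
, dw (nat_lit 0x05)] (dn (nat_lit 16) (nat_lit 0x08831842184115c30ec1150216810b410e01)) (bit (nat_lit 14)) (full (nat_lit 100)) = true := by decide +kernel
theorem o88 (M : PM G Ω 100 H15.StdJ2.nets) (hN : Nat.card G = 604800) : Orb M ⊤ [] (nat_lit 14) (full (nat_lit 100)) :=
  (Orb.ext le_top (orb_bit ⊤ [] (b := (nat_lit 14)) rfl) k87)
noncomputable def w89 : Word := [nat_lit 7, nat_lit 5]
noncomputable def w90 : Word := [nat_lit 10, nat_lit 0]
noncomputable def w91 : Word := [nat_lit 0, nat_lit 2, nat_lit 17]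
theorem k92 : orbChk (nat_lit 100) H15.StdJ2.nets F [nat_lit 14] (sel [w89, w90, w91] [nat_lit 0, nat_lit 1, nat_lit 2]) [dw (nat_lit 0x01), dw (nat_lit 0x03), dw (nat_lit 0x01), dw (nat_lit 0x03), dw (nat_lit 0x01), dw (nat_lit 0x03)] (dn (nat_lit 16) (nat_lit 0x00410203020114410982098112c107c10fc30fc10f4209030901000300021342134108c20dc209c309c114c3170108830881014301410a81124118830243030311031483)) (bit (nat_lit 79)) (nat_lit 0x6ff9eaff1b6c186defb561b67) = true := by decide +kernel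
theorem o93 (M : PM G Ω 100 H15.StdJ2.nets) (hN : Nat.card G = 604800) : Orb M ⊤ [nat_lit 14] (nat_lit 79) (nat_lit 0x6ff9eaff1b6c186defb561b67) :=
  (Orb.ext le_top (orb_bit ⊤ [nat_lit 14] (b := (nat_lit 79)) rfl) k92)
noncomputable def w94 : Word := [nat_lit 5, nat_lit 18, nat_lit 11, nat_lit 2]
noncomputable def w95 : Word := [nat_lit 7, nat_lit 16, nat_lit 20, nat_lit 2]
theorem k96 : orbChk (nat_lit 100) H15.StdJ2.nets F [nat_lit 79, nat_lit 14] (sel [w94, w95] [nat_lit 0, nat_lit 1]) [] (dn (nat_lit 16) (nat_lit 0x118215c20e820e81060206010702024208410e420e4114c212421202120100020001184218411482148104420441)) (bit (nat_lit 17)) (nat_lit 0x20e9c03400640020a11420205) = true := by decide +kernel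
theorem o97 (M : PM G Ω 100 H15.StdJ2.nets) (hN : Nat.card G = 604800) : Orb M ⊤ [nat_lit 79, nat_lit 14] (nat_lit 17) (nat_lit 0x20e9c03400640020a11420205) :=
  (Orb.ext le_top (orb_bit ⊤ [nat_lit 79, nat_lit 14] (b := (nat_lit 17)) rfl) k96)
noncomputable def w98 : Word := [nat_lit 12, nat_lit 16, nat_lit 22, nat_lit 11]
theorem k99 : orbChk (nat_lit 100) H15.StdJ2.nets F [nat_lit 17, nat_lit 79, nat_lit 14] (sel [w98] [nat_lit 0]) [] (dn (nat_lit 16) (nat_lit 0x168115010241)) (bit (nat_lit 9)) (nat_lit 0x41000000000000001000200) = true := by decide +kernel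
theorem o100 (M : PM G Ω 100 H15.StdJ2.nets) (hN : Nat.card G = 604800) : Orb M ⊤ [nat_lit 17, nat_lit 79, nat_lit 14] (nat_lit 9) (nat_lit 0x41000000000000001000200) :=
  (Orb.ext le_top (orb_bit ⊤ [nat_lit 17, nat_lit 79, nat_lit 14] (b := (nat_lit 9)) rfl) k99)
noncomputable def c101 : Chn := [((nat_lit 14), (full (nat_lit 100))), ((nat_lit 79), (nat_lit 0x6ff9eaff1b6c186defb561b67)), ((nat_lit 17), (nat_lit 0x20e9c03400640020a11420205)), ((nat_lit 9), (nat_lit 0x41000000000000001000200))]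
theorem k102 : Nat.ble 604800 (cval (nat_lit 100) c101) = true := by decide +kernel
theorem e103 (M : PM G Ω 100 H15.StdJ2.nets) (hN : Nat.card G = 604800) : EC M ⊤ [] c101 :=
  ec_top (c := c101) ⟨(o88 M hN), ⟨(o93 M hN), ⟨(o97 M hN), ⟨(o100 M hN), trivial⟩⟩⟩⟩ hN k102
noncomputable def p104 : Prs := [(w54, w54), (w55, w55), (w56, w56), (w57, w57), (z, z)]
theorem k105 : band (Nat.ble (nat_lit 100) (Nat.pow 2 (nat_lit 7))) (fsChk (nat_lit 100) (nat_lit 7) H15.StdJ2.nets w54 (nat_lit 0x980046c380100000a44c9) (full (nat_lit 100)) 0 0 (nat_lit 7)) = true := by decide +kernel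
theorem f106 (M : PM G Ω 100 H15.StdJ2.nets) (hN : Nat.card G = 604800) : IsFix M w54 (nat_lit 0x980046c380100000a44c9) :=
  fix_one k105
theorem k107 : relK F bs0 [(w54, flat (fsts p104) [nat_lit 0]), (w54, flat (snds p104) [nat_lit 0])] = true := by decide +kernel
theorem k108 : band (Nat.ble (nat_lit 100) (Nat.pow 2 (nat_lit 7))) (fsChk (nat_lit 100) (nat_lit 7) H15.StdJ2.nets w55 (nat_lit 0x180044800040020004000) (full (nat_lit 100)) 0 0 (nat_lit 7)) = true := by decide +kernel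
theorem f109 (M : PM G Ω 100 H15.StdJ2.nets) (hN : Nat.card G = 604800) : IsFix M w55 (nat_lit 0x180044800040020004000) :=
  fix_one k108
theorem k110 : relK F bs0 [(w55, flat (fsts p104) [nat_lit 2]), (w55, flat (snds p104) [nat_lit 2])] = true := by decide +kernel
theorem k111 : band (Nat.ble (nat_lit 100) (Nat.pow 2 (nat_lit 7))) (fsChk (nat_lit 100) (nat_lit 7) H15.StdJ2.nets w56 (nat_lit 0x10000600a200000080040) (full (nat_lit 100)) 0 0 (nat_lit 7)) = true := by decide +kernel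
theorem f112 (M : PM G Ω 100 H15.StdJ2.nets) (hN : Nat.card G = 604800) : IsFix M w56 (nat_lit 0x10000600a200000080040) :=
  fix_one k111
theorem k113 : relK F bs0 [(w56, flat (fsts p104) [nat_lit 4]), (w56, flat (snds p104) [nat_lit 4])] = true := by decide +kernel
theorem k114 : band (Nat.ble (nat_lit 100) (Nat.pow 2 (nat_lit 7))) (fsChk (nat_lit 100) (nat_lit 7) H15.StdJ2.nets w57 (nat_lit 0x10000004080a200000080100) (full (nat_lit 100)) 0 0 (nat_lit 7)) = true := by decide +kernel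
theorem f115 (M : PM G Ω 100 H15.StdJ2.nets) (hN : Nat.card G = 604800) : IsFix M w57 (nat_lit 0x10000004080a200000080100) :=
  fix_one k114
theorem k116 : relK F bs0 [(w57, flat (fsts p104) [nat_lit 6]), (w57, flat (snds p104) [nat_lit 6])] = true := by decide +kernel
theorem k117 : relK F bs0 [(z, flat (fsts p104) [nat_lit 8]), (z, flat (snds p104) [nat_lit 8])] = true := by decide +kernel
noncomputable def b118 : List (Nat × Nat) := [((nat_lit 0x980046c380100000a44c9), (nat_lit 0x980046c380100000a44c9)), ((nat_lit 0x180044800040020004000), (nat_lit 0x180044800040020004000)), ((nat_lit 0x10000600a200000080040), (nat_lit 0x10000600a200000080040)), ((nat_lit 0x10000004080a200000080100), (nat_lit 0x10000004080a200000080100)), ((nat_lit 0x10418004680a240120084548), (nat_lit 0x10418004680a240120084548))]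
noncomputable def y119 : List Word := [z]
theorem k120 : relK F bs0 (commR (snds p104) y119) = true := by decide +kernel
theorem x121 (M : PM G Ω 100 H15.StdJ2.nets) (hN : Nat.card G = 604800) : Cx M (fun g => Pr M g p104) b118 [] p104 y119 :=
  cx_conj (tb_cons (f106 M hN) (f106 M hN) (rels_base (base0 M hN) k107) (tb_cons (f109 M hN) (f109 M hN) (rels_base (base0 M hN) k110) (tb_cons (f112 M hN) (f112 M hN) (rels_base (base0 M hN) k113) (tb_cons (f115 M hN) (f115 M hN) (rels_base (base0 M hN) k116) (tb_cons (f23 M hN) (f23 M hN) (rels_base (base0 M hN) k117) (fun _ _ => fa_nil)))))) (rels_base (base0 M hN) k120)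
noncomputable def t122 : KT := KT.alt (dw (nat_lit 0x0809)) (KT.stp (nat_lit 14) [nat_lit 4] (dw (nat_lit 0x08090705080b01)) (KT.br (nat_lit 17) (KT.alt (dw (nat_lit 0x170b040e12)) (KT.stp (nat_lit 17) [nat_lit 3] (dw (nat_lit 0x120f050f090e)) (KT.neq (nat_lit 17) [nat_lit 6] (nat_lit 7) []))
 (KT.alt (dw (nat_lit 0x1707030d18)) (KT.stp (nat_lit 17) [nat_lit 3] (dw (nat_lit 0x1707030d18)) (KT.neq (nat_lit 17) [nat_lit 4] (nat_lit 43) []))
 (KT.nil (SE.and (SE.lev (nat_lit 2)) (SE.tab (nat_lit 0))) [nat_lit 0] [] (dn (nat_lit 16) (nat_lit 0x0a0101c1)))))))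
 (KT.nil (SE.dif (SE.dif (SE.and (SE.and (SE.lev (nat_lit 0)) (SE.tab (nat_lit 0))) (SE.tab (nat_lit 1))) (SE.tab (nat_lit 2))) (SE.tab (nat_lit 3))) [] [] [])
theorem k123 : ktChk (nat_lit 100) H15.StdJ2.nets F c101 b118 [] p104 y119 [] [] (nat_lit 0) (nat_lit 14) (bit (nat_lit 14)) 0 t122 = true := by decide +kernel
theorem l124 (M : PM G Ω 100 H15.StdJ2.nets) (hN : Nat.card G = 604800) : Cl M (fun g => Pr M g p104) [] [] (nat_lit 14) (bit (nat_lit 14)) :=
  cl_tree (e103 M hN) (x121 M hN) (dd0 _ _ _ _) k123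
noncomputable def t125 : KT := KT.liv (nat_lit 14) [nat_lit 4]
theorem k126 : ktChk (nat_lit 100) H15.StdJ2.nets F c101 b118 [] p104 y119 [] [nat_lit 14] (nat_lit 1) (nat_lit 79) (bit (nat_lit 79)) 0 t125 = true := by decide +kernel
theorem l127 (M : PM G Ω 100 H15.StdJ2.nets) (hN : Nat.card G = 604800) : Cl M (fun g => Pr M g p104) [] [nat_lit 14] (nat_lit 79) (bit (nat_lit 79)) :=
  cl_tree (e103 M hN) (x121 M hN) (dd0 _ _ _ _) k126
noncomputable def t128 : KT := KT.alt (dw (nat_lit 0x030c1306030c1306)) (KT.stp (nat_lit 17) [nat_lit 3] (dw (nat_lit 0x030c1306030c1306)) (KT.neq (nat_lit 17) [nat_lit 4] (nat_lit 43) []))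
 (KT.nil (SE.and (SE.lev (nat_lit 2)) (SE.tab (nat_lit 0))) [nat_lit 0] [] (dn (nat_lit 16) (nat_lit 0x0001)))
theorem k129 : ktChk (nat_lit 100) H15.StdJ2.nets F c101 b118 [] p104 y119 [] [nat_lit 79, nat_lit 14] (nat_lit 2) (nat_lit 17) (nat_lit 0x400000000020000) 0 t128 = true := by decide +kernel
theorem l130 (M : PM G Ω 100 H15.StdJ2.nets) (hN : Nat.card G = 604800) : Cl M (fun g => Pr M g p104) [] [nat_lit 79, nat_lit 14] (nat_lit 17) (nat_lit 0x400000000020000) :=
  cl_tree (e103 M hN) (x121 M hN) (dd0 _ _ _ _) k129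
noncomputable def t131 : KT := KT.liv (nat_lit 17) [nat_lit 3]
theorem k132 : ktChk (nat_lit 100) H15.StdJ2.nets F c101 b118 [] p104 y119 [] [nat_lit 17, nat_lit 79, nat_lit 14] (nat_lit 3) (nat_lit 9) (bit (nat_lit 9)) 0 t131 = true := by decide +kernel
theorem l133 (M : PM G Ω 100 H15.StdJ2.nets) (hN : Nat.card G = 604800) : Cl M (fun g => Pr M g p104) [] [nat_lit 17, nat_lit 79, nat_lit 14] (nat_lit 9) (bit (nat_lit 9)) :=
  cl_tree (e103 M hN) (x121 M hN) (dd0 _ _ _ _) k132
noncomputable def c134 : Chn := [((nat_lit 14), (bit (nat_lit 14))), ((nat_lit 79), (bit (nat_lit 79))), ((nat_lit 17), (nat_lit 0x400000000020000)), ((nat_lit 9), (bit (nat_lit 9)))]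
theorem e135 (M : PM G Ω 100 H15.StdJ2.nets) (hN : Nat.card G = 604800) : SC M (cenP M p104 rfl) [] c134 :=
  ⟨Cl.lev (l124 M hN), ⟨Cl.lev (l127 M hN), ⟨Cl.lev (l130 M hN), ⟨Cl.lev (l133 M hN), (EC.sc_end (e103 M hN) (by decide +kernel))⟩⟩⟩⟩
theorem extcq (M : PM G Ω 100 H15.StdJ2.nets) (hN : Nat.card G = 604800) : Nat.card (Subgroup.centralizer (sub M.gen q : Set G)) ≤ 2 :=
  (cenP_eq (M := M) (ps := p104) rfl ▸ SC.card_le' (e135 M hN) (by decide +kernel) : Nat.card (Subgroup.centralizer (sub M.gen (fsts p104) : Set G)) ≤ _)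
noncomputable def v136 : List (List Word) := [[[], dw (nat_lit 0x01), dw (nat_lit 0x01), [], []],
 [dw (nat_lit 0x01), [], dw (nat_lit 0x01), dw (nat_lit 0x01), []],
 [dw (nat_lit 0x01), dw (nat_lit 0x01), [], [], []],
 [[], dw (nat_lit 0x01), [], [], []],
 [[], [], [], [], []]]
theorem k137 : relK F bs0 (cmR q q [z] v136) = true := by decide +kernel
theorem extcm (M : PM G Ω 100 H15.StdJ2.nets) (hN : Nat.card G = 604800) : ⁅(sub M.gen q), (sub M.gen q)⁆ ≤ (sub M.gen [z]) :=
  (comm_le_of le_rfl (((q_le M hN).trans (cen M hN)).trans (Subgroup.centralizer_le_normalizer _)) (((q_le M hN).trans (cen M hN)).trans (Subgroup.centralizer_le_normalizer _)) (rels_base (base0 M hN) k137) (by decide +kernel))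
theorem ext (M : PM G Ω 100 H15.StdJ2.nets) (hN : Nat.card G = 604800) : ∀ {X : Type*} [Group X], PresF G X H15.StdAlt5.rels H15.StdAlt5.ws0 → Nat.card X = 60 → Ext 2 (ev M.gen z) (sub M.gen q) X 5 :=
  fun hP hX => ext_of (by norm_num) (r84 M hN) (eqC M hN) (q_le M hN) (q_nrm M hN) (q_card M hN) (exthz M hN) (extcq M hN) (extcm M hN) ((extqs M hN) hP) hX (by norm_num)
noncomputable def w138 : Word := [nat_lit 20, nat_lit 10, nat_lit 16, nat_lit 15]
noncomputable def w139 : Word := [nat_lit 8, nat_lit 22, nat_lit 4, nat_lit 12, nat_lit 0]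
noncomputable def w140 : Word := [nat_lit 19, nat_lit 3, nat_lit 14, nat_lit 4]
noncomputable def w141 : Word := [nat_lit 8, nat_lit 20, nat_lit 17, nat_lit 5, nat_lit 8]
noncomputable def sz : List Word := [w98, w138, w139, w140, w141, w54, z]
noncomputable def sws : List Word := List.append sz []
theorem k142 : nrmRow F bs0 sws (nat_lit 7) (nat_lit 0) (nat_lit 1) [[nat_lit 10, nat_lit 2],
 [nat_lit 6, nat_lit 4],
 [nat_lit 6],
 [nat_lit 12, nat_lit 10, nat_lit 8],
 [nat_lit 10],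
 [nat_lit 12]] (nat_lit 255) = true := by decide +kernel
theorem k143 : nrmRow F bs0 sws (nat_lit 7) (nat_lit 1) (nat_lit 2) [[nat_lit 8, nat_lit 4],
 [nat_lit 12, nat_lit 10, nat_lit 6],
 [nat_lit 8],
 [nat_lit 10],
 [nat_lit 12]] (nat_lit 255) = true := by decide +kernel
theorem k144 : nrmRow F bs0 sws (nat_lit 7) (nat_lit 2) (nat_lit 3) [[nat_lit 12, nat_lit 6],
 [nat_lit 12, nat_lit 8],
 [nat_lit 12, nat_lit 10],
 [nat_lit 12]] (nat_lit 255) = true := by decide +kernel
theorem k145 : nrmRow F bs0 sws (nat_lit 7) (nat_lit 3) (nat_lit 4) [[nat_lit 12, nat_lit 8],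
 [nat_lit 10],
 [nat_lit 12]] (nat_lit 255) = true := by decide +kernel
theorem k146 : nrmRow F bs0 sws (nat_lit 7) (nat_lit 4) (nat_lit 5) [[nat_lit 10],
 [nat_lit 12]] (nat_lit 255) = true := by decide +kernel
theorem k147 : nrmRow F bs0 sws (nat_lit 7) (nat_lit 5) (nat_lit 6) [[nat_lit 12]] (nat_lit 255) = true := by decide +kernel
theorem k148 : nrmRow F bs0 sws (nat_lit 7) (nat_lit 6) (nat_lit 7) [] (nat_lit 255) = true := by decide +kernel
noncomputable def snm : List Nat := [nat_lit 255, nat_lit 255, nat_lit 255, nat_lit 255, nat_lit 255, nat_lit 255, nat_lit 255]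
theorem shn (M : PM G Ω 100 H15.StdJ2.nets) (hN : Nat.card G = 604800) : NrmL (loc M.gen sws) 7 0 snm :=
  (nrm_cons (base0 M hN) k142 (nrm_cons (base0 M hN) k143 (nrm_cons (base0 M hN) k144 (nrm_cons (base0 M hN) k145 (nrm_cons (base0 M hN) k146 (nrm_cons (base0 M hN) k147 (nrm_cons (base0 M hN) k148 trivial)))))))
noncomputable def c149 : Chn := [((nat_lit 0), (nat_lit 0x41800020530090001220281)), ((nat_lit 8), (nat_lit 0x104000000002240120000100))]
noncomputable def d150 : List OD := [⟨[nat_lit 0, nat_lit 1, nat_lit 2], [], (dn (nat_lit 16) (nat_lit 0x0d010e030e821043168216810ac30ac11503150215010243024202410003))⟩,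
 ⟨[nat_lit 0, nat_lit 1], [], (dn (nat_lit 16) (nat_lit 0x1702170108010742074102020201))⟩]
theorem k151 : ocChk (nat_lit 100) H15.StdJ2.nets F sz c149 d150 [] = true := by decide +kernel
theorem o152 (M : PM G Ω 100 H15.StdJ2.nets) (hN : Nat.card G = 604800) : OC M (Nn (loc M.gen sws) 7 0) [] c149 :=
  oc_of (sub_le_Nn M.gen sz [] (m := 7) rfl) k151
theorem k153 : powChk F bs0 sws (nat_lit 2) (nat_lit 7) snm [[nat_lit 10],
 [nat_lit 10],
 [nat_lit 12],
 [nat_lit 12],
 [nat_lit 12],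
 [],
 []] = true := by decide +kernel
theorem spc (M : PM G Ω 100 H15.StdJ2.nets) (hN : Nat.card G = 604800) : Pc (loc M.gen sws) 2 7 ∧ ∀ i ≤ 7, Nat.card (Nn (loc M.gen sws) 7 i) = 2 ^ (7 - i) :=
  pc_of (base0 M hN) (by norm_num) (shn M hN) k153 (OC.le_card' (o152 M hN) (by decide +kernel))
noncomputable def s : List Word := List.drop 0 sz
theorem s_card (M : PM G Ω 100 H15.StdJ2.nets) (hN : Nat.card G = 604800) : Nat.card (sub M.gen s) = 2 ^ 7 :=
  Nn_eq_sub M.gen sz [] (m := 7) rfl 0 ▸ (spc M hN).2 0 (by decide)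
noncomputable def v154 : List Word := [dw (nat_lit 0x0806), dw (nat_lit 0x0705), dw (nat_lit 0x060103050707), dw (nat_lit 0x050303010707), dw (nat_lit 0x010503050707), dw (nat_lit 0x050505), dw (nat_lit 0x0307030306)]
theorem k155 : relK F bs0 (memRels ks s v154) = true := by decide +kernel
theorem s_le (M : PM G Ω 100 H15.StdJ2.nets) (hN : Nat.card G = 604800) : (sub M.gen s) ≤ (sub M.gen ks) :=
  (sub_le_of_memRels (rels_base (base0 M hN) k155))
noncomputable def v156 : List Word := [dw (nat_lit 0x0b), dw (nat_lit 0x0507), dw (nat_lit 0x0507090b), dw (nat_lit 0x0709), dw (nat_lit 0x0d)]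
theorem k157 : relK F bs0 (memRels s q v156) = true := by decide +kernel
theorem q_s (M : PM G Ω 100 H15.StdJ2.nets) (hN : Nat.card G = 604800) : (sub M.gen q) ≤ (sub M.gen s) :=
  (sub_le_of_memRels (rels_base (base0 M hN) k157))
noncomputable def w158 : Word := [nat_lit 17, nat_lit 0, nat_lit 8, nat_lit 13, nat_lit 7]
noncomputable def w159 : Word := [nat_lit 17, nat_lit 2, nat_lit 10, nat_lit 7, nat_lit 15]
noncomputable def w160 : Word := [nat_lit 15, nat_lit 7, nat_lit 8, nat_lit 15, nat_lit 5]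
noncomputable def w161 : Word := [nat_lit 23, nat_lit 8, nat_lit 2, nat_lit 6, nat_lit 0, nat_lit 6]
noncomputable def hs : List Word := [w158, w159, w160, w161]
noncomputable def fs : List (Word × Word × Word) := [(dw (nat_lit 0x0a0705), dw (nat_lit 0x01), dw (nat_lit 0x01)), (dw (nat_lit 0x0b05), dw (nat_lit 0x03), dw (nat_lit 0x03)), (dw (nat_lit 0x0904), dw (nat_lit 0x05), dw (nat_lit 0x0103)), (dw (nat_lit 0x02), dw (nat_lit 0x07), dw (nat_lit 0x02))]
noncomputable def vs : List Word := [dw (nat_lit 0x02), dw (nat_lit 0x070307), dw (nat_lit 0x050303), dw (nat_lit 0x05020501), dw (nat_lit 0x07020502), dw (nat_lit 0x0101), dw (nat_lit 0x09)]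
theorem k162 : relK F bs0 (fusRels s hs vs fs [z]) = true := by decide +kernel
theorem fus (M : PM G Ω 100 H15.StdJ2.nets) (hN : Nat.card G = 604800) : Rels M.gen (fusRels s hs vs fs [z]) :=
  (rels_base (base0 M hN) k162)
theorem fs_all (M : PM G Ω 100 H15.StdJ2.nets) (hN : Nat.card G = 604800) : ∀ {X : Type*} [Group X], PresF G X H15.StdAlt5.rels H15.StdAlt5.ws0 → Nat.card X = 60 → Ext 2 (ev M.gen z) (sub M.gen q) X 5 ∧ Nat.card (sub M.gen s) = 2 ^ 7 ∧ sub M.gen q ≤ sub M.gen s ∧ sub M.gen s ≤ Subgroup.centralizer {ev M.gen z} ∧ Rels M.gen (fusRels s hs vs fs [z]) :=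
  fun hP hX => ⟨ext M hN hP hX, s_card M hN, q_s M hN, (s_le M hN).trans (eqC M hN).1.ge, fus M hN⟩

end L.CzJ2
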