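import Cfsg.Agent.H14.CZ3
import Cfsg.Agent.H14.KhMcL
import Cfsg.Agent.H15.StdAlt8

/-! Generated certificate (toolsL/cg.hpp). -/
set_option autoImplicit false
set_option maxRecDepth 200000
set_option Elab.async false
set_option linter.unusedVariables false
set_option linter.unusedSectionVars false

namespace L.CzMcL
open H14 L.KhMcLT L.KhMcL
variable {G Ω : Type*} [Group G] [Finite G] [MulAction G Ω]

noncomputable def z : Word := [nat_lit 26, nat_lit 16, nat_lit 3, nat_lit 16, nat_lit 12, nat_lit 2]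
noncomputable def w0 : Word := [nat_lit 0]
noncomputable def w1 : Word := [nat_lit 2]
noncomputable def w2 : Word := [nat_lit 4]
theorem k3 : orbChk (nat_lit 275) H14.McLc.nets F [] (sel [w0, w1, w2] [nat_lit 0, nat_lit 1, nat_lit 2]) [dw (nat_lit 0x01), dw (nat_lit 0x03), dw (nat_lit 0x05), dw (nat_lit 0x01), dw (nat_lit 0x03), dw (nat_lit 0x05), dw (nat_lit 0x01), dw (nat_lit 0x03)
, dw (nat_lit 0x05), dw (nat_lit 0x01), dw (nat_lit 0x05)] (dn (nat_lit 16) (nat_lit 0x26822ec321411e42294235021a820d42020236823b420a8209820b02)) (bit (nat_lit 2)) (full (nat_lit 275)) = true := by decide +kernel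
theorem o4 (M : PM G Ω 275 H14.McLc.nets) (hN : Nat.card G = 898128000) : Orb M ⊤ [] (nat_lit 2) (full (nat_lit 275)) :=
  (Orb.ext le_top (orb_bit ⊤ [] (b := (nat_lit 2)) rfl) k3)
noncomputable def s5 : Nat := (nat_lit 0x7f8f37f6eeeefdef39f0ad938b9c4c7a0dbbd5470f8377d45f676670a4b12fb44bd9a)
noncomputable def w6 : Word := [nat_lit 12]
noncomputable def w7 : Word := [nat_lit 14]
noncomputable def w8 : Word := [nat_lit 0, nat_lit 6, nat_lit 0]
theorem k9 : orbChk (nat_lit 275) H14.McLc.nets F [nat_lit 2] (sel [w6, w7, w8] [nat_lit 0, nat_lit 1, nat_lit 2]) [dw (nat_lit 0x01), dw (nat_lit 0x03), dw (nat_lit 0x01), dw (nat_lit 0x03), dw (nat_lit 0x01), dw (nat_lit 0x03), dw (nat_lit 0x01), dw (nat_lit 0x03)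
, dw (nat_lit 0x05), dw (nat_lit 0x03), dw (nat_lit 0x01)] (dn (nat_lit 16) (nat_lit 0x0f8303430843438233c2330238420e8336430a43078321433b831d83)) (bit (nat_lit 4)) s5 = true := by decide +kernel
theorem o10 (M : PM G Ω 275 H14.McLc.nets) (hN : Nat.card G = 898128000) : Orb M ⊤ [nat_lit 2] (nat_lit 4) s5 :=
  (Orb.ext le_top (orb_bit ⊤ [nat_lit 2] (b := (nat_lit 4)) rfl) k9)
noncomputable def s11 : Nat := (nat_lit 0x40000101010000460750044000a081f0002888f01c880b80088805514a400104241)
noncomputable def w12 : Word := [nat_lit 21, nat_lit 12]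
noncomputable def w13 : Word := [nat_lit 22, nat_lit 14]
noncomputable def w14 : Word := [nat_lit 3, nat_lit 28, nat_lit 2]
theorem k15 : orbChk (nat_lit 275) H14.McLc.nets F [nat_lit 4, nat_lit 2] (sel [w12, w13, w14] [nat_lit 0, nat_lit 1, nat_lit 2]) [dw (nat_lit 0x01)] (dn (nat_lit 16) (nat_lit 0x2d81024317c33d011dc10d820d8115c315c21ec31ec22041300124c324c1428209c209c1308105010b030b020b0119831982198119c219c131020c020c0128c328c21c011c8118c318c218c11c421a021a0128432841250224423142314133833382348334811cc31cc10182)) (bit (nat_lit 6)) s11 = true := by decide +kernel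
theorem o16 (M : PM G Ω 275 H14.McLc.nets) (hN : Nat.card G = 898128000) : Orb M ⊤ [nat_lit 4, nat_lit 2] (nat_lit 6) s11 :=
  (Orb.ext le_top (orb_bit ⊤ [nat_lit 4, nat_lit 2] (b := (nat_lit 6)) rfl) k15)
noncomputable def s17 : Nat := (nat_lit 0x408822400024218010102400800048000480010000004000000000002000082008d02)
noncomputable def w18 : Word := [nat_lit 26, nat_lit 24]
noncomputable def w19 : Word := [nat_lit 3, nat_lit 21, nat_lit 19, nat_lit 2]
theorem k20 : orbChk (nat_lit 275) H14.McLc.nets F [nat_lit 6, nat_lit 4, nat_lit 2] (sel [w18, w14, w19] [nat_lit 0, nat_lit 1, nat_lit 2]) [dw (nat_lit 0x01)] (dn (nat_lit 16) (nat_lit 0x384342c344834043340327c32f823983398202c13a411f031f021f010643064236c13703370141c341c241c1320332013043304203c303c2)) (bit (nat_lit 15)) s17 = true := by decide +kernel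
theorem o21 (M : PM G Ω 275 H14.McLc.nets) (hN : Nat.card G = 898128000) : Orb M ⊤ [nat_lit 6, nat_lit 4, nat_lit 2] (nat_lit 15) s17 :=
  (Orb.ext le_top (orb_bit ⊤ [nat_lit 6, nat_lit 4, nat_lit 2] (b := (nat_lit 15)) rfl) k20)
noncomputable def s22 : Nat := (nat_lit 0x200000800800000000000000000000080000000000000010000000000080000000000)
noncomputable def w23 : Word := [nat_lit 13, nat_lit 19, nat_lit 15, nat_lit 12]
noncomputable def w24 : Word := [nat_lit 2, nat_lit 9, nat_lit 17, nat_lit 17, nat_lit 8, nat_lit 3]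
theorem k25 : orbChk (nat_lit 275) H14.McLc.nets F [nat_lit 15, nat_lit 6, nat_lit 4, nat_lit 2] (sel [w23, w24] [nat_lit 0, nat_lit 1]) [] (dn (nat_lit 16) (nat_lit 0x44413bc2160216010ac1)) (bit (nat_lit 43)) s22 = true := by decide +kernel
theorem o26 (M : PM G Ω 275 H14.McLc.nets) (hN : Nat.card G = 898128000) : Orb M ⊤ [nat_lit 15, nat_lit 6, nat_lit 4, nat_lit 2] (nat_lit 43) s22 :=
  (Orb.ext le_top (orb_bit ⊤ [nat_lit 15, nat_lit 6, nat_lit 4, nat_lit 2] (b := (nat_lit 43)) rfl) k25)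
noncomputable def s27 : Nat := (nat_lit 0x80000000000002000000000000000000000000000000000)
theorem k28 : orbChk (nat_lit 275) H14.McLc.nets F [nat_lit 43, nat_lit 15, nat_lit 6, nat_lit 4, nat_lit 2] (sel [w24] [nat_lit 0]) [] (dn (nat_lit 16) (nat_lit 0x2141)) (bit (nat_lit 133)) s27 = true := by decide +kernel
theorem o29 (M : PM G Ω 275 H14.McLc.nets) (hN : Nat.card G = 898128000) : Orb M ⊤ [nat_lit 43, nat_lit 15, nat_lit 6, nat_lit 4, nat_lit 2] (nat_lit 133) s27 :=
  (Orb.ext le_top (orb_bit ⊤ [nat_lit 43, nat_lit 15, nat_lit 6, nat_lit 4, nat_lit 2] (b := (nat_lit 133)) rfl) k28)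
noncomputable def c30 : Chn := [((nat_lit 2), (full (nat_lit 275))), ((nat_lit 4), s5), ((nat_lit 6), s11), ((nat_lit 15), s17), ((nat_lit 43), s22), ((nat_lit 133), s27)]
theorem k31 : Nat.ble 898128000 (cval (nat_lit 275) c30) = true := by decide +kernel
theorem e32 (M : PM G Ω 275 H14.McLc.nets) (hN : Nat.card G = 898128000) : EC M ⊤ [] c30 :=
  ec_top (c := c30) ⟨(o4 M hN), ⟨(o10 M hN), ⟨(o16 M hN), ⟨(o21 M hN), ⟨(o26 M hN), ⟨(o29 M hN), trivial⟩⟩⟩⟩⟩⟩ hN k31
noncomputable def p33 : Prs := [(z, z)]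
noncomputable def s34 : Nat := (nat_lit 0x104088400000090000a005005000000000220005040441080890040490800008074)
theorem k35 : band (Nat.ble (nat_lit 275) (Nat.pow 2 (nat_lit 9))) (fsChk (nat_lit 275) (nat_lit 9) H14.McLc.nets z s34 (full (nat_lit 275)) 0 0 (nat_lit 9)) = true := by decide +kernel
theorem f36 (M : PM G Ω 275 H14.McLc.nets) (hN : Nat.card G = 898128000) : IsFix M z s34 :=
  fix_one k35
theorem k37 : relK F bs0 [(z, flat (fsts p33) [nat_lit 0]), (z, flat (snds p33) [nat_lit 0])] = true := by decide +kernel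
noncomputable def b38 : List (Nat × Nat) := [(s34, s34)]
noncomputable def y39 : List Word := []
theorem k40 : relK F bs0 (commR (snds p33) y39) = true := by decide +kernel
theorem x41 (M : PM G Ω 275 H14.McLc.nets) (hN : Nat.card G = 898128000) : Cx M (fun g => Pr M g p33) b38 [] p33 y39 :=
  cx_conj (tb_cons (f36 M hN) (f36 M hN) (rels_base (base0 M hN) k37) (fun _ _ => fa_nil)) (rels_base (base0 M hN) k40)
noncomputable def t42 : KT := KT.nil (SE.and (SE.lev (nat_lit 0)) (SE.tab (nat_lit 0))) [] [] []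
theorem k43 : ktChk (nat_lit 275) H14.McLc.nets F c30 b38 [] p33 y39 [] [] (nat_lit 0) (nat_lit 2) s34 0 t42 = true := by decide +kernel
theorem l44 (M : PM G Ω 275 H14.McLc.nets) (hN : Nat.card G = 898128000) : Cl M (fun g => Pr M g p33) [] [] (nat_lit 2) s34 :=
  cl_tree (e32 M hN) (x41 M hN) (dd0 _ _ _ _) k43
noncomputable def s45 : Nat := (nat_lit 0x80400000090000a001001000000000000005000440080000000490000008010)
noncomputable def t46 : KT := KT.nil (SE.and (SE.lev (nat_lit 1)) (SE.tab (nat_lit 0))) [] [] []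
theorem k47 : ktChk (nat_lit 275) H14.McLc.nets F c30 b38 [] p33 y39 [] [nat_lit 2] (nat_lit 1) (nat_lit 4) s45 0 t46 = true := by decide +kernel
theorem l48 (M : PM G Ω 275 H14.McLc.nets) (hN : Nat.card G = 898128000) : Cl M (fun g => Pr M g p33) [] [nat_lit 2] (nat_lit 4) s45 :=
  cl_tree (e32 M hN) (x41 M hN) (dd0 _ _ _ _) k47
noncomputable def s49 : Nat := (nat_lit 0x4000000000000200000040001000880040000000000040)
noncomputable def t50 : KT := KT.nil (SE.and (SE.lev (nat_lit 2)) (SE.tab (nat_lit 0))) [] [] []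
theorem k51 : ktChk (nat_lit 275) H14.McLc.nets F c30 b38 [] p33 y39 [] [nat_lit 4, nat_lit 2] (nat_lit 2) (nat_lit 6) s49 0 t50 = true := by decide +kernel
theorem l52 (M : PM G Ω 275 H14.McLc.nets) (hN : Nat.card G = 898128000) : Cl M (fun g => Pr M g p33) [] [nat_lit 4, nat_lit 2] (nat_lit 6) s49 :=
  cl_tree (e32 M hN) (x41 M hN) (dd0 _ _ _ _) k51
noncomputable def s53 : Nat := (nat_lit 0x2000000000000000000000000000000000000000000008000)
noncomputable def t54 : KT := KT.nil (SE.and (SE.lev (nat_lit 3)) (SE.tab (nat_lit 0))) [] [] []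
theorem k55 : ktChk (nat_lit 275) H14.McLc.nets F c30 b38 [] p33 y39 [] [nat_lit 6, nat_lit 4, nat_lit 2] (nat_lit 3) (nat_lit 15) s53 0 t54 = true := by decide +kernel
theorem l56 (M : PM G Ω 275 H14.McLc.nets) (hN : Nat.card G = 898128000) : Cl M (fun g => Pr M g p33) [] [nat_lit 6, nat_lit 4, nat_lit 2] (nat_lit 15) s53 :=
  cl_tree (e32 M hN) (x41 M hN) (dd0 _ _ _ _) k55
noncomputable def s57 : Nat := (nat_lit 0x800000000000000000000000000000000000000000000000000080000000000)
noncomputable def t58 : KT := KT.nil (SE.and (SE.lev (nat_lit 4)) (SE.tab (nat_lit 0))) [] [] []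
theorem k59 : ktChk (nat_lit 275) H14.McLc.nets F c30 b38 [] p33 y39 [] [nat_lit 15, nat_lit 6, nat_lit 4, nat_lit 2] (nat_lit 4) (nat_lit 43) s57 0 t58 = true := by decide +kernel
theorem l60 (M : PM G Ω 275 H14.McLc.nets) (hN : Nat.card G = 898128000) : Cl M (fun g => Pr M g p33) [] [nat_lit 15, nat_lit 6, nat_lit 4, nat_lit 2] (nat_lit 43) s57 :=
  cl_tree (e32 M hN) (x41 M hN) (dd0 _ _ _ _) k59
noncomputable def t61 : KT := KT.nil (SE.lev (nat_lit 5)) [] [] []
theorem k62 : ktChk (nat_lit 275) H14.McLc.nets F c30 b38 [] p33 y39 [] [nat_lit 43, nat_lit 15, nat_lit 6, nat_lit 4, nat_lit 2] (nat_lit 5) (nat_lit 133) s27 0 t61 = true := by decide +kernel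
theorem l63 (M : PM G Ω 275 H14.McLc.nets) (hN : Nat.card G = 898128000) : Cl M (fun g => Pr M g p33) [] [nat_lit 43, nat_lit 15, nat_lit 6, nat_lit 4, nat_lit 2] (nat_lit 133) s27 :=
  cl_tree (e32 M hN) (x41 M hN) (dd0 _ _ _ _) k62
noncomputable def c64 : Chn := [((nat_lit 2), s34), ((nat_lit 4), s45), ((nat_lit 6), s49), ((nat_lit 15), s53), ((nat_lit 43), s57), ((nat_lit 133), s27)]
theorem e65 (M : PM G Ω 275 H14.McLc.nets) (hN : Nat.card G = 898128000) : SC M (cenP M p33 rfl) [] c64 :=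
  ⟨Cl.lev (l44 M hN), ⟨Cl.lev (l48 M hN), ⟨Cl.lev (l52 M hN), ⟨Cl.lev (l56 M hN), ⟨Cl.lev (l60 M hN), ⟨Cl.lev (l63 M hN), (EC.sc_end (e32 M hN) (by decide +kernel))⟩⟩⟩⟩⟩⟩
theorem up (M : PM G Ω 275 H14.McLc.nets) (hN : Nat.card G = 898128000) : Nat.card (Subgroup.centralizer (sub M.gen [z] : Set G)) ≤ 40320 :=
  (cenP_eq (M := M) (ps := p33) rfl ▸ SC.card_le' (e65 M hN) (by decide +kernel) : Nat.card (Subgroup.centralizer (sub M.gen (fsts p33) : Set G)) ≤ _)
noncomputable def w66 : Word := [nat_lit 6, nat_lit 18, nat_lit 17, nat_lit 8, nat_lit 8, nat_lit 3, nat_lit 16, nat_lit 14]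
noncomputable def w67 : Word := [nat_lit 2, nat_lit 16, nat_lit 8, nat_lit 12, nat_lit 1, nat_lit 19, nat_lit 14, nat_lit 12]
noncomputable def w68 : Word := [nat_lit 10, nat_lit 21, nat_lit 24, nat_lit 13, nat_lit 26, nat_lit 11]
noncomputable def w69 : Word := [nat_lit 26, nat_lit 13, nat_lit 23, nat_lit 18]
noncomputable def w70 : Word := [nat_lit 26, nat_lit 20]
noncomputable def w71 : Word := [nat_lit 28, nat_lit 23, nat_lit 25]
noncomputable def ks : List Word := [w66, w67, w68, w69, w70, w71]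
noncomputable def s72 : Nat := (nat_lit 0x7fefbf77bffffff6ffff5ffaffafffffffffddfffafbfbbef7f76ffbfb6f7ffff7f8b)
noncomputable def s73 : Nat := (nat_lit 0x4000000000008000000000000000000004000440000000000080000000004)
noncomputable def s74 : Nat := (nat_lit 0x80000000000000000000000000000000000000000000800000000800000040)
noncomputable def s75 : Nat := (nat_lit 0x100000000000000000000000000000000000002)
noncomputable def c76 : Chn := [((nat_lit 0), s72), ((nat_lit 2), s73), ((nat_lit 6), s74), ((nat_lit 3), (nat_lit 0x4000000000000010000008)), ((nat_lit 1), s75), ((nat_lit 4), (bit (nat_lit 4)))]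
noncomputable def d77 : List OD := [⟨[nat_lit 4, nat_lit 5, nat_lit 0], [dw (nat_lit 0x05), dw (nat_lit 0x01), dw (nat_lit 0x03), dw (nat_lit 0x01), dw (nat_lit 0x05), dw (nat_lit 0x01), dw (nat_lit 0x03), dw (nat_lit 0x01)
, dw (nat_lit 0x05), dw (nat_lit 0x01), dw (nat_lit 0x03), dw (nat_lit 0x01)], (dn (nat_lit 16) (nat_lit 0x2c014281378338c306012c83374237410b430b420b41218339433c4312811f831f8144831902160316013b023b010d43430343013f033f023f010e8139c3104100c10e020e012e8138811d812f422f4122820bc317421741114144012e03278126c30e43144324c326833243040318831ec313431703404320030fc31e83284336c317c331030a4343c32fc329c316c31a0308433443108343832f833283274329030f034343098340033b430c832543330337c329833a832383048324431d430cc328c33cc32a43110304c30c0303432f0332c33d4333c323030583))⟩,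
 ⟨[nat_lit 5, nat_lit 2], [], (dn (nat_lit 16) (nat_lit 0x30c20ac11782168216810082))⟩,
 ⟨[nat_lit 4, nat_lit 3], [], (dn (nat_lit 16) (nat_lit 0x08c208c10182))⟩,
 ⟨[nat_lit 4, nat_lit 5], [], (dn (nat_lit 16) (nat_lit 0x158200c1))⟩,
 ⟨[nat_lit 5], [], (dn (nat_lit 16) (nat_lit 0x0041))⟩,
 ⟨[], [], []⟩]
theorem k78 : ocChk (nat_lit 275) H14.McLc.nets F ks c76 d77 [] = true := by decide +kernel
theorem o79 (M : PM G Ω 275 H14.McLc.nets) (hN : Nat.card G = 898128000) : OC M (sub M.gen ks) [] c76 :=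
  oc_of le_rfl k78
theorem ks_low (M : PM G Ω 275 H14.McLc.nets) (hN : Nat.card G = 898128000) : 40320 ≤ Nat.card (sub M.gen ks) :=
  (OC.le_card' (N := 40320) (o79 M hN) (by decide +kernel))
theorem k80 : relK F bs0 (commR [z] ks) = true := by decide +kernel
theorem cen (M : PM G Ω 275 H14.McLc.nets) (hN : Nat.card G = 898128000) : (sub M.gen ks) ≤ (Subgroup.centralizer (sub M.gen [z] : Set G)) :=
  (le_cent_of (rels_base (base0 M hN) k80))
theorem eqC (M : PM G Ω 275 H14.McLc.nets) (hN : Nat.card G = 898128000) : Subgroup.centralizer {ev M.gen z} = (sub M.gen ks) ∧ Nat.card (sub M.gen ks) = 40320 :=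
  cent_single M.gen z ▸ eq_of_cards (cen M hN) (up M hN) (ks_low M hN)
theorem k81 : relK F bs0 [(powW z 2, [])] = true := by decide +kernel
theorem r82 (M : PM G Ω 275 H14.McLc.nets) (hN : Nat.card G = 898128000) : orderOf (ev M.gen z) = 2 :=
  order_of_rel (F := F) (b := 0) (by norm_num) (rels_base (base0 M hN) k81) (by decide +kernel)
theorem ord (M : PM G Ω 275 H14.McLc.nets) (hN : Nat.card G = 898128000) : orderOf (ev M.gen z) = 2 :=
  (r82 M hN)
noncomputable def v83 : List Word := [dw (nat_lit 0x040903070b090b)]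
theorem k84 : relK F bs0 (memRels ks [z] v83) = true := by decide +kernel
theorem z_le (M : PM G Ω 275 H14.McLc.nets) (hN : Nat.card G = 898128000) : (sub M.gen [z]) ≤ (sub M.gen ks) :=
  (sub_le_of_memRels (rels_base (base0 M hN) k84))
noncomputable def w85 : Word := [nat_lit 2, nat_lit 8, nat_lit 14, nat_lit 13, nat_lit 5, nat_lit 15, nat_lit 9, nat_lit 2]
noncomputable def w86 : Word := [nat_lit 26, nat_lit 9, nat_lit 0, nat_lit 10, nat_lit 12, nat_lit 18, nat_lit 26]
noncomputable def w87 : Word := [nat_lit 0, nat_lit 13, nat_lit 26, nat_lit 9, nat_lit 12, nat_lit 0]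
noncomputable def w88 : Word := [nat_lit 1, nat_lit 14, nat_lit 8, nat_lit 21, nat_lit 0, nat_lit 2, nat_lit 26]
noncomputable def w89 : Word := [nat_lit 24, nat_lit 14, nat_lit 8, nat_lit 16, nat_lit 2, nat_lit 1, nat_lit 17, nat_lit 0]
noncomputable def w90 : Word := [nat_lit 3, nat_lit 12, nat_lit 8, nat_lit 12, nat_lit 2, nat_lit 12, nat_lit 16]
noncomputable def w91 : Word := [nat_lit 13, nat_lit 24, nat_lit 11, nat_lit 16, nat_lit 4, nat_lit 21, nat_lit 5, nat_lit 3]
noncomputable def w92 : Word := [nat_lit 7, nat_lit 22, nat_lit 12, nat_lit 6, nat_lit 1, nat_lit 14, nat_lit 7]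
noncomputable def w93 : Word := [nat_lit 23, nat_lit 14, nat_lit 8, nat_lit 3, nat_lit 4, nat_lit 3, nat_lit 11]
noncomputable def w94 : Word := [nat_lit 22, nat_lit 8, nat_lit 10, nat_lit 1, nat_lit 15, nat_lit 6]
noncomputable def w95 : Word := [nat_lit 21, nat_lit 8, nat_lit 18, nat_lit 0, nat_lit 17, nat_lit 0, nat_lit 12, nat_lit 0]
noncomputable def dys : List Word := [w85, w86, w87, w88, w89, w90, w91, w92, w93, w94, w95]
noncomputable def v96 : List Word := [dw (nat_lit 0x080402060907), dw (nat_lit 0x050206010b0509070b09), dw (nat_lit 0x020601050809), dw (nat_lit 0x0b02050109070b09), dw (nat_lit 0x060b030206080b090b), dw (nat_lit 0x06080402070607090b), dw (nat_lit 0x06030208050b), dw (nat_lit 0x020203010706070b09)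
, dw (nat_lit 0x0305010805070b09), dw (nat_lit 0x060407020b050b), dw (nat_lit 0x0508040107060709)]
theorem k97 : relK F bs0 (memRels ks dys v96) = true := by decide +kernel
theorem dhy (M : PM G Ω 275 H14.McLc.nets) (hN : Nat.card G = 898128000) : (sub M.gen dys) ≤ (sub M.gen ks) :=
  (sub_le_of_memRels (rels_base (base0 M hN) k97))
noncomputable def v98 : List Word := [[], [], [], [], dw (nat_lit 0x01), [], [], []
, dw (nat_lit 0x01), [], [], dw (nat_lit 0x01), dw (nat_lit 0x01), dw (nat_lit 0x01), dw (nat_lit 0x01), []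
, dw (nat_lit 0x01), dw (nat_lit 0x01), [], [], [], [], dw (nat_lit 0x01), []
, [], [], dw (nat_lit 0x01), [], [], [], dw (nat_lit 0x01), []
, [], [], [], [], [], dw (nat_lit 0x01), [], dw (nat_lit 0x01)
, [], [], []]
theorem k99 : relK F bs0 (qR dys [z] H15.StdAlt8.rels v98) = true := by decide +kernel
noncomputable def v100 : Prs := [(dw (nat_lit 0x050e0e15), dw (nat_lit 0x01)),
 (dw (nat_lit 0x070a0214), []),
 (dw (nat_lit 0x02080a16), []),
 (dw (nat_lit 0x08141014), []),
 (dw (nat_lit 0x0206101111), dw (nat_lit 0x01)),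
 (dw (nat_lit 0x0c110d), [])]
theorem k101 : relK F bs0 (sR dys [z] H15.StdAlt8.ws0 ks v100) = true := by decide +kernel
theorem dqs (M : PM G Ω 275 H14.McLc.nets) (hN : Nat.card G = 898128000) : ∀ {X : Type*} [Group X], PresF G X H15.StdAlt8.rels H15.StdAlt8.ws0 → QS X (sub M.gen ks) (sub M.gen [z]) :=
  fun hP _ => quot_surj hP (z_le M hN) (dhy M hN) le_rfl le_rfl (rels_base (base0 M hN) k99) (rels_base (base0 M hN) k101) (by decide +kernel)
noncomputable def a : Word := flat ks (dw (nat_lit 0x07010501070609070b090b))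
noncomputable def b : Word := flat ks (dw (nat_lit 0x0309030206080b))
theorem ab (M : PM G Ω 275 H14.McLc.nets) (hN : Nat.card G = 898128000) : ev M.gen a * ev M.gen b = ev M.gen z * (ev M.gen b * ev M.gen a) :=
  by rw [← evA, ← evA, ← evA]; exact rel_base1 (F := F) (base0 M hN) (by decide +kernel)
theorem dc (M : PM G Ω 275 H14.McLc.nets) (hN : Nat.card G = 898128000) : ∀ {X : Type*} [Group X], PresF G X H15.StdAlt8.rels H15.StdAlt8.ws0 → Nat.card X = 20160 → Subgroup.center X = ⊥ → Cfsg.IsNonsplitDoubleCover (Subgroup.centralizer {ev M.gen z} : Subgroup G) X :=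
  fun hP hX hZ => dc_row (ord M hN) (eqC M hN) (dqs M hN hP) hX hZ (by norm_num) (ev_flat_mem _ _ _) (ev_flat_mem _ _ _) (ab M hN)

end L.CzMcL
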