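import Cfsg.Agent.H14.GolayM24

/-! Counting in Steiner systems. -/

set_option autoImplicit false
open Cfsg Finset

namespace H14

variable {α : Type*} [Fintype α] [DecidableEq α] {t k : ℕ} {B : Set (Finset α)}

/-- The blocks as a finite set. -/
noncomputable def blk (B : Set (Finset α)) : Finset (Finset α) := (Set.toFinite B).toFinset

omit [DecidableEq α] in
@[simp] theorem mem_blk {b : Finset α} : b ∈ blk B ↔ b ∈ B := Set.Finite.mem_toFinset _

omit [DecidableEq α] in
theorem ncard_blk (P : Finset α → Prop) [DecidablePred P] :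
    {c | c ∈ B ∧ P c}.ncard = ((blk B).filter P).card := by
  rw [← Set.ncard_coe_finset]; congr 1; ext c; simp

omit [DecidableEq α] in
theorem card_blk : (blk B).card = B.ncard := (Set.ncard_eq_toFinset_card B _).symm

omit [Fintype α] in
theorem steiner_eq (hB : IsSteinerSystem t k B) {b c : Finset α} (hb : b ∈ B) (hc : c ∈ B)
    (h : t ≤ (b ∩ c).card) : b = c := by
  obtain ⟨s, hs, hs'⟩ := Finset.exists_subset_card_eq h
  exact (hB.2 s hs').unique ⟨hb, hs.trans inter_subset_left⟩ ⟨hc, hs.trans inter_subset_right⟩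

/-- The number of blocks through a small set. -/
theorem steiner_lam (hB : IsSteinerSystem t k B) (s : Finset α) (hs : s.card ≤ t) :
    ((blk B).filter (s ⊆ ·)).card * (k - s.card).choose (t - s.card) =
      (Fintype.card α - s.card).choose (t - s.card) := by
  have h := Finset.card_mul_eq_card_mul (s := (blk B).filter (s ⊆ ·))
    (t := powersetCard (t - s.card) sᶜ) (fun c T => T ⊆ c)
    (m := (k - s.card).choose (t - s.card)) (n := 1) ?_ ?_
  · rw [h, card_powersetCard, card_compl, mul_one]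
  · intro c hc
    simp only [mem_filter, mem_blk] at hc
    have : bipartiteAbove (fun c T => T ⊆ c) (powersetCard (t - s.card) sᶜ) c =
        powersetCard (t - s.card) (c \ s) := by
      ext T
      simp only [bipartiteAbove, mem_filter, mem_powersetCard, subset_sdiff, subset_compl_iff_disjoint_right]
      tauto
    rw [this, card_powersetCard, card_sdiff_of_subset hc.2, hB.1 c hc.1]
  · intro T hT
    rw [mem_powersetCard, subset_compl_iff_disjoint_right] at hT
    obtain ⟨b, hb, hu⟩ := hB.2 (T ∪ s) (by rw [card_union_of_disjoint hT.1]; omega)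
    rw [card_eq_one]
    refine ⟨b, ?_⟩
    ext c
    simp only [bipartiteBelow, mem_filter, mem_blk, mem_singleton]
    constructor
    · rintro ⟨⟨h1, h2⟩, h3⟩
      exact hu c ⟨h1, union_subset h3 h2⟩
    · rintro rfl
      exact ⟨⟨hb.1, subset_union_right.trans hb.2⟩, subset_union_left.trans hb.2⟩

theorem steiner_lam' (hB : IsSteinerSystem t k B) {v j l : ℕ} (hv : Fintype.card α = v) (hj : j ≤ t)
    (h : l * (k - j).choose (t - j) = (v - j).choose (t - j)) (h0 : (k - j).choose (t - j) ≠ 0)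
    (s : Finset α) (hs : s.card = j) : ((blk B).filter (s ⊆ ·)).card = l := by
  have := steiner_lam hB s (hs ▸ hj)
  rw [hs, hv, ← h] at this
  exact Nat.eq_of_mul_eq_mul_right (Nat.pos_of_ne_zero h0) this

/-- The number of members of `S` meeting `Y` in exactly `i` points. -/
def nI (S : Finset (Finset α)) (Y : Finset α) (i : ℕ) : ℕ := (S.filter fun c => (c ∩ Y).card = i).card

omit [Fintype α] in
theorem sum_nI (S : Finset (Finset α)) (Y : Finset α) {j l : ℕ}
    (h : ∀ s ⊆ Y, s.card = j → (S.filter (s ⊆ ·)).card = l) {y : ℕ} (hy : Y.card = y) :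
    ∑ i ∈ range (y + 1), nI S Y i * i.choose j = y.choose j * l := by
  have h1 := Finset.sum_card_bipartiteAbove_eq_sum_card_bipartiteBelow (s := S)
    (t := powersetCard j Y) (fun c T => T ⊆ c)
  have h2 : ∑ T ∈ powersetCard j Y, (bipartiteBelow (fun c T => T ⊆ c) S T).card = y.choose j * l := by
    rw [Finset.sum_congr rfl (g := fun _ => l), sum_const, card_powersetCard, hy, smul_eq_mul]
    intro T hT
    rw [mem_powersetCard] at hT
    exact h T hT.1 hT.2
  have h3 : ∀ c ∈ S, (bipartiteAbove (fun c T => T ⊆ c) (powersetCard j Y) c).card =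
      (c ∩ Y).card.choose j := by
    intro c _
    rw [← card_powersetCard]
    congr 1
    ext T
    simp only [bipartiteAbove, mem_filter, mem_powersetCard, subset_inter_iff]
    tauto
  rw [← h2, ← h1, Finset.sum_congr rfl h3,
    ← Finset.sum_fiberwise_of_maps_to (g := fun c => (c ∩ Y).card) (t := range (y + 1))]
  · refine Finset.sum_congr rfl fun i _ => ?_
    rw [Finset.sum_congr rfl (g := fun _ => i.choose j), sum_const, smul_eq_mul, nI]
    intro c hc
    rw [(mem_filter.1 hc).2]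
  · intro c _
    rw [mem_range, Nat.lt_succ_iff, ← hy]
    exact card_le_card inter_subset_right

theorem steiner_sum (hB : IsSteinerSystem t k B) {v : ℕ} (hv : Fintype.card α = v) {Y : Finset α}
    {y : ℕ} (hy : Y.card = y) (j l : ℕ) (hj : j ≤ t := by norm_num)
    (h : l * (k - j).choose (t - j) = (v - j).choose (t - j) := by decide)
    (h0 : (k - j).choose (t - j) ≠ 0 := by decide) :
    ∑ i ∈ range (y + 1), nI (blk B) Y i * i.choose j = y.choose j * l :=
  sum_nI _ _ (fun s _ hs => steiner_lam' hB hv hj h h0 s hs) hy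

omit [Fintype α] in
theorem nI_eq_zero {S : Finset (Finset α)} {Y : Finset α} {i : ℕ} :
    nI S Y i = 0 ↔ ∀ c ∈ S, (c ∩ Y).card ≠ i := by
  rw [nI, card_eq_zero, filter_eq_empty_iff]

theorem nI_big (hB : IsSteinerSystem t k B) {b : Finset α} (hb : b ∈ B) (i : ℕ)
    (h1 : t ≤ i := by norm_num) (h2 : i ≠ k := by norm_num) : nI (blk B) b i = 0 :=
  nI_eq_zero.2 fun c hc e => by
    have := steiner_eq hB (mem_blk.1 hc) hb (e ▸ h1)
    subst this
    rw [inter_self, hB.1 c hb] at e
    exact h2 e.symm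

theorem nI_top (hB : IsSteinerSystem t k B) {b : Finset α} (hb : b ∈ B) (h : t ≤ k := by norm_num) :
    nI (blk B) b k = 1 := by
  rw [nI, card_eq_one]
  refine ⟨b, ?_⟩
  ext c
  simp only [mem_filter, mem_blk, mem_singleton]
  exact ⟨fun e => steiner_eq hB e.1 hb (e.2 ▸ h), fun e => by subst e; simpa [hb] using hB.1 c hb⟩

theorem ncard_nI (Y : Finset α) (i : ℕ) :
    {c | c ∈ B ∧ (c ∩ Y).card = i}.ncard = nI (blk B) Y i := ncard_blk _

theorem inter_lt (hB : IsSteinerSystem t k B) {b c : Finset α} (hb : b ∈ B) (hc : c ∈ B)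
    (h : b ≠ c) : (b ∩ c).card < t := by
  by_contra h'
  exact h (steiner_eq hB hb hc (not_lt.1 h'))

theorem inter_ne {b c : Finset α} (hb : b ∈ B) {i : ℕ} (h : nI (blk B) c i = 0) :
    (b ∩ c).card ≠ i := nI_eq_zero.1 h b (mem_blk.2 hb)

theorem nI_24 (hα : Fintype.card α = 24) (hB : IsSteinerSystem 5 8 B) {b : Finset α} (hb : b ∈ B) :
    nI (blk B) b 0 = 30 ∧ nI (blk B) b 1 = 0 ∧ nI (blk B) b 3 = 0 := by
  have hy := hB.1 b hb
  have e0 := steiner_sum hB hα hy 0 759
  have e1 := steiner_sum hB hα hy 1 253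
  have e2 := steiner_sum hB hα hy 2 77
  have e3 := steiner_sum hB hα hy 3 21
  have e4 := steiner_sum hB hα hy 4 5
  simp only [sum_range_succ, sum_range_zero, nI_big hB hb 5, nI_big hB hb 6, nI_big hB hb 7,
    nI_top hB hb, Nat.choose] at e0 e1 e2 e3 e4
  omega

theorem nI_23 (hα : Fintype.card α = 23) (hB : IsSteinerSystem 4 7 B) {b : Finset α} (hb : b ∈ B) :
    nI (blk B) b 0 = 0 ∧ nI (blk B) b 2 = 0 := by
  have hy := hB.1 b hb
  have e0 := steiner_sum hB hα hy 0 253
  have e1 := steiner_sum hB hα hy 1 77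
  have e2 := steiner_sum hB hα hy 2 21
  have e3 := steiner_sum hB hα hy 3 5
  simp only [sum_range_succ, sum_range_zero, nI_big hB hb 5, nI_big hB hb 6, nI_big hB hb 4,
    nI_top hB hb, Nat.choose] at e0 e1 e2 e3
  omega

theorem nI_22 (hα : Fintype.card α = 22) (hB : IsSteinerSystem 3 6 B) {b : Finset α} (hb : b ∈ B) :
    nI (blk B) b 0 = 16 ∧ nI (blk B) b 1 = 0 := by
  have hy := hB.1 b hb
  have e0 := steiner_sum hB hα hy 0 77
  have e1 := steiner_sum hB hα hy 1 21
  have e2 := steiner_sum hB hα hy 2 5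
  simp only [sum_range_succ, sum_range_zero, nI_big hB hb 5, nI_big hB hb 3, nI_big hB hb 4,
    nI_top hB hb, Nat.choose] at e0 e1 e2
  omega

theorem nI_21 (hα : Fintype.card α = 21) (hB : IsSteinerSystem 2 5 B) {b : Finset α} (hb : b ∈ B) :
    nI (blk B) b 0 = 0 := by
  have hy := hB.1 b hb
  have e0 := steiner_sum hB hα hy 0 21
  have e1 := steiner_sum hB hα hy 1 5
  simp only [sum_range_succ, sum_range_zero, nI_big hB hb 2, nI_big hB hb 3, nI_big hB hb 4,
    nI_top hB hb, Nat.choose] at e0 e1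
  omega

theorem nI_12 (hα : Fintype.card α = 12) (hB : IsSteinerSystem 5 6 B) {b : Finset α} (hb : b ∈ B) :
    nI (blk B) b 0 = 1 ∧ nI (blk B) b 1 = 0 := by
  have hy := hB.1 b hb
  have e0 := steiner_sum hB hα hy 0 132
  have e1 := steiner_sum hB hα hy 1 66
  have e2 := steiner_sum hB hα hy 2 30
  have e3 := steiner_sum hB hα hy 3 12
  have e4 := steiner_sum hB hα hy 4 4
  simp only [sum_range_succ, sum_range_zero, nI_big hB hb 5, nI_top hB hb, Nat.choose] at e0 e1 e2 e3 e4
  omega

theorem nI_11 (hα : Fintype.card α = 11) (hB : IsSteinerSystem 4 5 B) {b : Finset α} (hb : b ∈ B) :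
    nI (blk B) b 0 = 0 := by
  have hy := hB.1 b hb
  have e0 := steiner_sum hB hα hy 0 66
  have e1 := steiner_sum hB hα hy 1 30
  have e2 := steiner_sum hB hα hy 2 12
  have e3 := steiner_sum hB hα hy 3 4
  simp only [sum_range_succ, sum_range_zero, nI_big hB hb 4, nI_top hB hb, Nat.choose] at e0 e1 e2 e3
  omega

theorem inter_24 (hα : Fintype.card α = 24) (hB : IsSteinerSystem 5 8 B) {b c : Finset α}
    (hb : b ∈ B) (hc : c ∈ B) (h : b ≠ c) :
    (b ∩ c).card = 0 ∨ (b ∩ c).card = 2 ∨ (b ∩ c).card = 4 := by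
  have := inter_lt hB hb hc h
  have := inter_ne hb (nI_24 hα hB hc).2.1
  have := inter_ne hb (nI_24 hα hB hc).2.2
  omega

theorem inter_23 (hα : Fintype.card α = 23) (hB : IsSteinerSystem 4 7 B) {b c : Finset α}
    (hb : b ∈ B) (hc : c ∈ B) (h : b ≠ c) : (b ∩ c).card = 1 ∨ (b ∩ c).card = 3 := by
  have := inter_lt hB hb hc h
  have := inter_ne hb (nI_23 hα hB hc).1
  have := inter_ne hb (nI_23 hα hB hc).2
  omega

theorem inter_22 (hα : Fintype.card α = 22) (hB : IsSteinerSystem 3 6 B) {b c : Finset α}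
    (hb : b ∈ B) (hc : c ∈ B) (h : b ≠ c) : (b ∩ c).card = 0 ∨ (b ∩ c).card = 2 := by
  have := inter_lt hB hb hc h
  have := inter_ne hb (nI_22 hα hB hc).2
  omega

theorem inter_21 (hα : Fintype.card α = 21) (hB : IsSteinerSystem 2 5 B) {b c : Finset α}
    (hb : b ∈ B) (hc : c ∈ B) (h : b ≠ c) : (b ∩ c).card = 1 := by
  have := inter_lt hB hb hc h
  have := inter_ne hb (nI_21 hα hB hc)
  omega

theorem inter_12 (hα : Fintype.card α = 12) (hB : IsSteinerSystem 5 6 B) {b c : Finset α}
    (hb : b ∈ B) (hc : c ∈ B) (h : b ≠ c) :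
    (b ∩ c).card = 0 ∨ (b ∩ c).card = 2 ∨ (b ∩ c).card = 3 ∨ (b ∩ c).card = 4 := by
  have := inter_lt hB hb hc h
  have := inter_ne hb (nI_12 hα hB hc).2
  omega

theorem inter_11 (hα : Fintype.card α = 11) (hB : IsSteinerSystem 4 5 B) {b c : Finset α}
    (hb : b ∈ B) (hc : c ∈ B) (h : b ≠ c) :
    (b ∩ c).card = 1 ∨ (b ∩ c).card = 2 ∨ (b ∩ c).card = 3 := by
  have := inter_lt hB hb hc h
  have := inter_ne hb (nI_11 hα hB hc)
  omega

end H14
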