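import Cfsg.Agent.H14.M24Use
import Cfsg.Agent.H14.Steiner

/-! Certificates for the uniqueness of designs on subsets of the 24 points. -/

set_option autoImplicit false
open Cfsg

namespace H14

open scoped Pointwise

/-- The list contains the one-point masks of all points of `m`. -/
noncomputable def covB (m : Nat) (bs : List Nat) : Bool :=
  allLt (fun i => !tb m i || bs.any (Nat.beq (bit i))) 24

theorem covB_spec {m : ℕ} {bs : List ℕ} (h : covB m bs = true) {p : GolayPt} (hp : p ∈ bset m) :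
    bit (gi p) ∈ bs := by
  have := allLt_spec h _ (gi_lt p)
  rw [tb_eq, mem_bset.1 hp] at this
  obtain ⟨b, hb, e⟩ := List.any_eq_true.1 this
  exact beq_iff.1 e ▸ hb

/-- `f` holds for `a` enlarged by any `j` members of the list. -/
noncomputable def allSub (f : Nat → Bool) (bs : List Nat) : Nat → Nat → Bool :=
  @List.rec Nat (fun _ => Nat → Nat → Bool)
    (fun j a => @Nat.rec (fun _ => Bool) (f a) (fun _ _ => true) j)
    (fun b _ ih j a => @Nat.rec (fun _ => Bool) (f a)
      (fun j' _ => @Bool.rec (fun _ => Bool) false ((fun a' => frc a' (ih j' a')) (Nat.lor a b))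
        (ih j a)) j) bs

theorem bit_gi_lt (p : GolayPt) : bit (gi p) < 2 ^ 24 :=
  (Nat.shiftLeft_eq 1 _).trans_lt (by rw [one_mul]; exact Nat.pow_lt_pow_right (by norm_num) (gi_lt p))

theorem bset_bit_gi (p : GolayPt) : bset (bit (gi p)) = {p} := by rw [bset_bit (gi_lt p), gp_gi]

theorem allSub_spec {f : ℕ → Bool} {bs : List ℕ} {j a : ℕ} (h : allSub f bs j a = true)
    (ha : a < 2 ^ 24) {s : Finset GolayPt} (hs : ∀ p ∈ s, bit (gi p) ∈ bs) (hj : s.card = j) :
    f (mask (bset a ∪ s)) = true := by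
  have h0 : ∀ {a : ℕ} {s : Finset GolayPt}, a < 2 ^ 24 → f a = true → s.card = 0 →
      f (mask (bset a ∪ s)) = true := fun ha h hs => by
    rw [Finset.card_eq_zero.1 hs, Finset.union_empty, mask_bset ha]; exact h
  induction bs generalizing j a s with
  | nil =>
    have : s = ∅ := Finset.eq_empty_of_forall_notMem fun p hp => nomatch hs p hp
    subst this
    subst hj
    exact h0 ha h rfl
  | cons b bs ih =>
    cases j with
    | zero => exact h0 ha h hj
    | succ j =>
      have h' : (allSub f bs (j + 1) a && allSub f bs j (a ||| b)) = true := by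
        rw [← h]
        show _ = @Bool.rec (fun _ => Bool) false (frc _ (allSub f bs j (a ||| b))) (allSub f bs (j + 1) a)
        rw [frc_eq]
        cases allSub f bs (j + 1) a <;> rfl
      rw [Bool.and_eq_true] at h'
      by_cases hq : ∃ q ∈ s, bit (gi q) = b
      · obtain ⟨q, hq, rfl⟩ := hq
        have := ih h'.2 (Nat.or_lt_two_pow ha (bit_gi_lt q)) (s := s.erase q) (fun p hp => by
          rw [Finset.mem_erase] at hp
          refine (List.mem_cons.1 (hs p hp.2)).resolve_left fun e => hp.1 ?_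
          exact Finset.singleton_injective (by rw [← bset_bit_gi, e, bset_bit_gi]))
          (by rw [Finset.card_erase_of_mem hq, hj]; rfl)
        rwa [bset_or, bset_bit_gi, Finset.union_assoc, ← Finset.insert_eq, Finset.insert_erase hq] at this
      · exact ih h'.1 ha (fun p hp => (List.mem_cons.1 (hs p hp)).resolve_left fun e => hq ⟨p, hp, e⟩) hj

theorem allSub_zero {f : ℕ → Bool} {bs : List ℕ} {j m : ℕ} (h : allSub f bs j 0 = true)
    (hc : covB m bs = true) {s : Finset GolayPt} (hs : s ⊆ bset m) (hj : s.card = j) :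
    f (mask s) = true := by
  have := allSub_spec h (by norm_num) (fun p hp => covB_spec hc (hs hp)) hj
  rwa [bset_zero, Finset.empty_union] at this

/-- A family of `k`-subsets of `X` covering all `t`-subsets, with intersection numbers in `al`. -/
structure Des (X t k al : ℕ) (B : Set (Finset GolayPt)) : Prop where
  sub : ∀ b ∈ B, b ⊆ bset X
  card : ∀ b ∈ B, b.card = k
  cov : ∀ s ⊆ bset X, s.card = t → ∃ b ∈ B, s ⊆ b
  int : ∀ b ∈ B, ∀ c ∈ B, al.testBit (b ∩ c).card = true

variable {X t k al : ℕ} {D : Set (Finset GolayPt)} {K : List ℕ}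

theorem Des.smul {B : Set (Finset GolayPt)} (h : Des X t k al B) {σ : Equiv.Perm GolayPt}
    (hσ : σ • bset X = bset X) : Des X t k al ((σ • ·) '' B) where
  sub := by
    rintro _ ⟨b, hb, rfl⟩
    rw [← hσ]
    exact Finset.smul_finset_subset_smul_finset (h.sub b hb)
  card := by
    rintro _ ⟨b, hb, rfl⟩
    rw [Finset.card_smul_finset, h.card b hb]
  cov s hs hc := by
    obtain ⟨b, hb, h1⟩ := h.cov (σ⁻¹ • s) (by
      rw [← Finset.subset_smul_finset_iff, hσ]; exact hs) (by rw [Finset.card_smul_finset, hc])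
    exact ⟨_, ⟨b, hb, rfl⟩, Finset.subset_smul_finset_iff.2 h1⟩
  int := by
    rintro _ ⟨b, hb, rfl⟩ _ ⟨c, hc, rfl⟩
    rw [← Finset.smul_finset_inter, Finset.card_smul_finset]
    exact h.int b hb c hc

/-- Every design containing the listed blocks can be moved into `D`. -/
def Good (X t k al : ℕ) (D : Set (Finset GolayPt)) (K : List ℕ) : Prop :=
  ∀ B, Des X t k al B → (∀ κ ∈ K, bset κ ∈ B) →
    ∃ σ : Equiv.Perm GolayPt, σ • bset X = bset X ∧ ∀ b ∈ B, σ • b ∈ D

noncomputable def isoChk (X : Nat) (N : Net) (K K' : List Nat) : Bool :=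
  N.ok 24 && (Nat.beq (N.run X) X && K'.all fun κ' => K.any fun κ => Nat.beq (N.run κ) κ')

theorem Good.iso {N : Net} {K' : List ℕ} (h1 : N.ok 24 = true) (h2 : N.run X = X)
    (h3 : ∀ κ' ∈ K', ∃ κ ∈ K, N.run κ = κ') (h : Good X t k al D K') : Good X t k al D K := by
  intro B hB hK
  have e : ∀ m, netPerm N • bset m = bset (N.run m) := smul_bset h1 (real_netPerm h1)
  have hX : netPerm N • bset X = bset X := by rw [e, h2]
  obtain ⟨σ, s1, s2⟩ := h _ (hB.smul hX) fun κ' hκ => by
    obtain ⟨κ, hk, rfl⟩ := h3 κ' hκ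
    exact ⟨_, hK κ hk, e κ⟩
  exact ⟨σ * netPerm N, by rw [mul_smul, hX, s1], fun b hb => by
    rw [mul_smul]; exact s2 _ ⟨b, hb, rfl⟩⟩

theorem Good.iso' {N : Net} {K' : List ℕ} (h1 : isoChk X N K K' = true) (h : Good X t k al D K') :
    Good X t k al D K := by
  simp only [isoChk, Bool.and_eq_true, List.all_eq_true, List.any_eq_true, beq_iff] at h1
  exact h.iso h1.1 h1.2.1 h1.2.2

/-- All intersection numbers with the listed blocks are allowed. -/
noncomputable def compat (al : Nat) (K : List Nat) (c : Nat) : Bool :=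
  @List.rec Nat (fun _ => Bool) true
    (fun κ _ ih => @Bool.rec (fun _ => Bool) false ih (tb al (p24 (Nat.land κ c)))) K

theorem Des.compat {B : Set (Finset GolayPt)} (h : Des X t k al B) (hK : ∀ κ ∈ K, bset κ ∈ B)
    {c : ℕ} (hc : bset c ∈ B) : compat al K c = true := by
  induction K with
  | nil => rfl
  | cons κ K ih =>
    have h1 : tb al (p24 (Nat.land κ c)) = true := by
      rw [tb_eq, ← card_bset, show Nat.land κ c = κ &&& c from rfl, bset_and]
      exact h.int _ (hK κ (List.mem_cons_self ..)) _ hc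
    show @Bool.rec (fun _ => Bool) false (H14.compat al K c) (tb al (p24 (Nat.land κ c))) = true
    rw [h1]
    exact ih fun κ hκ => hK κ (List.mem_cons_of_mem _ hκ)

noncomputable def nodeChk (X t k al : Nat) (K : List Nat) (T : Nat) (bs : List Nat) (syms : List Net)
    (ch : List (Nat × Net × List Nat)) : Bool :=
  (Nat.ble T 0xffffff && (subs T X && (Nat.beq (p24 T) t && covB (Nat.xor X T) bs))) &&
  ((syms.all fun N => N.ok 24 && (Nat.beq (N.run X) X && (Nat.beq (N.run T) T &&
    K.all fun κ => Nat.beq (N.run κ) κ))) &&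
  ((ch.all fun x => isoChk X x.2.1 (x.1 :: K) x.2.2) &&
  allSub (fun c => !compat al K c || ((syms.any fun N => Nat.blt (N.run c) c) ||
    ch.any fun x => Nat.beq c x.1)) bs (Nat.sub k t) T))

theorem Good.node (T : ℕ) (bs : List ℕ) (syms : List Net) (ch : List (ℕ × Net × List ℕ))
    (h : nodeChk X t k al K T bs syms ch = true) (hch : ∀ x ∈ ch, Good X t k al D x.2.2) :
    Good X t k al D K := by
  simp only [nodeChk, Bool.and_eq_true, List.all_eq_true, beq_iff, Nat.ble_eq] at h
  obtain ⟨⟨h1, h2, h3, h4⟩, h5, h6, h7⟩ := h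
  have key : ∀ c, c < 2 ^ 24 → bset T ⊆ bset c → Good X t k al D (c :: K) := by
    intro c
    induction c using Nat.strong_induction_on with
    | _ c ih =>
      intro hc hT B hB hK
      have hcB := hK c (List.mem_cons_self ..)
      have hK' : ∀ κ ∈ K, bset κ ∈ B := fun κ hκ => hK κ (List.mem_cons_of_mem _ hκ)
      have h8 := allSub_spec h7 (by omega) (s := bset c \ bset T) (fun p hp => covB_spec h4 (by
        rw [show Nat.xor X T = X ^^^ T from rfl, bset_xor, Finset.mem_symmDiff]
        rw [Finset.mem_sdiff] at hp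
        exact .inl ⟨hB.sub _ hcB hp.1, hp.2⟩))
        (by rw [Finset.card_sdiff_of_subset hT, hB.card _ hcB, card_bset, h3]; rfl)
      rw [Finset.union_sdiff_of_subset hT, mask_bset hc, hB.compat hK' hcB] at h8
      simp only [Bool.not_true, Bool.false_or, Bool.or_eq_true, List.any_eq_true, Nat.blt_eq,
        beq_iff] at h8
      rcases h8 with ⟨N, hN, h8⟩ | ⟨x, hx, rfl⟩
      · obtain ⟨n1, n2, n3, n4⟩ := h5 N hN
        refine Good.iso n1 n2 (K := c :: K) (fa_cons ⟨c, List.mem_cons_self .., rfl⟩ fun κ hκ =>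
          ⟨κ, List.mem_cons_of_mem _ hκ, n4 κ hκ⟩) (ih _ h8 (h8.trans hc) ?_) B hB hK
        rw [← n3, ← smul_bset n1 (real_netPerm n1), ← smul_bset n1 (real_netPerm n1)]
        exact Finset.smul_finset_subset_smul_finset hT
      · exact Good.iso' (h6 x hx) (hch x hx) B hB hK
  intro B hB hK
  obtain ⟨b, hb, hT⟩ := hB.cov _ (bset_subset h2) (by rw [card_bset, h3])
  exact key (mask b) (mask_lt b) (by rwa [bset_mask]) B hB (fa_cons (by rwa [bset_mask]) hK)

theorem Good.leaf (bs : List ℕ) {inD : ℕ → Bool} (hD : ∀ c, inD c = true → bset c ∈ D)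
    (h : (covB X bs && allSub (fun c => !compat al K c || inD c) bs k 0) = true) :
    Good X t k al D K := by
  intro B hB hK
  rw [Bool.and_eq_true] at h
  refine ⟨1, one_smul _ _, fun b hb => ?_⟩
  have := allSub_zero h.2 h.1 (hB.sub b hb) (hB.card b hb)
  rw [hB.compat hK (by rwa [bset_mask])] at this
  simpa using hD _ this

/-! ### Parity checks -/

theorem card_symmDiff_inter (s u b : Finset GolayPt) :
    (symmDiff s u ∩ b).card % 2 = ((s ∩ b).card + (u ∩ b).card) % 2 := by
  have h := card_symmDiff_add (s ∩ b) (u ∩ b)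
  have e : symmDiff s u ∩ b = symmDiff (s ∩ b) (u ∩ b) := by
    ext x; simp only [Finset.mem_inter, Finset.mem_symmDiff]; tauto
  rw [e]; omega

def xorL (l : List Nat) : Nat := l.foldr Nat.xor 0

theorem par_xorL {b : Finset GolayPt} {e : ℕ} {l : List ℕ}
    (h : ∀ κ ∈ l, (bset κ ∩ b).card % 2 = e % 2) : (bset (xorL l) ∩ b).card % 2 = l.length * e % 2 := by
  induction l with
  | nil => simp [xorL, bset_zero]
  | cons κ l ih =>
    have h1 := ih fun κ hκ => h κ (List.mem_cons_of_mem _ hκ)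
    have h2 := h κ (List.mem_cons_self ..)
    rw [show xorL (κ :: l) = κ ^^^ xorL l from rfl, bset_xor, card_symmDiff_inter, List.length_cons,
      Nat.add_mul]
    omega

/-- Complete `a` by the pivots whose parity check fails. -/
noncomputable def extP (pv : List (Nat × Nat × Nat)) (a : Nat) : Nat :=
  @List.rec (Nat × Nat × Nat) (fun _ => Nat) a
    (fun x _ ih => @Bool.rec (fun _ => Nat) (Nat.lor ih (bit x.1)) ih
      (Nat.beq (Nat.mod (p24 (Nat.land x.2.1 a)) 2) x.2.2)) pv

theorem mem_extP {pv : List (ℕ × ℕ × ℕ)} {a : ℕ} {p : GolayPt} : p ∈ bset (extP pv a) ↔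
    p ∈ bset a ∨ ∃ x ∈ pv, x.1 = gi p ∧ (bset x.2.1 ∩ bset a).card % 2 ≠ x.2.2 := by
  induction pv with
  | nil => simp [extP]
  | cons x pv ih =>
    have e : extP (x :: pv) a = @Bool.rec (fun _ => Nat) (extP pv a ||| bit x.1) (extP pv a)
      (Nat.beq (p24 (x.2.1 &&& a) % 2) x.2.2) := rfl
    rw [e, ← card_bset, bset_and]
    by_cases h : (bset x.2.1 ∩ bset a).card % 2 = x.2.2
    · rw [beq_iff.2 h]
      simp [ih, h]
    · rw [Bool.eq_false_iff.2 (mt beq_iff.1 h)]
      show p ∈ bset (extP pv a ||| bit x.1) ↔ _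
      rw [bset_or, Finset.mem_union, ih, mem_bset (m := bit _), testBit_bit]
      simp only [decide_eq_true_eq, List.mem_cons, exists_eq_or_imp, ne_eq, h, not_false_eq_true, and_true]
      rw [or_assoc, or_comm (b := x.1 = gi p)]

noncomputable def pivChk (P : Nat) (pv : List (Nat × Nat × Nat)) : Bool :=
  (pv.all fun x => Nat.blt x.1 24 && Nat.beq (Nat.land x.2.1 P) (bit x.1)) &&
    allLt (fun i => !tb P i || pv.any fun x => Nat.beq x.1 i) 24

theorem eq_extP {P : ℕ} {pv : List (ℕ × ℕ × ℕ)} (h : pivChk P pv = true) {b : Finset GolayPt}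
    (hb : ∀ x ∈ pv, (bset x.2.1 ∩ b).card % 2 = x.2.2) : bset (extP pv (mask (b \ bset P))) = b := by
  simp only [pivChk, Bool.and_eq_true, List.all_eq_true, Nat.blt_eq, beq_iff] at h
  have key : ∀ x ∈ pv, ∀ p, x.1 = gi p → p ∈ bset P ∧
      (p ∈ b ↔ (bset x.2.1 ∩ (b \ bset P)).card % 2 ≠ x.2.2) := by
    intro x hx p e
    have h1 : bset x.2.1 ∩ bset P = {p} := by
      rw [← bset_and, ← bset_bit_gi, ← e]; exact congrArg bset (h.1 x hx).2
    have h2 := Finset.mem_inter.1 (h1.ge (Finset.mem_singleton_self p))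
    have h3 : bset x.2.1 ∩ (b \ bset P) = (bset x.2.1 ∩ b).erase p := by
      ext y
      have := Finset.ext_iff.1 h1 y
      simp only [Finset.mem_inter, Finset.mem_sdiff, Finset.mem_erase, Finset.mem_singleton] at this ⊢
      tauto
    refine ⟨h2.2, ?_⟩
    rw [h3, ← hb x hx]
    by_cases hp : p ∈ b
    · have := Finset.card_erase_add_one (Finset.mem_inter.2 ⟨h2.1, hp⟩)
      exact iff_of_true hp (by omega)
    · rw [Finset.erase_eq_of_notMem fun h => hp (Finset.mem_inter.1 h).2]
      simp [hp]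
  ext p
  rw [mem_extP, bset_mask, Finset.mem_sdiff]
  constructor
  · rintro (h1 | ⟨x, hx, e, h1⟩)
    · exact h1.1
    · exact (key x hx p e).2.2 h1
  · intro hp
    by_cases hP : p ∈ bset P
    · have := allLt_spec h.2 _ (gi_lt p)
      rw [tb_eq, mem_bset.1 hP] at this
      obtain ⟨x, hx, e⟩ := List.any_eq_true.1 this
      exact .inr ⟨x, hx, beq_iff.1 e, (key x hx p (beq_iff.1 e)).2.1 hp⟩
    · exact .inl ⟨hp, hP⟩

theorem forall_par {P m : ℕ} {pv : List (ℕ × ℕ × ℕ)} (bs : List ℕ) {f : ℕ → Bool}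
    (h : (pivChk P pv && (covB (Nat.land m (Nat.xor P (full 24))) bs &&
      allS (fun a => f (extP pv a)) bs 0)) = true) {b : Finset GolayPt} (hm : b ⊆ bset m)
    (hb : ∀ x ∈ pv, (bset x.2.1 ∩ b).card % 2 = x.2.2) : ∃ c, f c = true ∧ bset c = b := by
  simp only [Bool.and_eq_true] at h
  refine ⟨_, allS_spec h.2.2 _ (mask_mem_spanA h.2.1 (s := b \ bset P) fun p hp => ?_), eq_extP h.1 hb⟩
  rw [show Nat.land m (Nat.xor P (full 24)) = m &&& (P ^^^ full 24) from rfl, bset_and, bset_compl]
  rw [Finset.mem_sdiff] at hp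
  exact Finset.mem_inter.2 ⟨hm hp.1, Finset.mem_compl.2 hp.2⟩

theorem Good.leafP (e P : ℕ) (pv : List (ℕ × ℕ × ℕ)) (ls : List (List ℕ)) (bs : List ℕ)
    {inD : ℕ → Bool} (hD : ∀ c, inD c = true → bset c ∈ D)
    (h1 : (allLt (fun i => !tb al i || Nat.beq (Nat.mod i 2) (Nat.mod e 2)) 25 &&
      pv.all fun x => ls.any fun l => Nat.beq (xorL l) x.2.1 &&
        (Nat.beq (Nat.mod (Nat.mul l.length e) 2) x.2.2 && l.all fun κ => K.any (Nat.beq κ))) = true)
    (h2 : (pivChk P pv && (covB (Nat.land X (Nat.xor P (full 24))) bs &&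
      allS (fun a => (fun c => !Nat.beq (p24 c) k || inD c) (extP pv a)) bs 0)) = true) :
    Good X t k al D K := by
  intro B hB hK
  refine ⟨1, one_smul _ _, fun b hb => ?_⟩
  simp only [Bool.and_eq_true, List.all_eq_true, List.any_eq_true, beq_iff] at h1
  obtain ⟨c, h3, rfl⟩ := forall_par (P := P) bs (f := fun c => !Nat.beq (p24 c) k || inD c) h2
    (hB.sub b hb) fun x hx => by
    obtain ⟨l, -, e1, e2, e3⟩ := h1.2 x hx
    rw [← e1, ← e2]
    refine par_xorL fun κ hκ => ?_
    obtain ⟨_, hk, rfl⟩ := e3 κ hκ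
    have h4 := allLt_spec h1.1 (bset κ ∩ b).card (Nat.lt_succ_of_le
      ((Finset.card_le_univ _).trans_eq card_golayPt))
    rw [tb_eq, hB.int _ (hK κ hk) b hb] at h4
    exact beq_iff.1 h4
  rw [← card_bset, hB.card _ hb, beq_iff.2 rfl] at h3
  simpa using hD c h3

/-- The Golay code is self-dual. -/
theorem mem_GC_of_even {s : Finset GolayPt} (h : ∀ b ∈ gB, (bset b ∩ s).card % 2 = 0) : s ∈ GC := by
  obtain ⟨c, h1, rfl⟩ := forall_par (P := 0xfff000) (m := full 24)
    (pv := gB.map fun b => (Nat.log2 b, b, 0)) (f := cw)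
    [1, 2, 4, 8, 16, 32, 64, 128, 256, 512, 1024, 2048] (by decide +kernel) (b := s)
    (by rw [bset_full]; exact Finset.subset_univ _) fun x hx => by
      obtain ⟨b, hb, rfl⟩ := List.mem_map.1 hx
      exact h b hb
  exact bset_mem_GC h1

end H14
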