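import Cfsg.Agent.H14.DesignD

/-! The Witt designs are unique; their automorphism groups. -/

set_option autoImplicit false
set_option maxRecDepth 100000
open Cfsg MulAction

namespace H14

open scoped Pointwise

/-- A family of `k`-subsets of `X`, two of which share fewer than `t` points. -/
structure Mdl (X t k : ℕ) (D : Set (Finset GolayPt)) : Prop where
  sub : ∀ d ∈ D, d ⊆ bset X
  card : ∀ d ∈ D, d.card = k
  eq : ∀ d ∈ D, ∀ d' ∈ D, t ≤ (d ∩ d').card → d = d'
  le : t ≤ k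

variable {X t k al : ℕ} {D : Set (Finset GolayPt)}

theorem Mdl.der (h : Mdl X t k D) {Y X' t' k' : ℕ}
    (hX : X' = X &&& (Y ^^^ full 24) := by decide +kernel) (ht : t = t' + p24 Y := by decide +kernel)
    (hk : k = k' + p24 Y := by decide +kernel) : Mdl X' t' k' (der D Y) where
  sub d hd p hp := by
    rw [hX, bset_and, bset_compl]
    exact Finset.mem_inter.2 ⟨h.sub _ hd.2 (Finset.mem_union_left _ hp),
      Finset.mem_compl.2 (Finset.disjoint_left.1 hd.1 hp)⟩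
  card d hd := by
    have := h.card _ hd.2
    rw [Finset.card_union_of_disjoint hd.1, card_bset] at this
    omega
  eq d hd d' hd' e := by
    have := h.eq _ hd.2 _ hd'.2 (by
      rw [← Finset.inter_union_distrib_right, Finset.card_union_of_disjoint
        (hd.1.mono_left Finset.inter_subset_left), card_bset]
      omega)
    rw [← Finset.union_sdiff_cancel_right hd.1, this, Finset.union_sdiff_cancel_right hd'.1]
  le := by have := h.le; omega

theorem mdl24 : Mdl 0xffffff 5 8 octads :=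
  ⟨fun d _ => (Finset.subset_univ d).trans bset_full.ge, fun _ hd => hd.2,
    fun _ hd _ hd' => octad_eq_of_card_inter hd hd', by norm_num⟩
theorem mdl23 : Mdl 0x7fffff 4 7 (der octads 0x800000) := mdl24.der
theorem mdl22 : Mdl 0x7ffffe 3 6 (der octads 0x800001) := mdl24.der
theorem mdl21 : Mdl 0x7ffffc 2 5 (der octads 0x800003) := mdl24.der
theorem mdl12 : Mdl 0x5335f 5 6 hexads where
  sub := by rintro _ ⟨-, o, -, rfl⟩; exact Finset.inter_subset_right
  card _ hd := hd.1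
  eq := by
    rintro _ ⟨-, o, ho, rfl⟩ _ ⟨-, o', ho', rfl⟩ h
    rw [octad_eq_of_card_inter ho ho' (h.trans (Finset.card_le_card
      (Finset.inter_subset_inter Finset.inter_subset_left Finset.inter_subset_left)))]
  le := by norm_num
theorem mdl11 : Mdl 0x5335e 4 5 (der hexads 1) := mdl12.der

variable {α β : Type*}

/-- `f` identifies the points with `X` and the family `B` with `D`. -/
structure Mod (X : ℕ) (D : Set (Finset GolayPt)) (B : Set (Finset α)) (f : α ↪ GolayPt) : Prop where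
  rng : ∀ p, p ∈ bset X ↔ ∃ a, f a = p
  mem : ∀ s, s ∈ B ↔ s.map f ∈ D
  sub : ∀ d ∈ D, d ⊆ bset X

theorem exists_mod [Fintype α] [DecidableEq α] {B : Set (Finset α)} (hG : Good X t k al D [])
    (hD : Mdl X t k D) (hB : IsSteinerSystem t k B) (hα : Fintype.card α = p24 X)
    (hal : ∀ b ∈ B, ∀ c ∈ B, al.testBit (b ∩ c).card = true) : ∃ f, Mod X D B f := by
  let e : α ≃ bset X := Fintype.equivOfCardEq (by rw [hα, Fintype.card_coe, card_bset])
  let f : α ↪ GolayPt := e.toEmbedding.trans (Function.Embedding.subtype _)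
  have hf : ∀ p, p ∈ bset X ↔ ∃ a, f a = p := fun p =>
    ⟨fun h => ⟨e.symm ⟨p, h⟩, by simp [f]⟩, by rintro ⟨a, rfl⟩; exact (e a).2⟩
  have hDes : Des X t k al ((Finset.map f) '' B) := by
    refine ⟨?_, ?_, ?_, ?_⟩
    · rintro _ ⟨b, -, rfl⟩ p hp
      obtain ⟨a, -, rfl⟩ := Finset.mem_map.1 hp
      exact (hf _).2 ⟨a, rfl⟩
    · rintro _ ⟨b, hb, rfl⟩
      rw [Finset.card_map, hB.1 b hb]
    · intro s hs hc
      have e1 : (s.preimage f f.injective.injOn).map f = s := by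
        ext p
        simp only [Finset.mem_map, Finset.mem_preimage]
        exact ⟨by rintro ⟨a, ha, rfl⟩; exact ha, fun hp => by
          obtain ⟨a, rfl⟩ := (hf p).1 (hs hp); exact ⟨a, hp, rfl⟩⟩
      obtain ⟨b, ⟨hb, hb'⟩, -⟩ := hB.2 (s.preimage f f.injective.injOn) (by rw [← Finset.card_map, e1, hc])
      exact ⟨_, ⟨b, hb, rfl⟩, e1 ▸ Finset.map_subset_map.2 hb'⟩
    · rintro _ ⟨b, hb, rfl⟩ _ ⟨c, hc, rfl⟩
      rw [← Finset.map_inter, Finset.card_map]
      exact hal b hb c hc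
  obtain ⟨σ, h1, h2⟩ := hG _ hDes fa_nil
  · have e2 : ∀ s : Finset α, s.map (f.trans σ.toEmbedding) = σ • s.map f := fun s => by
      rw [← Finset.map_map, Finset.map_eq_image]; rfl
    have e3 : ∀ s ∈ B, s.map (f.trans σ.toEmbedding) ∈ D := fun s hs => e2 s ▸ h2 _ ⟨s, hs, rfl⟩
    refine ⟨f.trans σ.toEmbedding, fun p => ?_, fun s => ⟨e3 s, fun hs => ?_⟩, hD.sub⟩
    · rw [← h1, Finset.mem_smul_finset]
      exact ⟨fun ⟨q, hq, e⟩ => by obtain ⟨a, rfl⟩ := (hf q).1 hq; exact ⟨a, e⟩,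
        fun ⟨a, e⟩ => ⟨f a, (hf _).2 ⟨a, rfl⟩, e⟩⟩
    · obtain ⟨T, hT, hc⟩ := Finset.exists_subset_card_eq (s := s) (n := t)
        (by rw [← Finset.card_map, hD.card _ hs]; exact hD.le)
      obtain ⟨b, ⟨hb, hb'⟩, -⟩ := hB.2 T hc
      have := hD.eq _ hs _ (e3 b hb) (by
        rw [← Finset.map_inter, Finset.card_map, ← hc]
        exact Finset.card_le_card (Finset.subset_inter hT hb'))
      exact Finset.map_injective _ this ▸ hb

theorem al_of [DecidableEq α] {B : Set (Finset α)} {P : ℕ → Prop} (hB : IsSteinerSystem t k B)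
    (h : ∀ b ∈ B, ∀ c ∈ B, b ≠ c → P (b ∩ c).card) (h1 : al.testBit k = true)
    (h2 : ∀ i, P i → al.testBit i = true) : ∀ b ∈ B, ∀ c ∈ B, al.testBit (b ∩ c).card = true := by
  intro b hb c hc
  by_cases e : b = c
  · rw [e, Finset.inter_self, hB.1 c hc, h1]
  · exact h2 _ (h b hb c hc e)

section
variable [Fintype α] [DecidableEq α] {B : Set (Finset α)}

theorem mod24 (hα : Fintype.card α = 24) (hB : IsSteinerSystem 5 8 B) :
    ∃ f, Mod 0xffffff octads B f :=
  exists_mod good24 mdl24 hB (hα.trans (by decide +kernel)) (al_of hB (P := fun i => i = 0 ∨ i = 2 ∨ i = 4)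
    (fun _ hb _ hc => inter_24 hα hB hb hc) rfl (by rintro _ (rfl | rfl | rfl) <;> rfl))
theorem mod23 (hα : Fintype.card α = 23) (hB : IsSteinerSystem 4 7 B) :
    ∃ f, Mod 0x7fffff (der octads 0x800000) B f :=
  exists_mod good23 mdl23 hB (hα.trans (by decide +kernel)) (al_of hB (P := fun i => i = 1 ∨ i = 3)
    (fun _ hb _ hc => inter_23 hα hB hb hc) rfl (by rintro _ (rfl | rfl) <;> rfl))
theorem mod22 (hα : Fintype.card α = 22) (hB : IsSteinerSystem 3 6 B) :
    ∃ f, Mod 0x7ffffe (der octads 0x800001) B f :=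
  exists_mod good22 mdl22 hB (hα.trans (by decide +kernel)) (al_of hB (P := fun i => i = 0 ∨ i = 2)
    (fun _ hb _ hc => inter_22 hα hB hb hc) rfl (by rintro _ (rfl | rfl) <;> rfl))
theorem mod21 (hα : Fintype.card α = 21) (hB : IsSteinerSystem 2 5 B) :
    ∃ f, Mod 0x7ffffc (der octads 0x800003) B f :=
  exists_mod good21 mdl21 hB (hα.trans (by decide +kernel)) (al_of hB (P := fun i => i = 1)
    (fun _ hb _ hc => inter_21 hα hB hb hc) rfl (by rintro _ rfl; rfl))
theorem mod12 (hα : Fintype.card α = 12) (hB : IsSteinerSystem 5 6 B) :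
    ∃ f, Mod 0x5335f hexads B f :=
  exists_mod good12 mdl12 hB (hα.trans (by decide +kernel))
    (al_of hB (P := fun i => i = 0 ∨ i = 2 ∨ i = 3 ∨ i = 4)
    (fun _ hb _ hc => inter_12 hα hB hb hc) rfl (by rintro _ (rfl | rfl | rfl | rfl) <;> rfl))
theorem mod11 (hα : Fintype.card α = 11) (hB : IsSteinerSystem 4 5 B) :
    ∃ f, Mod 0x5335e (der hexads 1) B f :=
  exists_mod good11 mdl11 hB (hα.trans (by decide +kernel))
    (al_of hB (P := fun i => i = 1 ∨ i = 2 ∨ i = 3)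
    (fun _ hb _ hc => inter_11 hα hB hb hc) rfl (by rintro _ (rfl | rfl | rfl) <;> rfl))
end

namespace Mod
variable {B : Set (Finset α)} {B' : Set (Finset β)} {f : α ↪ GolayPt} {f' : β ↪ GolayPt}

/-- The points as a subtype of the 24 points. -/
noncomputable def eqv (h : Mod X D B f) : α ≃ bset X :=
  Equiv.ofBijective (fun a => ⟨f a, (h.rng _).2 ⟨a, rfl⟩⟩)
    ⟨fun _ _ e => f.injective (congrArg Subtype.val e), fun p => by
      obtain ⟨a, e⟩ := (h.rng _).1 p.2; exact ⟨a, Subtype.ext e⟩⟩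

theorem eqv_apply (h : Mod X D B f) (a : α) : (h.eqv a : GolayPt) = f a := rfl

theorem f_symm (h : Mod X D B f) (p : bset X) : f (h.eqv.symm p) = p :=
  congrArg Subtype.val (h.eqv.apply_symm_apply p)

theorem mem_X (h : Mod X D B f) (a : α) : f a ∈ bset X := (h.rng _).2 ⟨a, rfl⟩

theorem map_sub (h : Mod X D B f) (s : Finset α) : s.map f ⊆ bset X := fun p hp => by
  obtain ⟨a, -, rfl⟩ := Finset.mem_map.1 hp
  exact h.mem_X a

theorem exists_map (h : Mod X D B f) {d : Finset GolayPt} (hd : d ⊆ bset X) :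
    ∃ s : Finset α, s.map f = d := by
  refine ⟨d.preimage f f.injective.injOn, ?_⟩
  ext p
  simp only [Finset.mem_map, Finset.mem_preimage]
  exact ⟨by rintro ⟨a, ha, rfl⟩; exact ha, fun hp => by
    obtain ⟨a, rfl⟩ := (h.rng p).1 (hd hp); exact ⟨a, hp, rfl⟩⟩

theorem exists_block (h : Mod X D B f) {d : Finset GolayPt} (hd : d ∈ D) : ∃ s ∈ B, s.map f = d := by
  obtain ⟨s, rfl⟩ := h.exists_map (h.sub d hd)
  exact ⟨s, (h.mem s).2 hd, rfl⟩

theorem forall_block (h : Mod X D B f) {P : Finset GolayPt → Prop} :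
    (∀ d ∈ D, P d) ↔ ∀ s ∈ B, P (s.map f) :=
  ⟨fun H s hs => H _ ((h.mem s).1 hs), fun H d hd => by
    obtain ⟨s, hs, rfl⟩ := h.exists_block hd; exact H s hs⟩

theorem exists_equiv (h : Mod X D B f) (h' : Mod X D B' f') :
    ∃ e : α ≃ β, (∀ a, f' (e a) = f a) ∧ ∀ s : Finset α, s.map e.toEmbedding ∈ B' ↔ s ∈ B := by
  have h1 : ∀ a, f' ((h.eqv.trans h'.eqv.symm) a) = f a := fun a => h'.f_symm _
  refine ⟨_, h1, fun s => ?_⟩
  rw [h.mem, h'.mem, Finset.map_map]
  exact iff_of_eq (congrArg (fun g => s.map g ∈ D) (Function.Embedding.ext h1))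

theorem iso [DecidableEq β] (h : Mod X D B f) (h' : Mod X D B' f') : SetSystemIso B B' := by
  obtain ⟨e, -, h2⟩ := h.exists_equiv h'
  refine ⟨e, Set.ext fun s => ⟨?_, fun hs => ⟨s.map e.symm.toEmbedding, ?_, ?_⟩⟩⟩
  · rintro ⟨b, hb, rfl⟩
    have := (h2 b).2 hb
    rwa [Finset.map_eq_image] at this
  · rw [← h2, Finset.map_map]
    simpa using hs
  · ext x
    simp only [Finset.mem_image, Finset.mem_map_equiv, Equiv.symm_symm]
    exact ⟨by rintro ⟨a, h, rfl⟩; exact h, fun h => ⟨e.symm x, by simpa using h, by simp⟩⟩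

theorem map_smul [DecidableEq α] {σ : Equiv.Perm α} {τ : Equiv.Perm GolayPt}
    (e : ∀ a, f (σ a) = τ (f a)) (s : Finset α) : (σ • s).map f = τ • s.map f := by
  ext p
  simp only [Finset.mem_map, Finset.mem_smul_finset, Equiv.Perm.smul_def, exists_exists_and_eq_and, e]

/-- An automorphism extends to a permutation of the 24 points fixing the points outside `X`. -/
theorem exists_ext [DecidableEq α] (h : Mod X D B f) {σ : Equiv.Perm α} (hσ : σ ∈ setSystemAut B) :
    ∃ τ : Equiv.Perm GolayPt, (∀ a, f (σ a) = τ (f a)) ∧ (∀ p ∉ bset X, τ p = p) ∧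
      (∀ d ∈ D, τ • d ∈ D) ∧ ∀ d ∈ D, τ⁻¹ • d ∈ D := by
  have key : ∀ σ : Equiv.Perm α, ∀ a, f (σ a) = σ.extendDomain h.eqv (f a) := fun σ a =>
    (Equiv.Perm.extendDomain_apply_image σ h.eqv a).symm
  have key2 : ∀ σ ∈ setSystemAut B, ∀ d ∈ D, σ.extendDomain h.eqv • d ∈ D := fun σ hσ =>
    h.forall_block.2 fun s hs => by
      rw [← map_smul (key σ), ← h.mem, ← show σ • B = B from hσ]
      exact Set.smul_mem_smul_set hs
  exact ⟨σ.extendDomain h.eqv, key σ, fun p hp => Equiv.Perm.extendDomain_apply_not_subtype _ _ hp,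
    key2 σ hσ, key2 σ⁻¹ (inv_mem hσ)⟩

theorem exists_hom [Fintype α] [DecidableEq α] (h : Mod X D B f) (H : Subgroup M24)
    (h1 : ∀ g ∈ H, g • bset X = bset X ∧ ∀ d ∈ D, g • d ∈ D) :
    ∃ φ : H →* setSystemAut B, ∀ g a, f ((φ g : Equiv.Perm α) a) = (g : M24) • f a := by
  let ψ : H →* Equiv.Perm α := (h.eqv.symm.permCongrHom.toMonoidHom.comp (resHom M24 (bset X))).comp
    (Subgroup.inclusion fun g hg => (h1 g hg).1)
  have e : ∀ g a, f (ψ g a) = (g : M24) • f a := fun g a => h.f_symm _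
  refine ⟨ψ.codRestrict _ fun g => mem_setSystemAut_iff.2 fun s hs => ?_, e⟩
  rw [h.mem, map_smul (τ := (g : M24)) (e g)]
  exact (h1 g g.2).2 _ ((h.mem s).1 hs)

theorem exists_aut [Fintype α] [DecidableEq α] (h : Mod X D B f) (H : Subgroup M24)
    (h1 : ∀ g ∈ H, g • bset X = bset X ∧ ∀ d ∈ D, g • d ∈ D)
    (h2 : ∀ g ∈ H, (∀ p ∈ bset X, g • p = p) → g = 1)
    (h3 : ∀ τ : Equiv.Perm GolayPt, (∀ p ∉ bset X, τ p = p) → (∀ d ∈ D, τ • d ∈ D) →
      (∀ d ∈ D, τ⁻¹ • d ∈ D) → ∃ g ∈ H, ∀ p ∈ bset X, g • p = τ p) :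
    ∃ φ : H ≃* setSystemAut B, ∀ g a, f ((φ g : Equiv.Perm α) a) = (g : M24) • f a := by
  obtain ⟨φ, e⟩ := h.exists_hom H h1
  refine ⟨MulEquiv.ofBijective φ ⟨(injective_iff_map_eq_one φ).2 fun g hg => Subtype.ext
    (h2 g g.2 fun p hp => ?_), fun σ => ?_⟩, e⟩
  · obtain ⟨a, rfl⟩ := (h.rng p).1 hp
    rw [← e, hg]; rfl
  · obtain ⟨τ, t1, t2, t3, t4⟩ := h.exists_ext σ.2
    obtain ⟨g, hg, t5⟩ := h3 τ t2 t3 t4
    exact ⟨⟨g, hg⟩, Subtype.ext (Equiv.ext fun a => f.injective (by rw [e, t1, t5 _ (h.mem_X a)]))⟩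

theorem mt [DecidableEq α] (h : Mod X D B f) {H : Subgroup M24} {φ : H → setSystemAut B}
    (e : ∀ g a, f ((φ g : Equiv.Perm α) a) = (g : M24) • f a) {n : ℕ}
    (h1 : ∀ x y : Fin n ↪ GolayPt, (∀ i, x i ∈ bset X) → (∀ i, y i ∈ bset X) →
      ∃ g ∈ H, ∀ i, g • x i = y i) : IsMultiplyPretransitive (setSystemAut B) α n :=
  ⟨fun x y => by
    obtain ⟨g, hg, e1⟩ := h1 (x.trans f) (y.trans f) (fun _ => h.mem_X _) fun _ => h.mem_X _
    exact ⟨φ ⟨g, hg⟩, Function.Embedding.ext fun i => f.injective ((e _ _).trans (e1 i))⟩⟩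

end Mod

end H14
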