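import Cfsg.Agent.H14.EN

/-! Maximal point stabilisers from suborbits. -/

set_option autoImplicit false

namespace L
open H14

variable {G Ω : Type*} [Group G] [MulAction G Ω] {n : ℕ} {L : List Net} (M : PM G Ω n L)

/-- `ys` represent the orbits of the stabiliser of `fx` on `O` -/
def CvP (fx : List ℕ) (O : ℕ) (ys : List ℕ) : Prop :=
  ∀ y ∈ M.S O, ∃ i ∈ ys, ∃ h ∈ st M ⊤ fx, h • M.dec i = y

variable {M}

theorem cvp_nil {fx : List ℕ} : CvP M fx 0 [] := fun y hy => absurd hy (not_mem_S_zero y)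

theorem cvp_cons {fx ys : List ℕ} {y O O' O'' : ℕ} (h1 : Orb M ⊤ fx y O) (h2 : CvP M fx O' ys)
    (h3 : subs O'' (Nat.lor O O') = true) : CvP M fx O'' (y :: ys) := fun x hx => by
  rcases (M.mem_S_lor _ _ x).1 (subs_spec h3 hx) with hx | hx
  · exact ⟨y, List.mem_cons_self, h1 x hx⟩
  · obtain ⟨s, hs, e⟩ := h2 x hx
    exact ⟨s, List.mem_cons_of_mem _ hs, e⟩

variable {F : FK} [PtK n L F]

theorem sub_le_st' {fx : List ℕ} {ss : List Word}
    (h : band (allLt n fx) (allL (fun k => fixK F k fx) ss) = true) : sub M.gen ss ≤ st M ⊤ fx :=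
  (sub_le _).2 fun w hw => ⟨trivial, fixK_spec (allL_iff.1 (band_iff.1 h).2 w hw) (allLt_iff.1 (band_iff.1 h).1)⟩

variable (M) in
/-- together with `ss`, an element mapping `b` to `i` is transitive on `O` -/
def Gn (fx : List ℕ) (b O : ℕ) (ss : List Word) (i : ℕ) : Prop :=
  ∃ r, ev M.gen r ∈ st M ⊤ fx ∧ ev M.gen r • M.dec b = M.dec i ∧ M.dec i ≠ M.dec b ∧
    Orb M (sub M.gen (r :: ss)) fx b O

theorem gn_of {fx : List ℕ} {b O i : ℕ} {ss : List Word} {r : Word}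
    (h : Orb M (sub M.gen (r :: ss)) fx b O)
    (hc : band (band (allLt n (i :: b :: fx)) (fixK F r fx)) (band (Nat.beq (apK F r b) i)
      (bnot (Nat.beq i b))) = true) : Gn M fx b O ss i := by
  obtain ⟨h1, h2⟩ := band_iff.1 hc
  obtain ⟨h0, h1⟩ := band_iff.1 h1
  obtain ⟨h2, h3⟩ := band_iff.1 h2
  have h0 := allLt_iff.1 h0
  have hi := h0 i List.mem_cons_self
  have hb := h0 b (List.mem_cons_of_mem _ List.mem_cons_self)
  refine ⟨r, ⟨trivial, fixK_spec h1 fun x hx => h0 x (by simp [hx])⟩, ?_, fun e => ?_, h⟩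
  · rw [evK_dec M r hb, Nat.eq_of_beq_eq_true h2]
  · rw [dec_inj hi hb e, Nat.beq_refl] at h3
    exact nomatch h3

theorem coatom_st {fx ys : List ℕ} {b y O : ℕ} {ss : List Word} (hl : Lev M ⊤ fx b O)
    (hs : sub M.gen ss ≤ st M ⊤ (b :: fx)) (hc : CvP M (b :: fx) O (b :: y :: ys))
    (ho : ∀ i ∈ y :: ys, Gn M fx b O ss i) :
    IsCoatom ((st M ⊤ (b :: fx)).subgroupOf (st M ⊤ fx)) := by
  have hm : ∀ {g}, g ∈ st M ⊤ (b :: fx) ↔ g ∈ st M ⊤ fx ∧ g • M.dec b = M.dec b := by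
    intro g; rw [st_cons]; rfl
  constructor
  · intro h
    obtain ⟨r, h1, h2, h3, -⟩ := ho y List.mem_cons_self
    have : (⟨_, h1⟩ : st M ⊤ fx) ∈ (st M ⊤ (b :: fx)).subgroupOf (st M ⊤ fx) := h ▸ Subgroup.mem_top _
    exact h3 (h2.symm.trans (hm.1 this).2)
  · intro K hK
    obtain ⟨g, h1, h2⟩ := SetLike.exists_of_lt hK
    have hS : ∀ {s} (hs : s ∈ st M ⊤ (b :: fx)), s ∈ K.map (st M ⊤ fx).subtype := fun hs =>
      ⟨⟨_, (hm.1 hs).1⟩, hK.le hs, rfl⟩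
    obtain ⟨i, hi, h, h3, e⟩ := hc _ (hl g g.2)
    rcases List.mem_cons.1 hi with rfl | hi
    · exact absurd (hm.2 ⟨g.2, e.symm.trans (hm.1 h3).2⟩) h2
    obtain ⟨r, h4, h5, -, h6⟩ := ho i hi
    have h7 : (g : G)⁻¹ * h * ev M.gen r ∈ st M ⊤ (b :: fx) :=
      hm.2 ⟨mul_mem (mul_mem (inv_mem g.2) (hm.1 h3).1) h4, by
        rw [mul_smul, mul_smul, h5, e, inv_smul_smul]⟩
    have h8 : sub M.gen (r :: ss) ≤ K.map (st M ⊤ fx).subtype := (sub_le _).2 (fa_cons (by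
      have := mul_mem (inv_mem (hS h3)) (mul_mem ⟨g, h1, rfl⟩ (hS h7))
      simpa [mul_assoc] using this) fun w hw => hS (hs (ev_mem_sub _ hw)))
    refine (Subgroup.eq_top_iff' K).2 fun k => ?_
    obtain ⟨l, h9, e'⟩ := h6 _ (hl k k.2)
    have := mul_mem (h8 h9.1) (hS (s := l⁻¹ * k) (hm.2 ⟨mul_mem (inv_mem ⟨trivial, h9.2⟩) k.2, by
      rw [mul_smul, ← e', inv_smul_smul]⟩))
    rw [mul_inv_cancel_left] at this
    obtain ⟨k', h10, e''⟩ := this
    exact Subtype.ext e'' ▸ h10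

theorem st_one (b : ℕ) : st M ⊤ [b] = MulAction.stabilizer G (M.dec b) := by
  rw [st_cons, st_nil, top_inf_eq]

theorem coatom_top {b : ℕ} (h : IsCoatom ((st M ⊤ [b]).subgroupOf (st M ⊤ []))) : IsCoatom (st M ⊤ [b]) := by
  rw [st_nil] at h
  have := (Subgroup.topEquiv (G := G)).mapSubgroup.isCoatom_iff _ |>.2 h
  convert this
  ext g
  simp [Subgroup.mem_subgroupOf]

/-- extreme primitivity -/
theorem exprim {b : ℕ} {ys : List ℕ} (h0 : CvP M [b] (full n) (b :: ys))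
    (h1 : ∀ M : PM G Ω n L, ∀ i ∈ ys, IsCoatom ((st M ⊤ [i, b]).subgroupOf (st M ⊤ [b])))
    (x : G) (hx : x ∉ st M ⊤ [b]) :
    IsCoatom ((st M ⊤ [b] ⊓ (st M ⊤ [b]).map (MulAut.conj x).toMonoidHom).subgroupOf (st M ⊤ [b])) := by
  obtain ⟨i, hi, h, h2, e⟩ := h0 (x • M.dec b) (mem_S_full _)
  rw [st_one] at h2 hx ⊢
  rcases List.mem_cons.1 hi with rfl | hi
  · exact absurd (e.symm.trans h2) hx
  have := h1 (cjM M h) i hi
  rw [st_cons ⊤ i, st_one] at this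
  rw [← MulAction.stabilizer_smul_eq_stabilizer_map_conj, ← e]
  rwa [show (cjM M h).dec b = M.dec b from h2] at this

theorem st_eq [Finite G] {fx : List ℕ} {c : Chn} {ss : List Word} {N : ℕ} (h : SC M ⊤ fx c)
    (hs : sub M.gen ss ≤ st M ⊤ fx) (h1 : N ≤ Nat.card (sub M.gen ss)) (h2 : Nat.ble (cval n c) N = true) :
    st M ⊤ fx = sub M.gen ss ∧ Nat.card (sub M.gen ss) = N :=
  eq_of_cards hs (h.card_le.trans (Nat.le_of_ble_eq_true h2)) h1

end L
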