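import Cfsg.Agent.H14.Enum3

/-! More rules for invariant sets and upper bounds. -/

set_option autoImplicit false

namespace H14
open MulAction
open scoped Pointwise

namespace PM
variable {Γ Ω : Type*} [Group Γ] [MulAction Γ Ω] {n D : ℕ} {L : List Net} (M : PM Γ Ω n L)

/-- The union of the listed orbits whose size satisfies `f`. -/
noncomputable def orbsP (n : Nat) (L : List Net) (ws : List Word) (f : Nat → Bool)
    (l : List (Nat × Nat × List Word)) : Nat :=
  @List.rec (Nat × Nat × List Word) (fun _ => Nat) 0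
    (fun o _ ih => @Bool.rec (fun _ => Nat) ih (Nat.lor o.2.1 ih)
      (orbChk n L ws o.1 o.2.1 o.2.2 && f (pop n o.2.1))) l

theorem orbsP_spec {ws : List Word} {f : ℕ → Bool} {l : List (ℕ × ℕ × List Word)} {x : Ω}
    (hx : x ∈ M.S (orbsP n L ws f l)) : f {y | ∃ g ∈ sub M.gen ws, g • x = y}.ncard = true := by
  induction l with
  | nil => exact absurd hx (M.not_mem_S_zero x)
  | cons o l ih =>
    have e : orbsP n L ws f (o :: l) = @Bool.rec (fun _ => Nat) (orbsP n L ws f l)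
      (Nat.lor o.2.1 (orbsP n L ws f l))
      (orbChk n L ws o.1 o.2.1 o.2.2 && f (pop n o.2.1)) := rfl
    rw [e] at hx
    cases hb : (orbChk n L ws o.1 o.2.1 o.2.2 && f (pop n o.2.1))
    · rw [hb] at hx; exact ih hx
    · rw [hb] at hx
      rcases (M.mem_S_lor _ _ _).1 hx with h | h
      · rw [Bool.and_eq_true] at hb
        rw [M.orbit_of_chk hb.1 h, M.ncard_S]
        exact hb.2
      · exact ih h

/-- The union of the orbits of size `p` in an invariant set. -/
theorem Inv.orbits {M : PM Γ Ω n L} {A : Subgroup Γ} {ws : List Word} {Y O : ℕ} (p : ℕ)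
    (l l' : List (ℕ × ℕ × List Word)) (hA : A ≤ Subgroup.normalizer (sub M.gen ws : Set Γ))
    (hY : M.Inv A Y) (h : (subs O (Nat.land Y (orbsP n L ws (Nat.beq p) l)) &&
      subs Y (Nat.lor O (orbsP n L ws (fun k => !Nat.beq p k) l'))) = true) : M.Inv A O :=
  fun g hg x hx => by
  rw [Bool.and_eq_true] at h
  have h1 := (M.mem_S_land _ _ _).1 (M.S_mono h.1 hx)
  refine ((M.mem_S_lor _ _ _).1 (M.S_mono h.2 (hY g hg x h1.1))).resolve_right fun h' => ?_
  have h2 := M.orbsP_spec h'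
  rw [orbit_smul_of_nml (hA hg), Set.ncard_smul_set, M.orbsP_spec h1.2] at h2
  exact absurd h2 (by simp)

/-- The union of the images of `O` under the words `us`. -/
noncomputable def imgs (L : List Net) (us : List Word) (O : Nat) : Nat :=
  @List.rec Word (fun _ => Nat) 0 (fun u _ ih => Nat.lor (runW (letN L) u O) ih) us

theorem mem_S_imgs {us : List Word} {O : ℕ} {x : Ω} :
    x ∈ M.S (imgs L us O) ↔ ∃ u ∈ us, (ev M.gen u)⁻¹ • x ∈ M.S O := by
  induction us with
  | nil => exact ⟨fun h => absurd h (M.not_mem_S_zero x), fun ⟨_, h, _⟩ => nomatch h⟩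
  | cons u us ih =>
    have e : imgs L (u :: us) O = Nat.lor (runW (letN L) u O) (imgs L us O) := rfl
    rw [e, M.mem_S_lor, ih, M.mem_S_runW]
    simp only [List.mem_cons, exists_eq_or_imp]

/-- The neighbourhood of an invariant set in an orbital graph of `G`. -/
theorem Inv.nbr' {M : PM Γ Ω n L} {A G : Subgroup Γ} {b Y O : ℕ} (hA : A ≤ G) {us : List Word}
    (hu : ∀ u ∈ us, ev M.gen u ∈ G) (hO : M.Inv (G ⊓ M.fixL [b]) O) (hY : M.Inv A Y)
    (h : (Nat.ble (Nat.succ b) n && Nat.beq (imgs L us (bit b)) Y) = true) :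
    M.Inv A (imgs L us O) := fun g hg x hx => by
  rw [Bool.and_eq_true, beq_iff] at h
  have hb : b < n := Nat.le_of_ble_eq_true h.1
  obtain ⟨u, h1, h2⟩ := M.mem_S_imgs.1 hx
  have h3 : ev M.gen u • M.dec b ∈ M.S Y :=
    h.2 ▸ M.mem_S_imgs.2 ⟨u, h1, by rw [inv_smul_smul, M.mem_S_bit hb]⟩
  obtain ⟨v, h4, h5⟩ := M.mem_S_imgs.1 (h.2.symm ▸ hY g hg _ h3)
  rw [M.mem_S_bit hb] at h5
  refine M.mem_S_imgs.2 ⟨v, h4, ?_⟩
  have := hO ((ev M.gen v)⁻¹ * g * ev M.gen u) (Subgroup.mem_inf.2 ⟨G.mul_mem (G.mul_mem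
    (G.inv_mem (hu v h4)) (hA hg)) (hu u h1),
    fa_cons (by rw [mul_smul, mul_smul, ← mul_smul g] at *; exact h5) fa_nil⟩) _ h2
  rwa [mul_smul, smul_inv_smul, mul_smul] at this

theorem Inv.nbr {M : PM Γ Ω n L} {A : Subgroup Γ} {ws : List Word} {b Y : ℕ}
    (hG : ⊤ ⊓ M.fixL [b] = sub M.gen ws) (us : List Word) (O : ℕ) (hY : M.Inv A Y)
    (h : (invChk L ws O && (Nat.ble (Nat.succ b) n && Nat.beq (imgs L us (bit b)) Y)) = true) :
    M.Inv A (imgs L us O) := by
  rw [Bool.and_eq_true] at h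
  exact Inv.nbr' le_top (fun _ _ => trivial) (hG ▸ Inv.of_chk h.1) hY h.2

/-- Transport by an element of `A`. -/
theorem Inv.tr {M : PM Γ Ω n L} {A : Subgroup Γ} {cs bs : List ℕ} {Y : ℕ}
    (h : M.Inv (A ⊓ M.fixL cs) Y) (u : Word) (hu : ev M.gen u ∈ A)
    (hc : mapsTo n L u cs bs = true) : M.Inv (A ⊓ M.fixL bs) (runW (letN L) u Y) :=
  h.conj fun _ hg => Subgroup.mem_inf.2
    ⟨A.mul_mem (A.mul_mem (A.inv_mem hu) hg.1) hu, M.conj_mem_fixL hc hg.2⟩

/-- The normaliser of a group whose centre is `{1, z}` centralises `z`. -/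
theorem nml_comm [FaithfulSMul Γ Ω] (h0 : 0 < n) (hD : n ≤ 2 ^ D) {ws : List Word}
    {Ts : List (List Word)} (hc : Cover M.gen (sub M.gen ws) Ts) (v : Word)
    (h : enumA (arF n L D) (fun w A => !commAll n L D ws w A || (Nat.beq A (arI n D) ||
      Nat.beq A (arW n L D (flat ws v)))) Ts [] (arI n D) = true)
    (h' : commAll n L D ws (flat ws v) (arW n L D (flat ws v)) = true) :
    Subgroup.normalizer (sub M.gen ws : Set Γ) ≤ Subgroup.centralizer {ev M.gen (flat ws v)} :=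
  fun g hg => by
  have hz := ev_flat_mem M.gen ws v
  have h1 := M.le_cent h0 hD h'
  rw [Subgroup.mem_centralizer_singleton_iff]
  rcases M.center_cases h0 hD hc h _ ((Subgroup.mem_normalizer_iff.1 hg _).1 hz) fun a ha => by
    have := Subgroup.mem_centralizer_singleton_iff.1 (h1 ((Subgroup.mem_normalizer_iff.1
      (inv_mem hg) _).1 ha))
    calc _ = g * (g⁻¹ * a * g⁻¹⁻¹ * ev M.gen (flat ws v)) * g⁻¹ := by group
      _ = _ := by rw [this]; group with e | e
  · rw [mul_inv_eq_one, mul_eq_left] at e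
    rw [e, mul_one, one_mul]
  · exact mul_inv_eq_iff_eq_mul.1 e

theorem comm_of_le {A : Subgroup Γ} {z : Γ} (h : A ≤ Subgroup.centralizer {z}) {bs : List ℕ} :
    ∀ g ∈ A ⊓ M.fixL bs, g * z = z * g := fun _ hg =>
  Subgroup.mem_centralizer_singleton_iff.1 (h hg.1)

/-- The word `w` is one of the products. -/
noncomputable def memP (n : Nat) (L : List Net) (D : Nat) (Ts : List (List Word)) (w : Word) :
    Bool :=
  (fun B => frc B (Nat.ble 1 (cntA (arF n L D) (fun _ A => Nat.beq A B) Ts [] (arI n D))))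
    (arW n L D w)

theorem memP_of (h0 : 0 < n) {X : Subgroup Γ} {Ts : List (List Word)} (hX : Cover M.gen X Ts)
    {w : Word} (hw : ev M.gen w ∈ X) : memP n L D Ts w = true := by
  obtain ⟨v, hv, e⟩ := hX _ hw
  unfold memP
  have := cntA_eq (arF n L D) (fun _ A => Nat.beq A (arW n L D w)) Ts [] (arI n D)
  simp only [runW_nil, List.nil_append] at this
  simp only [frc_eq]
  rw [this]
  exact Nat.ble_eq_true_of_le (List.length_pos_of_mem (List.mem_filter.2
    ⟨hv, beq_iff.2 (M.arW_congr h0 e)⟩))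

theorem card_le_nml (h0 : 0 < n) {A : Subgroup Γ} {ws xs : List Word} {bs cs : List ℕ}
    {Ts Us : List (List Word)} (hG : ⊤ ⊓ M.fixL cs = sub M.gen ws)
    (hX : Cover M.gen (sub M.gen ws) Ts) (u : Word) {Ys : List ℕ}
    (hY : ∀ Y ∈ Ys, M.Inv (A ⊓ M.fixL bs) Y) (hA : A ≤ Subgroup.normalizer (sub M.gen xs : Set Γ))
    (hU : Cover M.gen (sub M.gen xs) Us) {c : ℕ}
    (h : (mapsTo n L u cs bs && Nat.ble (cntA (fun _ => Net.nil)
      (fun w B => presAll L (Ys.map (runW (letN L) (invW u))) w B &&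
        xs.all fun s => memP n L D Us (conjW s (conjW w u))) Ts [] 0) c) = true) :
    Nat.card (A ⊓ M.fixL bs : Subgroup Γ) ≤ c := by
  rw [Bool.and_eq_true] at h
  refine M.card_le_enum' hX (ev M.gen u) (fun g hg => hG ▸ Subgroup.mem_inf.2
    ⟨trivial, M.conj_mem_fixL h.1 (Subgroup.mem_inf.1 hg).2⟩) (fun w hw => ?_) h.2
  rw [Bool.and_eq_true]
  refine ⟨List.all_eq_true.2 fun Y hY' => ?_, List.all_eq_true.2 fun s hs => M.memP_of h0 hU ?_⟩
  · obtain ⟨Z, hZ, rfl⟩ := List.mem_map.1 hY'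
    refine beq_iff.2 (M.runW_eq_of_inv (A := Subgroup.zpowers (ev M.gen w))
      ((hY Z hZ).conj fun g hg => ?_) (Subgroup.mem_zpowers _))
    obtain ⟨k, rfl⟩ := hg
    rw [ev_invW, inv_inv, ← conj_zpow]
    exact zpow_mem hw k
  · rw [ev_conjW, ev_conjW]
    exact (Subgroup.mem_normalizer_iff.1 (hA (Subgroup.mem_inf.1 hw).1) _).1 (ev_mem_sub _ hs)

end PM

end H14
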