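import Cfsg.Agent.H14.KhG416T
import Cfsg.Agent.L.KF

/-! Generated certificate (toolsL/cg.hpp). -/
set_option autoImplicit false
set_option maxRecDepth 200000
set_option Elab.async false
set_option linter.unusedVariables false
set_option linter.unusedSectionVars false

namespace L.KhG416
open H14 L.KhG416T
variable {G Ω : Type*} [Group G] [Finite G] [MulAction G Ω]

noncomputable def w0 : Word := [nat_lit 2]
noncomputable def w1 : Word := [nat_lit 4]
noncomputable def w2 : Word := [nat_lit 6]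
noncomputable def w3 : Word := [nat_lit 8]
theorem k4 : orbChk (nat_lit 416) H14.StG416.nets F [] (sel [w0, w1, w2, w3] [nat_lit 0, nat_lit 1, nat_lit 2, nat_lit 3]) [dw (nat_lit 0x01), dw (nat_lit 0x03), dw (nat_lit 0x07), dw (nat_lit 0x05), dw (nat_lit 0x03), dw (nat_lit 0x01), dw (nat_lit 0x05), dw (nat_lit 0x07)
, dw (nat_lit 0x03), dw (nat_lit 0x01), dw (nat_lit 0x07), dw (nat_lit 0x05), dw (nat_lit 0x03)] (dn (nat_lit 16) (nat_lit 0x66025a4265444b035e030ec34ec32f0419040e0316c10e4158c14ac158415f015d013e815041)) (bit (nat_lit 0)) (full (nat_lit 416)) = true := by decide +kernel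
theorem o5 (M : PM G Ω 416 H14.StG416.nets) (hN : Nat.card G = 251596800) : Orb M ⊤ [] (nat_lit 0) (full (nat_lit 416)) :=
  (Orb.ext le_top (orb_bit ⊤ [] (b := (nat_lit 0)) rfl) k4)
noncomputable def s6 : Nat := (nat_lit 0x2c086421200210d1c121100260240c0048000800189ae251070b4200820800400a046c5c11800236412201c86008020546182a12)
noncomputable def w7 : Word := [nat_lit 12]
noncomputable def w8 : Word := [nat_lit 14]
theorem k9 : orbChk (nat_lit 416) H14.StG416.nets F [nat_lit 0] (sel [w2, w7, w8] [nat_lit 0, nat_lit 1, nat_lit 2]) [dw (nat_lit 0x03), dw (nat_lit 0x01), dw (nat_lit 0x03), dw (nat_lit 0x05), dw (nat_lit 0x03), dw (nat_lit 0x01), dw (nat_lit 0x05), dw (nat_lit 0x03)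
, dw (nat_lit 0x05)] (dn (nat_lit 16) (nat_lit 0x62824d431a42600216020103194157826381478111c203423cc10f82218266c202c157c1590233822e42)) (bit (nat_lit 1)) s6 = true := by decide +kernel
theorem o10 (M : PM G Ω 416 H14.StG416.nets) (hN : Nat.card G = 251596800) : Orb M ⊤ [nat_lit 0] (nat_lit 1) s6 :=
  (Orb.ext le_top (orb_bit ⊤ [nat_lit 0] (b := (nat_lit 1)) rfl) k9)
noncomputable def s11 : Nat := (nat_lit 0x1100102c8a0440000980030800020251000b000820101200820084838004004050a9020084800092080820100040000b0040008)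
noncomputable def w12 : Word := [nat_lit 16]
theorem k13 : orbChk (nat_lit 416) H14.StG416.nets F [nat_lit 1, nat_lit 0] (sel [w2, w8, w12] [nat_lit 0, nat_lit 1, nat_lit 2]) [dw (nat_lit 0x01), dw (nat_lit 0x03), dw (nat_lit 0x05), dw (nat_lit 0x03), dw (nat_lit 0x01), dw (nat_lit 0x03)] (dn (nat_lit 16) (nat_lit 0x55c35f815a8336c13e4323033fc107014b432f035dc313c31cc31cc15fc14703470224c343434341124155015143260217423183354335421d832f435d430c832b835ec3)) (bit (nat_lit 3)) s11 = true := by decide +kernel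
theorem o14 (M : PM G Ω 416 H14.StG416.nets) (hN : Nat.card G = 251596800) : Orb M ⊤ [nat_lit 1, nat_lit 0] (nat_lit 3) s11 :=
  (Orb.ext le_top (orb_bit ⊤ [nat_lit 1, nat_lit 0] (b := (nat_lit 3)) rfl) k13)
noncomputable def s15 : Nat := (nat_lit 0x20801100002000001040008000000200010240000080080000401040000000000000200c000000148200900010008201044)
noncomputable def w16 : Word := [nat_lit 18]
noncomputable def w17 : Word := [nat_lit 20]
noncomputable def w18 : Word := [nat_lit 22]
theorem k19 : orbChk (nat_lit 416) H14.StG416.nets F [nat_lit 3, nat_lit 1, nat_lit 0] (sel [w16, w17, w18] [nat_lit 0, nat_lit 1, nat_lit 2]) [dw (nat_lit 0x01), dw (nat_lit 0x03), dw (nat_lit 0x01)] (dn (nat_lit 16) (nat_lit 0x60c152020ec141034102018312c2508350812e025e010e011b81584345414cc106c306c206c15d035d0235c103020a021403)) (bit (nat_lit 2)) s15 = true := by decide +kernel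
theorem o20 (M : PM G Ω 416 H14.StG416.nets) (hN : Nat.card G = 251596800) : Orb M ⊤ [nat_lit 3, nat_lit 1, nat_lit 0] (nat_lit 2) s15 :=
  (Orb.ext le_top (orb_bit ⊤ [nat_lit 3, nat_lit 1, nat_lit 0] (b := (nat_lit 2)) rfl) k19)
noncomputable def s21 : Nat := (nat_lit 0x200000000000000000000000000000000000000000000400000000000000000000000000000010)
theorem k22 : orbChk (nat_lit 416) H14.StG416.nets F [nat_lit 2, nat_lit 3, nat_lit 1, nat_lit 0] (sel [w18] [nat_lit 0]) [] (dn (nat_lit 16) (nat_lit 0x20810101)) (bit (nat_lit 4)) s21 = true := by decide +kernel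
theorem o23 (M : PM G Ω 416 H14.StG416.nets) (hN : Nat.card G = 251596800) : Orb M ⊤ [nat_lit 2, nat_lit 3, nat_lit 1, nat_lit 0] (nat_lit 4) s21 :=
  (Orb.ext le_top (orb_bit ⊤ [nat_lit 2, nat_lit 3, nat_lit 1, nat_lit 0] (b := (nat_lit 4)) rfl) k22)
noncomputable def c24 : Chn := [((nat_lit 0), (full (nat_lit 416))), ((nat_lit 1), s6), ((nat_lit 3), s11), ((nat_lit 2), s15), ((nat_lit 4), s21)]
theorem k25 : Nat.ble 251596800 (cval (nat_lit 416) c24) = true := by decide +kernel
theorem e26 (M : PM G Ω 416 H14.StG416.nets) (hN : Nat.card G = 251596800) : EC M ⊤ [] c24 :=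
  ec_top (c := c24) ⟨(o5 M hN), ⟨(o10 M hN), ⟨(o14 M hN), ⟨(o20 M hN), ⟨(o23 M hN), trivial⟩⟩⟩⟩⟩ hN k25
noncomputable def bs0 : List Nat := [nat_lit 0, nat_lit 1, nat_lit 3, nat_lit 2, nat_lit 4]
theorem base0 (M : PM G Ω 416 H14.StG416.nets) (hN : Nat.card G = 251596800) : IsBase M bs0 :=
  base_of_ec (e26 M hN) (by decide +kernel)
noncomputable def s27 : Nat := (nat_lit 0xd3f79bdedffdef2e3edeeffd9fdbf3ffb7fff7ffe7651daef8f4bdff7df7ffbff5fb93a3ee7ffdc9beddfe379ff7fdfab9e7d5ec)
theorem k28 : orbChk (nat_lit 416) H14.StG416.nets F [nat_lit 0] (sel [w2, w7, w8, w12, w16, w17, w18] [nat_lit 0, nat_lit 1, nat_lit 2, nat_lit 3, nat_lit 4, nat_lit 5, nat_lit 6]) [dw (nat_lit 0x01), dw (nat_lit 0x03), dw (nat_lit 0x05), dw (nat_lit 0x07), dw (nat_lit 0x09), dw (nat_lit 0x0b), dw (nat_lit 0x03), dw (nat_lit 0x05)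
, dw (nat_lit 0x09), dw (nat_lit 0x03)] (dn (nat_lit 16) (nat_lit 0x334532062803664427060e41618417070e0652843484)) (bit (nat_lit 2)) s27 = true := by decide +kernel
theorem o29 (M : PM G Ω 416 H14.StG416.nets) (hN : Nat.card G = 251596800) : Orb M ⊤ [nat_lit 0] (nat_lit 2) s27 :=
  (Orb.ext le_top (orb_bit ⊤ [nat_lit 0] (b := (nat_lit 2)) rfl) k28)

end L.KhG416
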