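import Cfsg.Agent.H14.EN2
import Cfsg.Agent.H15.StdG24
import Cfsg.Agent.H15.StdJ2
import Cfsg.Agent.H14.KhG416

/-! Generated certificate (toolsL/cg.hpp). -/
set_option autoImplicit false
set_option maxRecDepth 200000
set_option Elab.async false
set_option linter.unusedVariables false
set_option linter.unusedSectionVars false

namespace L.ExG24
open H14 L.KhG416T L.KhG416
variable {G Ω : Type*} [Group G] [Finite G] [MulAction G Ω]

noncomputable def w0 : Word := [nat_lit 0]
noncomputable def w1 : Word := [nat_lit 2]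
noncomputable def w2 : Word := [nat_lit 4]
noncomputable def w3 : Word := [nat_lit 6]
noncomputable def w4 : Word := [nat_lit 8]
noncomputable def w5 : Word := [nat_lit 10]
noncomputable def w6 : Word := [nat_lit 14, nat_lit 22, nat_lit 16, nat_lit 10, nat_lit 19, nat_lit 14, nat_lit 4, nat_lit 8]
noncomputable def w7 : Word := [nat_lit 4, nat_lit 6, nat_lit 14, nat_lit 2, nat_lit 0, nat_lit 15, nat_lit 15, nat_lit 15]
noncomputable def w8 : Word := [nat_lit 4, nat_lit 6, nat_lit 14, nat_lit 2, nat_lit 16, nat_lit 15, nat_lit 22]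
noncomputable def w9 : Word := [nat_lit 16, nat_lit 22, nat_lit 12, nat_lit 12, nat_lit 2, nat_lit 18, nat_lit 2]
noncomputable def w10 : Word := [nat_lit 4, nat_lit 13, nat_lit 2, nat_lit 0, nat_lit 15, nat_lit 12, nat_lit 14]
noncomputable def w11 : Word := [nat_lit 2, nat_lit 12, nat_lit 4, nat_lit 0, nat_lit 13, nat_lit 2]
noncomputable def gys : List Word := [w0, w1, w2, w3, w4, w5, w6, w7, w8, w9, w10, w11]
noncomputable def v12 : List Word := [dw (nat_lit 0x09), dw (nat_lit 0x01), dw (nat_lit 0x03), dw (nat_lit 0x0d), dw (nat_lit 0x05), dw (nat_lit 0x07), dw (nat_lit 0x1601090b0f0f0b140f0f1715131517), dw (nat_lit 0x010b050115110b0f120d1815)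
, dw (nat_lit 0x120109100c100b13130d1617161315), dw (nat_lit 0x03090c180d0b11130d1415131518), dw (nat_lit 0x1407030113100b0f0f15), dw (nat_lit 0x030f030b140c100d131517)]
theorem k13 : relK F bs0 (memRels StG416.ws0 gys v12) = true := by decide +kernel
theorem ghy (M : PM G Ω 416 H14.StG416.nets) (hN : Nat.card G = 251596800) : (sub M.gen gys) ≤ (sub M.gen StG416.ws0) :=
  (sub_le_of_memRels (rels_base (base0 M hN) k13))
noncomputable def v14 : List Word := [[], [], [], [], [], [], [], []
, [], [], [], [], [], [], [], []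
, [], [], [], [], [], [], [], []
, [], [], [], [], [], [], [], []
, [], [], [], [], [], [], [], []
, [], [], [], [], [], [], [], []
, [], [], [], [], [], [], [], []
, [], [], [], [], [], [], [], []
, [], [], [], [], [], [], [], []
, [], [], [], [], [], [], [], []
, [], [], [], [], [], [], [], []
, [], [], [], [], [], [], [], []
, [], [], [], [], [], [], [], []
, [], [], [], [], [], [], [], []
, [], [], [], [], [], [], [], []
, [], [], [], [], [], [], [], []
, [], [], [], [], [], [], [], []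
, [], [], [], [], [], [], [], []
, [], [], [], [], [], [], [], []
, [], [], [], [], [], [], [], []
, [], [], [], [], [], [], [], []
, [], [], [], [], [], [], [], []
, [], [], [], [], [], [], [], []
, [], [], [], [], [], [], [], []
, [], [], [], [], [], [], [], []
, [], [], [], [], [], [], [], []
, []]
theorem k15 : relK F bs0 (qR gys [] H15.StdG24.rels v14) = true := by decide +kernel
noncomputable def v16 : Prs := [(dw (nat_lit 0x03), []),
 (dw (nat_lit 0x07), []),
 (dw (nat_lit 0x0b), []),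
 (dw (nat_lit 0x05), []),
 (dw (nat_lit 0x09), []),
 (dw (nat_lit 0x0e0b0701031517), []),
 (dw (nat_lit 0x01), []),
 (dw (nat_lit 0x0103010d070107010705181014), []),
 (dw (nat_lit 0x010b070b01070107181117), []),
 (dw (nat_lit 0x14170b070107010705101007), []),
 (dw (nat_lit 0x051001070107030105140f0e), []),
 (dw (nat_lit 0x09071007010701070e0f1315), [])]
theorem k17 : relK F bs0 (sR gys [] H15.StdG24.ws0 StG416.ws0 v16) = true := by decide +kernel
theorem gqs (M : PM G Ω 416 H14.StG416.nets) (hN : Nat.card G = 251596800) : ∀ {X : Type*} [Group X], PresF G X H15.StdG24.rels H15.StdG24.ws0 → QS X (sub M.gen StG416.ws0) (sub M.gen []) :=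
  fun hP _ => quot_surj hP ((sub_le _).2 fa_nil) (ghy M hN) le_rfl le_rfl (rels_base (base0 M hN) k15) (rels_base (base0 M hN) k17) (by decide +kernel)
noncomputable def w18 : Word := [nat_lit 12]
noncomputable def w19 : Word := [nat_lit 14]
noncomputable def w20 : Word := [nat_lit 16]
noncomputable def w21 : Word := [nat_lit 18]
noncomputable def w22 : Word := [nat_lit 20]
noncomputable def w23 : Word := [nat_lit 22]
noncomputable def tss : List Word := [w3, w18, w19, w20, w21, w22, w23]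
theorem tss_le (M : PM G Ω 416 H14.StG416.nets) (hN : Nat.card G = 251596800) : sub M.gen tss ≤ st M ⊤ [nat_lit 0] :=
  sub_le_st' (F := F) (by decide +kernel)
noncomputable def s24 : Nat := (nat_lit 0xd3f79bdedffdef2e3edeeffd9fdbf3ffb7fff7ffe7651daef8f4bdff7df7ffbff5fb93a3ee7ffdc9beddfe379ff7fdfab9e7d5ec)
theorem k25 : orbChk (nat_lit 416) H14.StG416.nets F [] (sel (w1 :: tss) [nat_lit 0, nat_lit 1, nat_lit 2]) [dw (nat_lit 0x01), dw (nat_lit 0x03), dw (nat_lit 0x05), dw (nat_lit 0x01), dw (nat_lit 0x03), dw (nat_lit 0x05), dw (nat_lit 0x01), dw (nat_lit 0x05)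
, dw (nat_lit 0x03), dw (nat_lit 0x01), dw (nat_lit 0x05), dw (nat_lit 0x03), dw (nat_lit 0x05), dw (nat_lit 0x01), dw (nat_lit 0x03)] (dn (nat_lit 16) (nat_lit 0x61435f0360434d4367c2498367814dc161c1338306434743448307c34403530344c35783)) (bit (nat_lit 0)) (full (nat_lit 416)) = true := by decide +kernel
theorem o26 (M : PM G Ω 416 H14.StG416.nets) (hN : Nat.card G = 251596800) : Orb M (sub M.gen (w1 :: tss)) [] (nat_lit 0) (full (nat_lit 416)) :=
  (Orb.ext le_rfl (orb_bit (sub M.gen (w1 :: tss)) [] (b := (nat_lit 0)) rfl) k25)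
noncomputable def s27 : Nat := (nat_lit 0xfffffffffffffffffffffffffffffffffffffffffffffffffffffffffffffffffffffffffffffffffffffffffffffffffffffffe)
theorem k28 : orbChk (nat_lit 416) H14.StG416.nets F [] (sel (w0 :: tss) [nat_lit 0, nat_lit 1, nat_lit 2]) [dw (nat_lit 0x01), dw (nat_lit 0x05), dw (nat_lit 0x0606), dw (nat_lit 0x01), dw (nat_lit 0x03), dw (nat_lit 0x05), dw (nat_lit 0x01), dw (nat_lit 0x05)
, dw (nat_lit 0x03), dw (nat_lit 0x05), dw (nat_lit 0x01), dw (nat_lit 0x05), dw (nat_lit 0x03), dw (nat_lit 0x05), dw (nat_lit 0x01), dw (nat_lit 0x05)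
] (dn (nat_lit 16) (nat_lit 0x5bc22581294217c20782)) (bit (nat_lit 0)) (full (nat_lit 416)) = true := by decide +kernel
theorem o29 (M : PM G Ω 416 H14.StG416.nets) (hN : Nat.card G = 251596800) : Orb M (sub M.gen (w0 :: tss)) [] (nat_lit 0) (full (nat_lit 416)) :=
  (Orb.ext le_rfl (orb_bit (sub M.gen (w0 :: tss)) [] (b := (nat_lit 0)) rfl) k28)
theorem tcv (M : PM G Ω 416 H14.StG416.nets) (hN : Nat.card G = 251596800) : CvP M [nat_lit 0] (full (nat_lit 416)) [nat_lit 0, nat_lit 1, nat_lit 2] :=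
  (cvp_cons (O'' := (full (nat_lit 416))) (orb_bit ⊤ [nat_lit 0] (b := (nat_lit 0)) rfl) (cvp_cons (O'' := s27) (L.KhG416.o10 M hN) (cvp_cons (O'' := s24) (L.KhG416.o29 M hN) cvp_nil (by decide +kernel)) (by decide +kernel)) (by decide +kernel))
theorem tcoatom (M : PM G Ω 416 H14.StG416.nets) (hN : Nat.card G = 251596800) : IsCoatom ((st M ⊤ [nat_lit 0]).subgroupOf (st M ⊤ [])) :=
  coatom_st (L.KhG416.e26 M hN).sc.1 (tss_le M hN) (tcv M hN) (fa_cons (gn_of (F := F) (i := (nat_lit 1)) (o29 M hN) (by decide +kernel)) (fa_cons (gn_of (F := F) (i := (nat_lit 2)) (o26 M hN) (by decide +kernel)) fa_nil))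
noncomputable def s30 : Nat := (nat_lit 0x2c086421200210d1c121100260240c0048000800189ae251070b4200820800400a046c5c11800236412201c86008020546182a12)
noncomputable def s31 : Nat := (nat_lit 0x1100102c8a0440000980030800020251000b000820101200820084838004004050a9020084800092080820100040000b0040008)
noncomputable def s32 : Nat := (nat_lit 0x20801100002000001040008000000200010240000080080000401040000000000000200c000000148200900010008201044)
noncomputable def s33 : Nat := (nat_lit 0x200000000000000000000000000000000000000000000400000000000000000000000000000010)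
noncomputable def c34 : Chn := [((nat_lit 1), s30), ((nat_lit 3), s31), ((nat_lit 2), s32), ((nat_lit 4), s33)]
noncomputable def d35 : List OD := [⟨[nat_lit 0, nat_lit 1], [dw (nat_lit 0x03), dw (nat_lit 0x01), dw (nat_lit 0x03), dw (nat_lit 0x03), dw (nat_lit 0x01), dw (nat_lit 0x03), dw (nat_lit 0x0303), dw (nat_lit 0x01)
, dw (nat_lit 0x03), dw (nat_lit 0x03), dw (nat_lit 0x01)], (dn (nat_lit 16) (nat_lit 0x6002628259c24ac25782034263822382238129823f023f012fc223423d0222c20a420a410cc234c126c2080208011dc1228222813b823cc23cc13dc2208211c224821a4217820f823ec264c21942154226421202064257c2))⟩,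
 ⟨[nat_lit 2, nat_lit 3], [dw (nat_lit 0x01), dw (nat_lit 0x03), dw (nat_lit 0x01), dw (nat_lit 0x01), dw (nat_lit 0x03)], (dn (nat_lit 16) (nat_lit 0x5b82288223021cc1124126824fc1470247010c8226013a0215c26502650143413e4155020482048132c25ec254c139415f825f811ec1480248015d425d4123c15a825a8107c207c110022f024b4213c23fc23fc15dc25dc16602514117413541))⟩,
 ⟨[nat_lit 4, nat_lit 5], [dw (nat_lit 0x01), dw (nat_lit 0x03), dw (nat_lit 0x01)], (dn (nat_lit 16) (nat_lit 0x52023e821382410250813f423f410ec11bc10182054212c22e025e025e011b821b8145414cc106c206c15d0235c103020a02))⟩,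
 ⟨[nat_lit 6], [], (dn (nat_lit 16) (nat_lit 0x20810101))⟩]
theorem k36 : ocChk (nat_lit 416) H14.StG416.nets F tss c34 d35 [] = true := by decide +kernel
theorem o37 (M : PM G Ω 416 H14.StG416.nets) (hN : Nat.card G = 251596800) : OC M (sub M.gen tss) [] c34 :=
  oc_of le_rfl k36
theorem hs_low (M : PM G Ω 416 H14.StG416.nets) (hN : Nat.card G = 251596800) : 604800 ≤ Nat.card (sub M.gen tss) :=
  (OC.le_card' (N := 604800) (o37 M hN) (by decide +kernel))
theorem hs_eq (M : PM G Ω 416 H14.StG416.nets) (hN : Nat.card G = 251596800) : st M ⊤ [nat_lit 0] = sub M.gen tss ∧ Nat.card (sub M.gen tss) = 604800 :=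
  st_eq (L.KhG416.e26 M hN).sc.2 (tss_le M hN) (hs_low M hN) (by decide +kernel)
noncomputable def w38 : Word := [nat_lit 21, nat_lit 18, nat_lit 12, nat_lit 16, nat_lit 14, nat_lit 18, nat_lit 12]
noncomputable def w39 : Word := [nat_lit 13, nat_lit 19, nat_lit 16, nat_lit 18, nat_lit 6, nat_lit 12]
noncomputable def w40 : Word := [nat_lit 18, nat_lit 13, nat_lit 20, nat_lit 12, nat_lit 20, nat_lit 20]
noncomputable def w41 : Word := [nat_lit 23, nat_lit 15, nat_lit 13, nat_lit 22, nat_lit 12, nat_lit 19, nat_lit 15]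
noncomputable def w42 : Word := [nat_lit 13, nat_lit 18, nat_lit 21, nat_lit 12, nat_lit 17, nat_lit 14]
noncomputable def w43 : Word := [nat_lit 15, nat_lit 17, nat_lit 13, nat_lit 13, nat_lit 21, nat_lit 13]
noncomputable def w44 : Word := [nat_lit 19, nat_lit 20, nat_lit 12, nat_lit 15, nat_lit 4, nat_lit 20, nat_lit 4]
noncomputable def w45 : Word := [nat_lit 12, nat_lit 19, nat_lit 12, nat_lit 14, nat_lit 6, nat_lit 16]
noncomputable def w46 : Word := [nat_lit 14, nat_lit 17, nat_lit 12, nat_lit 15, nat_lit 20, nat_lit 16]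
noncomputable def w47 : Word := [nat_lit 6, nat_lit 13, nat_lit 6, nat_lit 17, nat_lit 13, nat_lit 23, nat_lit 14]
noncomputable def w48 : Word := [nat_lit 6, nat_lit 15, nat_lit 15, nat_lit 13, nat_lit 15, nat_lit 13]
noncomputable def w49 : Word := [nat_lit 18, nat_lit 12, nat_lit 6, nat_lit 20, nat_lit 15, nat_lit 23]
noncomputable def jys : List Word := [w38, w39, w40, w41, w42, w43, w44, w45, w46, w47, w48, w49]
noncomputable def v50 : List Word := [dw (nat_lit 0x030507030508010c090d), dw (nat_lit 0x0308040701090b090e), dw (nat_lit 0x040b03030b0b010b0b0d), dw (nat_lit 0x030a01030a07090c090b09), dw (nat_lit 0x0409030309050b), dw (nat_lit 0x030b03030507050c0e), dw (nat_lit 0x040601030d050b09), dw (nat_lit 0x0b03030508010a0e)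
, dw (nat_lit 0x080503060a010d0a0b09), dw (nat_lit 0x040d030308060d090e), dw (nat_lit 0x040604060601), dw (nat_lit 0x0e050308050a0c090e)]
theorem k51 : relK F bs0 (memRels tss jys v50) = true := by decide +kernel
theorem jhy (M : PM G Ω 416 H14.StG416.nets) (hN : Nat.card G = 251596800) : (sub M.gen jys) ≤ (sub M.gen tss) :=
  (sub_le_of_memRels (rels_base (base0 M hN) k51))
noncomputable def v52 : List Word := [[], [], [], [], [], [], [], []
, [], [], [], [], [], [], [], []
, [], [], [], [], [], [], [], []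
, [], [], [], [], [], [], [], []
, [], [], [], [], [], [], [], []
, [], [], [], [], [], [], [], []
, [], [], [], [], [], [], [], []
, [], [], [], [], []]
theorem k53 : relK F bs0 (qR jys [] H15.StdJ2.rels v52) = true := by decide +kernel
noncomputable def v54 : Prs := [(dw (nat_lit 0x0a01130209), []),
 (dw (nat_lit 0x060411010712), []),
 (dw (nat_lit 0x030c0e090b13), []),
 (dw (nat_lit 0x010603091013), []),
 (dw (nat_lit 0x06021303110e), []),
 (dw (nat_lit 0x1105010a0e), []),
 (dw (nat_lit 0x0a0b04060d), [])]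
theorem k55 : relK F bs0 (sR jys [] H15.StdJ2.ws0 tss v54) = true := by decide +kernel
theorem jqs (M : PM G Ω 416 H14.StG416.nets) (hN : Nat.card G = 251596800) : ∀ {X : Type*} [Group X], PresF G X H15.StdJ2.rels H15.StdJ2.ws0 → QS X (sub M.gen tss) (sub M.gen []) :=
  fun hP _ => quot_surj hP ((sub_le _).2 fa_nil) (jhy M hN) le_rfl le_rfl (rels_base (base0 M hN) k53) (rels_base (base0 M hN) k55) (by decide +kernel)
noncomputable def s56 : Nat := (nat_lit 0x32609d698cc0b08204686c11f82f03f940ec08b0701110650340d303935faa365e19383645a2c402adca22616a144b81083c5c0)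
noncomputable def w57 : Word := [nat_lit 21, nat_lit 16]
noncomputable def w58 : Word := [nat_lit 13, nat_lit 20, nat_lit 17]
theorem k59 : orbChk (nat_lit 416) H14.StG416.nets F [nat_lit 2, nat_lit 0] (sel [w23, w57, w58] [nat_lit 0, nat_lit 1, nat_lit 2]) [dw (nat_lit 0x01), dw (nat_lit 0x01), dw (nat_lit 0x03), dw (nat_lit 0x01), dw (nat_lit 0x01), dw (nat_lit 0x05), dw (nat_lit 0x01), dw (nat_lit 0x03)
, dw (nat_lit 0x01)] (dn (nat_lit 16) (nat_lit 0x5241468237014dc32b43090235424e034e011e834e434e414bc30e434f0316422a432a42604320430a8158c33783400214c11ac21ac14e8127832782660366021f431f41254128016082470347015d812f422f412b02200361036483648222431cc216c22f0232c35443654365420dc304432c833e831483328366430b832bc323c326035f03620322034c4326831d832c0312432b8321c30c034ec34b833483)) (bit (nat_lit 6)) s56 = true := by decide +kernel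
theorem o60 (M : PM G Ω 416 H14.StG416.nets) (hN : Nat.card G = 251596800) : Orb M ⊤ [nat_lit 2, nat_lit 0] (nat_lit 6) s56 :=
  (Orb.ext le_top (orb_bit ⊤ [nat_lit 2, nat_lit 0] (b := (nat_lit 6)) rfl) k59)
noncomputable def s61 : Nat := (nat_lit 0x400100000000200800000000000000000000004000000000400000000400800000000200002000020000000002)
noncomputable def w62 : Word := [nat_lit 13, nat_lit 13, nat_lit 22, nat_lit 13, nat_lit 21]
noncomputable def w63 : Word := [nat_lit 12, nat_lit 6, nat_lit 19, nat_lit 15, nat_lit 6, nat_lit 13]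
theorem k64 : orbChk (nat_lit 416) H14.StG416.nets F [nat_lit 6, nat_lit 2, nat_lit 0] (sel [w62, w63] [nat_lit 0, nat_lit 1]) [] (dn (nat_lit 16) (nat_lit 0x33810a412981144220821dc21dc10f420f4100420041)) (bit (nat_lit 1)) s61 = true := by decide +kernel
theorem o65 (M : PM G Ω 416 H14.StG416.nets) (hN : Nat.card G = 251596800) : Orb M ⊤ [nat_lit 6, nat_lit 2, nat_lit 0] (nat_lit 1) s61 :=
  (Orb.ext le_top (orb_bit ⊤ [nat_lit 6, nat_lit 2, nat_lit 0] (b := (nat_lit 1)) rfl) k64)
noncomputable def c66 : Chn := [((nat_lit 0), (full (nat_lit 416))), ((nat_lit 2), L.KhG416.s27), ((nat_lit 6), s56), ((nat_lit 1), s61)]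
theorem k67 : Nat.ble 251596800 (cval (nat_lit 416) c66) = true := by decide +kernel
theorem e68 (M : PM G Ω 416 H14.StG416.nets) (hN : Nat.card G = 251596800) : EC M ⊤ [] c66 :=
  ec_top (c := c66) ⟨(L.KhG416.o5 M hN), ⟨(L.KhG416.o29 M hN), ⟨(o60 M hN), ⟨(o65 M hN), trivial⟩⟩⟩⟩ hN k67
noncomputable def w69 : Word := [nat_lit 12, nat_lit 15, nat_lit 6, nat_lit 13]
noncomputable def w70 : Word := [nat_lit 13, nat_lit 15, nat_lit 6, nat_lit 12]
noncomputable def bss : List Word := [w57, w23, w69, w70, w58]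
theorem bss_le (M : PM G Ω 416 H14.StG416.nets) (hN : Nat.card G = 251596800) : sub M.gen bss ≤ st M ⊤ [nat_lit 2, nat_lit 0] :=
  sub_le_st' (F := F) (by decide +kernel)
noncomputable def s71 : Nat := (nat_lit 0x8460000040008011800000040000007200044002820409008000004008000000002010001000000010000000200200008)
theorem k72 : orbChk (nat_lit 416) H14.StG416.nets F [nat_lit 2, nat_lit 0] (sel bss [nat_lit 1, nat_lit 4]) [dw (nat_lit 0x01), dw (nat_lit 0x01)] (dn (nat_lit 16) (nat_lit 0x5202394230c25882084233c2424200c250c24282428137423582330233010542420242013d823d814982498160c260c11c021c0118025f825102)) (bit (nat_lit 324)) s71 = true := by decide +kernel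
theorem o73 (M : PM G Ω 416 H14.StG416.nets) (hN : Nat.card G = 251596800) : Orb M ⊤ [nat_lit 2, nat_lit 0] (nat_lit 324) s71 :=
  (Orb.ext le_top (orb_bit ⊤ [nat_lit 2, nat_lit 0] (b := (nat_lit 324)) rfl) k72)
noncomputable def w74 : Word := [nat_lit 12, nat_lit 14]
theorem k75 : orbChk (nat_lit 416) H14.StG416.nets F [nat_lit 0] (sel (w74 :: bss) [nat_lit 2, nat_lit 0, nat_lit 1]) [dw (nat_lit 0x03), dw (nat_lit 0x01), dw (nat_lit 0x03), dw (nat_lit 0x01), dw (nat_lit 0x05), dw (nat_lit 0x03), dw (nat_lit 0x01), dw (nat_lit 0x05)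
, dw (nat_lit 0x01), dw (nat_lit 0x03), dw (nat_lit 0x01), dw (nat_lit 0x03), dw (nat_lit 0x01), dw (nat_lit 0x05)] (dn (nat_lit 16) (nat_lit 0x54822e820fc228c200c24e413fc239c21f822c42)) (bit (nat_lit 2)) L.KhG416.s27 = true := by decide +kernel
theorem o76 (M : PM G Ω 416 H14.StG416.nets) (hN : Nat.card G = 251596800) : Orb M (sub M.gen (w74 :: bss)) [nat_lit 0] (nat_lit 2) L.KhG416.s27 :=
  (Orb.ext le_rfl (orb_bit (sub M.gen (w74 :: bss)) [nat_lit 0] (b := (nat_lit 2)) rfl) k75)
noncomputable def s77 : Nat := (nat_lit 0x110000000060000c0020000019000020000004002004800800004344020000000a000000040008100010008000180080000000)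
theorem k78 : orbChk (nat_lit 416) H14.StG416.nets F [nat_lit 2, nat_lit 0] (sel bss [nat_lit 1, nat_lit 4]) [dw (nat_lit 0x01), dw (nat_lit 0x01)] (dn (nat_lit 16) (nat_lit 0x24c20fc23182318130416501300230013a821c821c814742474136c1130213012f8164023d42170217014c02534253414cc207c256822c422e82)) (bit (nat_lit 186)) s77 = true := by decide +kernel
theorem o79 (M : PM G Ω 416 H14.StG416.nets) (hN : Nat.card G = 251596800) : Orb M ⊤ [nat_lit 2, nat_lit 0] (nat_lit 186) s77 :=
  (Orb.ext le_top (orb_bit ⊤ [nat_lit 2, nat_lit 0] (b := (nat_lit 186)) rfl) k78)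
noncomputable def s80 : Nat := (nat_lit 0x110008460060040c0821180019004020000724006404a82840904b44020400800a000002050009100010018000180280200008)
noncomputable def w81 : Word := [nat_lit 12, nat_lit 12]
theorem k82 : orbChk (nat_lit 416) H14.StG416.nets F [nat_lit 0] (sel (w81 :: bss) [nat_lit 2, nat_lit 0, nat_lit 1]) [dw (nat_lit 0x03), dw (nat_lit 0x01), dw (nat_lit 0x03), dw (nat_lit 0x05), dw (nat_lit 0x01), dw (nat_lit 0x03), dw (nat_lit 0x01), dw (nat_lit 0x03)
, dw (nat_lit 0x01), dw (nat_lit 0x05), dw (nat_lit 0x01), dw (nat_lit 0x03), dw (nat_lit 0x01), dw (nat_lit 0x05), dw (nat_lit 0x03), dw (nat_lit 0x01)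
, dw (nat_lit 0x01)] (dn (nat_lit 16) (nat_lit 0x41c151820c012a832a82494101c1644364421ac31ac22683400248c23c83224253c251022ac2418255820a82548323c365434f031983414340c33102490339430d431c83)) (bit (nat_lit 2)) L.KhG416.s27 = true := by decide +kernel
theorem o83 (M : PM G Ω 416 H14.StG416.nets) (hN : Nat.card G = 251596800) : Orb M (sub M.gen (w81 :: bss)) [nat_lit 0] (nat_lit 2) L.KhG416.s27 :=
  (Orb.ext le_rfl (orb_bit (sub M.gen (w81 :: bss)) [nat_lit 0] (b := (nat_lit 2)) rfl) k82)
noncomputable def s84 : Nat := (nat_lit 0x33709dedecc6b0c2c4ea7d91f9bf07fb40ec7af076515ae78749d7b7d37fea3e5eb9383665f2c493adcb22796a15cba90a3c5c8)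
noncomputable def w85 : Word := [nat_lit 6, nat_lit 15, nat_lit 17]
theorem k86 : orbChk (nat_lit 416) H14.StG416.nets F [nat_lit 0] (sel (w85 :: bss) [nat_lit 2, nat_lit 0, nat_lit 5]) [dw (nat_lit 0x03), dw (nat_lit 0x01), dw (nat_lit 0x01), dw (nat_lit 0x03), dw (nat_lit 0x01), dw (nat_lit 0x01), dw (nat_lit 0x05), dw (nat_lit 0x01)
, dw (nat_lit 0x03), dw (nat_lit 0x01), dw (nat_lit 0x05), dw (nat_lit 0x01), dw (nat_lit 0x03), dw (nat_lit 0x01), dw (nat_lit 0x01)] (dn (nat_lit 16) (nat_lit 0x3d4246822e83428303c2498318025e0338c241835c0206c34fc347034b432c4304035843)) (bit (nat_lit 2)) L.KhG416.s27 = true := by decide +kernel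
theorem o87 (M : PM G Ω 416 H14.StG416.nets) (hN : Nat.card G = 251596800) : Orb M (sub M.gen (w85 :: bss)) [nat_lit 0] (nat_lit 2) L.KhG416.s27 :=
  (Orb.ext le_rfl (orb_bit (sub M.gen (w85 :: bss)) [nat_lit 0] (b := (nat_lit 2)) rfl) k86)
noncomputable def s88 : Nat := (nat_lit 0xc0c0820001310422129048048040038003f13010e00008008080008400c0011c101000208820d180840148100956a14028041000)
theorem k89 : orbChk (nat_lit 416) H14.StG416.nets F [nat_lit 2, nat_lit 0] (sel bss [nat_lit 1, nat_lit 4]) [dw (nat_lit 0x01), dw (nat_lit 0x01), dw (nat_lit 0x03), dw (nat_lit 0x01), dw (nat_lit 0x01)] (dn (nat_lit 16) (nat_lit 0x1d4167826781460252c25c0265c21b824a422a0228c228c1110135c214025381464141024d8145c249c249c10c820bc2450245011fc21fc15d020b415e025e01564256410ec13f823f813fc23fc12502250109812dc22dc116810302030162426241308230813ac244022d822d811b0217c217c10e020e0150821bc24fc206c258425a8213823f42)) (bit (nat_lit 18)) s88 = true := by decide +kernel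
theorem o90 (M : PM G Ω 416 H14.StG416.nets) (hN : Nat.card G = 251596800) : Orb M ⊤ [nat_lit 2, nat_lit 0] (nat_lit 18) s88 :=
  (Orb.ext le_top (orb_bit ⊤ [nat_lit 2, nat_lit 0] (b := (nat_lit 18)) rfl) k89)
noncomputable def s91 : Nat := (nat_lit 0xc3f78bdedffd6f2e3edeefdd9fdbf3ffb7fff7bfe7651daef8f49dff7df7ffbff5fb93a3ee7ffdc9beddfa379ff7fdfab8a7d5c8)
theorem k92 : orbChk (nat_lit 416) H14.StG416.nets F [nat_lit 0] (sel (w18 :: bss) [nat_lit 0, nat_lit 2, nat_lit 1]) [dw (nat_lit 0x01), dw (nat_lit 0x01), dw (nat_lit 0x03), dw (nat_lit 0x01), dw (nat_lit 0x03), dw (nat_lit 0x01), dw (nat_lit 0x01), dw (nat_lit 0x03)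
, dw (nat_lit 0x01), dw (nat_lit 0x03), dw (nat_lit 0x01), dw (nat_lit 0x03), dw (nat_lit 0x01), dw (nat_lit 0x01), dw (nat_lit 0x03), dw (nat_lit 0x01)
] (dn (nat_lit 16) (nat_lit 0x158160c316c34ec362030383)) (bit (nat_lit 2)) L.KhG416.s27 = true := by decide +kernel
theorem o93 (M : PM G Ω 416 H14.StG416.nets) (hN : Nat.card G = 251596800) : Orb M (sub M.gen (w18 :: bss)) [nat_lit 0] (nat_lit 2) L.KhG416.s27 :=
  (Orb.ext le_rfl (orb_bit (sub M.gen (w18 :: bss)) [nat_lit 0] (b := (nat_lit 2)) rfl) k92)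
noncomputable def s94 : Nat := (nat_lit 0x10001000000080000000002000000000000000400000000000002000000000000000000000000000000004000000000001400020)
theorem k95 : orbChk (nat_lit 416) H14.StG416.nets F [nat_lit 2, nat_lit 0] (sel bss [nat_lit 1, nat_lit 4]) [] (dn (nat_lit 16) (nat_lit 0x1282334241815bc263020141670267010582)) (bit (nat_lit 22)) s94 = true := by decide +kernel
theorem o96 (M : PM G Ω 416 H14.StG416.nets) (hN : Nat.card G = 251596800) : Orb M ⊤ [nat_lit 2, nat_lit 0] (nat_lit 22) s94 :=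
  (Orb.ext le_top (orb_bit ⊤ [nat_lit 2, nat_lit 0] (b := (nat_lit 22)) rfl) k95)
noncomputable def s97 : Nat := (nat_lit 0xd3f79bdedffdef2e3edeeffd9fdbf3ffb7fff7ffe7651daef8f4bdff7df7ffbff5fb93a3ee7ffdc9beddfe379ff7fdfab9e7d5e8)
theorem k98 : orbChk (nat_lit 416) H14.StG416.nets F [nat_lit 0] (sel (w3 :: bss) [nat_lit 0, nat_lit 2, nat_lit 5]) [dw (nat_lit 0x01), dw (nat_lit 0x05), dw (nat_lit 0x01), dw (nat_lit 0x03), dw (nat_lit 0x03), dw (nat_lit 0x05), dw (nat_lit 0x01), dw (nat_lit 0x03)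
, dw (nat_lit 0x03), dw (nat_lit 0x05), dw (nat_lit 0x01), dw (nat_lit 0x03), dw (nat_lit 0x03), dw (nat_lit 0x05), dw (nat_lit 0x01), dw (nat_lit 0x03)
, dw (nat_lit 0x03)] (dn (nat_lit 16) (nat_lit 0x4cc12c815b4207c30fc15f835f8156c353421581330333015e835e8150c237422941404331832c4317031d032d031fc310430ac32e833a8362c35e43470314c32a832a433c831c83568313032543414320034c4353c311431ac327c35203460338c33d830d434a43274344c3)) (bit (nat_lit 2)) L.KhG416.s27 = true := by decide +kernel
theorem o99 (M : PM G Ω 416 H14.StG416.nets) (hN : Nat.card G = 251596800) : Orb M (sub M.gen (w3 :: bss)) [nat_lit 0] (nat_lit 2) L.KhG416.s27 :=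
  (Orb.ext le_rfl (orb_bit (sub M.gen (w3 :: bss)) [nat_lit 0] (b := (nat_lit 2)) rfl) k98)
theorem bcv (M : PM G Ω 416 H14.StG416.nets) (hN : Nat.card G = 251596800) : CvP M [nat_lit 2, nat_lit 0] L.KhG416.s27 [nat_lit 2, nat_lit 22, nat_lit 18, nat_lit 6, nat_lit 186, nat_lit 324] :=
  (cvp_cons (O'' := L.KhG416.s27) (orb_bit ⊤ [nat_lit 2, nat_lit 0] (b := (nat_lit 2)) rfl) (cvp_cons (O'' := s97) (o96 M hN) (cvp_cons (O'' := s91) (o90 M hN) (cvp_cons (O'' := s84) (o60 M hN) (cvp_cons (O'' := s80) (o79 M hN) (cvp_cons (O'' := s71) (o73 M hN) cvp_nil (by decide +kernel)) (by decide +kernel)) (by decide +kernel)) (by decide +kernel)) (by decide +kernel)) (by decide +kernel))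
theorem bcoatom (M : PM G Ω 416 H14.StG416.nets) (hN : Nat.card G = 251596800) : IsCoatom ((st M ⊤ [nat_lit 2, nat_lit 0]).subgroupOf (st M ⊤ [nat_lit 0])) :=
  coatom_st (e68 M hN).sc.2.1 (bss_le M hN) (bcv M hN) (fa_cons (gn_of (F := F) (i := (nat_lit 22)) (o99 M hN) (by decide +kernel)) (fa_cons (gn_of (F := F) (i := (nat_lit 18)) (o93 M hN) (by decide +kernel)) (fa_cons (gn_of (F := F) (i := (nat_lit 6)) (o87 M hN) (by decide +kernel)) (fa_cons (gn_of (F := F) (i := (nat_lit 186)) (o83 M hN) (by decide +kernel)) (fa_cons (gn_of (F := F) (i := (nat_lit 324)) (o76 M hN) (by decide +kernel)) fa_nil)))))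
noncomputable def s100 : Nat := (nat_lit 0xd2e79adc175dab2e3e46efcd1fdbd3daa7ff47ff65641c8ef0d4b5b745f7bfbbf0f10383e637fdc09e5d7c369ff3fdfa09e3d5e4)
theorem k101 : orbChk (nat_lit 416) H14.StG416.nets F [nat_lit 1, nat_lit 0] (sel [w3, w19, w20] [nat_lit 0, nat_lit 1, nat_lit 2]) [dw (nat_lit 0x01), dw (nat_lit 0x03), dw (nat_lit 0x05), dw (nat_lit 0x01), dw (nat_lit 0x05), dw (nat_lit 0x03), dw (nat_lit 0x01), dw (nat_lit 0x05)
, dw (nat_lit 0x03), dw (nat_lit 0x05), dw (nat_lit 0x03), dw (nat_lit 0x01)] (dn (nat_lit 16) (nat_lit 0x458267023583158361835d0240022d833e030e03)) (bit (nat_lit 2)) s100 = true := by decide +kernel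
theorem o102 (M : PM G Ω 416 H14.StG416.nets) (hN : Nat.card G = 251596800) : Orb M ⊤ [nat_lit 1, nat_lit 0] (nat_lit 2) s100 :=
  (Orb.ext le_top (orb_bit ⊤ [nat_lit 1, nat_lit 0] (b := (nat_lit 2)) rfl) k101)
noncomputable def s103 : Nat := (nat_lit 0x20000001000000104100000200200800000000000800400005004200000800000800401400000000000000006000000002002010)
theorem k104 : orbChk (nat_lit 416) H14.StG416.nets F [nat_lit 2, nat_lit 1, nat_lit 0] (sel [w23, w57] [nat_lit 0, nat_lit 1]) [dw (nat_lit 0x01)] (dn (nat_lit 16) (nat_lit 0x5602578257813602210226c23b825902238236823681034203416002600167424d4206420641208220810102)) (bit (nat_lit 4)) s103 = true := by decide +kernel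
theorem o105 (M : PM G Ω 416 H14.StG416.nets) (hN : Nat.card G = 251596800) : Orb M ⊤ [nat_lit 2, nat_lit 1, nat_lit 0] (nat_lit 4) s103 :=
  (Orb.ext le_top (orb_bit ⊤ [nat_lit 2, nat_lit 1, nat_lit 0] (b := (nat_lit 4)) rfl) k104)
noncomputable def c106 : Chn := [((nat_lit 0), (full (nat_lit 416))), ((nat_lit 1), L.KhG416.s6), ((nat_lit 2), s100), ((nat_lit 4), s103)]
theorem k107 : Nat.ble 251596800 (cval (nat_lit 416) c106) = true := by decide +kernel
theorem e108 (M : PM G Ω 416 H14.StG416.nets) (hN : Nat.card G = 251596800) : EC M ⊤ [] c106 :=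
  ec_top (c := c106) ⟨(L.KhG416.o5 M hN), ⟨(L.KhG416.o10 M hN), ⟨(o102 M hN), ⟨(o105 M hN), trivial⟩⟩⟩⟩ hN k107
noncomputable def ass : List Word := [w3, w19, w20, w21, w22, w23]
theorem ass_le (M : PM G Ω 416 H14.StG416.nets) (hN : Nat.card G = 251596800) : sub M.gen ass ≤ st M ⊤ [nat_lit 1, nat_lit 0] :=
  sub_le_st' (F := F) (by decide +kernel)
noncomputable def s109 : Nat := (nat_lit 0x2400000100000010c100000200200c00000000000802400007004200000800000800401400800002000000c06000020006102010)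
theorem k110 : orbChk (nat_lit 416) H14.StG416.nets F [nat_lit 1, nat_lit 0] (sel ass [nat_lit 1, nat_lit 2]) [dw (nat_lit 0x01), dw (nat_lit 0x03), dw (nat_lit 0x01)] (dn (nat_lit 16) (nat_lit 0x050159013ec1360211812381364206820681064118410a420f422102208156025601578257813b810342034111c211c157c14a824a811dc21dc1)) (bit (nat_lit 413)) s109 = true := by decide +kernel
theorem o111 (M : PM G Ω 416 H14.StG416.nets) (hN : Nat.card G = 251596800) : Orb M ⊤ [nat_lit 1, nat_lit 0] (nat_lit 413) s109 :=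
  (Orb.ext le_top (orb_bit ⊤ [nat_lit 1, nat_lit 0] (b := (nat_lit 413)) rfl) k110)
noncomputable def w112 : Word := [nat_lit 12, nat_lit 16, nat_lit 12]
theorem k113 : orbChk (nat_lit 416) H14.StG416.nets F [nat_lit 0] (sel (w112 :: ass) [nat_lit 1, nat_lit 2, nat_lit 0]) [dw (nat_lit 0x05), dw (nat_lit 0x03), dw (nat_lit 0x0303), dw (nat_lit 0x05), dw (nat_lit 0x03), dw (nat_lit 0x01), dw (nat_lit 0x03), dw (nat_lit 0x01)
, dw (nat_lit 0x03)] (dn (nat_lit 16) (nat_lit 0x078358031181160126c23642364163433802380153010f420f4157c2188234031a410a432e432e422e412cc34f83218321825b035b020643064206411f031f0105030502050166c366c1248324811e034a8315435903638334c359834f43184355432fc34783614342c356033b833bc30803)) (bit (nat_lit 1)) L.KhG416.s6 = true := by decide +kernel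
theorem o114 (M : PM G Ω 416 H14.StG416.nets) (hN : Nat.card G = 251596800) : Orb M (sub M.gen (w112 :: ass)) [nat_lit 0] (nat_lit 1) L.KhG416.s6 :=
  (Orb.ext le_rfl (orb_bit (sub M.gen (w112 :: ass)) [nat_lit 0] (b := (nat_lit 1)) rfl) k113)
noncomputable def s115 : Nat := (nat_lit 0x8086420200210c10021100060040000480008001098a251000b00008200004002042c4811000234412201080008000540080a00)
theorem k116 : orbChk (nat_lit 416) H14.StG416.nets F [nat_lit 1, nat_lit 0] (sel ass [nat_lit 1, nat_lit 2]) [dw (nat_lit 0x01), dw (nat_lit 0x03), dw (nat_lit 0x01), dw (nat_lit 0x01), dw (nat_lit 0x03), dw (nat_lit 0x01)] (dn (nat_lit 16) (nat_lit 0x1f021f013d011942194102426382638163425c425c41178217812e41080202c202c12482248126422fc22fc159c23bc210c25301390120c220c13f015982598164c264c134c234c11902478222c26142)) (bit (nat_lit 209)) s115 = true := by decide +kernel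
theorem o117 (M : PM G Ω 416 H14.StG416.nets) (hN : Nat.card G = 251596800) : Orb M ⊤ [nat_lit 1, nat_lit 0] (nat_lit 209) s115 :=
  (Orb.ext le_top (orb_bit ⊤ [nat_lit 1, nat_lit 0] (b := (nat_lit 209)) rfl) k116)
noncomputable def s118 : Nat := (nat_lit 0x2c086421200210d1c121100260240c0048000800189ae251070b4200820800400a046c5c11800236412201c86008020546182a10)
theorem k119 : orbChk (nat_lit 416) H14.StG416.nets F [nat_lit 0] (sel (w18 :: ass) [nat_lit 0, nat_lit 1, nat_lit 2]) [dw (nat_lit 0x01), dw (nat_lit 0x01), dw (nat_lit 0x05), dw (nat_lit 0x01), dw (nat_lit 0x03), dw (nat_lit 0x01), dw (nat_lit 0x05), dw (nat_lit 0x01)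
, dw (nat_lit 0x05)] (dn (nat_lit 16) (nat_lit 0x1dc30f810cc33382554367431a421a412383360318832cc33f0363824ac1210221013c413dc266813cc220c10f4126c119424c823bc2)) (bit (nat_lit 1)) L.KhG416.s6 = true := by decide +kernel
theorem o120 (M : PM G Ω 416 H14.StG416.nets) (hN : Nat.card G = 251596800) : Orb M (sub M.gen (w18 :: ass)) [nat_lit 0] (nat_lit 1) L.KhG416.s6 :=
  (Orb.ext le_rfl (orb_bit (sub M.gen (w18 :: ass)) [nat_lit 0] (b := (nat_lit 1)) rfl) k119)
theorem acv (M : PM G Ω 416 H14.StG416.nets) (hN : Nat.card G = 251596800) : CvP M [nat_lit 1, nat_lit 0] L.KhG416.s6 [nat_lit 1, nat_lit 209, nat_lit 413] :=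
  (cvp_cons (O'' := L.KhG416.s6) (orb_bit ⊤ [nat_lit 1, nat_lit 0] (b := (nat_lit 1)) rfl) (cvp_cons (O'' := s118) (o117 M hN) (cvp_cons (O'' := s109) (o111 M hN) cvp_nil (by decide +kernel)) (by decide +kernel)) (by decide +kernel))
theorem acoatom (M : PM G Ω 416 H14.StG416.nets) (hN : Nat.card G = 251596800) : IsCoatom ((st M ⊤ [nat_lit 1, nat_lit 0]).subgroupOf (st M ⊤ [nat_lit 0])) :=
  coatom_st (e108 M hN).sc.2.1 (ass_le M hN) (acv M hN) (fa_cons (gn_of (F := F) (i := (nat_lit 209)) (o120 M hN) (by decide +kernel)) (fa_cons (gn_of (F := F) (i := (nat_lit 413)) (o114 M hN) (by decide +kernel)) fa_nil))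
theorem all (M : PM G Ω 416 H14.StG416.nets) (hN : Nat.card G = 251596800) : ∀ i ∈ [nat_lit 1, nat_lit 2], IsCoatom ((st M ⊤ [i, nat_lit 0]).subgroupOf (st M ⊤ [nat_lit 0])) :=
  (fa_cons (acoatom M hN) (fa_cons (bcoatom M hN) fa_nil))

end L.ExG24
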