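import Cfsg.Agent.H14.Enum3
import Cfsg.Agent.H20.Solv

/-! Simplicity of the fusion system of a group with a self-normalising Sylow subgroup. -/

set_option autoImplicit false

namespace H14
open Cfsg MulAction
open scoped Pointwise

theorem fus_simple {G : Type*} [Group G] [Finite G] {p : ℕ} [Fact p.Prime] (S : Sylow p G)
    (h1 : (S : Subgroup G) ≠ ⊥) (hN : Subgroup.normalizer ((S : Subgroup G) : Set G) ≤ S)
    (hsc : ∀ T : Subgroup G, T ≤ S → T ≠ ⊥ →
      (∀ x ∈ T, ∀ g : G, g * x * g⁻¹ ∈ (S : Subgroup G) → g * x * g⁻¹ ∈ T) → (S : Subgroup G) ≤ T) :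
    (groupFusionSystem (S : Subgroup G)).IsSimple p := by
  refine H20.simple_of (H20.sat_group S) h1 (fun T hT => ?_) fun D _ σ hσ => ?_
  · refine or_iff_not_imp_left.2 fun h => le_antisymm hT.1 (hsc T hT.1 h fun x hx g hg => ?_)
    have hx' : Subgroup.zpowers x ≤ T := by simpa using hx
    refine hT.2 _ hx' (conjHom _ g) ⟨hx'.trans hT.1, ?_, g, fun _ => rfl⟩ ⟨x, Subgroup.mem_zpowers x⟩
    rintro ⟨_, k, rfl⟩
    show g * x ^ k * g⁻¹ ∈ _
    rw [← conj_zpow]
    exact zpow_mem hg k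
  · rw [H20.AutF_group le_rfl] at hσ
    obtain ⟨g, -, h2, rfl⟩ := H20.mem_AutK'.1 hσ
    exact H20.cr_mem_AutF D le_rfl (hN h2) h2

theorem fus_simple_of {Γ : Type*} [Group Γ] {p : ℕ} [Fact p.Prime] {H X : Subgroup Γ} {k m : ℕ}
    (hXH : X ≤ H) (hX : Nat.card X = p ^ k) (hH : Nat.card H = p ^ k * m) (hm : ¬ p ∣ m)
    (hk : k ≠ 0) (hN : Nat.card (H ⊓ Subgroup.normalizer (X : Set Γ) : Subgroup Γ) ≤ p ^ k)
    (hsc : ∀ T : Subgroup Γ, (∀ x ∈ T, ∀ g ∈ H, g * x * g⁻¹ ∈ X → g * x * g⁻¹ ∈ T) →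
      ∀ t ∈ X, t ≠ 1 → (∀ g ∈ X, g * t = t * g) → t ∈ T → X ≤ T)
    {G : Type*} [Group G] [Finite G] (e : H ≃* G) (S : Sylow p G) :
    (groupFusionSystem (S : Subgroup G)).IsSimple p ∧
      Subgroup.normalizer ((S : Subgroup G) : Set G) = S := by
  have hp : p.Prime := Fact.out
  have : Finite H := Finite.of_equiv _ e.symm.toEquiv
  have : Finite X := Finite.of_injective _ (Subgroup.inclusion_injective hXH)
  have : Finite (H ⊓ Subgroup.normalizer (X : Set Γ) : Subgroup Γ) :=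
    Finite.of_injective _ (Subgroup.inclusion_injective inf_le_left)
  have hN' : X = H ⊓ Subgroup.normalizer (X : Set Γ) :=
    Subgroup.eq_of_le_of_card_ge (le_inf hXH Subgroup.le_normalizer) (hX ▸ hN)
  obtain ⟨S0, h0⟩ := exists_sylow_eq (p := p) (X := (X.subgroupOf H).map e.toMonoidHom) (k := k)
    (m := m) (by rw [Subgroup.card_map_of_injective e.injective,
      Nat.card_congr (Subgroup.subgroupOfEquivOfLe hXH).toEquiv, hX])
    (by rw [← Nat.card_congr e.toEquiv, hH]) hm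
  obtain ⟨g, rfl⟩ := exists_smul_eq G S0 S
  obtain ⟨f, hf⟩ : ∃ f : H ≃* G, ∀ x : H, f x ∈ ((g • S0 : Sylow p G) : Subgroup G) ↔ x.1 ∈ X :=
    ⟨e.trans (MulAut.conj g), fun x => by
      rw [Sylow.coe_subgroup_smul, h0]
      refine (Subgroup.smul_mem_pointwise_smul_iff (a := MulAut.conj g) (x := e x)).trans ?_
      exact (Subgroup.mem_map_iff_mem (f := e.toMonoidHom) e.injective).trans Subgroup.mem_subgroupOf⟩
  generalize g • S0 = S at hf
  have h2 : Subgroup.normalizer ((S : Subgroup G) : Set G) ≤ S := fun y hy => by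
    obtain ⟨y, rfl⟩ := f.surjective y
    rw [hf, hN']
    refine ⟨y.2, Subgroup.mem_normalizer_fintype fun x hx => ?_⟩
    have := (Subgroup.mem_normalizer_iff.1 hy (f ⟨x, hXH hx⟩)).1 ((hf _).2 hx)
    rw [← map_inv, ← map_mul, ← map_mul, hf] at this
    exact this
  refine ⟨fus_simple S (fun h => ?_) h2 fun T hT h1 hc y hy => ?_,
    le_antisymm h2 Subgroup.le_normalizer⟩
  · have : X = ⊥ := eq_bot_iff.2 fun x hx => by
      have := (hf ⟨x, hXH hx⟩).2 hx
      rw [h, Subgroup.mem_bot, map_eq_one_iff _ f.injective] at this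
      exact congrArg Subtype.val this
    rw [this, Subgroup.card_bot] at hX
    exact hk ((Nat.pow_eq_one.1 hX.symm).resolve_left hp.ne_one)
  · obtain ⟨t, ht, ht1, ht2⟩ := exists_central S.isPGroup' hT h1 fun x hx g hg =>
      hc x hx g (mul_mem (mul_mem hg (hT hx)) (inv_mem hg))
    obtain ⟨t, rfl⟩ := f.surjective t
    obtain ⟨y, rfl⟩ := f.surjective y
    have := hsc ((T.comap f.toMonoidHom).map H.subtype) ?_ t ((hf t).1 (hT ht))
      (fun e => ht1 (by rw [show t = 1 from Subtype.ext e, map_one])) (fun g hg => ?_)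
      ⟨t, ht, rfl⟩ ((hf y).1 hy)
    · obtain ⟨z, hz, e⟩ := this
      rwa [← show z = y from Subtype.ext e]
    · rintro _ ⟨x, hx, rfl⟩ g hg h
      refine ⟨⟨g, hg⟩ * x * ⟨g, hg⟩⁻¹, ?_, rfl⟩
      have := hc _ hx (f ⟨g, hg⟩) (by rw [MulEquiv.coe_toMonoidHom, ← map_inv, ← map_mul, ← map_mul, hf]; exact h)
      simpa using this
    · have := ht2 (f ⟨g, hXH hg⟩) ((hf _).2 hg)
      rw [← map_mul, ← map_mul] at this
      exact congrArg Subtype.val (f.injective this)

end H14
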