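import Cfsg.Agent.H14.Dw2

/-! Generated certificate (tools14/pkgen) for the permutation group M24c of degree 24, order 244823040, base 23 0 1 2 3 4 5. -/
set_option autoImplicit false
set_option maxRecDepth 100000
set_option maxHeartbeats 0

namespace H14.M24c
open H14

noncomputable def n0 : Net := (.cons (nat_lit 1) (nat_lit 0x400000)
(.cons (nat_lit 8) (nat_lit 0x80)
(.cons (nat_lit 16) (nat_lit 0x80)
(.cons (nat_lit 4) (nat_lit 0x80808)
(.cons (nat_lit 2) (nat_lit 0x222222)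
(.cons (nat_lit 1) (nat_lit 0x555555)
.nil))))))
theorem n0_ok : Net.ok 24 n0 = true := by decide +kernel
noncomputable def n1 : Net := (.cons (nat_lit 1) (nat_lit 0x11440)
(.cons (nat_lit 2) (nat_lit 0x32300)
(.cons (nat_lit 4) (nat_lit 0xa0a00)
(.cons (nat_lit 8) (nat_lit 0x6c)
(.cons (nat_lit 16) (nat_lit 0xff)
(.cons (nat_lit 8) (nat_lit 0x93)
(.cons (nat_lit 4) (nat_lit 0xf0b04)
(.cons (nat_lit 2) (nat_lit 0x301033)
(.cons (nat_lit 1) (nat_lit 0x411441)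
.nil)))))))))
theorem n1_ok : Net.ok 24 n1 = true := by decide +kernel
noncomputable def n2 : Net := (.cons (nat_lit 1) (nat_lit 0x150540)
(.cons (nat_lit 2) (nat_lit 0x201230)
(.cons (nat_lit 4) (nat_lit 0xd0000)
(.cons (nat_lit 8) (nat_lit 0x1c)
(.cons (nat_lit 16) (nat_lit 0x9e)
(.cons (nat_lit 8) (nat_lit 0x1e)
(.cons (nat_lit 4) (nat_lit 0x10706)
(.cons (nat_lit 2) (nat_lit 0x220120)
(.cons (nat_lit 1) (nat_lit 0x50410)
.nil)))))))))
theorem n2_ok : Net.ok 24 n2 = true := by decide +kernel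
noncomputable def n3 : Net := (.cons (nat_lit 1) (nat_lit 0x10454)
(.cons (nat_lit 2) (nat_lit 0x12010)
(.cons (nat_lit 4) (nat_lit 0x20000)
(.cons (nat_lit 8) (nat_lit 0x2b)
(.cons (nat_lit 16) (nat_lit 0x6f)
(.cons (nat_lit 8) (nat_lit 0x2d)
(.cons (nat_lit 4) (nat_lit 0x2030e)
(.cons (nat_lit 2) (nat_lit 0x112302)
(.cons (nat_lit 1) (nat_lit 0x110114)
.nil)))))))))
theorem n3_ok : Net.ok 24 n3 = true := by decide +kernel
noncomputable def n4 : Net := (.cons (nat_lit 1) (nat_lit 0x505540)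
(.cons (nat_lit 2) (nat_lit 0x102200)
(.cons (nat_lit 4) (nat_lit 0xc0600)
(.cons (nat_lit 8) (nat_lit 0x25)
(.cons (nat_lit 16) (nat_lit 0x2d)
(.cons (nat_lit 8) (nat_lit 0xc5)
(.cons (nat_lit 4) (nat_lit 0x4090c)
(.cons (nat_lit 2) (nat_lit 0x311230)
(.cons (nat_lit 1) (nat_lit 0x415450)
.nil)))))))))
theorem n4_ok : Net.ok 24 n4 = true := by decide +kernel
noncomputable def n5 : Net := (.cons (nat_lit 1) (nat_lit 0x1000)
(.cons (nat_lit 2) (nat_lit 0x210310)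
(.cons (nat_lit 4) (nat_lit 0x40100)
(.cons (nat_lit 8) (nat_lit 0xc)
(.cons (nat_lit 16) (nat_lit 0x5c)
(.cons (nat_lit 8) (nat_lit 0x50)
(.cons (nat_lit 4) (nat_lit 0x90a08)
(.cons (nat_lit 2) (nat_lit 0x302100)
(.cons (nat_lit 1) (nat_lit 0x45110)
.nil)))))))))
theorem n5_ok : Net.ok 24 n5 = true := by decide +kernel
noncomputable def n6 : Net := (.cons (nat_lit 1) (nat_lit 0x110540)
(.cons (nat_lit 2) (nat_lit 0x12220)
(.cons (nat_lit 4) (nat_lit 0x40200)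
(.cons (nat_lit 8) (nat_lit 0x47)
(.cons (nat_lit 16) (nat_lit 0x7f)
(.cons (nat_lit 8) (nat_lit 0x3f)
(.cons (nat_lit 4) (nat_lit 0x10d00)
(.cons (nat_lit 2) (nat_lit 0x111100)
(.cons (nat_lit 1) (nat_lit 0x110110)
.nil)))))))))
theorem n6_ok : Net.ok 24 n6 = true := by decide +kernel
noncomputable def n7 : Net := (.cons (nat_lit 1) (nat_lit 0x100450)
(.cons (nat_lit 2) (nat_lit 0x13000)
(.cons (nat_lit 4) (nat_lit 0x60d00)
(.cons (nat_lit 8) (nat_lit 0x43)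
(.cons (nat_lit 16) (nat_lit 0x73)
(.cons (nat_lit 8) (nat_lit 0xb)
(.cons (nat_lit 4) (nat_lit 0x60b08)
(.cons (nat_lit 2) (nat_lit 0x122000)
(.cons (nat_lit 1) (nat_lit 0x100450)
.nil)))))))))
theorem n7_ok : Net.ok 24 n7 = true := by decide +kernel
noncomputable def n8 : Net := (.cons (nat_lit 1) (nat_lit 0x455440)
(.cons (nat_lit 2) (nat_lit 0x122000)
(.cons (nat_lit 4) (nat_lit 0x10800)
(.cons (nat_lit 8) (nat_lit 0x16)
(.cons (nat_lit 16) (nat_lit 0xb6)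
(.cons (nat_lit 8) (nat_lit 0xf6)
(.cons (nat_lit 4) (nat_lit 0xf0200)
(.cons (nat_lit 2) (nat_lit 0x103000)
(.cons (nat_lit 1) (nat_lit 0x440500)
.nil)))))))))
theorem n8_ok : Net.ok 24 n8 = true := by decide +kernel
noncomputable def n9 : Net := (.cons (nat_lit 1) (nat_lit 0x150440)
(.cons (nat_lit 2) (nat_lit 0x232000)
(.cons (nat_lit 4) (nat_lit 0x60200)
(.cons (nat_lit 8) (nat_lit 0x65)
(.cons (nat_lit 16) (nat_lit 0xf5)
(.cons (nat_lit 8) (nat_lit 0x95)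
(.cons (nat_lit 4) (nat_lit 0x60500)
(.cons (nat_lit 2) (nat_lit 0x333130)
(.cons (nat_lit 1) (nat_lit 0x155110)
.nil)))))))))
theorem n9_ok : Net.ok 24 n9 = true := by decide +kernel
noncomputable def n10 : Net := (.cons (nat_lit 1) (nat_lit 0x141100)
(.cons (nat_lit 2) (nat_lit 0x133000)
(.cons (nat_lit 4) (nat_lit 0x90100)
(.cons (nat_lit 8) (nat_lit 0x45)
(.cons (nat_lit 16) (nat_lit 0xc5)
(.cons (nat_lit 8) (nat_lit 0x75)
(.cons (nat_lit 4) (nat_lit 0x80800)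
(.cons (nat_lit 2) (nat_lit 0x123330)
(.cons (nat_lit 1) (nat_lit 0x55140)
.nil)))))))))
theorem n10_ok : Net.ok 24 n10 = true := by decide +kernel
noncomputable def nets : List Net := [n0, n1, n2, n3, n4, n5, n6, n7, n8, n9, n10]
theorem nets_ok : netsOk 24 nets = true := List.all_eq_true.2 (fa_cons n0_ok (fa_cons n1_ok (fa_cons n2_ok (fa_cons n3_ok (fa_cons n4_ok (fa_cons n5_ok (fa_cons n6_ok (fa_cons n7_ok (fa_cons n8_ok (fa_cons n9_ok (fa_cons n10_ok (fa_nil))))))))))))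
noncomputable def ws7 : List Word := []
noncomputable def lev6 : Level := ⟨nat_lit 5,
[⟨[nat_lit 16], [], [],
[⟨nat_lit 0, [], nat_lit 1, [], []⟩,
⟨nat_lit 1, [], nat_lit 2, [], []⟩,
⟨nat_lit 2, [], nat_lit 0, [], []⟩],
[]⟩],
[⟨dw (nat_lit 0x01), (nat_lit 0x20000), [], .nil, []⟩,
⟨dw (nat_lit 0x02), (nat_lit 0x4000), [], .nil, []⟩]⟩
noncomputable def ex6 : List Word := []
noncomputable def ws6 : List Word := List.append ex6 (lev6.gens ws7)
noncomputable def rels6 : List (Word × Word) := List.append (lev6.rels ws7) (memRels (lev6.gens ws7) ex6 [])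
noncomputable def lev5 : Level := ⟨nat_lit 4,
[⟨[nat_lit 18], [], [],
[⟨nat_lit 0, [], nat_lit 1, [], []⟩,
⟨nat_lit 1, [], nat_lit 1, dw (nat_lit 0x01), dw (nat_lit 0x01)⟩,
⟨nat_lit 2, [], nat_lit 5, dw (nat_lit 0x01), dw (nat_lit 0x01)⟩,
⟨nat_lit 3, [], nat_lit 4, dw (nat_lit 0x01), dw (nat_lit 0x02)⟩,
⟨nat_lit 4, [], nat_lit 2, [], []⟩,
⟨nat_lit 5, [], nat_lit 3, [], []⟩,
⟨nat_lit 1, dw (nat_lit 0x01), nat_lit 0, [], dw (nat_lit 0x02)⟩,
⟨nat_lit 1, dw (nat_lit 0x02), nat_lit 1, dw (nat_lit 0x02), dw (nat_lit 0x02)⟩,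
⟨nat_lit 2, dw (nat_lit 0x01), nat_lit 4, dw (nat_lit 0x02), []⟩,
⟨nat_lit 2, dw (nat_lit 0x02), nat_lit 3, dw (nat_lit 0x01), dw (nat_lit 0x01)⟩,
⟨nat_lit 3, dw (nat_lit 0x01), nat_lit 5, dw (nat_lit 0x02), []⟩,
⟨nat_lit 3, dw (nat_lit 0x02), nat_lit 2, dw (nat_lit 0x01), dw (nat_lit 0x02)⟩,
⟨nat_lit 4, dw (nat_lit 0x01), nat_lit 5, [], dw (nat_lit 0x01)⟩,
⟨nat_lit 4, dw (nat_lit 0x02), nat_lit 3, dw (nat_lit 0x02), dw (nat_lit 0x01)⟩,
⟨nat_lit 5, dw (nat_lit 0x01), nat_lit 4, [], dw (nat_lit 0x02)⟩,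
⟨nat_lit 5, dw (nat_lit 0x02), nat_lit 2, dw (nat_lit 0x02), dw (nat_lit 0x02)⟩],
[]⟩,
⟨[nat_lit 20], [], [],
[⟨nat_lit 0, [], nat_lit 2, [], []⟩,
⟨nat_lit 1, [], nat_lit 3, [], []⟩,
⟨nat_lit 2, [], nat_lit 2, dw (nat_lit 0x01), dw (nat_lit 0x01)⟩,
⟨nat_lit 3, [], nat_lit 4, [], []⟩,
⟨nat_lit 4, [], nat_lit 1, [], []⟩,
⟨nat_lit 5, [], nat_lit 1, dw (nat_lit 0x01), dw (nat_lit 0x01)⟩,
⟨nat_lit 1, dw (nat_lit 0x01), nat_lit 4, dw (nat_lit 0x02), []⟩,
⟨nat_lit 1, dw (nat_lit 0x02), nat_lit 5, dw (nat_lit 0x02), dw (nat_lit 0x02)⟩,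
⟨nat_lit 2, dw (nat_lit 0x01), nat_lit 0, [], dw (nat_lit 0x02)⟩,
⟨nat_lit 2, dw (nat_lit 0x02), nat_lit 2, dw (nat_lit 0x02), dw (nat_lit 0x02)⟩,
⟨nat_lit 3, dw (nat_lit 0x01), nat_lit 1, dw (nat_lit 0x02), []⟩,
⟨nat_lit 3, dw (nat_lit 0x02), nat_lit 5, dw (nat_lit 0x01), dw (nat_lit 0x02)⟩,
⟨nat_lit 4, dw (nat_lit 0x01), nat_lit 3, dw (nat_lit 0x02), []⟩,
⟨nat_lit 4, dw (nat_lit 0x02), nat_lit 5, [], dw (nat_lit 0x02)⟩,
⟨nat_lit 5, dw (nat_lit 0x01), nat_lit 4, dw (nat_lit 0x01), dw (nat_lit 0x01)⟩,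
⟨nat_lit 5, dw (nat_lit 0x02), nat_lit 3, dw (nat_lit 0x01), dw (nat_lit 0x01)⟩],
[]⟩],
[⟨dw (nat_lit 0x01), (nat_lit 0x412000), [dw (nat_lit 0x01), dw (nat_lit 0x01)], .nil, []⟩,
⟨dw (nat_lit 0x03), (nat_lit 0x48040), [dw (nat_lit 0x01), dw (nat_lit 0x01)], .nil, []⟩,
⟨dw (nat_lit 0x0301), (nat_lit 0x1480), [dw (nat_lit 0x01), dw (nat_lit 0x01)], .nil, []⟩,
⟨dw (nat_lit 0x0401), (nat_lit 0x180800), [dw (nat_lit 0x01), dw (nat_lit 0x01)], .nil, []⟩,
⟨dw (nat_lit 0x0402), (nat_lit 0x200300), [dw (nat_lit 0x01), dw (nat_lit 0x01)], .nil, []⟩]⟩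
noncomputable def ex5 : List Word := []
noncomputable def ws5 : List Word := List.append ex5 (lev5.gens ws6)
noncomputable def rels5 : List (Word × Word) := List.append (lev5.rels ws6) (memRels (lev5.gens ws6) ex5 [])
noncomputable def lev4 : Level := ⟨nat_lit 3,
[⟨[nat_lit 12], [dw (nat_lit 0x040501)], [dw (nat_lit 0x01030106)],
[⟨nat_lit 0, [], nat_lit 1, [], []⟩,
⟨nat_lit 1, [], nat_lit 1, dw (nat_lit 0x01), dw (nat_lit 0x020405)⟩,
⟨nat_lit 2, [], nat_lit 1, dw (nat_lit 0x0301), dw (nat_lit 0x0406)⟩,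
⟨nat_lit 1, dw (nat_lit 0x02), nat_lit 0, [], dw (nat_lit 0x01)⟩,
⟨nat_lit 1, dw (nat_lit 0x03), nat_lit 1, dw (nat_lit 0x0402), dw (nat_lit 0x0204)⟩,
⟨nat_lit 1, dw (nat_lit 0x04), nat_lit 1, dw (nat_lit 0x0401), dw (nat_lit 0x060305)⟩,
⟨nat_lit 1, dw (nat_lit 0x05), nat_lit 2, [], []⟩,
⟨nat_lit 1, dw (nat_lit 0x0602), nat_lit 1, dw (nat_lit 0x04), dw (nat_lit 0x010305)⟩],
[dw (nat_lit 0x01), dw (nat_lit 0x01)]⟩],
[⟨dw (nat_lit 0x01), (nat_lit 0x7dbfd0), [dw (nat_lit 0x01), dw (nat_lit 0x03), dw (nat_lit 0x01), dw (nat_lit 0x03), dw (nat_lit 0x05), dw (nat_lit 0x01)], (.cons (nat_lit 4) [dw (nat_lit 0x060302)] [dw (nat_lit 0x01), dw (nat_lit 0x01)]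
.nil), [dw (nat_lit 0x040206)]⟩,
⟨dw (nat_lit 0x010701), (nat_lit 0x24020), [dw (nat_lit 0x01), dw (nat_lit 0x01)], (.cons (nat_lit 4) [dw (nat_lit 0x0203), dw (nat_lit 0x0105), dw (nat_lit 0x0104), dw (nat_lit 0x010603)] [dw (nat_lit 0x01), dw (nat_lit 0x03), dw (nat_lit 0x05), dw (nat_lit 0x07)]
.nil), [dw (nat_lit 0x060306), dw (nat_lit 0x0206), dw (nat_lit 0x040205), dw (nat_lit 0x010306)]⟩]⟩
noncomputable def ex4 : List Word := [[nat_lit 14]]
noncomputable def ws4 : List Word := List.append ex4 (lev4.gens ws5)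
noncomputable def rels4 : List (Word × Word) := List.append (lev4.rels ws5) (memRels (lev4.gens ws5) ex4 [dw (nat_lit 0x0305010308)])
noncomputable def lev3 : Level := ⟨nat_lit 2,
[⟨[nat_lit 8], [dw (nat_lit 0x0107), dw (nat_lit 0x030705), dw (nat_lit 0x070905)], [dw (nat_lit 0x040801050709), dw (nat_lit 0x04020609), dw (nat_lit 0x04020a0509)],
[⟨nat_lit 0, [], nat_lit 1, [], []⟩,
⟨nat_lit 1, [], nat_lit 1, dw (nat_lit 0x04), dw (nat_lit 0x040801)⟩,
⟨nat_lit 1, dw (nat_lit 0x0902), nat_lit 1, dw (nat_lit 0x05), dw (nat_lit 0x090409)⟩,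
⟨nat_lit 1, dw (nat_lit 0x0602), nat_lit 0, [], dw (nat_lit 0x040a0509)⟩],
[dw (nat_lit 0x01), dw (nat_lit 0x03), dw (nat_lit 0x01), dw (nat_lit 0x05), dw (nat_lit 0x03), dw (nat_lit 0x01)]⟩],
[⟨dw (nat_lit 0x01), (nat_lit 0x7ffff8), [dw (nat_lit 0x01), dw (nat_lit 0x03), dw (nat_lit 0x05), dw (nat_lit 0x07), dw (nat_lit 0x01), dw (nat_lit 0x01)], (.cons (nat_lit 3) [dw (nat_lit 0x030301)] [dw (nat_lit 0x01), dw (nat_lit 0x01)]
(.cons (nat_lit 4) [dw (nat_lit 0x0607), dw (nat_lit 0x0706), dw (nat_lit 0x060908), dw (nat_lit 0x080a)] [dw (nat_lit 0x01), dw (nat_lit 0x03), dw (nat_lit 0x07), dw (nat_lit 0x05)]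
.nil)), [dw (nat_lit 0x0802), dw (nat_lit 0x06010806), dw (nat_lit 0x08010a050a), dw (nat_lit 0x0904050a), dw (nat_lit 0x0109010a070a)]⟩]⟩
noncomputable def ex3 : List Word := [[nat_lit 10]]
noncomputable def ws3 : List Word := List.append ex3 (lev3.gens ws4)
noncomputable def rels3 : List (Word × Word) := List.append (lev3.rels ws4) (memRels (lev3.gens ws4) ex3 [dw (nat_lit 0x0603010507)])
noncomputable def prim3 : List (List Word) := [[dw (nat_lit 0x01), dw (nat_lit 0x0101), dw (nat_lit 0x03), dw (nat_lit 0x07), dw (nat_lit 0x05), dw (nat_lit 0x01), dw (nat_lit 0x01)]]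
noncomputable def lev2 : Level := ⟨nat_lit 1,
[⟨[nat_lit 4], [dw (nat_lit 0x0307), dw (nat_lit 0x0809), dw (nat_lit 0x07090d08)], [dw (nat_lit 0x04060c0d), dw (nat_lit 0x070207050c090e), dw (nat_lit 0x090308090b0d)],
[⟨nat_lit 0, [], nat_lit 1, [], []⟩,
⟨nat_lit 1, [], nat_lit 1, dw (nat_lit 0x08), dw (nat_lit 0x04010a05090b0d)⟩,
⟨nat_lit 1, dw (nat_lit 0x0e), nat_lit 0, [], dw (nat_lit 0x060108050b)⟩],
[dw (nat_lit 0x01), dw (nat_lit 0x03), dw (nat_lit 0x05), dw (nat_lit 0x01), dw (nat_lit 0x01), dw (nat_lit 0x05), dw (nat_lit 0x01)]⟩],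
[⟨dw (nat_lit 0x01), (nat_lit 0x7ffffc), [dw (nat_lit 0x01), dw (nat_lit 0x03), dw (nat_lit 0x05), dw (nat_lit 0x09), dw (nat_lit 0x01), dw (nat_lit 0x01)], (.cons (nat_lit 2) [dw (nat_lit 0x070301)] [dw (nat_lit 0x01), dw (nat_lit 0x07), dw (nat_lit 0x07), dw (nat_lit 0x01), dw (nat_lit 0x07), dw (nat_lit 0x07), dw (nat_lit 0x01), dw (nat_lit 0x07)
, dw (nat_lit 0x01)]
(.cons (nat_lit 3) [dw (nat_lit 0x0d0905), dw (nat_lit 0x08060b09)] [dw (nat_lit 0x01), dw (nat_lit 0x05), dw (nat_lit 0x05), dw (nat_lit 0x03), dw (nat_lit 0x05), dw (nat_lit 0x05)]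
(.cons (nat_lit 4) [dw (nat_lit 0x0b)] [dw (nat_lit 0x01), dw (nat_lit 0x01)]
.nil))), [dw (nat_lit 0x0e0109050a), dw (nat_lit 0x0504010a050b0e090e), dw (nat_lit 0x0902090509), dw (nat_lit 0x03010e0b)]⟩]⟩
noncomputable def ex2 : List Word := [[nat_lit 6]]
noncomputable def ws2 : List Word := List.append ex2 (lev2.gens ws3)
noncomputable def rels2 : List (Word × Word) := List.append (lev2.rels ws3) (memRels (lev2.gens ws3) ex2 [dw (nat_lit 0x0f0107030810)])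
noncomputable def prim2 : List (List Word) := [[dw (nat_lit 0x01), dw (nat_lit 0x0601), dw (nat_lit 0x01), dw (nat_lit 0x03), dw (nat_lit 0x05), dw (nat_lit 0x07)]]
noncomputable def lev1 : Level := ⟨nat_lit 0,
[⟨[nat_lit 0], [dw (nat_lit 0x0c0501), dw (nat_lit 0x070f), dw (nat_lit 0x0a110c)], [dw (nat_lit 0x0d070d0912), dw (nat_lit 0x0a0f11), dw (nat_lit 0x120d)],
[⟨nat_lit 0, [], nat_lit 1, [], []⟩,
⟨nat_lit 1, [], nat_lit 1, dw (nat_lit 0x0402), dw (nat_lit 0x01011005110c110f0d11)⟩,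
⟨nat_lit 1, dw (nat_lit 0x0503), nat_lit 0, [], dw (nat_lit 0x0c020805100b110f0d)⟩],
[dw (nat_lit 0x01), dw (nat_lit 0x03), dw (nat_lit 0x05), dw (nat_lit 0x03), dw (nat_lit 0x01), dw (nat_lit 0x03), dw (nat_lit 0x05), dw (nat_lit 0x03)
]⟩],
[⟨dw (nat_lit 0x01), (nat_lit 0x7ffffe), [dw (nat_lit 0x01), dw (nat_lit 0x1201), dw (nat_lit 0x05), dw (nat_lit 0x01), dw (nat_lit 0x07), dw (nat_lit 0x05)], (.cons (nat_lit 2) [dw (nat_lit 0x05)] [dw (nat_lit 0x01), dw (nat_lit 0x0101), dw (nat_lit 0x03), dw (nat_lit 0x09), dw (nat_lit 0x01), dw (nat_lit 0x09), dw (nat_lit 0x01)]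
(.cons (nat_lit 3) [dw (nat_lit 0x09)] [dw (nat_lit 0x01), dw (nat_lit 0x0207), dw (nat_lit 0x03), dw (nat_lit 0x07), dw (nat_lit 0x01), dw (nat_lit 0x01), dw (nat_lit 0x03)]
(.cons (nat_lit 4) [dw (nat_lit 0x0d), dw (nat_lit 0x1210)] [dw (nat_lit 0x01), dw (nat_lit 0x03), dw (nat_lit 0x01), dw (nat_lit 0x05), dw (nat_lit 0x05)]
(.cons (nat_lit 5) [dw (nat_lit 0x11)] [dw (nat_lit 0x01), dw (nat_lit 0x01)]
.nil)))), [dw (nat_lit 0x0d010b060e0a0f0d11), dw (nat_lit 0x0b060c090f120d), dw (nat_lit 0x10090f120d), dw (nat_lit 0x0c10090d0f0d11), dw (nat_lit 0x120d)]⟩]⟩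
noncomputable def ex1 : List Word := []
noncomputable def ws1 : List Word := List.append ex1 (lev1.gens ws2)
noncomputable def rels1 : List (Word × Word) := List.append (lev1.rels ws2) (memRels (lev1.gens ws2) ex1 [])
noncomputable def prim1 : List (List Word) := [[dw (nat_lit 0x01), dw (nat_lit 0x0101), dw (nat_lit 0x03), dw (nat_lit 0x09), dw (nat_lit 0x05), dw (nat_lit 0x01)]]
noncomputable def lev0 : Level := ⟨nat_lit 23,
[⟨[nat_lit 2], [dw (nat_lit 0x03), dw (nat_lit 0x07), dw (nat_lit 0x0b)], [dw (nat_lit 0x030a08100c141113), dw (nat_lit 0x070309120c11140f13), dw (nat_lit 0x1004070d0b140f14)],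
[⟨nat_lit 0, [], nat_lit 1, [], []⟩,
⟨nat_lit 1, [], nat_lit 0, [], []⟩,
⟨nat_lit 1, dw (nat_lit 0x01), nat_lit 1, dw (nat_lit 0x02), dw (nat_lit 0x02)⟩],
[dw (nat_lit 0x01), dw (nat_lit 0x0205), dw (nat_lit 0x05), dw (nat_lit 0x03), dw (nat_lit 0x05), dw (nat_lit 0x01), dw (nat_lit 0x03)]⟩],
[⟨dw (nat_lit 0x01), (nat_lit 0x7fffff), [dw (nat_lit 0x01), dw (nat_lit 0x0501), dw (nat_lit 0x01), dw (nat_lit 0x09), dw (nat_lit 0x01), dw (nat_lit 0x05), dw (nat_lit 0x01)], (.cons (nat_lit 1) [dw (nat_lit 0x03)] [dw (nat_lit 0x01), dw (nat_lit 0x0601), dw (nat_lit 0x03), dw (nat_lit 0x07), dw (nat_lit 0x01), dw (nat_lit 0x05)]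
(.cons (nat_lit 2) [dw (nat_lit 0x07)] [dw (nat_lit 0x01), dw (nat_lit 0x0601), dw (nat_lit 0x01), dw (nat_lit 0x03), dw (nat_lit 0x01), dw (nat_lit 0x09)]
(.cons (nat_lit 3) [dw (nat_lit 0x0b)] [dw (nat_lit 0x01), dw (nat_lit 0x0701), dw (nat_lit 0x01), dw (nat_lit 0x0704), dw (nat_lit 0x01), dw (nat_lit 0x03)]
(.cons (nat_lit 4) [dw (nat_lit 0x0f), dw (nat_lit 0x0f0f12)] [dw (nat_lit 0x01), dw (nat_lit 0x0206), dw (nat_lit 0x03), dw (nat_lit 0x01), dw (nat_lit 0x01)]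
(.cons (nat_lit 5) [dw (nat_lit 0x13)] [dw (nat_lit 0x01), dw (nat_lit 0x01)]
.nil))))), [dw (nat_lit 0x030a08100c141113), dw (nat_lit 0x070309120c11140f13), dw (nat_lit 0x1004070d0b140f14), dw (nat_lit 0x0f050707130c141114), dw (nat_lit 0x090309070e0f13), dw (nat_lit 0x0f050c07120c13)]⟩]⟩
noncomputable def ex0 : List Word := []
noncomputable def ws0 : List Word := List.append ex0 (lev0.gens ws1)
noncomputable def rels0 : List (Word × Word) := List.append (lev0.rels ws1) (memRels (lev0.gens ws1) ex0 [])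
noncomputable def prim0 : List (List Word) := [[dw (nat_lit 0x01), dw (nat_lit 0x03), dw (nat_lit 0x0303), dw (nat_lit 0x01), dw (nat_lit 0x05), dw (nat_lit 0x0b), dw (nat_lit 0x03)]]
noncomputable def rels : List (Word × Word) := List.append rels0 (List.append rels1 (List.append rels2 (List.append rels3 (List.append rels4 (List.append rels5 (List.append rels6 ([])))))))
noncomputable def defs : List Word := [dw (nat_lit 0x0205010606020202), dw (nat_lit 0x080505070706), dw (nat_lit 0x0606070507070705050508), dw (nat_lit 0x090b090b0a0b), dw (nat_lit 0x0a0c0c090c090c0c090c09), dw (nat_lit 0x0d0f0e), dw (nat_lit 0x0e100e100d100e), dw (nat_lit 0x100d0f0f0d0d)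
]
noncomputable def relsD : List (Word × Word) := defRels defs 3
noncomputable def relsO : List (Word × Word) := memRels ws0 (lets 3) [dw (nat_lit 0x03), dw (nat_lit 0x01), dw (nat_lit 0x07)]
noncomputable def relsS : List (Word × Word) := []
noncomputable def allRels : List (Word × Word) := List.append rels (List.append relsD (List.append relsO relsS))
theorem chk6 : lev6.chk 24 nets ws7 1 3 = true := by decide +kernel
theorem chk5 : lev5.chk 24 nets ws6 3 48 = true := by decide +kernel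
theorem chk4 : lev4.chk 24 nets ws5 48 960 = true := by decide +kernel
theorem primc3 : PM.primChk nets ws4 lev3 lev3.sos prim3 = true := by decide +kernel
theorem chk3 : lev3.chk 24 nets ws4 960 20160 = true := by decide +kernel
theorem primc2 : PM.primChk nets ws3 lev2 lev2.sos prim2 = true := by decide +kernel
theorem chk2 : lev2.chk 24 nets ws3 20160 443520 = true := by decide +kernel
theorem primc1 : PM.primChk nets ws2 lev1 lev1.sos prim1 = true := by decide +kernel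
theorem chk1 : lev1.chk 24 nets ws2 443520 10200960 = true := by decide +kernel
theorem primc0 : PM.primChk nets ws1 lev0 lev0.sos prim0 = true := by decide +kernel
theorem chk0 : lev0.chk 24 nets ws1 10200960 244823040 = true := by decide +kernel
theorem rc0 : relsChk 24 nets 5 (idArr 24 5 5 0) allRels = true := by decide +kernel
section
variable {Γ Ω : Type*} [Group Γ] [MulAction Γ Ω] (M : PM Γ Ω 24 nets)

theorem all_ok (hs : M.Sep 5 (idArr 24 5 5 0)) : Rels M.gen allRels := (M.rels_of_chk hs rc0)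
theorem sep [FaithfulSMul Γ Ω] : M.Sep 5 (idArr 24 5 5 0) := M.sep_idArr (by decide)
theorem all_ok' [FaithfulSMul Γ Ω] : Rels M.gen allRels := all_ok M (sep M)
theorem rels_of_all {gen : ℕ → Γ} (h : Rels gen allRels) : Rels gen rels := Rels.left h
theorem relsD_of_all {gen : ℕ → Γ} (h : Rels gen allRels) : Rels gen relsD := Rels.left (Rels.right h)
theorem relsO_of_all {gen : ℕ → Γ} (h : Rels gen allRels) : Rels gen relsO := Rels.left (Rels.right (Rels.right h))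
theorem relsS_of_all {gen : ℕ → Γ} (h : Rels gen allRels) : Rels gen relsS := Rels.right (Rels.right (Rels.right h))
theorem card7 (_hR : Rels M.gen rels) : Nat.card (sub M.gen ws7) = 1 := M.card_nil
theorem fixw7 (_hR : Rels M.gen rels) : M.FixTriv ws7 [] := M.fixTriv_nil
theorem r6 (hR : Rels M.gen rels) : Rels M.gen rels6 := (Rels.left (Rels.right (Rels.right (Rels.right (Rels.right (Rels.right (Rels.right hR)))))))
theorem res6 (hR : Rels M.gen rels) : M.LevelRes ws7 lev6 3 := M.level (card7 M hR) chk6 (Rels.left (r6 M hR))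
theorem ext6 (hR : Rels M.gen rels) : sub M.gen ws6 = sub M.gen (lev6.gens ws7) := sub_extend (Rels.right (r6 M hR))
theorem card6 (hR : Rels M.gen rels) : Nat.card (sub M.gen ws6) = 3 := by rw [ext6 M hR]; exact (res6 M hR).card
theorem fix6 (hR : Rels M.gen rels) : M.FixTriv (lev6.gens ws7) [5] := (res6 M hR).fixTriv M (fixw7 M hR)
theorem fixw6 (hR : Rels M.gen rels) : M.FixTriv ws6 [5] := fun g hg => fix6 M hR g (ext6 M hR ▸ hg)
theorem stab6 (hR : Rels M.gen rels) : sub M.gen ws6 ⊓ MulAction.stabilizer Γ (M.dec 5) = sub M.gen ws7 := by rw [ext6 M hR]; exact (res6 M hR).stab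
theorem orb6 (hR : Rels M.gen rels) (y : Ω) : y ∈ M.S lev6.orb ↔ ∃ g ∈ sub M.gen ws6, g • M.dec 5 = y := by rw [ext6 M hR]; exact (res6 M hR).orb y
theorem r5 (hR : Rels M.gen rels) : Rels M.gen rels5 := (Rels.left (Rels.right (Rels.right (Rels.right (Rels.right (Rels.right hR))))))
theorem res5 (hR : Rels M.gen rels) : M.LevelRes ws6 lev5 48 := M.level (card6 M hR) chk5 (Rels.left (r5 M hR))
theorem ext5 (hR : Rels M.gen rels) : sub M.gen ws5 = sub M.gen (lev5.gens ws6) := sub_extend (Rels.right (r5 M hR))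
theorem card5 (hR : Rels M.gen rels) : Nat.card (sub M.gen ws5) = 48 := by rw [ext5 M hR]; exact (res5 M hR).card
theorem fix5 (hR : Rels M.gen rels) : M.FixTriv (lev5.gens ws6) [4, 5] := (res5 M hR).fixTriv M (fixw6 M hR)
theorem fixw5 (hR : Rels M.gen rels) : M.FixTriv ws5 [4, 5] := fun g hg => fix5 M hR g (ext5 M hR ▸ hg)
theorem stab5 (hR : Rels M.gen rels) : sub M.gen ws5 ⊓ MulAction.stabilizer Γ (M.dec 4) = sub M.gen ws6 := by rw [ext5 M hR]; exact (res5 M hR).stab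
theorem orb5 (hR : Rels M.gen rels) (y : Ω) : y ∈ M.S lev5.orb ↔ ∃ g ∈ sub M.gen ws5, g • M.dec 4 = y := by rw [ext5 M hR]; exact (res5 M hR).orb y
theorem r4 (hR : Rels M.gen rels) : Rels M.gen rels4 := (Rels.left (Rels.right (Rels.right (Rels.right (Rels.right hR)))))
theorem res4 (hR : Rels M.gen rels) : M.LevelRes ws5 lev4 960 := M.level (card5 M hR) chk4 (Rels.left (r4 M hR))
theorem ext4 (hR : Rels M.gen rels) : sub M.gen ws4 = sub M.gen (lev4.gens ws5) := sub_extend (Rels.right (r4 M hR))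
theorem card4 (hR : Rels M.gen rels) : Nat.card (sub M.gen ws4) = 960 := by rw [ext4 M hR]; exact (res4 M hR).card
theorem fix4 (hR : Rels M.gen rels) : M.FixTriv (lev4.gens ws5) [3, 4, 5] := (res4 M hR).fixTriv M (fixw5 M hR)
theorem fixw4 (hR : Rels M.gen rels) : M.FixTriv ws4 [3, 4, 5] := fun g hg => fix4 M hR g (ext4 M hR ▸ hg)
theorem stab4 (hR : Rels M.gen rels) : sub M.gen ws4 ⊓ MulAction.stabilizer Γ (M.dec 3) = sub M.gen ws5 := by rw [ext4 M hR]; exact (res4 M hR).stab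
theorem orb4 (hR : Rels M.gen rels) (y : Ω) : y ∈ M.S lev4.orb ↔ ∃ g ∈ sub M.gen ws4, g • M.dec 3 = y := by rw [ext4 M hR]; exact (res4 M hR).orb y
theorem r3 (hR : Rels M.gen rels) : Rels M.gen rels3 := (Rels.left (Rels.right (Rels.right (Rels.right hR))))
theorem res3 (hR : Rels M.gen rels) : M.LevelRes ws4 lev3 20160 := M.level (card4 M hR) chk3 (Rels.left (r3 M hR))
theorem ext3 (hR : Rels M.gen rels) : sub M.gen ws3 = sub M.gen (lev3.gens ws4) := sub_extend (Rels.right (r3 M hR))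
theorem card3 (hR : Rels M.gen rels) : Nat.card (sub M.gen ws3) = 20160 := by rw [ext3 M hR]; exact (res3 M hR).card
theorem fix3 (hR : Rels M.gen rels) : M.FixTriv (lev3.gens ws4) [2, 3, 4, 5] := (res3 M hR).fixTriv M (fixw4 M hR)
theorem fixw3 (hR : Rels M.gen rels) : M.FixTriv ws3 [2, 3, 4, 5] := fun g hg => fix3 M hR g (ext3 M hR ▸ hg)
theorem stab3 (hR : Rels M.gen rels) : sub M.gen ws3 ⊓ MulAction.stabilizer Γ (M.dec 2) = sub M.gen ws4 := by rw [ext3 M hR]; exact (res3 M hR).stab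
theorem orb3 (hR : Rels M.gen rels) (y : Ω) : y ∈ M.S lev3.orb ↔ ∃ g ∈ sub M.gen ws3, g • M.dec 2 = y := by rw [ext3 M hR]; exact (res3 M hR).orb y
theorem max3 (hR : Rels M.gen rels) (X : Subgroup Γ) (h1 : sub M.gen ws4 ≤ X) (h2 : X ≤ sub M.gen ws3) : X = sub M.gen ws4 ∨ X = sub M.gen ws3 := by rw [ext3 M hR] at h2 ⊢; exact (res3 M hR).max M primc3 X h1 h2
theorem r2 (hR : Rels M.gen rels) : Rels M.gen rels2 := (Rels.left (Rels.right (Rels.right hR)))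
theorem res2 (hR : Rels M.gen rels) : M.LevelRes ws3 lev2 443520 := M.level (card3 M hR) chk2 (Rels.left (r2 M hR))
theorem ext2 (hR : Rels M.gen rels) : sub M.gen ws2 = sub M.gen (lev2.gens ws3) := sub_extend (Rels.right (r2 M hR))
theorem card2 (hR : Rels M.gen rels) : Nat.card (sub M.gen ws2) = 443520 := by rw [ext2 M hR]; exact (res2 M hR).card
theorem fix2 (hR : Rels M.gen rels) : M.FixTriv (lev2.gens ws3) [1, 2, 3, 4, 5] := (res2 M hR).fixTriv M (fixw3 M hR)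
theorem fixw2 (hR : Rels M.gen rels) : M.FixTriv ws2 [1, 2, 3, 4, 5] := fun g hg => fix2 M hR g (ext2 M hR ▸ hg)
theorem stab2 (hR : Rels M.gen rels) : sub M.gen ws2 ⊓ MulAction.stabilizer Γ (M.dec 1) = sub M.gen ws3 := by rw [ext2 M hR]; exact (res2 M hR).stab
theorem orb2 (hR : Rels M.gen rels) (y : Ω) : y ∈ M.S lev2.orb ↔ ∃ g ∈ sub M.gen ws2, g • M.dec 1 = y := by rw [ext2 M hR]; exact (res2 M hR).orb y
theorem max2 (hR : Rels M.gen rels) (X : Subgroup Γ) (h1 : sub M.gen ws3 ≤ X) (h2 : X ≤ sub M.gen ws2) : X = sub M.gen ws3 ∨ X = sub M.gen ws2 := by rw [ext2 M hR] at h2 ⊢; exact (res2 M hR).max M primc2 X h1 h2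
theorem r1 (hR : Rels M.gen rels) : Rels M.gen rels1 := (Rels.left (Rels.right hR))
theorem res1 (hR : Rels M.gen rels) : M.LevelRes ws2 lev1 10200960 := M.level (card2 M hR) chk1 (Rels.left (r1 M hR))
theorem ext1 (hR : Rels M.gen rels) : sub M.gen ws1 = sub M.gen (lev1.gens ws2) := sub_extend (Rels.right (r1 M hR))
theorem card1 (hR : Rels M.gen rels) : Nat.card (sub M.gen ws1) = 10200960 := by rw [ext1 M hR]; exact (res1 M hR).card
theorem fix1 (hR : Rels M.gen rels) : M.FixTriv (lev1.gens ws2) [0, 1, 2, 3, 4, 5] := (res1 M hR).fixTriv M (fixw2 M hR)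
theorem fixw1 (hR : Rels M.gen rels) : M.FixTriv ws1 [0, 1, 2, 3, 4, 5] := fun g hg => fix1 M hR g (ext1 M hR ▸ hg)
theorem stab1 (hR : Rels M.gen rels) : sub M.gen ws1 ⊓ MulAction.stabilizer Γ (M.dec 0) = sub M.gen ws2 := by rw [ext1 M hR]; exact (res1 M hR).stab
theorem orb1 (hR : Rels M.gen rels) (y : Ω) : y ∈ M.S lev1.orb ↔ ∃ g ∈ sub M.gen ws1, g • M.dec 0 = y := by rw [ext1 M hR]; exact (res1 M hR).orb y
theorem max1 (hR : Rels M.gen rels) (X : Subgroup Γ) (h1 : sub M.gen ws2 ≤ X) (h2 : X ≤ sub M.gen ws1) : X = sub M.gen ws2 ∨ X = sub M.gen ws1 := by rw [ext1 M hR] at h2 ⊢; exact (res1 M hR).max M primc1 X h1 h2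
theorem r0 (hR : Rels M.gen rels) : Rels M.gen rels0 := (Rels.left hR)
theorem res0 (hR : Rels M.gen rels) : M.LevelRes ws1 lev0 244823040 := M.level (card1 M hR) chk0 (Rels.left (r0 M hR))
theorem ext0 (hR : Rels M.gen rels) : sub M.gen ws0 = sub M.gen (lev0.gens ws1) := sub_extend (Rels.right (r0 M hR))
theorem card0 (hR : Rels M.gen rels) : Nat.card (sub M.gen ws0) = 244823040 := by rw [ext0 M hR]; exact (res0 M hR).card
theorem fix0 (hR : Rels M.gen rels) : M.FixTriv (lev0.gens ws1) [23, 0, 1, 2, 3, 4, 5] := (res0 M hR).fixTriv M (fixw1 M hR)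
theorem fixw0 (hR : Rels M.gen rels) : M.FixTriv ws0 [23, 0, 1, 2, 3, 4, 5] := fun g hg => fix0 M hR g (ext0 M hR ▸ hg)
theorem stab0 (hR : Rels M.gen rels) : sub M.gen ws0 ⊓ MulAction.stabilizer Γ (M.dec 23) = sub M.gen ws1 := by rw [ext0 M hR]; exact (res0 M hR).stab
theorem orb0 (hR : Rels M.gen rels) (y : Ω) : y ∈ M.S lev0.orb ↔ ∃ g ∈ sub M.gen ws0, g • M.dec 23 = y := by rw [ext0 M hR]; exact (res0 M hR).orb y
theorem max0 (hR : Rels M.gen rels) (X : Subgroup Γ) (h1 : sub M.gen ws1 ≤ X) (h2 : X ≤ sub M.gen ws0) : X = sub M.gen ws1 ∨ X = sub M.gen ws0 := by rw [ext0 M hR] at h2 ⊢; exact (res0 M hR).max M primc0 X h1 h2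
theorem orig_eq {gen : ℕ → Γ} (h : Rels gen allRels) : sub gen (lets 3) = sub gen ws0 :=
  sub_lets_eq_of_rels (ds := defs) (by decide +kernel) (relsD_of_all h) (by decide +kernel) (relsO_of_all h)
theorem gen_mem {gen : ℕ → Γ} (h : Rels gen allRels) {X : Subgroup Γ} (h0 : ∀ l < 3, gen l ∈ X) : sub gen ws0 ≤ X :=
  sub_le_of_wsIn (lo := 0) (gen_mem_of_defRels (ds := defs) (fun l _ hl => h0 l hl) (by decide +kernel) (relsD_of_all h)) (by decide +kernel)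

end

end H14.M24c
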