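import Cfsg.Agent.H14.Dw2

/-! Generated certificate (tools14/pkgen) for the permutation group M11c of degree 24, order 7920, base 1 2 3 4. -/
set_option autoImplicit false
set_option maxRecDepth 100000
set_option maxHeartbeats 0

namespace H14.M11c
open H14

noncomputable def n0 : Net := (.cons (nat_lit 1) (nat_lit 0x440550)
(.cons (nat_lit 2) (nat_lit 0x310020)
(.cons (nat_lit 4) (nat_lit 0x10000)
(.cons (nat_lit 8) (nat_lit 0x85)
(.cons (nat_lit 16) (nat_lit 0x85)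
(.cons (nat_lit 8) (nat_lit 0xe1)
(.cons (nat_lit 4) (nat_lit 0x808)
(.cons (nat_lit 2) (nat_lit 0x300132)
(.cons (nat_lit 1) (nat_lit 0x441550)
.nil)))))))))
theorem n0_ok : Net.ok 24 n0 = true := by decide +kernel
noncomputable def n1 : Net := (.cons (nat_lit 1) (nat_lit 0x541110)
(.cons (nat_lit 2) (nat_lit 0x230000)
(.cons (nat_lit 4) (nat_lit 0x30000)
(.cons (nat_lit 8) (nat_lit 0x68)
(.cons (nat_lit 16) (nat_lit 0xf8)
(.cons (nat_lit 8) (nat_lit 0xea)
(.cons (nat_lit 4) (nat_lit 0xb0402)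
(.cons (nat_lit 2) (nat_lit 0x300030)
(.cons (nat_lit 1) (nat_lit 0x14540)
.nil)))))))))
theorem n1_ok : Net.ok 24 n1 = true := by decide +kernel
noncomputable def n2 : Net := (.cons (nat_lit 1) (nat_lit 0x10554)
(.cons (nat_lit 2) (nat_lit 0x122100)
(.cons (nat_lit 4) (nat_lit 0xe0700)
(.cons (nat_lit 8) (nat_lit 0x80)
(.cons (nat_lit 16) (nat_lit 0xf0)
(.cons (nat_lit 8) (nat_lit 0xf8)
(.cons (nat_lit 4) (nat_lit 0xb0d0c)
(.cons (nat_lit 2) (nat_lit 0x222332)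
(.cons (nat_lit 1) (nat_lit 0x451140)
.nil)))))))))
theorem n2_ok : Net.ok 24 n2 = true := by decide +kernel
noncomputable def n3 : Net := (.cons (nat_lit 1) (nat_lit 0x105510)
(.cons (nat_lit 2) (nat_lit 0x3020)
(.cons (nat_lit 4) (nat_lit 0x90900)
(.cons (nat_lit 8) (nat_lit 0xa1)
(.cons (nat_lit 16) (nat_lit 0xbd)
(.cons (nat_lit 8) (nat_lit 0xe1)
(.cons (nat_lit 4) (nat_lit 0x30308)
(.cons (nat_lit 2) (nat_lit 0x111232)
(.cons (nat_lit 1) (nat_lit 0x140000)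
.nil)))))))))
theorem n3_ok : Net.ok 24 n3 = true := by decide +kernel
noncomputable def n4 : Net := (.cons (nat_lit 1) (nat_lit 0x41150)
(.cons (nat_lit 2) (nat_lit 0x203000)
(.cons (nat_lit 8) (nat_lit 0xa9)
(.cons (nat_lit 16) (nat_lit 0xb9)
(.cons (nat_lit 8) (nat_lit 0xfd)
(.cons (nat_lit 4) (nat_lit 0x8060c)
(.cons (nat_lit 2) (nat_lit 0x1220)
(.cons (nat_lit 1) (nat_lit 0x445454)
.nil))))))))
theorem n4_ok : Net.ok 24 n4 = true := by decide +kernel
noncomputable def n5 : Net := (.cons (nat_lit 1) (nat_lit 0x45000)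
(.cons (nat_lit 2) (nat_lit 0x110230)
(.cons (nat_lit 4) (nat_lit 0x70000)
(.cons (nat_lit 8) (nat_lit 0x47)
(.cons (nat_lit 16) (nat_lit 0xe7)
(.cons (nat_lit 8) (nat_lit 0x8f)
(.cons (nat_lit 4) (nat_lit 0x60104)
(.cons (nat_lit 2) (nat_lit 0x131210)
(.cons (nat_lit 1) (nat_lit 0x111504)
.nil)))))))))
theorem n5_ok : Net.ok 24 n5 = true := by decide +kernel
noncomputable def n6 : Net := (.cons (nat_lit 1) (nat_lit 0x101500)
(.cons (nat_lit 2) (nat_lit 0x123000)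
(.cons (nat_lit 4) (nat_lit 0x40100)
(.cons (nat_lit 8) (nat_lit 0xd)
(.cons (nat_lit 16) (nat_lit 0x1d)
(.cons (nat_lit 8) (nat_lit 0xb5)
(.cons (nat_lit 4) (nat_lit 0x50208)
(.cons (nat_lit 2) (nat_lit 0x301230)
(.cons (nat_lit 1) (nat_lit 0x500)
.nil)))))))))
theorem n6_ok : Net.ok 24 n6 = true := by decide +kernel
noncomputable def n7 : Net := (.cons (nat_lit 1) (nat_lit 0x51100)
(.cons (nat_lit 2) (nat_lit 0x312200)
(.cons (nat_lit 4) (nat_lit 0xa0000)
(.cons (nat_lit 8) (nat_lit 0x2c)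
(.cons (nat_lit 16) (nat_lit 0xbc)
(.cons (nat_lit 8) (nat_lit 0x84)
(.cons (nat_lit 4) (nat_lit 0x50f08)
(.cons (nat_lit 2) (nat_lit 0x332200)
(.cons (nat_lit 1) (nat_lit 0x410110)
.nil)))))))))
theorem n7_ok : Net.ok 24 n7 = true := by decide +kernel
noncomputable def n8 : Net := (.cons (nat_lit 1) (nat_lit 0x110100)
(.cons (nat_lit 2) (nat_lit 0x100100)
(.cons (nat_lit 4) (nat_lit 0x70200)
(.cons (nat_lit 8) (nat_lit 0x4c)
(.cons (nat_lit 16) (nat_lit 0xfc)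
(.cons (nat_lit 8) (nat_lit 0xac)
(.cons (nat_lit 4) (nat_lit 0xb0100)
(.cons (nat_lit 2) (nat_lit 0x201000)
(.cons (nat_lit 1) (nat_lit 0x505410)
.nil)))))))))
theorem n8_ok : Net.ok 24 n8 = true := by decide +kernel
noncomputable def n9 : Net := (.cons (nat_lit 1) (nat_lit 0x554100)
(.cons (nat_lit 2) (nat_lit 0x23000)
(.cons (nat_lit 4) (nat_lit 0x80300)
(.cons (nat_lit 8) (nat_lit 0x7)
(.cons (nat_lit 16) (nat_lit 0xf7)
(.cons (nat_lit 8) (nat_lit 0xa7)
(.cons (nat_lit 4) (nat_lit 0x50b00)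
(.cons (nat_lit 2) (nat_lit 0x311230)
(.cons (nat_lit 1) (nat_lit 0x101450)
.nil)))))))))
theorem n9_ok : Net.ok 24 n9 = true := by decide +kernel
noncomputable def nets : List Net := [n0, n1, n2, n3, n4, n5, n6, n7, n8, n9]
theorem nets_ok : netsOk 24 nets = true := List.all_eq_true.2 (fa_cons n0_ok (fa_cons n1_ok (fa_cons n2_ok (fa_cons n3_ok (fa_cons n4_ok (fa_cons n5_ok (fa_cons n6_ok (fa_cons n7_ok (fa_cons n8_ok (fa_cons n9_ok (fa_nil)))))))))))
noncomputable def ws4 : List Word := []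
noncomputable def lev3 : Level := ⟨nat_lit 4,
[⟨[nat_lit 16], [], [],
[⟨nat_lit 0, [], nat_lit 1, [], []⟩,
⟨nat_lit 1, [], nat_lit 5, [], []⟩,
⟨nat_lit 2, [], nat_lit 0, [], []⟩,
⟨nat_lit 3, [], nat_lit 7, [], []⟩,
⟨nat_lit 4, [], nat_lit 6, [], []⟩,
⟨nat_lit 5, [], nat_lit 2, [], []⟩,
⟨nat_lit 6, [], nat_lit 3, [], []⟩,
⟨nat_lit 7, [], nat_lit 4, [], []⟩],
[]⟩,
⟨[nat_lit 18], [], [],
[⟨nat_lit 0, [], nat_lit 3, [], []⟩,
⟨nat_lit 1, [], nat_lit 6, [], []⟩,
⟨nat_lit 2, [], nat_lit 7, [], []⟩,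
⟨nat_lit 3, [], nat_lit 5, [], []⟩,
⟨nat_lit 4, [], nat_lit 0, [], []⟩,
⟨nat_lit 5, [], nat_lit 4, [], []⟩,
⟨nat_lit 6, [], nat_lit 2, [], []⟩,
⟨nat_lit 7, [], nat_lit 1, [], []⟩],
[]⟩],
[⟨dw (nat_lit 0x01), (nat_lit 0x10000), [], .nil, []⟩,
⟨dw (nat_lit 0x02), (nat_lit 0x100), [], .nil, []⟩,
⟨dw (nat_lit 0x03), (nat_lit 0x40000), [], .nil, []⟩,
⟨dw (nat_lit 0x04), (nat_lit 0x2000), [], .nil, []⟩,
⟨dw (nat_lit 0x0101), (nat_lit 0x1000), [], .nil, []⟩,
⟨dw (nat_lit 0x0301), (nat_lit 0x200), [], .nil, []⟩,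
⟨dw (nat_lit 0x0401), (nat_lit 0x40), [], .nil, []⟩]⟩
noncomputable def ex3 : List Word := []
noncomputable def ws3 : List Word := List.append ex3 (lev3.gens ws4)
noncomputable def rels3 : List (Word × Word) := List.append (lev3.rels ws4) (memRels (lev3.gens ws4) ex3 [])
noncomputable def lev2 : Level := ⟨nat_lit 3,
[⟨[nat_lit 12], [], [],
[⟨nat_lit 0, [], nat_lit 1, [], []⟩,
⟨nat_lit 1, [], nat_lit 1, dw (nat_lit 0x0401), dw (nat_lit 0x04)⟩,
⟨nat_lit 1, dw (nat_lit 0x01), nat_lit 1, dw (nat_lit 0x0101), dw (nat_lit 0x0101)⟩,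
⟨nat_lit 1, dw (nat_lit 0x02), nat_lit 0, [], dw (nat_lit 0x01)⟩,
⟨nat_lit 1, dw (nat_lit 0x03), nat_lit 1, dw (nat_lit 0x01), dw (nat_lit 0x03)⟩,
⟨nat_lit 1, dw (nat_lit 0x04), nat_lit 1, dw (nat_lit 0x03), dw (nat_lit 0x02)⟩,
⟨nat_lit 1, dw (nat_lit 0x0101), nat_lit 1, dw (nat_lit 0x04), dw (nat_lit 0x0401)⟩,
⟨nat_lit 1, dw (nat_lit 0x0301), nat_lit 1, dw (nat_lit 0x0301), dw (nat_lit 0x01)⟩,
⟨nat_lit 1, dw (nat_lit 0x0401), nat_lit 1, dw (nat_lit 0x02), dw (nat_lit 0x0301)⟩],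
[]⟩],
[⟨dw (nat_lit 0x01), (nat_lit 0x53350), [dw (nat_lit 0x01), dw (nat_lit 0x03), dw (nat_lit 0x0303)], .nil, []⟩]⟩
noncomputable def ex2 : List Word := [[nat_lit 14]]
noncomputable def ws2 : List Word := List.append ex2 (lev2.gens ws3)
noncomputable def rels2 : List (Word × Word) := List.append (lev2.rels ws3) (memRels (lev2.gens ws3) ex2 [dw (nat_lit 0x010105)])
noncomputable def lev1 : Level := ⟨nat_lit 2,
[⟨[nat_lit 8], [dw (nat_lit 0x01), dw (nat_lit 0x050306)], [dw (nat_lit 0x060208), dw (nat_lit 0x030705)],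
[⟨nat_lit 0, [], nat_lit 1, [], []⟩,
⟨nat_lit 1, [], nat_lit 1, dw (nat_lit 0x02), dw (nat_lit 0x070107)⟩,
⟨nat_lit 1, dw (nat_lit 0x06), nat_lit 0, [], dw (nat_lit 0x020505)⟩],
[dw (nat_lit 0x01), dw (nat_lit 0x0101), dw (nat_lit 0x03)]⟩],
[⟨dw (nat_lit 0x01), (nat_lit 0x53358), [dw (nat_lit 0x01), dw (nat_lit 0x03), dw (nat_lit 0x07), dw (nat_lit 0x01)], (.cons (nat_lit 3) [dw (nat_lit 0x0205), dw (nat_lit 0x080504)] [dw (nat_lit 0x01), dw (nat_lit 0x03), dw (nat_lit 0x0101)]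
.nil), [dw (nat_lit 0x06020505), dw (nat_lit 0x030505)]⟩]⟩
noncomputable def ex1 : List Word := [[nat_lit 10]]
noncomputable def ws1 : List Word := List.append ex1 (lev1.gens ws2)
noncomputable def rels1 : List (Word × Word) := List.append (lev1.rels ws2) (memRels (lev1.gens ws2) ex1 [dw (nat_lit 0x09010a040a07)])
noncomputable def lev0 : Level := ⟨nat_lit 1,
[⟨[nat_lit 4], [dw (nat_lit 0x01), dw (nat_lit 0x05), dw (nat_lit 0x09070a)], [dw (nat_lit 0x0502060c09), dw (nat_lit 0x03050c), dw (nat_lit 0x040b050a)],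
[⟨nat_lit 0, [], nat_lit 1, [], []⟩,
⟨nat_lit 1, [], nat_lit 1, dw (nat_lit 0x03), dw (nat_lit 0x020b050b09)⟩,
⟨nat_lit 1, dw (nat_lit 0x0b01), nat_lit 0, [], dw (nat_lit 0x06010b09)⟩],
[dw (nat_lit 0x01), dw (nat_lit 0x03), dw (nat_lit 0x0303), dw (nat_lit 0x01)]⟩],
[⟨dw (nat_lit 0x01), (nat_lit 0x5335c), [dw (nat_lit 0x01), dw (nat_lit 0x03), dw (nat_lit 0x05), dw (nat_lit 0x03), dw (nat_lit 0x01)], (.cons (nat_lit 2) [dw (nat_lit 0x0305)] [dw (nat_lit 0x01), dw (nat_lit 0x03), dw (nat_lit 0x01), dw (nat_lit 0x03), dw (nat_lit 0x0303)]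
(.cons (nat_lit 4) [dw (nat_lit 0x09), dw (nat_lit 0x0a0a0c)] [dw (nat_lit 0x01), dw (nat_lit 0x0101), dw (nat_lit 0x03)]
.nil)), [dw (nat_lit 0x04010509), dw (nat_lit 0x060105), dw (nat_lit 0x0502)]⟩]⟩
noncomputable def ex0 : List Word := [[nat_lit 6]]
noncomputable def ws0 : List Word := List.append ex0 (lev0.gens ws1)
noncomputable def rels0 : List (Word × Word) := List.append (lev0.rels ws1) (memRels (lev0.gens ws1) ex0 [dw (nat_lit 0x0105)])
noncomputable def prim0 : List (List Word) := [[dw (nat_lit 0x01), dw (nat_lit 0x0208), dw (nat_lit 0x01), dw (nat_lit 0x0b), dw (nat_lit 0x03)]]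
noncomputable def rels : List (Word × Word) := List.append rels0 (List.append rels1 (List.append rels2 (List.append rels3 ([]))))
noncomputable def defs : List Word := [dw (nat_lit 0x040204), dw (nat_lit 0x0204020401), dw (nat_lit 0x0607), dw (nat_lit 0x0505070707060805), dw (nat_lit 0x0a0b0909090c0c09), dw (nat_lit 0x0b0b0b090b090c), dw (nat_lit 0x0e0f0d100d), dw (nat_lit 0x0d0d0f)
]
noncomputable def relsD : List (Word × Word) := defRels defs 2
noncomputable def relsO : List (Word × Word) := memRels ws0 (lets 2) [dw (nat_lit 0x0109060b0d0d), dw (nat_lit 0x050109060f090d0d)]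
noncomputable def zc : Word := dw (nat_lit 0x02080f090e)
noncomputable def relsS : List (Word × Word) := List.append [(powW [2 * 2] 11, [])] [([2 * (2 + 1)], conjW [2 * 2] (flat ws0 zc))]
noncomputable def allRels : List (Word × Word) := List.append rels (List.append relsD (List.append relsO relsS))
theorem chk3 : lev3.chk 24 nets ws4 1 8 = true := by decide +kernel
theorem chk2 : lev2.chk 24 nets ws3 8 72 = true := by decide +kernel
theorem chk1 : lev1.chk 24 nets ws2 72 720 = true := by decide +kernel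
theorem primc0 : PM.primChk nets ws1 lev0 lev0.sos prim0 = true := by decide +kernel
theorem chk0 : lev0.chk 24 nets ws1 720 7920 = true := by decide +kernel
theorem rc0 : relsChk 24 nets 5 (idArr 24 5 5 0) allRels = true := by decide +kernel
section
variable {Γ Ω : Type*} [Group Γ] [MulAction Γ Ω] (M : PM Γ Ω 24 nets)

theorem all_ok (hs : M.Sep 5 (idArr 24 5 5 0)) : Rels M.gen allRels := (M.rels_of_chk hs rc0)
theorem sep [FaithfulSMul Γ Ω] : M.Sep 5 (idArr 24 5 5 0) := M.sep_idArr (by decide)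
theorem all_ok' [FaithfulSMul Γ Ω] : Rels M.gen allRels := all_ok M (sep M)
theorem rels_of_all {gen : ℕ → Γ} (h : Rels gen allRels) : Rels gen rels := Rels.left h
theorem relsD_of_all {gen : ℕ → Γ} (h : Rels gen allRels) : Rels gen relsD := Rels.left (Rels.right h)
theorem relsO_of_all {gen : ℕ → Γ} (h : Rels gen allRels) : Rels gen relsO := Rels.left (Rels.right (Rels.right h))
theorem relsS_of_all {gen : ℕ → Γ} (h : Rels gen allRels) : Rels gen relsS := Rels.right (Rels.right (Rels.right h))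
theorem card4 (_hR : Rels M.gen rels) : Nat.card (sub M.gen ws4) = 1 := M.card_nil
theorem fixw4 (_hR : Rels M.gen rels) : M.FixTriv ws4 [] := M.fixTriv_nil
theorem r3 (hR : Rels M.gen rels) : Rels M.gen rels3 := (Rels.left (Rels.right (Rels.right (Rels.right hR))))
theorem res3 (hR : Rels M.gen rels) : M.LevelRes ws4 lev3 8 := M.level (card4 M hR) chk3 (Rels.left (r3 M hR))
theorem ext3 (hR : Rels M.gen rels) : sub M.gen ws3 = sub M.gen (lev3.gens ws4) := sub_extend (Rels.right (r3 M hR))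
theorem card3 (hR : Rels M.gen rels) : Nat.card (sub M.gen ws3) = 8 := by rw [ext3 M hR]; exact (res3 M hR).card
theorem fix3 (hR : Rels M.gen rels) : M.FixTriv (lev3.gens ws4) [4] := (res3 M hR).fixTriv M (fixw4 M hR)
theorem fixw3 (hR : Rels M.gen rels) : M.FixTriv ws3 [4] := fun g hg => fix3 M hR g (ext3 M hR ▸ hg)
theorem stab3 (hR : Rels M.gen rels) : sub M.gen ws3 ⊓ MulAction.stabilizer Γ (M.dec 4) = sub M.gen ws4 := by rw [ext3 M hR]; exact (res3 M hR).stab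
theorem orb3 (hR : Rels M.gen rels) (y : Ω) : y ∈ M.S lev3.orb ↔ ∃ g ∈ sub M.gen ws3, g • M.dec 4 = y := by rw [ext3 M hR]; exact (res3 M hR).orb y
theorem r2 (hR : Rels M.gen rels) : Rels M.gen rels2 := (Rels.left (Rels.right (Rels.right hR)))
theorem res2 (hR : Rels M.gen rels) : M.LevelRes ws3 lev2 72 := M.level (card3 M hR) chk2 (Rels.left (r2 M hR))
theorem ext2 (hR : Rels M.gen rels) : sub M.gen ws2 = sub M.gen (lev2.gens ws3) := sub_extend (Rels.right (r2 M hR))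
theorem card2 (hR : Rels M.gen rels) : Nat.card (sub M.gen ws2) = 72 := by rw [ext2 M hR]; exact (res2 M hR).card
theorem fix2 (hR : Rels M.gen rels) : M.FixTriv (lev2.gens ws3) [3, 4] := (res2 M hR).fixTriv M (fixw3 M hR)
theorem fixw2 (hR : Rels M.gen rels) : M.FixTriv ws2 [3, 4] := fun g hg => fix2 M hR g (ext2 M hR ▸ hg)
theorem stab2 (hR : Rels M.gen rels) : sub M.gen ws2 ⊓ MulAction.stabilizer Γ (M.dec 3) = sub M.gen ws3 := by rw [ext2 M hR]; exact (res2 M hR).stab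
theorem orb2 (hR : Rels M.gen rels) (y : Ω) : y ∈ M.S lev2.orb ↔ ∃ g ∈ sub M.gen ws2, g • M.dec 3 = y := by rw [ext2 M hR]; exact (res2 M hR).orb y
theorem r1 (hR : Rels M.gen rels) : Rels M.gen rels1 := (Rels.left (Rels.right hR))
theorem res1 (hR : Rels M.gen rels) : M.LevelRes ws2 lev1 720 := M.level (card2 M hR) chk1 (Rels.left (r1 M hR))
theorem ext1 (hR : Rels M.gen rels) : sub M.gen ws1 = sub M.gen (lev1.gens ws2) := sub_extend (Rels.right (r1 M hR))
theorem card1 (hR : Rels M.gen rels) : Nat.card (sub M.gen ws1) = 720 := by rw [ext1 M hR]; exact (res1 M hR).card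
theorem fix1 (hR : Rels M.gen rels) : M.FixTriv (lev1.gens ws2) [2, 3, 4] := (res1 M hR).fixTriv M (fixw2 M hR)
theorem fixw1 (hR : Rels M.gen rels) : M.FixTriv ws1 [2, 3, 4] := fun g hg => fix1 M hR g (ext1 M hR ▸ hg)
theorem stab1 (hR : Rels M.gen rels) : sub M.gen ws1 ⊓ MulAction.stabilizer Γ (M.dec 2) = sub M.gen ws2 := by rw [ext1 M hR]; exact (res1 M hR).stab
theorem orb1 (hR : Rels M.gen rels) (y : Ω) : y ∈ M.S lev1.orb ↔ ∃ g ∈ sub M.gen ws1, g • M.dec 2 = y := by rw [ext1 M hR]; exact (res1 M hR).orb y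
theorem r0 (hR : Rels M.gen rels) : Rels M.gen rels0 := (Rels.left hR)
theorem res0 (hR : Rels M.gen rels) : M.LevelRes ws1 lev0 7920 := M.level (card1 M hR) chk0 (Rels.left (r0 M hR))
theorem ext0 (hR : Rels M.gen rels) : sub M.gen ws0 = sub M.gen (lev0.gens ws1) := sub_extend (Rels.right (r0 M hR))
theorem card0 (hR : Rels M.gen rels) : Nat.card (sub M.gen ws0) = 7920 := by rw [ext0 M hR]; exact (res0 M hR).card
theorem fix0 (hR : Rels M.gen rels) : M.FixTriv (lev0.gens ws1) [1, 2, 3, 4] := (res0 M hR).fixTriv M (fixw1 M hR)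
theorem fixw0 (hR : Rels M.gen rels) : M.FixTriv ws0 [1, 2, 3, 4] := fun g hg => fix0 M hR g (ext0 M hR ▸ hg)
theorem stab0 (hR : Rels M.gen rels) : sub M.gen ws0 ⊓ MulAction.stabilizer Γ (M.dec 1) = sub M.gen ws1 := by rw [ext0 M hR]; exact (res0 M hR).stab
theorem orb0 (hR : Rels M.gen rels) (y : Ω) : y ∈ M.S lev0.orb ↔ ∃ g ∈ sub M.gen ws0, g • M.dec 1 = y := by rw [ext0 M hR]; exact (res0 M hR).orb y
theorem max0 (hR : Rels M.gen rels) (X : Subgroup Γ) (h1 : sub M.gen ws1 ≤ X) (h2 : X ≤ sub M.gen ws0) : X = sub M.gen ws1 ∨ X = sub M.gen ws0 := by rw [ext0 M hR] at h2 ⊢; exact (res0 M hR).max M primc0 X h1 h2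
theorem orig_eq {gen : ℕ → Γ} (h : Rels gen allRels) : sub gen (lets 2) = sub gen ws0 :=
  sub_lets_eq_of_rels (ds := defs) (by decide +kernel) (relsD_of_all h) (by decide +kernel) (relsO_of_all h)
theorem gen_mem {gen : ℕ → Γ} (h : Rels gen allRels) {X : Subgroup Γ} (h0 : ∀ l < 2, gen l ∈ X) : sub gen ws0 ≤ X :=
  sub_le_of_wsIn (lo := 0) (gen_mem_of_defRels (ds := defs) (fun l _ hl => h0 l hl) (by decide +kernel) (relsD_of_all h)) (by decide +kernel)
theorem simple (h : Rels M.gen allRels) : IsSimpleGroup (sub M.gen ws0) :=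
  (res0 M (rels_of_all h)).simple (ext0 M (rels_of_all h)) (card1 M (rels_of_all h)) (by decide) primc0 (fix0 M (rels_of_all h)) (by decide +kernel)
    (z := M.gen 2) (by rw [← ev_single M.gen 2]; exact ev_getL_mem M.gen ws0 1) (m := 11)
    (by rw [← ev_single M.gen 2]; exact pow_eq_one_of_rels (Rels.left (relsS_of_all h))) (by norm_num)
    (ncl_of_defRels (ds := defs.drop 2) (c := zc) (by decide +kernel) (defRels_drop defs 2 2 ▸ (relsD_of_all h).drop 2) (by decide +kernel) (Rels.right (relsS_of_all h)))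

end

end H14.M11c
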