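import Cfsg.Agent.H14.Dw2

/-! Generated certificate (tools14/pkgen) for the permutation group M11d of degree 24, order 7920, base 23 5 7 10. -/
set_option autoImplicit false
set_option maxRecDepth 100000
set_option maxHeartbeats 0

namespace H14.M11d
open H14

noncomputable def n0 : Net := (.cons (nat_lit 1) (nat_lit 0x440550)
(.cons (nat_lit 2) (nat_lit 0x310020)
(.cons (nat_lit 4) (nat_lit 0x10000)
(.cons (nat_lit 8) (nat_lit 0x85)
(.cons (nat_lit 16) (nat_lit 0x85)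
(.cons (nat_lit 8) (nat_lit 0xe1)
(.cons (nat_lit 4) (nat_lit 0x808)
(.cons (nat_lit 2) (nat_lit 0x300132)
(.cons (nat_lit 1) (nat_lit 0x441550)
.nil)))))))))
theorem n0_ok : Net.ok 24 n0 = true := by decide +kernel
noncomputable def n1 : Net := (.cons (nat_lit 1) (nat_lit 0x541110)
(.cons (nat_lit 2) (nat_lit 0x230000)
(.cons (nat_lit 4) (nat_lit 0x30000)
(.cons (nat_lit 8) (nat_lit 0x68)
(.cons (nat_lit 16) (nat_lit 0xf8)
(.cons (nat_lit 8) (nat_lit 0xea)
(.cons (nat_lit 4) (nat_lit 0xb0402)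
(.cons (nat_lit 2) (nat_lit 0x300030)
(.cons (nat_lit 1) (nat_lit 0x14540)
.nil)))))))))
theorem n1_ok : Net.ok 24 n1 = true := by decide +kernel
noncomputable def n2 : Net := (.cons (nat_lit 1) (nat_lit 0x404110)
(.cons (nat_lit 2) (nat_lit 0x21000)
(.cons (nat_lit 4) (nat_lit 0x60500)
(.cons (nat_lit 8) (nat_lit 0x1)
(.cons (nat_lit 16) (nat_lit 0xf1)
(.cons (nat_lit 8) (nat_lit 0x97)
(.cons (nat_lit 4) (nat_lit 0x60404)
(.cons (nat_lit 2) (nat_lit 0x201020)
(.cons (nat_lit 1) (nat_lit 0x411504)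
.nil)))))))))
theorem n2_ok : Net.ok 24 n2 = true := by decide +kernel
noncomputable def n3 : Net := (.cons (nat_lit 1) (nat_lit 0x500540)
(.cons (nat_lit 2) (nat_lit 0x332300)
(.cons (nat_lit 4) (nat_lit 0x40100)
(.cons (nat_lit 8) (nat_lit 0x21)
(.cons (nat_lit 16) (nat_lit 0x65)
(.cons (nat_lit 8) (nat_lit 0x1d)
(.cons (nat_lit 4) (nat_lit 0x80000)
(.cons (nat_lit 2) (nat_lit 0x302212)
(.cons (nat_lit 1) (nat_lit 0x500540)
.nil)))))))))
theorem n3_ok : Net.ok 24 n3 = true := by decide +kernel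
noncomputable def n4 : Net := (.cons (nat_lit 1) (nat_lit 0x15044)
(.cons (nat_lit 2) (nat_lit 0x103300)
(.cons (nat_lit 4) (nat_lit 0x40200)
(.cons (nat_lit 8) (nat_lit 0x3)
(.cons (nat_lit 16) (nat_lit 0x5b)
(.cons (nat_lit 8) (nat_lit 0x49)
(.cons (nat_lit 4) (nat_lit 0x7010c)
(.cons (nat_lit 2) (nat_lit 0x33110)
(.cons (nat_lit 1) (nat_lit 0x110044)
.nil)))))))))
theorem n4_ok : Net.ok 24 n4 = true := by decide +kernel
noncomputable def n5 : Net := (.cons (nat_lit 1) (nat_lit 0x15110)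
(.cons (nat_lit 2) (nat_lit 0x133100)
(.cons (nat_lit 4) (nat_lit 0x400)
(.cons (nat_lit 8) (nat_lit 0x1a)
(.cons (nat_lit 16) (nat_lit 0x1a)
(.cons (nat_lit 8) (nat_lit 0xd0)
(.cons (nat_lit 4) (nat_lit 0x40d06)
(.cons (nat_lit 2) (nat_lit 0x113122)
(.cons (nat_lit 1) (nat_lit 0x115110)
.nil)))))))))
theorem n5_ok : Net.ok 24 n5 = true := by decide +kernel
noncomputable def n6 : Net := (.cons (nat_lit 1) (nat_lit 0x114000)
(.cons (nat_lit 2) (nat_lit 0x1000)
(.cons (nat_lit 4) (nat_lit 0x10500)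
(.cons (nat_lit 8) (nat_lit 0x49)
(.cons (nat_lit 16) (nat_lit 0x4b)
(.cons (nat_lit 8) (nat_lit 0x5f)
(.cons (nat_lit 4) (nat_lit 0x804)
(.cons (nat_lit 2) (nat_lit 0x100110)
(.cons (nat_lit 1) (nat_lit 0x15000)
.nil)))))))))
theorem n6_ok : Net.ok 24 n6 = true := by decide +kernel
noncomputable def n7 : Net := (.cons (nat_lit 1) (nat_lit 0x15404)
(.cons (nat_lit 2) (nat_lit 0x301010)
(.cons (nat_lit 4) (nat_lit 0x40500)
(.cons (nat_lit 8) (nat_lit 0xc9)
(.cons (nat_lit 16) (nat_lit 0xcf)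
(.cons (nat_lit 8) (nat_lit 0x9d)
(.cons (nat_lit 4) (nat_lit 0x104)
(.cons (nat_lit 2) (nat_lit 0x301010)
(.cons (nat_lit 1) (nat_lit 0x15404)
.nil)))))))))
theorem n7_ok : Net.ok 24 n7 = true := by decide +kernel
noncomputable def nets : List Net := [n0, n1, n2, n3, n4, n5, n6, n7]
theorem nets_ok : netsOk 24 nets = true := List.all_eq_true.2 (fa_cons n0_ok (fa_cons n1_ok (fa_cons n2_ok (fa_cons n3_ok (fa_cons n4_ok (fa_cons n5_ok (fa_cons n6_ok (fa_cons n7_ok (fa_nil)))))))))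
noncomputable def ws4 : List Word := []
noncomputable def lev3 : Level := ⟨nat_lit 10,
[⟨[nat_lit 12], [], [],
[⟨nat_lit 0, [], nat_lit 1, [], []⟩,
⟨nat_lit 1, [], nat_lit 2, [], []⟩,
⟨nat_lit 2, [], nat_lit 0, [], []⟩,
⟨nat_lit 3, [], nat_lit 5, [], []⟩,
⟨nat_lit 4, [], nat_lit 3, [], []⟩,
⟨nat_lit 5, [], nat_lit 4, [], []⟩],
[]⟩,
⟨[nat_lit 14], [], [],
[⟨nat_lit 0, [], nat_lit 3, [], []⟩,
⟨nat_lit 1, [], nat_lit 4, [], []⟩,
⟨nat_lit 2, [], nat_lit 5, [], []⟩,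
⟨nat_lit 3, [], nat_lit 0, [], []⟩,
⟨nat_lit 4, [], nat_lit 1, [], []⟩,
⟨nat_lit 5, [], nat_lit 2, [], []⟩],
[]⟩],
[⟨dw (nat_lit 0x01), (nat_lit 0x100000), [], .nil, []⟩,
⟨dw (nat_lit 0x02), (nat_lit 0x200000), [], .nil, []⟩,
⟨dw (nat_lit 0x03), (nat_lit 0x80000), [], .nil, []⟩,
⟨dw (nat_lit 0x0301), (nat_lit 0x800), [], .nil, []⟩,
⟨dw (nat_lit 0x0302), (nat_lit 0x4000), [], .nil, []⟩]⟩
noncomputable def ex3 : List Word := []
noncomputable def ws3 : List Word := List.append ex3 (lev3.gens ws4)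
noncomputable def rels3 : List (Word × Word) := List.append (lev3.rels ws4) (memRels (lev3.gens ws4) ex3 [])
noncomputable def lev2 : Level := ⟨nat_lit 7,
[⟨[nat_lit 8], [dw (nat_lit 0x03)], [dw (nat_lit 0x0302)],
[⟨nat_lit 0, [], nat_lit 1, [], []⟩,
⟨nat_lit 1, [], nat_lit 2, [], []⟩,
⟨nat_lit 2, [], nat_lit 2, dw (nat_lit 0x0301), dw (nat_lit 0x0301)⟩,
⟨nat_lit 1, dw (nat_lit 0x01), nat_lit 0, [], dw (nat_lit 0x02)⟩,
⟨nat_lit 2, dw (nat_lit 0x01), nat_lit 1, dw (nat_lit 0x02), []⟩,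
⟨nat_lit 2, dw (nat_lit 0x02), nat_lit 2, dw (nat_lit 0x01), dw (nat_lit 0x0302)⟩],
[dw (nat_lit 0x01)]⟩],
[⟨dw (nat_lit 0x01), (nat_lit 0x428000), [dw (nat_lit 0x01), dw (nat_lit 0x01)], (.cons (nat_lit 10) [dw (nat_lit 0x0103)] [dw (nat_lit 0x01)]
.nil), [dw (nat_lit 0x03)]⟩,
⟨dw (nat_lit 0x0101), (nat_lit 0x384c00), [dw (nat_lit 0x01), dw (nat_lit 0x03), dw (nat_lit 0x01)], .nil, []⟩]⟩
noncomputable def ex2 : List Word := [[nat_lit 10]]
noncomputable def ws2 : List Word := List.append ex2 (lev2.gens ws3)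
noncomputable def rels2 : List (Word × Word) := List.append (lev2.rels ws3) (memRels (lev2.gens ws3) ex2 [dw (nat_lit 0x0301010504)])
noncomputable def lev1 : Level := ⟨nat_lit 5,
[⟨[nat_lit 4], [dw (nat_lit 0x01), dw (nat_lit 0x050307)], [dw (nat_lit 0x040206), dw (nat_lit 0x0105)],
[⟨nat_lit 0, [], nat_lit 1, [], []⟩,
⟨nat_lit 1, [], nat_lit 1, dw (nat_lit 0x04), dw (nat_lit 0x020705)⟩,
⟨nat_lit 1, dw (nat_lit 0x06), nat_lit 1, dw (nat_lit 0x07), dw (nat_lit 0x0706)⟩,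
⟨nat_lit 1, dw (nat_lit 0x04), nat_lit 0, [], dw (nat_lit 0x0107)⟩],
[dw (nat_lit 0x01), dw (nat_lit 0x01), dw (nat_lit 0x03)]⟩],
[⟨dw (nat_lit 0x01), (nat_lit 0x7acc80), [dw (nat_lit 0x01), dw (nat_lit 0x03), dw (nat_lit 0x05), dw (nat_lit 0x03)], (.cons (nat_lit 7) [dw (nat_lit 0x030301), dw (nat_lit 0x02050106)] [dw (nat_lit 0x01), dw (nat_lit 0x03), dw (nat_lit 0x01)]
.nil), [dw (nat_lit 0x02), dw (nat_lit 0x040705)]⟩]⟩
noncomputable def ex1 : List Word := [[nat_lit 6]]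
noncomputable def ws1 : List Word := List.append ex1 (lev1.gens ws2)
noncomputable def rels1 : List (Word × Word) := List.append (lev1.rels ws2) (memRels (lev1.gens ws2) ex1 [dw (nat_lit 0x020301060907)])
noncomputable def lev0 : Level := ⟨nat_lit 23,
[⟨[nat_lit 0], [dw (nat_lit 0x0405), dw (nat_lit 0x0906), dw (nat_lit 0x0a070705)], [dw (nat_lit 0x030a050b0a), dw (nat_lit 0x01030b06), dw (nat_lit 0x03010b05)],
[⟨nat_lit 0, [], nat_lit 1, [], []⟩,
⟨nat_lit 1, [], nat_lit 1, dw (nat_lit 0x05), dw (nat_lit 0x07020b050b0a)⟩,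
⟨nat_lit 1, dw (nat_lit 0x05), nat_lit 0, [], dw (nat_lit 0x010308060b09)⟩],
[dw (nat_lit 0x01), dw (nat_lit 0x03), dw (nat_lit 0x01), dw (nat_lit 0x03), dw (nat_lit 0x01)]⟩],
[⟨dw (nat_lit 0x01), (nat_lit 0x7acca0), [dw (nat_lit 0x01), dw (nat_lit 0x03), dw (nat_lit 0x05), dw (nat_lit 0x03), dw (nat_lit 0x01)], (.cons (nat_lit 5) [dw (nat_lit 0x0501)] [dw (nat_lit 0x01), dw (nat_lit 0x03), dw (nat_lit 0x0401), dw (nat_lit 0x01), dw (nat_lit 0x03), dw (nat_lit 0x01)]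
(.cons (nat_lit 7) [dw (nat_lit 0x0609), dw (nat_lit 0x0607090b)] [dw (nat_lit 0x01), dw (nat_lit 0x03), dw (nat_lit 0x01)]
.nil)), [dw (nat_lit 0x03060b09), dw (nat_lit 0x080108), dw (nat_lit 0x030705)]⟩]⟩
noncomputable def ex0 : List Word := [[nat_lit 2]]
noncomputable def ws0 : List Word := List.append ex0 (lev0.gens ws1)
noncomputable def rels0 : List (Word × Word) := List.append (lev0.rels ws1) (memRels (lev0.gens ws1) ex0 [dw (nat_lit 0x0105030d080d0c)])
noncomputable def prim0 : List (List Word) := [[dw (nat_lit 0x01), dw (nat_lit 0x0d01), dw (nat_lit 0x07), dw (nat_lit 0x07), dw (nat_lit 0x0d04)]]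
noncomputable def rels : List (Word × Word) := List.append rels0 (List.append rels1 (List.append rels2 (List.append rels3 ([]))))
noncomputable def defs : List Word := [dw (nat_lit 0x0301040402040402), dw (nat_lit 0x030204), dw (nat_lit 0x07050805070705050805070608), dw (nat_lit 0x060707050705070705), dw (nat_lit 0x090c0a0b09), dw (nat_lit 0x0a0c0a0a0b)]
noncomputable def relsD : List (Word × Word) := defRels defs 2
noncomputable def relsO : List (Word × Word) := memRels ws0 (lets 2) [dw (nat_lit 0x0105070b090f0d), dw (nat_lit 0x01)]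
noncomputable def relsS : List (Word × Word) := []
noncomputable def allRels : List (Word × Word) := List.append rels (List.append relsD (List.append relsO relsS))
theorem chk3 : lev3.chk 24 nets ws4 1 6 = true := by decide +kernel
theorem chk2 : lev2.chk 24 nets ws3 6 60 = true := by decide +kernel
theorem chk1 : lev1.chk 24 nets ws2 60 660 = true := by decide +kernel
theorem primc0 : PM.primChk nets ws1 lev0 lev0.sos prim0 = true := by decide +kernel
theorem chk0 : lev0.chk 24 nets ws1 660 7920 = true := by decide +kernel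
theorem rc0 : relsChk 24 nets 5 (idArr 24 5 5 0) allRels = true := by decide +kernel
section
variable {Γ Ω : Type*} [Group Γ] [MulAction Γ Ω] (M : PM Γ Ω 24 nets)

theorem all_ok (hs : M.Sep 5 (idArr 24 5 5 0)) : Rels M.gen allRels := (M.rels_of_chk hs rc0)
theorem sep [FaithfulSMul Γ Ω] : M.Sep 5 (idArr 24 5 5 0) := M.sep_idArr (by decide)
theorem all_ok' [FaithfulSMul Γ Ω] : Rels M.gen allRels := all_ok M (sep M)
theorem rels_of_all {gen : ℕ → Γ} (h : Rels gen allRels) : Rels gen rels := Rels.left h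
theorem relsD_of_all {gen : ℕ → Γ} (h : Rels gen allRels) : Rels gen relsD := Rels.left (Rels.right h)
theorem relsO_of_all {gen : ℕ → Γ} (h : Rels gen allRels) : Rels gen relsO := Rels.left (Rels.right (Rels.right h))
theorem relsS_of_all {gen : ℕ → Γ} (h : Rels gen allRels) : Rels gen relsS := Rels.right (Rels.right (Rels.right h))
theorem card4 (_hR : Rels M.gen rels) : Nat.card (sub M.gen ws4) = 1 := M.card_nil
theorem fixw4 (_hR : Rels M.gen rels) : M.FixTriv ws4 [] := M.fixTriv_nil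
theorem r3 (hR : Rels M.gen rels) : Rels M.gen rels3 := (Rels.left (Rels.right (Rels.right (Rels.right hR))))
theorem res3 (hR : Rels M.gen rels) : M.LevelRes ws4 lev3 6 := M.level (card4 M hR) chk3 (Rels.left (r3 M hR))
theorem ext3 (hR : Rels M.gen rels) : sub M.gen ws3 = sub M.gen (lev3.gens ws4) := sub_extend (Rels.right (r3 M hR))
theorem card3 (hR : Rels M.gen rels) : Nat.card (sub M.gen ws3) = 6 := by rw [ext3 M hR]; exact (res3 M hR).card
theorem fix3 (hR : Rels M.gen rels) : M.FixTriv (lev3.gens ws4) [10] := (res3 M hR).fixTriv M (fixw4 M hR)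
theorem fixw3 (hR : Rels M.gen rels) : M.FixTriv ws3 [10] := fun g hg => fix3 M hR g (ext3 M hR ▸ hg)
theorem stab3 (hR : Rels M.gen rels) : sub M.gen ws3 ⊓ MulAction.stabilizer Γ (M.dec 10) = sub M.gen ws4 := by rw [ext3 M hR]; exact (res3 M hR).stab
theorem orb3 (hR : Rels M.gen rels) (y : Ω) : y ∈ M.S lev3.orb ↔ ∃ g ∈ sub M.gen ws3, g • M.dec 10 = y := by rw [ext3 M hR]; exact (res3 M hR).orb y
theorem r2 (hR : Rels M.gen rels) : Rels M.gen rels2 := (Rels.left (Rels.right (Rels.right hR)))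
theorem res2 (hR : Rels M.gen rels) : M.LevelRes ws3 lev2 60 := M.level (card3 M hR) chk2 (Rels.left (r2 M hR))
theorem ext2 (hR : Rels M.gen rels) : sub M.gen ws2 = sub M.gen (lev2.gens ws3) := sub_extend (Rels.right (r2 M hR))
theorem card2 (hR : Rels M.gen rels) : Nat.card (sub M.gen ws2) = 60 := by rw [ext2 M hR]; exact (res2 M hR).card
theorem fix2 (hR : Rels M.gen rels) : M.FixTriv (lev2.gens ws3) [7, 10] := (res2 M hR).fixTriv M (fixw3 M hR)
theorem fixw2 (hR : Rels M.gen rels) : M.FixTriv ws2 [7, 10] := fun g hg => fix2 M hR g (ext2 M hR ▸ hg)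
theorem stab2 (hR : Rels M.gen rels) : sub M.gen ws2 ⊓ MulAction.stabilizer Γ (M.dec 7) = sub M.gen ws3 := by rw [ext2 M hR]; exact (res2 M hR).stab
theorem orb2 (hR : Rels M.gen rels) (y : Ω) : y ∈ M.S lev2.orb ↔ ∃ g ∈ sub M.gen ws2, g • M.dec 7 = y := by rw [ext2 M hR]; exact (res2 M hR).orb y
theorem r1 (hR : Rels M.gen rels) : Rels M.gen rels1 := (Rels.left (Rels.right hR))
theorem res1 (hR : Rels M.gen rels) : M.LevelRes ws2 lev1 660 := M.level (card2 M hR) chk1 (Rels.left (r1 M hR))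
theorem ext1 (hR : Rels M.gen rels) : sub M.gen ws1 = sub M.gen (lev1.gens ws2) := sub_extend (Rels.right (r1 M hR))
theorem card1 (hR : Rels M.gen rels) : Nat.card (sub M.gen ws1) = 660 := by rw [ext1 M hR]; exact (res1 M hR).card
theorem fix1 (hR : Rels M.gen rels) : M.FixTriv (lev1.gens ws2) [5, 7, 10] := (res1 M hR).fixTriv M (fixw2 M hR)
theorem fixw1 (hR : Rels M.gen rels) : M.FixTriv ws1 [5, 7, 10] := fun g hg => fix1 M hR g (ext1 M hR ▸ hg)
theorem stab1 (hR : Rels M.gen rels) : sub M.gen ws1 ⊓ MulAction.stabilizer Γ (M.dec 5) = sub M.gen ws2 := by rw [ext1 M hR]; exact (res1 M hR).stab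
theorem orb1 (hR : Rels M.gen rels) (y : Ω) : y ∈ M.S lev1.orb ↔ ∃ g ∈ sub M.gen ws1, g • M.dec 5 = y := by rw [ext1 M hR]; exact (res1 M hR).orb y
theorem r0 (hR : Rels M.gen rels) : Rels M.gen rels0 := (Rels.left hR)
theorem res0 (hR : Rels M.gen rels) : M.LevelRes ws1 lev0 7920 := M.level (card1 M hR) chk0 (Rels.left (r0 M hR))
theorem ext0 (hR : Rels M.gen rels) : sub M.gen ws0 = sub M.gen (lev0.gens ws1) := sub_extend (Rels.right (r0 M hR))
theorem card0 (hR : Rels M.gen rels) : Nat.card (sub M.gen ws0) = 7920 := by rw [ext0 M hR]; exact (res0 M hR).card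
theorem fix0 (hR : Rels M.gen rels) : M.FixTriv (lev0.gens ws1) [23, 5, 7, 10] := (res0 M hR).fixTriv M (fixw1 M hR)
theorem fixw0 (hR : Rels M.gen rels) : M.FixTriv ws0 [23, 5, 7, 10] := fun g hg => fix0 M hR g (ext0 M hR ▸ hg)
theorem stab0 (hR : Rels M.gen rels) : sub M.gen ws0 ⊓ MulAction.stabilizer Γ (M.dec 23) = sub M.gen ws1 := by rw [ext0 M hR]; exact (res0 M hR).stab
theorem orb0 (hR : Rels M.gen rels) (y : Ω) : y ∈ M.S lev0.orb ↔ ∃ g ∈ sub M.gen ws0, g • M.dec 23 = y := by rw [ext0 M hR]; exact (res0 M hR).orb y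
theorem max0 (hR : Rels M.gen rels) (X : Subgroup Γ) (h1 : sub M.gen ws1 ≤ X) (h2 : X ≤ sub M.gen ws0) : X = sub M.gen ws1 ∨ X = sub M.gen ws0 := by rw [ext0 M hR] at h2 ⊢; exact (res0 M hR).max M primc0 X h1 h2
theorem orig_eq {gen : ℕ → Γ} (h : Rels gen allRels) : sub gen (lets 2) = sub gen ws0 :=
  sub_lets_eq_of_rels (ds := defs) (by decide +kernel) (relsD_of_all h) (by decide +kernel) (relsO_of_all h)
theorem gen_mem {gen : ℕ → Γ} (h : Rels gen allRels) {X : Subgroup Γ} (h0 : ∀ l < 2, gen l ∈ X) : sub gen ws0 ≤ X :=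
  sub_le_of_wsIn (lo := 0) (gen_mem_of_defRels (ds := defs) (fun l _ hl => h0 l hl) (by decide +kernel) (relsD_of_all h)) (by decide +kernel)

end

end H14.M11d
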