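import Cfsg.Agent.H14.Dw2

/-! Generated certificate (tools14/pkgen) for the permutation group M12c of degree 24, order 95040, base 0 1 2 3 4. -/
set_option autoImplicit false
set_option maxRecDepth 100000
set_option maxHeartbeats 0

namespace H14.M12c
open H14

noncomputable def n0 : Net := (.cons (nat_lit 1) (nat_lit 0x144454)
(.cons (nat_lit 2) (nat_lit 0x103010)
(.cons (nat_lit 4) (nat_lit 0x10100)
(.cons (nat_lit 8) (nat_lit 0x2a)
(.cons (nat_lit 16) (nat_lit 0x3e)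
(.cons (nat_lit 8) (nat_lit 0xef)
(.cons (nat_lit 4) (nat_lit 0x80305)
(.cons (nat_lit 2) (nat_lit 0x132203)
(.cons (nat_lit 1) (nat_lit 0x545155)
.nil)))))))))
theorem n0_ok : Net.ok 24 n0 = true := by decide +kernel
noncomputable def n1 : Net := (.cons (nat_lit 1) (nat_lit 0x104440)
(.cons (nat_lit 2) (nat_lit 0x20)
(.cons (nat_lit 4) (nat_lit 0x50500)
(.cons (nat_lit 8) (nat_lit 0xd8)
(.cons (nat_lit 16) (nat_lit 0xda)
(.cons (nat_lit 8) (nat_lit 0x39)
(.cons (nat_lit 4) (nat_lit 0x50d07)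
(.cons (nat_lit 2) (nat_lit 0x210000)
(.cons (nat_lit 1) (nat_lit 0x10405)
.nil)))))))))
theorem n1_ok : Net.ok 24 n1 = true := by decide +kernel
noncomputable def n2 : Net := (.cons (nat_lit 1) (nat_lit 0x401110)
(.cons (nat_lit 2) (nat_lit 0x223200)
(.cons (nat_lit 4) (nat_lit 0x10300)
(.cons (nat_lit 8) (nat_lit 0x12)
(.cons (nat_lit 16) (nat_lit 0x92)
(.cons (nat_lit 8) (nat_lit 0x8c)
(.cons (nat_lit 4) (nat_lit 0xb020e)
(.cons (nat_lit 2) (nat_lit 0x331300)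
(.cons (nat_lit 1) (nat_lit 0x500044)
.nil)))))))))
theorem n2_ok : Net.ok 24 n2 = true := by decide +kernel
noncomputable def n3 : Net := (.cons (nat_lit 1) (nat_lit 0x154040)
(.cons (nat_lit 2) (nat_lit 0x1000)
(.cons (nat_lit 8) (nat_lit 0x4)
(.cons (nat_lit 16) (nat_lit 0xe)
(.cons (nat_lit 8) (nat_lit 0x56)
(.cons (nat_lit 4) (nat_lit 0x5020c)
(.cons (nat_lit 2) (nat_lit 0x230020)
(.cons (nat_lit 1) (nat_lit 0x155514)
.nil))))))))
theorem n3_ok : Net.ok 24 n3 = true := by decide +kernel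
noncomputable def n4 : Net := (.cons (nat_lit 1) (nat_lit 0x451100)
(.cons (nat_lit 2) (nat_lit 0x310120)
(.cons (nat_lit 4) (nat_lit 0x60200)
(.cons (nat_lit 8) (nat_lit 0x51)
(.cons (nat_lit 16) (nat_lit 0xf9)
(.cons (nat_lit 8) (nat_lit 0x35)
(.cons (nat_lit 4) (nat_lit 0x70a00)
(.cons (nat_lit 2) (nat_lit 0x31110)
(.cons (nat_lit 1) (nat_lit 0x414510)
.nil)))))))))
theorem n4_ok : Net.ok 24 n4 = true := by decide +kernel
noncomputable def n5 : Net := (.cons (nat_lit 1) (nat_lit 0x51000)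
(.cons (nat_lit 2) (nat_lit 0x11100)
(.cons (nat_lit 4) (nat_lit 0xc0300)
(.cons (nat_lit 8) (nat_lit 0xa)
(.cons (nat_lit 16) (nat_lit 0xae)
(.cons (nat_lit 8) (nat_lit 0x5e)
(.cons (nat_lit 4) (nat_lit 0x100)
(.cons (nat_lit 2) (nat_lit 0x31010)
(.cons (nat_lit 1) (nat_lit 0x140540)
.nil)))))))))
theorem n5_ok : Net.ok 24 n5 = true := by decide +kernel
noncomputable def n6 : Net := (.cons (nat_lit 1) (nat_lit 0x404540)
(.cons (nat_lit 2) (nat_lit 0x311300)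
(.cons (nat_lit 4) (nat_lit 0x100)
(.cons (nat_lit 8) (nat_lit 0x83)
(.cons (nat_lit 16) (nat_lit 0xd3)
(.cons (nat_lit 8) (nat_lit 0x7b)
(.cons (nat_lit 4) (nat_lit 0xb0900)
(.cons (nat_lit 2) (nat_lit 0x202330)
(.cons (nat_lit 1) (nat_lit 0x4140)
.nil)))))))))
theorem n6_ok : Net.ok 24 n6 = true := by decide +kernel
noncomputable def n7 : Net := (.cons (nat_lit 1) (nat_lit 0x440400)
(.cons (nat_lit 2) (nat_lit 0x120100)
(.cons (nat_lit 4) (nat_lit 0xf0c00)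
(.cons (nat_lit 8) (nat_lit 0x95)
(.cons (nat_lit 16) (nat_lit 0xf5)
(.cons (nat_lit 8) (nat_lit 0x25)
(.cons (nat_lit 4) (nat_lit 0xf0300)
(.cons (nat_lit 2) (nat_lit 0x201020)
(.cons (nat_lit 1) (nat_lit 0x500440)
.nil)))))))))
theorem n7_ok : Net.ok 24 n7 = true := by decide +kernel
noncomputable def n8 : Net := (.cons (nat_lit 1) (nat_lit 0x554100)
(.cons (nat_lit 2) (nat_lit 0x23000)
(.cons (nat_lit 4) (nat_lit 0x80300)
(.cons (nat_lit 8) (nat_lit 0x7)
(.cons (nat_lit 16) (nat_lit 0xf7)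
(.cons (nat_lit 8) (nat_lit 0xa7)
(.cons (nat_lit 4) (nat_lit 0x50b00)
(.cons (nat_lit 2) (nat_lit 0x311230)
(.cons (nat_lit 1) (nat_lit 0x101450)
.nil)))))))))
theorem n8_ok : Net.ok 24 n8 = true := by decide +kernel
noncomputable def nets : List Net := [n0, n1, n2, n3, n4, n5, n6, n7, n8]
theorem nets_ok : netsOk 24 nets = true := List.all_eq_true.2 (fa_cons n0_ok (fa_cons n1_ok (fa_cons n2_ok (fa_cons n3_ok (fa_cons n4_ok (fa_cons n5_ok (fa_cons n6_ok (fa_cons n7_ok (fa_cons n8_ok (fa_nil))))))))))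
noncomputable def ws5 : List Word := []
noncomputable def lev4 : Level := ⟨nat_lit 4,
[⟨[nat_lit 14], [], [],
[⟨nat_lit 0, [], nat_lit 1, [], []⟩,
⟨nat_lit 1, [], nat_lit 5, [], []⟩,
⟨nat_lit 2, [], nat_lit 0, [], []⟩,
⟨nat_lit 3, [], nat_lit 7, [], []⟩,
⟨nat_lit 4, [], nat_lit 6, [], []⟩,
⟨nat_lit 5, [], nat_lit 2, [], []⟩,
⟨nat_lit 6, [], nat_lit 3, [], []⟩,
⟨nat_lit 7, [], nat_lit 4, [], []⟩],
[]⟩,
⟨[nat_lit 16], [], [],
[⟨nat_lit 0, [], nat_lit 3, [], []⟩,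
⟨nat_lit 1, [], nat_lit 6, [], []⟩,
⟨nat_lit 2, [], nat_lit 7, [], []⟩,
⟨nat_lit 3, [], nat_lit 5, [], []⟩,
⟨nat_lit 4, [], nat_lit 0, [], []⟩,
⟨nat_lit 5, [], nat_lit 4, [], []⟩,
⟨nat_lit 6, [], nat_lit 2, [], []⟩,
⟨nat_lit 7, [], nat_lit 1, [], []⟩],
[]⟩],
[⟨dw (nat_lit 0x01), (nat_lit 0x100), [], .nil, []⟩,
⟨dw (nat_lit 0x02), (nat_lit 0x10000), [], .nil, []⟩,
⟨dw (nat_lit 0x03), (nat_lit 0x40000), [], .nil, []⟩,
⟨dw (nat_lit 0x04), (nat_lit 0x2000), [], .nil, []⟩,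
⟨dw (nat_lit 0x0101), (nat_lit 0x1000), [], .nil, []⟩,
⟨dw (nat_lit 0x0301), (nat_lit 0x40), [], .nil, []⟩,
⟨dw (nat_lit 0x0401), (nat_lit 0x200), [], .nil, []⟩]⟩
noncomputable def ex4 : List Word := []
noncomputable def ws4 : List Word := List.append ex4 (lev4.gens ws5)
noncomputable def rels4 : List (Word × Word) := List.append (lev4.rels ws5) (memRels (lev4.gens ws5) ex4 [])
noncomputable def lev3 : Level := ⟨nat_lit 3,
[⟨[nat_lit 12], [], [],
[⟨nat_lit 0, [], nat_lit 1, [], []⟩,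
⟨nat_lit 1, [], nat_lit 1, dw (nat_lit 0x01), dw (nat_lit 0x04)⟩,
⟨nat_lit 1, dw (nat_lit 0x01), nat_lit 1, dw (nat_lit 0x0401), dw (nat_lit 0x02)⟩,
⟨nat_lit 1, dw (nat_lit 0x02), nat_lit 1, dw (nat_lit 0x02), dw (nat_lit 0x0301)⟩,
⟨nat_lit 1, dw (nat_lit 0x03), nat_lit 1, dw (nat_lit 0x0301), dw (nat_lit 0x03)⟩,
⟨nat_lit 1, dw (nat_lit 0x04), nat_lit 1, dw (nat_lit 0x03), dw (nat_lit 0x0401)⟩,
⟨nat_lit 1, dw (nat_lit 0x0101), nat_lit 1, dw (nat_lit 0x04), dw (nat_lit 0x01)⟩,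
⟨nat_lit 1, dw (nat_lit 0x0301), nat_lit 1, dw (nat_lit 0x0101), dw (nat_lit 0x0101)⟩,
⟨nat_lit 1, dw (nat_lit 0x0401), nat_lit 0, [], dw (nat_lit 0x0301)⟩],
[]⟩],
[⟨dw (nat_lit 0x01), (nat_lit 0x53350), [dw (nat_lit 0x01), dw (nat_lit 0x03), dw (nat_lit 0x0404)], .nil, []⟩]⟩
noncomputable def ex3 : List Word := []
noncomputable def ws3 : List Word := List.append ex3 (lev3.gens ws4)
noncomputable def rels3 : List (Word × Word) := List.append (lev3.rels ws4) (memRels (lev3.gens ws4) ex3 [])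
noncomputable def lev2 : Level := ⟨nat_lit 2,
[⟨[nat_lit 8], [dw (nat_lit 0x01), dw (nat_lit 0x0601060204)], [dw (nat_lit 0x01), dw (nat_lit 0x0301010503)],
[⟨nat_lit 0, [], nat_lit 1, [], []⟩,
⟨nat_lit 1, [], nat_lit 0, [], dw (nat_lit 0x02)⟩,
⟨nat_lit 1, dw (nat_lit 0x03), nat_lit 1, dw (nat_lit 0x04), dw (nat_lit 0x0104)⟩],
[dw (nat_lit 0x01), dw (nat_lit 0x0101), dw (nat_lit 0x03)]⟩],
[⟨dw (nat_lit 0x01), (nat_lit 0x53358), [dw (nat_lit 0x03), dw (nat_lit 0x05), dw (nat_lit 0x01), dw (nat_lit 0x03)], (.cons (nat_lit 3) [dw (nat_lit 0x01), dw (nat_lit 0x04020505)] [dw (nat_lit 0x01), dw (nat_lit 0x0101), dw (nat_lit 0x03)]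
.nil), [dw (nat_lit 0x01), dw (nat_lit 0x06010303)]⟩]⟩
noncomputable def ex2 : List Word := [[nat_lit 10]]
noncomputable def ws2 : List Word := List.append ex2 (lev2.gens ws3)
noncomputable def rels2 : List (Word × Word) := List.append (lev2.rels ws3) (memRels (lev2.gens ws3) ex2 [dw (nat_lit 0x080105030306)])
noncomputable def lev1 : Level := ⟨nat_lit 1,
[⟨[nat_lit 4], [dw (nat_lit 0x0307), dw (nat_lit 0x0705), dw (nat_lit 0x08050a05)], [dw (nat_lit 0x0a010905050907), dw (nat_lit 0x0a010607), dw (nat_lit 0x0801050907)],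
[⟨nat_lit 0, [], nat_lit 1, [], []⟩,
⟨nat_lit 1, [], nat_lit 1, dw (nat_lit 0x04), dw (nat_lit 0x0103050907)⟩,
⟨nat_lit 1, dw (nat_lit 0x01), nat_lit 0, [], dw (nat_lit 0x020705050707)⟩],
[dw (nat_lit 0x01), dw (nat_lit 0x03), dw (nat_lit 0x0303), dw (nat_lit 0x01)]⟩],
[⟨dw (nat_lit 0x01), (nat_lit 0x5335c), [dw (nat_lit 0x01), dw (nat_lit 0x03), dw (nat_lit 0x05), dw (nat_lit 0x01), dw (nat_lit 0x03)], (.cons (nat_lit 2) [dw (nat_lit 0x0209)] [dw (nat_lit 0x01), dw (nat_lit 0x0101), dw (nat_lit 0x03), dw (nat_lit 0x03), dw (nat_lit 0x01)]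
(.cons (nat_lit 3) [dw (nat_lit 0x0607), dw (nat_lit 0x09050705)] [dw (nat_lit 0x01), dw (nat_lit 0x03), dw (nat_lit 0x0101)]
.nil)), [dw (nat_lit 0x03050907), dw (nat_lit 0x0309050a07), dw (nat_lit 0x010a050707)]⟩]⟩
noncomputable def ex1 : List Word := [[nat_lit 6]]
noncomputable def ws1 : List Word := List.append ex1 (lev1.gens ws2)
noncomputable def rels1 : List (Word × Word) := List.append (lev1.rels ws2) (memRels (lev1.gens ws2) ex1 [dw (nat_lit 0x050103090707)])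
noncomputable def prim1 : List (List Word) := [[dw (nat_lit 0x01), dw (nat_lit 0x0101), dw (nat_lit 0x03), dw (nat_lit 0x05)]]
noncomputable def lev0 : Level := ⟨nat_lit 0,
[⟨[nat_lit 0], [dw (nat_lit 0x0101), dw (nat_lit 0x09), dw (nat_lit 0x0b)], [dw (nat_lit 0x070105070d090d), dw (nat_lit 0x04060e090b0b), dw (nat_lit 0x0701060d090c)],
[⟨nat_lit 0, [], nat_lit 1, [], []⟩,
⟨nat_lit 1, [], nat_lit 1, dw (nat_lit 0x09), dw (nat_lit 0x0702050d09090b0b)⟩,
⟨nat_lit 1, dw (nat_lit 0x0401), nat_lit 0, [], dw (nat_lit 0x02060d0909)⟩],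
[dw (nat_lit 0x03), dw (nat_lit 0x0406), dw (nat_lit 0x04060406), dw (nat_lit 0x03), dw (nat_lit 0x01)]⟩],
[⟨dw (nat_lit 0x01), (nat_lit 0x5335e), [dw (nat_lit 0x01), dw (nat_lit 0x03), dw (nat_lit 0x01), dw (nat_lit 0x05), dw (nat_lit 0x01)], (.cons (nat_lit 1) [dw (nat_lit 0x0105)] [dw (nat_lit 0x01), dw (nat_lit 0x0401), dw (nat_lit 0x01), dw (nat_lit 0x07), dw (nat_lit 0x01)]
(.cons (nat_lit 2) [dw (nat_lit 0x060d)] [dw (nat_lit 0x01), dw (nat_lit 0x0101), dw (nat_lit 0x03), dw (nat_lit 0x03), dw (nat_lit 0x01)]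
(.cons (nat_lit 3) [dw (nat_lit 0x0a0b), dw (nat_lit 0x090b0a)] [dw (nat_lit 0x01), dw (nat_lit 0x03), dw (nat_lit 0x0101)]
.nil))), [dw (nat_lit 0x050105070b09090c), dw (nat_lit 0x010e0509090e), dw (nat_lit 0x09090b), dw (nat_lit 0x0d09090b0b)]⟩]⟩
noncomputable def ex0 : List Word := [[nat_lit 2]]
noncomputable def ws0 : List Word := List.append ex0 (lev0.gens ws1)
noncomputable def rels0 : List (Word × Word) := List.append (lev0.rels ws1) (memRels (lev0.gens ws1) ex0 [dw (nat_lit 0x0501040c070c0d0d)])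
noncomputable def prim0 : List (List Word) := [[dw (nat_lit 0x01), dw (nat_lit 0x0b01), dw (nat_lit 0x07), dw (nat_lit 0x07), dw (nat_lit 0x01)]]
noncomputable def rels : List (Word × Word) := List.append rels0 (List.append rels1 (List.append rels2 (List.append rels3 (List.append rels4 ([])))))
noncomputable def defs : List Word := [dw (nat_lit 0x02020404), dw (nat_lit 0x04040103010104), dw (nat_lit 0x0608050508080606), dw (nat_lit 0x080805080808080505), dw (nat_lit 0x0a0a), dw (nat_lit 0x0a0a0c0c0c0a0c0a0a0a0c090b), dw (nat_lit 0x0e0e0f0d)]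
noncomputable def relsD : List (Word × Word) := defRels defs 2
noncomputable def relsO : List (Word × Word) := memRels ws0 (lets 2) [dw (nat_lit 0x020905120f), dw (nat_lit 0x01)]
noncomputable def relsS : List (Word × Word) := []
noncomputable def allRels : List (Word × Word) := List.append rels (List.append relsD (List.append relsO relsS))
theorem chk4 : lev4.chk 24 nets ws5 1 8 = true := by decide +kernel
theorem chk3 : lev3.chk 24 nets ws4 8 72 = true := by decide +kernel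
theorem chk2 : lev2.chk 24 nets ws3 72 720 = true := by decide +kernel
theorem primc1 : PM.primChk nets ws2 lev1 lev1.sos prim1 = true := by decide +kernel
theorem chk1 : lev1.chk 24 nets ws2 720 7920 = true := by decide +kernel
theorem primc0 : PM.primChk nets ws1 lev0 lev0.sos prim0 = true := by decide +kernel
theorem chk0 : lev0.chk 24 nets ws1 7920 95040 = true := by decide +kernel
theorem rc0 : relsChk 24 nets 5 (idArr 24 5 5 0) allRels = true := by decide +kernel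
section
variable {Γ Ω : Type*} [Group Γ] [MulAction Γ Ω] (M : PM Γ Ω 24 nets)

theorem all_ok (hs : M.Sep 5 (idArr 24 5 5 0)) : Rels M.gen allRels := (M.rels_of_chk hs rc0)
theorem sep [FaithfulSMul Γ Ω] : M.Sep 5 (idArr 24 5 5 0) := M.sep_idArr (by decide)
theorem all_ok' [FaithfulSMul Γ Ω] : Rels M.gen allRels := all_ok M (sep M)
theorem rels_of_all {gen : ℕ → Γ} (h : Rels gen allRels) : Rels gen rels := Rels.left h
theorem relsD_of_all {gen : ℕ → Γ} (h : Rels gen allRels) : Rels gen relsD := Rels.left (Rels.right h)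
theorem relsO_of_all {gen : ℕ → Γ} (h : Rels gen allRels) : Rels gen relsO := Rels.left (Rels.right (Rels.right h))
theorem relsS_of_all {gen : ℕ → Γ} (h : Rels gen allRels) : Rels gen relsS := Rels.right (Rels.right (Rels.right h))
theorem card5 (_hR : Rels M.gen rels) : Nat.card (sub M.gen ws5) = 1 := M.card_nil
theorem fixw5 (_hR : Rels M.gen rels) : M.FixTriv ws5 [] := M.fixTriv_nil
theorem r4 (hR : Rels M.gen rels) : Rels M.gen rels4 := (Rels.left (Rels.right (Rels.right (Rels.right (Rels.right hR)))))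
theorem res4 (hR : Rels M.gen rels) : M.LevelRes ws5 lev4 8 := M.level (card5 M hR) chk4 (Rels.left (r4 M hR))
theorem ext4 (hR : Rels M.gen rels) : sub M.gen ws4 = sub M.gen (lev4.gens ws5) := sub_extend (Rels.right (r4 M hR))
theorem card4 (hR : Rels M.gen rels) : Nat.card (sub M.gen ws4) = 8 := by rw [ext4 M hR]; exact (res4 M hR).card
theorem fix4 (hR : Rels M.gen rels) : M.FixTriv (lev4.gens ws5) [4] := (res4 M hR).fixTriv M (fixw5 M hR)
theorem fixw4 (hR : Rels M.gen rels) : M.FixTriv ws4 [4] := fun g hg => fix4 M hR g (ext4 M hR ▸ hg)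
theorem stab4 (hR : Rels M.gen rels) : sub M.gen ws4 ⊓ MulAction.stabilizer Γ (M.dec 4) = sub M.gen ws5 := by rw [ext4 M hR]; exact (res4 M hR).stab
theorem orb4 (hR : Rels M.gen rels) (y : Ω) : y ∈ M.S lev4.orb ↔ ∃ g ∈ sub M.gen ws4, g • M.dec 4 = y := by rw [ext4 M hR]; exact (res4 M hR).orb y
theorem r3 (hR : Rels M.gen rels) : Rels M.gen rels3 := (Rels.left (Rels.right (Rels.right (Rels.right hR))))
theorem res3 (hR : Rels M.gen rels) : M.LevelRes ws4 lev3 72 := M.level (card4 M hR) chk3 (Rels.left (r3 M hR))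
theorem ext3 (hR : Rels M.gen rels) : sub M.gen ws3 = sub M.gen (lev3.gens ws4) := sub_extend (Rels.right (r3 M hR))
theorem card3 (hR : Rels M.gen rels) : Nat.card (sub M.gen ws3) = 72 := by rw [ext3 M hR]; exact (res3 M hR).card
theorem fix3 (hR : Rels M.gen rels) : M.FixTriv (lev3.gens ws4) [3, 4] := (res3 M hR).fixTriv M (fixw4 M hR)
theorem fixw3 (hR : Rels M.gen rels) : M.FixTriv ws3 [3, 4] := fun g hg => fix3 M hR g (ext3 M hR ▸ hg)
theorem stab3 (hR : Rels M.gen rels) : sub M.gen ws3 ⊓ MulAction.stabilizer Γ (M.dec 3) = sub M.gen ws4 := by rw [ext3 M hR]; exact (res3 M hR).stab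
theorem orb3 (hR : Rels M.gen rels) (y : Ω) : y ∈ M.S lev3.orb ↔ ∃ g ∈ sub M.gen ws3, g • M.dec 3 = y := by rw [ext3 M hR]; exact (res3 M hR).orb y
theorem r2 (hR : Rels M.gen rels) : Rels M.gen rels2 := (Rels.left (Rels.right (Rels.right hR)))
theorem res2 (hR : Rels M.gen rels) : M.LevelRes ws3 lev2 720 := M.level (card3 M hR) chk2 (Rels.left (r2 M hR))
theorem ext2 (hR : Rels M.gen rels) : sub M.gen ws2 = sub M.gen (lev2.gens ws3) := sub_extend (Rels.right (r2 M hR))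
theorem card2 (hR : Rels M.gen rels) : Nat.card (sub M.gen ws2) = 720 := by rw [ext2 M hR]; exact (res2 M hR).card
theorem fix2 (hR : Rels M.gen rels) : M.FixTriv (lev2.gens ws3) [2, 3, 4] := (res2 M hR).fixTriv M (fixw3 M hR)
theorem fixw2 (hR : Rels M.gen rels) : M.FixTriv ws2 [2, 3, 4] := fun g hg => fix2 M hR g (ext2 M hR ▸ hg)
theorem stab2 (hR : Rels M.gen rels) : sub M.gen ws2 ⊓ MulAction.stabilizer Γ (M.dec 2) = sub M.gen ws3 := by rw [ext2 M hR]; exact (res2 M hR).stab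
theorem orb2 (hR : Rels M.gen rels) (y : Ω) : y ∈ M.S lev2.orb ↔ ∃ g ∈ sub M.gen ws2, g • M.dec 2 = y := by rw [ext2 M hR]; exact (res2 M hR).orb y
theorem r1 (hR : Rels M.gen rels) : Rels M.gen rels1 := (Rels.left (Rels.right hR))
theorem res1 (hR : Rels M.gen rels) : M.LevelRes ws2 lev1 7920 := M.level (card2 M hR) chk1 (Rels.left (r1 M hR))
theorem ext1 (hR : Rels M.gen rels) : sub M.gen ws1 = sub M.gen (lev1.gens ws2) := sub_extend (Rels.right (r1 M hR))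
theorem card1 (hR : Rels M.gen rels) : Nat.card (sub M.gen ws1) = 7920 := by rw [ext1 M hR]; exact (res1 M hR).card
theorem fix1 (hR : Rels M.gen rels) : M.FixTriv (lev1.gens ws2) [1, 2, 3, 4] := (res1 M hR).fixTriv M (fixw2 M hR)
theorem fixw1 (hR : Rels M.gen rels) : M.FixTriv ws1 [1, 2, 3, 4] := fun g hg => fix1 M hR g (ext1 M hR ▸ hg)
theorem stab1 (hR : Rels M.gen rels) : sub M.gen ws1 ⊓ MulAction.stabilizer Γ (M.dec 1) = sub M.gen ws2 := by rw [ext1 M hR]; exact (res1 M hR).stab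
theorem orb1 (hR : Rels M.gen rels) (y : Ω) : y ∈ M.S lev1.orb ↔ ∃ g ∈ sub M.gen ws1, g • M.dec 1 = y := by rw [ext1 M hR]; exact (res1 M hR).orb y
theorem max1 (hR : Rels M.gen rels) (X : Subgroup Γ) (h1 : sub M.gen ws2 ≤ X) (h2 : X ≤ sub M.gen ws1) : X = sub M.gen ws2 ∨ X = sub M.gen ws1 := by rw [ext1 M hR] at h2 ⊢; exact (res1 M hR).max M primc1 X h1 h2
theorem r0 (hR : Rels M.gen rels) : Rels M.gen rels0 := (Rels.left hR)
theorem res0 (hR : Rels M.gen rels) : M.LevelRes ws1 lev0 95040 := M.level (card1 M hR) chk0 (Rels.left (r0 M hR))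
theorem ext0 (hR : Rels M.gen rels) : sub M.gen ws0 = sub M.gen (lev0.gens ws1) := sub_extend (Rels.right (r0 M hR))
theorem card0 (hR : Rels M.gen rels) : Nat.card (sub M.gen ws0) = 95040 := by rw [ext0 M hR]; exact (res0 M hR).card
theorem fix0 (hR : Rels M.gen rels) : M.FixTriv (lev0.gens ws1) [0, 1, 2, 3, 4] := (res0 M hR).fixTriv M (fixw1 M hR)
theorem fixw0 (hR : Rels M.gen rels) : M.FixTriv ws0 [0, 1, 2, 3, 4] := fun g hg => fix0 M hR g (ext0 M hR ▸ hg)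
theorem stab0 (hR : Rels M.gen rels) : sub M.gen ws0 ⊓ MulAction.stabilizer Γ (M.dec 0) = sub M.gen ws1 := by rw [ext0 M hR]; exact (res0 M hR).stab
theorem orb0 (hR : Rels M.gen rels) (y : Ω) : y ∈ M.S lev0.orb ↔ ∃ g ∈ sub M.gen ws0, g • M.dec 0 = y := by rw [ext0 M hR]; exact (res0 M hR).orb y
theorem max0 (hR : Rels M.gen rels) (X : Subgroup Γ) (h1 : sub M.gen ws1 ≤ X) (h2 : X ≤ sub M.gen ws0) : X = sub M.gen ws1 ∨ X = sub M.gen ws0 := by rw [ext0 M hR] at h2 ⊢; exact (res0 M hR).max M primc0 X h1 h2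
theorem orig_eq {gen : ℕ → Γ} (h : Rels gen allRels) : sub gen (lets 2) = sub gen ws0 :=
  sub_lets_eq_of_rels (ds := defs) (by decide +kernel) (relsD_of_all h) (by decide +kernel) (relsO_of_all h)
theorem gen_mem {gen : ℕ → Γ} (h : Rels gen allRels) {X : Subgroup Γ} (h0 : ∀ l < 2, gen l ∈ X) : sub gen ws0 ≤ X :=
  sub_le_of_wsIn (lo := 0) (gen_mem_of_defRels (ds := defs) (fun l _ hl => h0 l hl) (by decide +kernel) (relsD_of_all h)) (by decide +kernel)

end

end H14.M12c
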