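import Cfsg.Agent.H14.Dw2

/-! Generated certificate (tools14/pkgen) for the permutation group M22c of degree 24, order 443520, base 1 2 3 4 5. -/
set_option autoImplicit false
set_option maxRecDepth 100000
set_option maxHeartbeats 0

namespace H14.M22c
open H14

noncomputable def n0 : Net := (.cons (nat_lit 1) (nat_lit 0x101000)
(.cons (nat_lit 2) (nat_lit 0x130110)
(.cons (nat_lit 4) (nat_lit 0x70c00)
(.cons (nat_lit 8) (nat_lit 0x3)
(.cons (nat_lit 16) (nat_lit 0x4b)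
(.cons (nat_lit 8) (nat_lit 0x1d)
(.cons (nat_lit 4) (nat_lit 0x70704)
(.cons (nat_lit 2) (nat_lit 0x103120)
(.cons (nat_lit 1) (nat_lit 0x40540)
.nil)))))))))
theorem n0_ok : Net.ok 24 n0 = true := by decide +kernel
noncomputable def n1 : Net := (.cons (nat_lit 1) (nat_lit 0x51100)
(.cons (nat_lit 2) (nat_lit 0x332000)
(.cons (nat_lit 4) (nat_lit 0x40000)
(.cons (nat_lit 8) (nat_lit 0x92)
(.cons (nat_lit 16) (nat_lit 0xd2)
(.cons (nat_lit 8) (nat_lit 0xec)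
(.cons (nat_lit 4) (nat_lit 0x8050c)
(.cons (nat_lit 2) (nat_lit 0x303220)
(.cons (nat_lit 1) (nat_lit 0x114404)
.nil)))))))))
theorem n1_ok : Net.ok 24 n1 = true := by decide +kernel
noncomputable def n2 : Net := (.cons (nat_lit 1) (nat_lit 0x14414)
(.cons (nat_lit 2) (nat_lit 0x223300)
(.cons (nat_lit 4) (nat_lit 0xb0500)
(.cons (nat_lit 8) (nat_lit 0xc9)
(.cons (nat_lit 16) (nat_lit 0xed)
(.cons (nat_lit 8) (nat_lit 0xb1)
(.cons (nat_lit 4) (nat_lit 0xa0300)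
(.cons (nat_lit 2) (nat_lit 0x313302)
(.cons (nat_lit 1) (nat_lit 0x105540)
.nil)))))))))
theorem n2_ok : Net.ok 24 n2 = true := by decide +kernel
noncomputable def n3 : Net := (.cons (nat_lit 1) (nat_lit 0x51550)
(.cons (nat_lit 2) (nat_lit 0x222120)
(.cons (nat_lit 4) (nat_lit 0x20b00)
(.cons (nat_lit 8) (nat_lit 0x94)
(.cons (nat_lit 16) (nat_lit 0xbc)
(.cons (nat_lit 8) (nat_lit 0xac)
(.cons (nat_lit 4) (nat_lit 0x70502)
(.cons (nat_lit 2) (nat_lit 0x323312)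
(.cons (nat_lit 1) (nat_lit 0x55444)
.nil)))))))))
theorem n3_ok : Net.ok 24 n3 = true := by decide +kernel
noncomputable def n4 : Net := (.cons (nat_lit 1) (nat_lit 0x504010)
(.cons (nat_lit 2) (nat_lit 0x313020)
(.cons (nat_lit 4) (nat_lit 0x40700)
(.cons (nat_lit 8) (nat_lit 0x43)
(.cons (nat_lit 16) (nat_lit 0xc3)
(.cons (nat_lit 8) (nat_lit 0x3b)
(.cons (nat_lit 4) (nat_lit 0xa0e0c)
(.cons (nat_lit 2) (nat_lit 0x132220)
(.cons (nat_lit 1) (nat_lit 0x554454)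
.nil)))))))))
theorem n4_ok : Net.ok 24 n4 = true := by decide +kernel
noncomputable def n5 : Net := (.cons (nat_lit 1) (nat_lit 0x540400)
(.cons (nat_lit 2) (nat_lit 0x30000)
(.cons (nat_lit 4) (nat_lit 0x10100)
(.cons (nat_lit 8) (nat_lit 0x86)
(.cons (nat_lit 16) (nat_lit 0xb6)
(.cons (nat_lit 8) (nat_lit 0xd2)
(.cons (nat_lit 4) (nat_lit 0x10300)
(.cons (nat_lit 2) (nat_lit 0x13030)
(.cons (nat_lit 1) (nat_lit 0x505500)
.nil)))))))))
theorem n5_ok : Net.ok 24 n5 = true := by decide +kernel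
noncomputable def n6 : Net := (.cons (nat_lit 1) (nat_lit 0x401000)
(.cons (nat_lit 2) (nat_lit 0x10000)
(.cons (nat_lit 4) (nat_lit 0xc0100)
(.cons (nat_lit 8) (nat_lit 0xa3)
(.cons (nat_lit 16) (nat_lit 0xfb)
(.cons (nat_lit 8) (nat_lit 0x83)
(.cons (nat_lit 4) (nat_lit 0x40408)
(.cons (nat_lit 2) (nat_lit 0x11000)
(.cons (nat_lit 1) (nat_lit 0x555540)
.nil)))))))))
theorem n6_ok : Net.ok 24 n6 = true := by decide +kernel
noncomputable def n7 : Net := (.cons (nat_lit 1) (nat_lit 0x551400)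
(.cons (nat_lit 2) (nat_lit 0x23100)
(.cons (nat_lit 4) (nat_lit 0xf0900)
(.cons (nat_lit 8) (nat_lit 0x12)
(.cons (nat_lit 16) (nat_lit 0x7a)
(.cons (nat_lit 8) (nat_lit 0xa)
(.cons (nat_lit 4) (nat_lit 0xf0d00)
(.cons (nat_lit 2) (nat_lit 0x2300)
(.cons (nat_lit 1) (nat_lit 0x551440)
.nil)))))))))
theorem n7_ok : Net.ok 24 n7 = true := by decide +kernel
noncomputable def n8 : Net := (.cons (nat_lit 1) (nat_lit 0x444400)
(.cons (nat_lit 2) (nat_lit 0x30100)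
(.cons (nat_lit 4) (nat_lit 0x100)
(.cons (nat_lit 8) (nat_lit 0xc)
(.cons (nat_lit 16) (nat_lit 0xbc)
(.cons (nat_lit 8) (nat_lit 0x9c)
(.cons (nat_lit 4) (nat_lit 0x20f00)
(.cons (nat_lit 2) (nat_lit 0x210120)
(.cons (nat_lit 1) (nat_lit 0x445440)
.nil)))))))))
theorem n8_ok : Net.ok 24 n8 = true := by decide +kernel
noncomputable def n9 : Net := (.cons (nat_lit 1) (nat_lit 0x155000)
(.cons (nat_lit 2) (nat_lit 0x103200)
(.cons (nat_lit 4) (nat_lit 0x50400)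
(.cons (nat_lit 8) (nat_lit 0x39)
(.cons (nat_lit 16) (nat_lit 0x79)
(.cons (nat_lit 8) (nat_lit 0x49)
(.cons (nat_lit 4) (nat_lit 0x60100)
(.cons (nat_lit 2) (nat_lit 0x13120)
(.cons (nat_lit 1) (nat_lit 0x105150)
.nil)))))))))
theorem n9_ok : Net.ok 24 n9 = true := by decide +kernel
noncomputable def n10 : Net := (.cons (nat_lit 1) (nat_lit 0x544100)
(.cons (nat_lit 2) (nat_lit 0x203000)
(.cons (nat_lit 4) (nat_lit 0x20400)
(.cons (nat_lit 8) (nat_lit 0x39)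
(.cons (nat_lit 16) (nat_lit 0xb9)
(.cons (nat_lit 8) (nat_lit 0x49)
(.cons (nat_lit 4) (nat_lit 0x30900)
(.cons (nat_lit 2) (nat_lit 0x13000)
(.cons (nat_lit 1) (nat_lit 0x545500)
.nil)))))))))
theorem n10_ok : Net.ok 24 n10 = true := by decide +kernel
noncomputable def n11 : Net := (.cons (nat_lit 1) (nat_lit 0x455440)
(.cons (nat_lit 2) (nat_lit 0x122000)
(.cons (nat_lit 4) (nat_lit 0x10800)
(.cons (nat_lit 8) (nat_lit 0x16)
(.cons (nat_lit 16) (nat_lit 0xb6)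
(.cons (nat_lit 8) (nat_lit 0xf6)
(.cons (nat_lit 4) (nat_lit 0xf0200)
(.cons (nat_lit 2) (nat_lit 0x103000)
(.cons (nat_lit 1) (nat_lit 0x440500)
.nil)))))))))
theorem n11_ok : Net.ok 24 n11 = true := by decide +kernel
noncomputable def nets : List Net := [n0, n1, n2, n3, n4, n5, n6, n7, n8, n9, n10, n11]
theorem nets_ok : netsOk 24 nets = true := List.all_eq_true.2 (fa_cons n0_ok (fa_cons n1_ok (fa_cons n2_ok (fa_cons n3_ok (fa_cons n4_ok (fa_cons n5_ok (fa_cons n6_ok (fa_cons n7_ok (fa_cons n8_ok (fa_cons n9_ok (fa_cons n10_ok (fa_cons n11_ok (fa_nil)))))))))))))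
noncomputable def ws5 : List Word := []
noncomputable def lev4 : Level := ⟨nat_lit 5,
[⟨[nat_lit 22], [], [],
[⟨nat_lit 0, [], nat_lit 1, [], []⟩,
⟨nat_lit 1, [], nat_lit 2, [], []⟩,
⟨nat_lit 2, [], nat_lit 0, [], []⟩],
[]⟩],
[⟨dw (nat_lit 0x01), (nat_lit 0x20000), [], .nil, []⟩,
⟨dw (nat_lit 0x02), (nat_lit 0x4000), [], .nil, []⟩]⟩
noncomputable def ex4 : List Word := []
noncomputable def ws4 : List Word := List.append ex4 (lev4.gens ws5)
noncomputable def rels4 : List (Word × Word) := List.append (lev4.rels ws5) (memRels (lev4.gens ws5) ex4 [])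
noncomputable def lev3 : Level := ⟨nat_lit 4,
[⟨[nat_lit 16], [], [],
[⟨nat_lit 0, [], nat_lit 1, [], []⟩,
⟨nat_lit 1, [], nat_lit 1, dw (nat_lit 0x02), dw (nat_lit 0x02)⟩,
⟨nat_lit 2, [], nat_lit 3, dw (nat_lit 0x01), dw (nat_lit 0x02)⟩,
⟨nat_lit 3, [], nat_lit 2, dw (nat_lit 0x01), dw (nat_lit 0x01)⟩,
⟨nat_lit 4, [], nat_lit 3, dw (nat_lit 0x02), dw (nat_lit 0x01)⟩,
⟨nat_lit 5, [], nat_lit 4, [], []⟩,
⟨nat_lit 1, dw (nat_lit 0x01), nat_lit 1, dw (nat_lit 0x01), dw (nat_lit 0x01)⟩,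
⟨nat_lit 1, dw (nat_lit 0x02), nat_lit 0, [], dw (nat_lit 0x01)⟩,
⟨nat_lit 2, dw (nat_lit 0x01), nat_lit 5, dw (nat_lit 0x02), dw (nat_lit 0x01)⟩,
⟨nat_lit 2, dw (nat_lit 0x02), nat_lit 4, dw (nat_lit 0x02), dw (nat_lit 0x01)⟩,
⟨nat_lit 3, dw (nat_lit 0x01), nat_lit 4, dw (nat_lit 0x01), dw (nat_lit 0x02)⟩,
⟨nat_lit 3, dw (nat_lit 0x02), nat_lit 5, [], dw (nat_lit 0x02)⟩,
⟨nat_lit 4, dw (nat_lit 0x01), nat_lit 2, [], dw (nat_lit 0x02)⟩,
⟨nat_lit 4, dw (nat_lit 0x02), nat_lit 5, dw (nat_lit 0x01), []⟩,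
⟨nat_lit 5, dw (nat_lit 0x01), nat_lit 2, dw (nat_lit 0x02), dw (nat_lit 0x02)⟩,
⟨nat_lit 5, dw (nat_lit 0x02), nat_lit 3, [], dw (nat_lit 0x01)⟩],
[]⟩,
⟨[nat_lit 18], [], [],
[⟨nat_lit 0, [], nat_lit 2, [], []⟩,
⟨nat_lit 1, [], nat_lit 3, [], []⟩,
⟨nat_lit 2, [], nat_lit 2, dw (nat_lit 0x01), dw (nat_lit 0x01)⟩,
⟨nat_lit 3, [], nat_lit 4, [], []⟩,
⟨nat_lit 4, [], nat_lit 1, [], []⟩,
⟨nat_lit 5, [], nat_lit 3, dw (nat_lit 0x01), dw (nat_lit 0x02)⟩,
⟨nat_lit 1, dw (nat_lit 0x01), nat_lit 4, dw (nat_lit 0x02), []⟩,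
⟨nat_lit 1, dw (nat_lit 0x02), nat_lit 5, [], dw (nat_lit 0x01)⟩,
⟨nat_lit 2, dw (nat_lit 0x01), nat_lit 0, [], dw (nat_lit 0x02)⟩,
⟨nat_lit 2, dw (nat_lit 0x02), nat_lit 2, dw (nat_lit 0x02), dw (nat_lit 0x02)⟩,
⟨nat_lit 3, dw (nat_lit 0x01), nat_lit 1, dw (nat_lit 0x02), []⟩,
⟨nat_lit 3, dw (nat_lit 0x02), nat_lit 5, dw (nat_lit 0x02), dw (nat_lit 0x01)⟩,
⟨nat_lit 4, dw (nat_lit 0x01), nat_lit 3, dw (nat_lit 0x02), []⟩,
⟨nat_lit 4, dw (nat_lit 0x02), nat_lit 5, dw (nat_lit 0x01), dw (nat_lit 0x01)⟩,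
⟨nat_lit 5, dw (nat_lit 0x01), nat_lit 1, dw (nat_lit 0x01), dw (nat_lit 0x02)⟩,
⟨nat_lit 5, dw (nat_lit 0x02), nat_lit 4, dw (nat_lit 0x01), dw (nat_lit 0x02)⟩],
[]⟩],
[⟨dw (nat_lit 0x01), (nat_lit 0x180800), [dw (nat_lit 0x01), dw (nat_lit 0x01)], .nil, []⟩,
⟨dw (nat_lit 0x03), (nat_lit 0x1480), [dw (nat_lit 0x01), dw (nat_lit 0x01)], .nil, []⟩,
⟨dw (nat_lit 0x0301), (nat_lit 0x48040), [dw (nat_lit 0x01), dw (nat_lit 0x01)], .nil, []⟩,
⟨dw (nat_lit 0x0401), (nat_lit 0x412000), [dw (nat_lit 0x01), dw (nat_lit 0x01)], .nil, []⟩,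
⟨dw (nat_lit 0x0302), (nat_lit 0x200300), [dw (nat_lit 0x01), dw (nat_lit 0x01)], .nil, []⟩]⟩
noncomputable def ex3 : List Word := [[nat_lit 20]]
noncomputable def ws3 : List Word := List.append ex3 (lev3.gens ws4)
noncomputable def rels3 : List (Word × Word) := List.append (lev3.rels ws4) (memRels (lev3.gens ws4) ex3 [dw (nat_lit 0x04050106)])
noncomputable def lev2 : Level := ⟨nat_lit 3,
[⟨[nat_lit 12], [dw (nat_lit 0x050301)], [dw (nat_lit 0x030208)],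
[⟨nat_lit 0, [], nat_lit 1, [], []⟩,
⟨nat_lit 1, [], nat_lit 1, dw (nat_lit 0x0401), dw (nat_lit 0x050108)⟩,
⟨nat_lit 2, [], nat_lit 1, dw (nat_lit 0x01), []⟩,
⟨nat_lit 1, dw (nat_lit 0x01), nat_lit 1, dw (nat_lit 0x0402), dw (nat_lit 0x0507)⟩,
⟨nat_lit 1, dw (nat_lit 0x02), nat_lit 1, dw (nat_lit 0x04), dw (nat_lit 0x080108)⟩,
⟨nat_lit 1, dw (nat_lit 0x03), nat_lit 1, dw (nat_lit 0x08), dw (nat_lit 0x050107)⟩,
⟨nat_lit 1, dw (nat_lit 0x08), nat_lit 2, dw (nat_lit 0x02), dw (nat_lit 0x0603)⟩,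
⟨nat_lit 1, dw (nat_lit 0x0801), nat_lit 0, [], dw (nat_lit 0x0207)⟩],
[dw (nat_lit 0x01), dw (nat_lit 0x01)]⟩],
[⟨dw (nat_lit 0x01), (nat_lit 0x7dbfd0), [dw (nat_lit 0x01), dw (nat_lit 0x03), dw (nat_lit 0x01), dw (nat_lit 0x05), dw (nat_lit 0x05)], (.cons (nat_lit 4) [dw (nat_lit 0x0105)] [dw (nat_lit 0x01), dw (nat_lit 0x01)]
.nil), [dw (nat_lit 0x030108)]⟩,
⟨dw (nat_lit 0x020301), (nat_lit 0x24020), [dw (nat_lit 0x01), dw (nat_lit 0x01)], (.cons (nat_lit 4) [dw (nat_lit 0x0103), dw (nat_lit 0x0208), dw (nat_lit 0x0407), dw (nat_lit 0x0204)] [dw (nat_lit 0x01), dw (nat_lit 0x03), dw (nat_lit 0x05), dw (nat_lit 0x07)]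
.nil), [dw (nat_lit 0x0308), dw (nat_lit 0x060207), dw (nat_lit 0x0208), dw (nat_lit 0x030207)]⟩]⟩
noncomputable def ex2 : List Word := [[nat_lit 14]]
noncomputable def ws2 : List Word := List.append ex2 (lev2.gens ws3)
noncomputable def rels2 : List (Word × Word) := List.append (lev2.rels ws3) (memRels (lev2.gens ws3) ex2 [dw (nat_lit 0x0501050309)])
noncomputable def lev1 : Level := ⟨nat_lit 2,
[⟨[nat_lit 8], [dw (nat_lit 0x0703), dw (nat_lit 0x080504), dw (nat_lit 0x0b07)], [dw (nat_lit 0x0303010a), dw (nat_lit 0x0701090c), dw (nat_lit 0x05020a)],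
[⟨nat_lit 0, [], nat_lit 1, [], []⟩,
⟨nat_lit 1, [], nat_lit 1, dw (nat_lit 0x0a), dw (nat_lit 0x040109050b)⟩,
⟨nat_lit 1, dw (nat_lit 0x06), nat_lit 0, [], dw (nat_lit 0x05020706)⟩,
⟨nat_lit 1, dw (nat_lit 0x0a), nat_lit 1, dw (nat_lit 0x07), dw (nat_lit 0x010c05)⟩],
[dw (nat_lit 0x01), dw (nat_lit 0x01), dw (nat_lit 0x03), dw (nat_lit 0x05), dw (nat_lit 0x01), dw (nat_lit 0x01)]⟩],
[⟨dw (nat_lit 0x01), (nat_lit 0x7ffff8), [dw (nat_lit 0x01), dw (nat_lit 0x03), dw (nat_lit 0x01), dw (nat_lit 0x05), dw (nat_lit 0x07), dw (nat_lit 0x01)], (.cons (nat_lit 3) [dw (nat_lit 0x0701), dw (nat_lit 0x050904)] [dw (nat_lit 0x01), dw (nat_lit 0x03), dw (nat_lit 0x01), dw (nat_lit 0x05), dw (nat_lit 0x05)]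
(.cons (nat_lit 4) [dw (nat_lit 0x090705)] [dw (nat_lit 0x01), dw (nat_lit 0x01)]
.nil)), [dw (nat_lit 0x09040a070c), dw (nat_lit 0x0204090b), dw (nat_lit 0x03010a060b)]⟩]⟩
noncomputable def ex1 : List Word := [[nat_lit 10]]
noncomputable def ws1 : List Word := List.append ex1 (lev1.gens ws2)
noncomputable def rels1 : List (Word × Word) := List.append (lev1.rels ws2) (memRels (lev1.gens ws2) ex1 [dw (nat_lit 0x09020d030b)])
noncomputable def lev0 : Level := ⟨nat_lit 1,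
[⟨[nat_lit 4], [dw (nat_lit 0x01), dw (nat_lit 0x05), dw (nat_lit 0x0c050c)], [dw (nat_lit 0x0602060d0a), dw (nat_lit 0x010e0a10), dw (nat_lit 0x10010d0a10)],
[⟨nat_lit 0, [], nat_lit 1, [], []⟩,
⟨nat_lit 1, [], nat_lit 1, dw (nat_lit 0x04), dw (nat_lit 0x0301070e0a)⟩,
⟨nat_lit 1, dw (nat_lit 0x0e05), nat_lit 0, [], dw (nat_lit 0x010e050e0b10)⟩],
[dw (nat_lit 0x03), dw (nat_lit 0x0402), dw (nat_lit 0x05), dw (nat_lit 0x03), dw (nat_lit 0x01), dw (nat_lit 0x01)]⟩],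
[⟨dw (nat_lit 0x01), (nat_lit 0x7ffffc), [dw (nat_lit 0x03), dw (nat_lit 0x05), dw (nat_lit 0x07), dw (nat_lit 0x0a07), dw (nat_lit 0x01), dw (nat_lit 0x07)], (.cons (nat_lit 2) [dw (nat_lit 0x01)] [dw (nat_lit 0x01), dw (nat_lit 0x0801), dw (nat_lit 0x01), dw (nat_lit 0x03), dw (nat_lit 0x01), dw (nat_lit 0x03), dw (nat_lit 0x01)]
(.cons (nat_lit 4) [dw (nat_lit 0x09), dw (nat_lit 0x0d09)] [dw (nat_lit 0x01), dw (nat_lit 0x03), dw (nat_lit 0x01), dw (nat_lit 0x05), dw (nat_lit 0x01), dw (nat_lit 0x01)]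
(.cons (nat_lit 5) [dw (nat_lit 0x0f)] [dw (nat_lit 0x01), dw (nat_lit 0x01)]
.nil))), [dw (nat_lit 0x03050b09), dw (nat_lit 0x0905090c10), dw (nat_lit 0x090207050c), dw (nat_lit 0x0a01080e0a0f)]⟩]⟩
noncomputable def ex0 : List Word := [[nat_lit 6]]
noncomputable def ws0 : List Word := List.append ex0 (lev0.gens ws1)
noncomputable def rels0 : List (Word × Word) := List.append (lev0.rels ws1) (memRels (lev0.gens ws1) ex0 [dw (nat_lit 0x0902060312070f0b11)])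
noncomputable def prim0 : List (List Word) := [[dw (nat_lit 0x01), dw (nat_lit 0x0209), dw (nat_lit 0x05), dw (nat_lit 0x09), dw (nat_lit 0x01), dw (nat_lit 0x03)]]
noncomputable def rels : List (Word × Word) := List.append rels0 (List.append rels1 (List.append rels2 (List.append rels3 (List.append rels4 ([])))))
noncomputable def defs : List Word := [dw (nat_lit 0x0101), dw (nat_lit 0x04010103), dw (nat_lit 0x05050808060805050705), dw (nat_lit 0x0507070507070608), dw (nat_lit 0x0a0b090c090b090c09), dw (nat_lit 0x09090b0909090c0c090c0a), dw (nat_lit 0x0f0e0f0f0f0f0d0d), dw (nat_lit 0x0d0d0f0d100e0f0d)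
, dw (nat_lit 0x0d100e0e10100d100d0d), dw (nat_lit 0x121614)]
noncomputable def relsD : List (Word × Word) := defRels defs 2
noncomputable def relsO : List (Word × Word) := memRels ws0 (lets 2) [dw (nat_lit 0x05021405110c13), dw (nat_lit 0x130207050c0a110e14)]
noncomputable def zc : Word := dw (nat_lit 0x03020c050a13090d10)
noncomputable def relsS : List (Word × Word) := List.append [(powW [2 * 2] 11, [])] [([2 * (2 + 1)], conjW [2 * 2] (flat ws0 zc))]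
noncomputable def allRels : List (Word × Word) := List.append rels (List.append relsD (List.append relsO relsS))
theorem chk4 : lev4.chk 24 nets ws5 1 3 = true := by decide +kernel
theorem chk3 : lev3.chk 24 nets ws4 3 48 = true := by decide +kernel
theorem chk2 : lev2.chk 24 nets ws3 48 960 = true := by decide +kernel
theorem chk1 : lev1.chk 24 nets ws2 960 20160 = true := by decide +kernel
theorem primc0 : PM.primChk nets ws1 lev0 lev0.sos prim0 = true := by decide +kernel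
theorem chk0 : lev0.chk 24 nets ws1 20160 443520 = true := by decide +kernel
theorem rc0 : relsChk 24 nets 5 (idArr 24 5 5 0) allRels = true := by decide +kernel
section
variable {Γ Ω : Type*} [Group Γ] [MulAction Γ Ω] (M : PM Γ Ω 24 nets)

theorem all_ok (hs : M.Sep 5 (idArr 24 5 5 0)) : Rels M.gen allRels := (M.rels_of_chk hs rc0)
theorem sep [FaithfulSMul Γ Ω] : M.Sep 5 (idArr 24 5 5 0) := M.sep_idArr (by decide)
theorem all_ok' [FaithfulSMul Γ Ω] : Rels M.gen allRels := all_ok M (sep M)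
theorem rels_of_all {gen : ℕ → Γ} (h : Rels gen allRels) : Rels gen rels := Rels.left h
theorem relsD_of_all {gen : ℕ → Γ} (h : Rels gen allRels) : Rels gen relsD := Rels.left (Rels.right h)
theorem relsO_of_all {gen : ℕ → Γ} (h : Rels gen allRels) : Rels gen relsO := Rels.left (Rels.right (Rels.right h))
theorem relsS_of_all {gen : ℕ → Γ} (h : Rels gen allRels) : Rels gen relsS := Rels.right (Rels.right (Rels.right h))
theorem card5 (_hR : Rels M.gen rels) : Nat.card (sub M.gen ws5) = 1 := M.card_nil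
theorem fixw5 (_hR : Rels M.gen rels) : M.FixTriv ws5 [] := M.fixTriv_nil
theorem r4 (hR : Rels M.gen rels) : Rels M.gen rels4 := (Rels.left (Rels.right (Rels.right (Rels.right (Rels.right hR)))))
theorem res4 (hR : Rels M.gen rels) : M.LevelRes ws5 lev4 3 := M.level (card5 M hR) chk4 (Rels.left (r4 M hR))
theorem ext4 (hR : Rels M.gen rels) : sub M.gen ws4 = sub M.gen (lev4.gens ws5) := sub_extend (Rels.right (r4 M hR))
theorem card4 (hR : Rels M.gen rels) : Nat.card (sub M.gen ws4) = 3 := by rw [ext4 M hR]; exact (res4 M hR).card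
theorem fix4 (hR : Rels M.gen rels) : M.FixTriv (lev4.gens ws5) [5] := (res4 M hR).fixTriv M (fixw5 M hR)
theorem fixw4 (hR : Rels M.gen rels) : M.FixTriv ws4 [5] := fun g hg => fix4 M hR g (ext4 M hR ▸ hg)
theorem stab4 (hR : Rels M.gen rels) : sub M.gen ws4 ⊓ MulAction.stabilizer Γ (M.dec 5) = sub M.gen ws5 := by rw [ext4 M hR]; exact (res4 M hR).stab
theorem orb4 (hR : Rels M.gen rels) (y : Ω) : y ∈ M.S lev4.orb ↔ ∃ g ∈ sub M.gen ws4, g • M.dec 5 = y := by rw [ext4 M hR]; exact (res4 M hR).orb y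
theorem r3 (hR : Rels M.gen rels) : Rels M.gen rels3 := (Rels.left (Rels.right (Rels.right (Rels.right hR))))
theorem res3 (hR : Rels M.gen rels) : M.LevelRes ws4 lev3 48 := M.level (card4 M hR) chk3 (Rels.left (r3 M hR))
theorem ext3 (hR : Rels M.gen rels) : sub M.gen ws3 = sub M.gen (lev3.gens ws4) := sub_extend (Rels.right (r3 M hR))
theorem card3 (hR : Rels M.gen rels) : Nat.card (sub M.gen ws3) = 48 := by rw [ext3 M hR]; exact (res3 M hR).card
theorem fix3 (hR : Rels M.gen rels) : M.FixTriv (lev3.gens ws4) [4, 5] := (res3 M hR).fixTriv M (fixw4 M hR)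
theorem fixw3 (hR : Rels M.gen rels) : M.FixTriv ws3 [4, 5] := fun g hg => fix3 M hR g (ext3 M hR ▸ hg)
theorem stab3 (hR : Rels M.gen rels) : sub M.gen ws3 ⊓ MulAction.stabilizer Γ (M.dec 4) = sub M.gen ws4 := by rw [ext3 M hR]; exact (res3 M hR).stab
theorem orb3 (hR : Rels M.gen rels) (y : Ω) : y ∈ M.S lev3.orb ↔ ∃ g ∈ sub M.gen ws3, g • M.dec 4 = y := by rw [ext3 M hR]; exact (res3 M hR).orb y
theorem r2 (hR : Rels M.gen rels) : Rels M.gen rels2 := (Rels.left (Rels.right (Rels.right hR)))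
theorem res2 (hR : Rels M.gen rels) : M.LevelRes ws3 lev2 960 := M.level (card3 M hR) chk2 (Rels.left (r2 M hR))
theorem ext2 (hR : Rels M.gen rels) : sub M.gen ws2 = sub M.gen (lev2.gens ws3) := sub_extend (Rels.right (r2 M hR))
theorem card2 (hR : Rels M.gen rels) : Nat.card (sub M.gen ws2) = 960 := by rw [ext2 M hR]; exact (res2 M hR).card
theorem fix2 (hR : Rels M.gen rels) : M.FixTriv (lev2.gens ws3) [3, 4, 5] := (res2 M hR).fixTriv M (fixw3 M hR)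
theorem fixw2 (hR : Rels M.gen rels) : M.FixTriv ws2 [3, 4, 5] := fun g hg => fix2 M hR g (ext2 M hR ▸ hg)
theorem stab2 (hR : Rels M.gen rels) : sub M.gen ws2 ⊓ MulAction.stabilizer Γ (M.dec 3) = sub M.gen ws3 := by rw [ext2 M hR]; exact (res2 M hR).stab
theorem orb2 (hR : Rels M.gen rels) (y : Ω) : y ∈ M.S lev2.orb ↔ ∃ g ∈ sub M.gen ws2, g • M.dec 3 = y := by rw [ext2 M hR]; exact (res2 M hR).orb y
theorem r1 (hR : Rels M.gen rels) : Rels M.gen rels1 := (Rels.left (Rels.right hR))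
theorem res1 (hR : Rels M.gen rels) : M.LevelRes ws2 lev1 20160 := M.level (card2 M hR) chk1 (Rels.left (r1 M hR))
theorem ext1 (hR : Rels M.gen rels) : sub M.gen ws1 = sub M.gen (lev1.gens ws2) := sub_extend (Rels.right (r1 M hR))
theorem card1 (hR : Rels M.gen rels) : Nat.card (sub M.gen ws1) = 20160 := by rw [ext1 M hR]; exact (res1 M hR).card
theorem fix1 (hR : Rels M.gen rels) : M.FixTriv (lev1.gens ws2) [2, 3, 4, 5] := (res1 M hR).fixTriv M (fixw2 M hR)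
theorem fixw1 (hR : Rels M.gen rels) : M.FixTriv ws1 [2, 3, 4, 5] := fun g hg => fix1 M hR g (ext1 M hR ▸ hg)
theorem stab1 (hR : Rels M.gen rels) : sub M.gen ws1 ⊓ MulAction.stabilizer Γ (M.dec 2) = sub M.gen ws2 := by rw [ext1 M hR]; exact (res1 M hR).stab
theorem orb1 (hR : Rels M.gen rels) (y : Ω) : y ∈ M.S lev1.orb ↔ ∃ g ∈ sub M.gen ws1, g • M.dec 2 = y := by rw [ext1 M hR]; exact (res1 M hR).orb y
theorem r0 (hR : Rels M.gen rels) : Rels M.gen rels0 := (Rels.left hR)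
theorem res0 (hR : Rels M.gen rels) : M.LevelRes ws1 lev0 443520 := M.level (card1 M hR) chk0 (Rels.left (r0 M hR))
theorem ext0 (hR : Rels M.gen rels) : sub M.gen ws0 = sub M.gen (lev0.gens ws1) := sub_extend (Rels.right (r0 M hR))
theorem card0 (hR : Rels M.gen rels) : Nat.card (sub M.gen ws0) = 443520 := by rw [ext0 M hR]; exact (res0 M hR).card
theorem fix0 (hR : Rels M.gen rels) : M.FixTriv (lev0.gens ws1) [1, 2, 3, 4, 5] := (res0 M hR).fixTriv M (fixw1 M hR)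
theorem fixw0 (hR : Rels M.gen rels) : M.FixTriv ws0 [1, 2, 3, 4, 5] := fun g hg => fix0 M hR g (ext0 M hR ▸ hg)
theorem stab0 (hR : Rels M.gen rels) : sub M.gen ws0 ⊓ MulAction.stabilizer Γ (M.dec 1) = sub M.gen ws1 := by rw [ext0 M hR]; exact (res0 M hR).stab
theorem orb0 (hR : Rels M.gen rels) (y : Ω) : y ∈ M.S lev0.orb ↔ ∃ g ∈ sub M.gen ws0, g • M.dec 1 = y := by rw [ext0 M hR]; exact (res0 M hR).orb y
theorem max0 (hR : Rels M.gen rels) (X : Subgroup Γ) (h1 : sub M.gen ws1 ≤ X) (h2 : X ≤ sub M.gen ws0) : X = sub M.gen ws1 ∨ X = sub M.gen ws0 := by rw [ext0 M hR] at h2 ⊢; exact (res0 M hR).max M primc0 X h1 h2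
theorem orig_eq {gen : ℕ → Γ} (h : Rels gen allRels) : sub gen (lets 2) = sub gen ws0 :=
  sub_lets_eq_of_rels (ds := defs) (by decide +kernel) (relsD_of_all h) (by decide +kernel) (relsO_of_all h)
theorem gen_mem {gen : ℕ → Γ} (h : Rels gen allRels) {X : Subgroup Γ} (h0 : ∀ l < 2, gen l ∈ X) : sub gen ws0 ≤ X :=
  sub_le_of_wsIn (lo := 0) (gen_mem_of_defRels (ds := defs) (fun l _ hl => h0 l hl) (by decide +kernel) (relsD_of_all h)) (by decide +kernel)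
theorem simple (h : Rels M.gen allRels) : IsSimpleGroup (sub M.gen ws0) :=
  (res0 M (rels_of_all h)).simple (ext0 M (rels_of_all h)) (card1 M (rels_of_all h)) (by decide) primc0 (fix0 M (rels_of_all h)) (by decide +kernel)
    (z := M.gen 2) (by rw [← ev_single M.gen 2]; exact ev_getL_mem M.gen ws0 1) (m := 11)
    (by rw [← ev_single M.gen 2]; exact pow_eq_one_of_rels (Rels.left (relsS_of_all h))) (by norm_num)
    (ncl_of_defRels (ds := defs.drop 2) (c := zc) (by decide +kernel) (defRels_drop defs 2 2 ▸ (relsD_of_all h).drop 2) (by decide +kernel) (Rels.right (relsS_of_all h)))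

end

end H14.M22c
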