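import Cfsg.Agent.H14.Dw2

/-! Generated certificate (tools14/pkgen) for the permutation group M23c of degree 24, order 10200960, base 0 1 2 3 4 5. -/
set_option autoImplicit false
set_option maxRecDepth 100000
set_option maxHeartbeats 0

namespace H14.M23c
open H14

noncomputable def n0 : Net := (.cons (nat_lit 1) (nat_lit 0x115104)
(.cons (nat_lit 2) (nat_lit 0x20300)
(.cons (nat_lit 4) (nat_lit 0x70b00)
(.cons (nat_lit 8) (nat_lit 0x61)
(.cons (nat_lit 16) (nat_lit 0x71)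
(.cons (nat_lit 8) (nat_lit 0x81)
(.cons (nat_lit 4) (nat_lit 0x20a06)
(.cons (nat_lit 2) (nat_lit 0x133330)
(.cons (nat_lit 1) (nat_lit 0x151151)
.nil)))))))))
theorem n0_ok : Net.ok 24 n0 = true := by decide +kernel
noncomputable def n1 : Net := (.cons (nat_lit 1) (nat_lit 0x415100)
(.cons (nat_lit 2) (nat_lit 0x300000)
(.cons (nat_lit 4) (nat_lit 0xd0600)
(.cons (nat_lit 8) (nat_lit 0x88)
(.cons (nat_lit 16) (nat_lit 0x9e)
(.cons (nat_lit 8) (nat_lit 0x3c)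
(.cons (nat_lit 4) (nat_lit 0xb0a0d)
(.cons (nat_lit 2) (nat_lit 0x310331)
(.cons (nat_lit 1) (nat_lit 0x551514)
.nil)))))))))
theorem n1_ok : Net.ok 24 n1 = true := by decide +kernel
noncomputable def n2 : Net := (.cons (nat_lit 1) (nat_lit 0x45150)
(.cons (nat_lit 2) (nat_lit 0x230010)
(.cons (nat_lit 4) (nat_lit 0xe0200)
(.cons (nat_lit 8) (nat_lit 0x60)
(.cons (nat_lit 16) (nat_lit 0xe9)
(.cons (nat_lit 8) (nat_lit 0x2f)
(.cons (nat_lit 4) (nat_lit 0xe0a07)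
(.cons (nat_lit 2) (nat_lit 0x320210)
(.cons (nat_lit 1) (nat_lit 0x114101)
.nil)))))))))
theorem n2_ok : Net.ok 24 n2 = true := by decide +kernel
noncomputable def n3 : Net := (.cons (nat_lit 1) (nat_lit 0x44000)
(.cons (nat_lit 2) (nat_lit 0x233000)
(.cons (nat_lit 4) (nat_lit 0x800)
(.cons (nat_lit 8) (nat_lit 0x40)
(.cons (nat_lit 16) (nat_lit 0x4f)
(.cons (nat_lit 8) (nat_lit 0xf3)
(.cons (nat_lit 4) (nat_lit 0xc0708)
(.cons (nat_lit 2) (nat_lit 0x322210)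
(.cons (nat_lit 1) (nat_lit 0x4045)
.nil)))))))))
theorem n3_ok : Net.ok 24 n3 = true := by decide +kernel
noncomputable def n4 : Net := (.cons (nat_lit 1) (nat_lit 0x445110)
(.cons (nat_lit 2) (nat_lit 0x200020)
(.cons (nat_lit 4) (nat_lit 0x50200)
(.cons (nat_lit 8) (nat_lit 0x48)
(.cons (nat_lit 16) (nat_lit 0xda)
(.cons (nat_lit 8) (nat_lit 0x28)
(.cons (nat_lit 4) (nat_lit 0xe0f0a)
(.cons (nat_lit 2) (nat_lit 0x33130)
(.cons (nat_lit 1) (nat_lit 0x441504)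
.nil)))))))))
theorem n4_ok : Net.ok 24 n4 = true := by decide +kernel
noncomputable def n5 : Net := (.cons (nat_lit 1) (nat_lit 0x114100)
(.cons (nat_lit 2) (nat_lit 0x221000)
(.cons (nat_lit 4) (nat_lit 0x40900)
(.cons (nat_lit 8) (nat_lit 0x49)
(.cons (nat_lit 16) (nat_lit 0xdb)
(.cons (nat_lit 8) (nat_lit 0x11)
(.cons (nat_lit 4) (nat_lit 0xc06)
(.cons (nat_lit 2) (nat_lit 0x203110)
(.cons (nat_lit 1) (nat_lit 0x111114)
.nil)))))))))
theorem n5_ok : Net.ok 24 n5 = true := by decide +kernel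
noncomputable def n6 : Net := (.cons (nat_lit 1) (nat_lit 0x100)
(.cons (nat_lit 2) (nat_lit 0x130000)
(.cons (nat_lit 4) (nat_lit 0xe0100)
(.cons (nat_lit 8) (nat_lit 0x81)
(.cons (nat_lit 16) (nat_lit 0xe5)
(.cons (nat_lit 8) (nat_lit 0x9d)
(.cons (nat_lit 4) (nat_lit 0xf0700)
(.cons (nat_lit 2) (nat_lit 0x21320)
(.cons (nat_lit 1) (nat_lit 0x115140)
.nil)))))))))
theorem n6_ok : Net.ok 24 n6 = true := by decide +kernel
noncomputable def n7 : Net := (.cons (nat_lit 1) (nat_lit 0x540010)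
(.cons (nat_lit 2) (nat_lit 0x213000)
(.cons (nat_lit 4) (nat_lit 0xc0c00)
(.cons (nat_lit 8) (nat_lit 0x5b)
(.cons (nat_lit 16) (nat_lit 0x5b)
(.cons (nat_lit 8) (nat_lit 0x3)
(.cons (nat_lit 4) (nat_lit 0x40a04)
(.cons (nat_lit 2) (nat_lit 0x2020)
(.cons (nat_lit 1) (nat_lit 0x414450)
.nil)))))))))
theorem n7_ok : Net.ok 24 n7 = true := by decide +kernel
noncomputable def n8 : Net := (.cons (nat_lit 1) (nat_lit 0x450140)
(.cons (nat_lit 2) (nat_lit 0x121200)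
(.cons (nat_lit 4) (nat_lit 0x80900)
(.cons (nat_lit 8) (nat_lit 0x5)
(.cons (nat_lit 16) (nat_lit 0xd)
(.cons (nat_lit 8) (nat_lit 0x1d)
(.cons (nat_lit 4) (nat_lit 0xe0508)
(.cons (nat_lit 2) (nat_lit 0x100010)
(.cons (nat_lit 1) (nat_lit 0x541010)
.nil)))))))))
theorem n8_ok : Net.ok 24 n8 = true := by decide +kernel
noncomputable def n9 : Net := (.cons (nat_lit 1) (nat_lit 0x15440)
(.cons (nat_lit 2) (nat_lit 0x233300)
(.cons (nat_lit 4) (nat_lit 0xb0000)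
(.cons (nat_lit 8) (nat_lit 0x71)
(.cons (nat_lit 16) (nat_lit 0xf1)
(.cons (nat_lit 8) (nat_lit 0xc1)
(.cons (nat_lit 4) (nat_lit 0x60c08)
(.cons (nat_lit 2) (nat_lit 0x200220)
(.cons (nat_lit 1) (nat_lit 0x10550)
.nil)))))))))
theorem n9_ok : Net.ok 24 n9 = true := by decide +kernel
noncomputable def n10 : Net := (.cons (nat_lit 1) (nat_lit 0x444400)
(.cons (nat_lit 2) (nat_lit 0x30100)
(.cons (nat_lit 4) (nat_lit 0x100)
(.cons (nat_lit 8) (nat_lit 0xc)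
(.cons (nat_lit 16) (nat_lit 0xbc)
(.cons (nat_lit 8) (nat_lit 0x9c)
(.cons (nat_lit 4) (nat_lit 0x20f00)
(.cons (nat_lit 2) (nat_lit 0x210120)
(.cons (nat_lit 1) (nat_lit 0x445440)
.nil)))))))))
theorem n10_ok : Net.ok 24 n10 = true := by decide +kernel
noncomputable def n11 : Net := (.cons (nat_lit 1) (nat_lit 0x51140)
(.cons (nat_lit 2) (nat_lit 0x10000)
(.cons (nat_lit 4) (nat_lit 0x20000)
(.cons (nat_lit 8) (nat_lit 0x15)
(.cons (nat_lit 16) (nat_lit 0x35)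
(.cons (nat_lit 8) (nat_lit 0xd5)
(.cons (nat_lit 4) (nat_lit 0x60600)
(.cons (nat_lit 2) (nat_lit 0x330)
(.cons (nat_lit 1) (nat_lit 0x141110)
.nil)))))))))
theorem n11_ok : Net.ok 24 n11 = true := by decide +kernel
noncomputable def n12 : Net := (.cons (nat_lit 1) (nat_lit 0x511000)
(.cons (nat_lit 2) (nat_lit 0x122000)
(.cons (nat_lit 4) (nat_lit 0x20100)
(.cons (nat_lit 8) (nat_lit 0x9)
(.cons (nat_lit 16) (nat_lit 0xe9)
(.cons (nat_lit 8) (nat_lit 0xd9)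
(.cons (nat_lit 4) (nat_lit 0x60b00)
(.cons (nat_lit 2) (nat_lit 0x113310)
(.cons (nat_lit 1) (nat_lit 0x501550)
.nil)))))))))
theorem n12_ok : Net.ok 24 n12 = true := by decide +kernel
noncomputable def n13 : Net := (.cons (nat_lit 1) (nat_lit 0x440500)
(.cons (nat_lit 2) (nat_lit 0x103000)
(.cons (nat_lit 4) (nat_lit 0xf0000)
(.cons (nat_lit 8) (nat_lit 0xb6)
(.cons (nat_lit 16) (nat_lit 0xb6)
(.cons (nat_lit 8) (nat_lit 0x56)
(.cons (nat_lit 4) (nat_lit 0x30800)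
(.cons (nat_lit 2) (nat_lit 0x122000)
(.cons (nat_lit 1) (nat_lit 0x455440)
.nil)))))))))
theorem n13_ok : Net.ok 24 n13 = true := by decide +kernel
noncomputable def nets : List Net := [n0, n1, n2, n3, n4, n5, n6, n7, n8, n9, n10, n11, n12, n13]
theorem nets_ok : netsOk 24 nets = true := List.all_eq_true.2 (fa_cons n0_ok (fa_cons n1_ok (fa_cons n2_ok (fa_cons n3_ok (fa_cons n4_ok (fa_cons n5_ok (fa_cons n6_ok (fa_cons n7_ok (fa_cons n8_ok (fa_cons n9_ok (fa_cons n10_ok (fa_cons n11_ok (fa_cons n12_ok (fa_cons n13_ok (fa_nil)))))))))))))))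
noncomputable def ws6 : List Word := []
noncomputable def lev5 : Level := ⟨nat_lit 5,
[⟨[nat_lit 26], [], [],
[⟨nat_lit 0, [], nat_lit 1, [], []⟩,
⟨nat_lit 1, [], nat_lit 2, [], []⟩,
⟨nat_lit 2, [], nat_lit 0, [], []⟩],
[]⟩],
[⟨dw (nat_lit 0x01), (nat_lit 0x4000), [], .nil, []⟩,
⟨dw (nat_lit 0x02), (nat_lit 0x20000), [], .nil, []⟩]⟩
noncomputable def ex5 : List Word := []
noncomputable def ws5 : List Word := List.append ex5 (lev5.gens ws6)
noncomputable def rels5 : List (Word × Word) := List.append (lev5.rels ws6) (memRels (lev5.gens ws6) ex5 [])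
noncomputable def lev4 : Level := ⟨nat_lit 4,
[⟨[nat_lit 20], [], [],
[⟨nat_lit 0, [], nat_lit 1, [], []⟩,
⟨nat_lit 1, [], nat_lit 1, dw (nat_lit 0x01), dw (nat_lit 0x01)⟩,
⟨nat_lit 2, [], nat_lit 5, dw (nat_lit 0x01), dw (nat_lit 0x01)⟩,
⟨nat_lit 3, [], nat_lit 4, dw (nat_lit 0x01), dw (nat_lit 0x02)⟩,
⟨nat_lit 4, [], nat_lit 2, [], []⟩,
⟨nat_lit 5, [], nat_lit 3, [], []⟩,
⟨nat_lit 1, dw (nat_lit 0x01), nat_lit 0, [], dw (nat_lit 0x02)⟩,
⟨nat_lit 1, dw (nat_lit 0x02), nat_lit 1, dw (nat_lit 0x02), dw (nat_lit 0x02)⟩,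
⟨nat_lit 2, dw (nat_lit 0x01), nat_lit 4, dw (nat_lit 0x02), []⟩,
⟨nat_lit 2, dw (nat_lit 0x02), nat_lit 3, dw (nat_lit 0x01), dw (nat_lit 0x01)⟩,
⟨nat_lit 3, dw (nat_lit 0x01), nat_lit 5, dw (nat_lit 0x02), []⟩,
⟨nat_lit 3, dw (nat_lit 0x02), nat_lit 2, dw (nat_lit 0x01), dw (nat_lit 0x02)⟩,
⟨nat_lit 4, dw (nat_lit 0x01), nat_lit 5, [], dw (nat_lit 0x01)⟩,
⟨nat_lit 4, dw (nat_lit 0x02), nat_lit 3, dw (nat_lit 0x02), dw (nat_lit 0x01)⟩,
⟨nat_lit 5, dw (nat_lit 0x01), nat_lit 4, [], dw (nat_lit 0x02)⟩,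
⟨nat_lit 5, dw (nat_lit 0x02), nat_lit 2, dw (nat_lit 0x02), dw (nat_lit 0x02)⟩],
[]⟩,
⟨[nat_lit 22], [], [],
[⟨nat_lit 0, [], nat_lit 2, [], []⟩,
⟨nat_lit 1, [], nat_lit 3, [], []⟩,
⟨nat_lit 2, [], nat_lit 2, dw (nat_lit 0x01), dw (nat_lit 0x01)⟩,
⟨nat_lit 3, [], nat_lit 4, [], []⟩,
⟨nat_lit 4, [], nat_lit 1, [], []⟩,
⟨nat_lit 5, [], nat_lit 1, dw (nat_lit 0x01), dw (nat_lit 0x01)⟩,
⟨nat_lit 1, dw (nat_lit 0x01), nat_lit 4, dw (nat_lit 0x02), []⟩,
⟨nat_lit 1, dw (nat_lit 0x02), nat_lit 5, dw (nat_lit 0x02), dw (nat_lit 0x02)⟩,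
⟨nat_lit 2, dw (nat_lit 0x01), nat_lit 0, [], dw (nat_lit 0x02)⟩,
⟨nat_lit 2, dw (nat_lit 0x02), nat_lit 2, dw (nat_lit 0x02), dw (nat_lit 0x02)⟩,
⟨nat_lit 3, dw (nat_lit 0x01), nat_lit 1, dw (nat_lit 0x02), []⟩,
⟨nat_lit 3, dw (nat_lit 0x02), nat_lit 5, dw (nat_lit 0x01), dw (nat_lit 0x02)⟩,
⟨nat_lit 4, dw (nat_lit 0x01), nat_lit 3, dw (nat_lit 0x02), []⟩,
⟨nat_lit 4, dw (nat_lit 0x02), nat_lit 5, [], dw (nat_lit 0x02)⟩,
⟨nat_lit 5, dw (nat_lit 0x01), nat_lit 4, dw (nat_lit 0x01), dw (nat_lit 0x01)⟩,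
⟨nat_lit 5, dw (nat_lit 0x02), nat_lit 3, dw (nat_lit 0x01), dw (nat_lit 0x01)⟩],
[]⟩],
[⟨dw (nat_lit 0x01), (nat_lit 0x180800), [dw (nat_lit 0x01), dw (nat_lit 0x01)], .nil, []⟩,
⟨dw (nat_lit 0x03), (nat_lit 0x48040), [dw (nat_lit 0x01), dw (nat_lit 0x01)], .nil, []⟩,
⟨dw (nat_lit 0x0301), (nat_lit 0x412000), [dw (nat_lit 0x01), dw (nat_lit 0x01)], .nil, []⟩,
⟨dw (nat_lit 0x0401), (nat_lit 0x200300), [dw (nat_lit 0x01), dw (nat_lit 0x01)], .nil, []⟩,
⟨dw (nat_lit 0x0402), (nat_lit 0x1480), [dw (nat_lit 0x01), dw (nat_lit 0x01)], .nil, []⟩]⟩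
noncomputable def ex4 : List Word := [[nat_lit 24]]
noncomputable def ws4 : List Word := List.append ex4 (lev4.gens ws5)
noncomputable def rels4 : List (Word × Word) := List.append (lev4.rels ws5) (memRels (lev4.gens ws5) ex4 [dw (nat_lit 0x0205)])
noncomputable def lev3 : Level := ⟨nat_lit 3,
[⟨[nat_lit 16], [dw (nat_lit 0x0607)], [dw (nat_lit 0x0503)],
[⟨nat_lit 0, [], nat_lit 1, [], []⟩,
⟨nat_lit 1, [], nat_lit 1, dw (nat_lit 0x0601), dw (nat_lit 0x0308)⟩,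
⟨nat_lit 2, [], nat_lit 1, dw (nat_lit 0x0105), dw (nat_lit 0x0307)⟩,
⟨nat_lit 1, dw (nat_lit 0x01), nat_lit 1, dw (nat_lit 0x0401), dw (nat_lit 0x0305)⟩,
⟨nat_lit 1, dw (nat_lit 0x02), nat_lit 2, [], []⟩,
⟨nat_lit 1, dw (nat_lit 0x04), nat_lit 1, dw (nat_lit 0x0705), dw (nat_lit 0x08)⟩,
⟨nat_lit 1, dw (nat_lit 0x07), nat_lit 1, dw (nat_lit 0x04), dw (nat_lit 0x02)⟩,
⟨nat_lit 1, dw (nat_lit 0x0402), nat_lit 0, [], dw (nat_lit 0x0308)⟩],
[dw (nat_lit 0x01), dw (nat_lit 0x01)]⟩],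
[⟨dw (nat_lit 0x01), (nat_lit 0x7dbfd0), [dw (nat_lit 0x01), dw (nat_lit 0x03), dw (nat_lit 0x01), dw (nat_lit 0x03), dw (nat_lit 0x05), dw (nat_lit 0x01)], (.cons (nat_lit 4) [dw (nat_lit 0x0503)] [dw (nat_lit 0x01), dw (nat_lit 0x01)]
.nil), [dw (nat_lit 0x0607)]⟩,
⟨dw (nat_lit 0x010401), (nat_lit 0x24020), [dw (nat_lit 0x01), dw (nat_lit 0x01)], (.cons (nat_lit 4) [dw (nat_lit 0x0203), dw (nat_lit 0x0208), dw (nat_lit 0x010501), dw (nat_lit 0x0106)] [dw (nat_lit 0x01), dw (nat_lit 0x03), dw (nat_lit 0x07), dw (nat_lit 0x05)]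
.nil), [dw (nat_lit 0x080508), dw (nat_lit 0x0502), dw (nat_lit 0x0307), dw (nat_lit 0x050108)]⟩]⟩
noncomputable def ex3 : List Word := [[nat_lit 18]]
noncomputable def ws3 : List Word := List.append ex3 (lev3.gens ws4)
noncomputable def rels3 : List (Word × Word) := List.append (lev3.rels ws4) (memRels (lev3.gens ws4) ex3 [dw (nat_lit 0x08020408)])
noncomputable def lev2 : Level := ⟨nat_lit 2,
[⟨[nat_lit 12], [dw (nat_lit 0x01), dw (nat_lit 0x0b0306), dw (nat_lit 0x0709)], [dw (nat_lit 0x0103010a070b), dw (nat_lit 0x07010a060c), dw (nat_lit 0x0b02050c)],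
[⟨nat_lit 0, [], nat_lit 1, [], []⟩,
⟨nat_lit 1, [], nat_lit 1, dw (nat_lit 0x02), dw (nat_lit 0x0501060a0c)⟩,
⟨nat_lit 1, dw (nat_lit 0x07), nat_lit 0, [], dw (nat_lit 0x0b020a07)⟩,
⟨nat_lit 1, dw (nat_lit 0x0305), nat_lit 1, dw (nat_lit 0x0b), dw (nat_lit 0x0402060a0c)⟩],
[dw (nat_lit 0x01), dw (nat_lit 0x01), dw (nat_lit 0x05), dw (nat_lit 0x01), dw (nat_lit 0x01), dw (nat_lit 0x03)]⟩],
[⟨dw (nat_lit 0x01), (nat_lit 0x7ffff8), [dw (nat_lit 0x01), dw (nat_lit 0x05), dw (nat_lit 0x01), dw (nat_lit 0x03), dw (nat_lit 0x05), dw (nat_lit 0x01)], (.cons (nat_lit 3) [dw (nat_lit 0x0203), dw (nat_lit 0x030904)] [dw (nat_lit 0x01), dw (nat_lit 0x03), dw (nat_lit 0x01), dw (nat_lit 0x05), dw (nat_lit 0x01), dw (nat_lit 0x01)]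
(.cons (nat_lit 4) [dw (nat_lit 0x0907)] [dw (nat_lit 0x01), dw (nat_lit 0x01)]
.nil)), [dw (nat_lit 0x0103010906), dw (nat_lit 0x050105), dw (nat_lit 0x060209050b)]⟩]⟩
noncomputable def ex2 : List Word := [[nat_lit 14]]
noncomputable def ws2 : List Word := List.append ex2 (lev2.gens ws3)
noncomputable def rels2 : List (Word × Word) := List.append (lev2.rels ws3) (memRels (lev2.gens ws3) ex2 [dw (nat_lit 0x080106090b)])
noncomputable def lev1 : Level := ⟨nat_lit 1,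
[⟨[nat_lit 8], [dw (nat_lit 0x040d), dw (nat_lit 0x050b), dw (nat_lit 0x0e0508)], [dw (nat_lit 0x0806100d0f), dw (nat_lit 0x0a0e), dw (nat_lit 0x01010507050b0d)],
[⟨nat_lit 0, [], nat_lit 1, [], []⟩,
⟨nat_lit 1, [], nat_lit 1, dw (nat_lit 0x0402), dw (nat_lit 0x010507050f)⟩,
⟨nat_lit 1, dw (nat_lit 0x10), nat_lit 0, [], dw (nat_lit 0x03010c060a)⟩],
[dw (nat_lit 0x05), dw (nat_lit 0x01), dw (nat_lit 0x03), dw (nat_lit 0x05), dw (nat_lit 0x01), dw (nat_lit 0x03), dw (nat_lit 0x01), dw (nat_lit 0x03)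
]⟩],
[⟨dw (nat_lit 0x01), (nat_lit 0x7ffffc), [dw (nat_lit 0x01), dw (nat_lit 0x03), dw (nat_lit 0x01), dw (nat_lit 0x07), dw (nat_lit 0x01), dw (nat_lit 0x03), dw (nat_lit 0x01)], (.cons (nat_lit 2) [dw (nat_lit 0x040d)] [dw (nat_lit 0x01), dw (nat_lit 0x03), dw (nat_lit 0x07), dw (nat_lit 0x03), dw (nat_lit 0x07), dw (nat_lit 0x05), dw (nat_lit 0x01)]
(.cons (nat_lit 3) [dw (nat_lit 0x050b), dw (nat_lit 0x090b08)] [dw (nat_lit 0x01), dw (nat_lit 0x03), dw (nat_lit 0x01), dw (nat_lit 0x05), dw (nat_lit 0x01)]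
(.cons (nat_lit 4) [dw (nat_lit 0x0d09)] [dw (nat_lit 0x01), dw (nat_lit 0x01)]
.nil))), [dw (nat_lit 0x0f020d10), dw (nat_lit 0x0d0307050e), dw (nat_lit 0x0503050d09), dw (nat_lit 0x0c06)]⟩]⟩
noncomputable def ex1 : List Word := [[nat_lit 10]]
noncomputable def ws1 : List Word := List.append ex1 (lev1.gens ws2)
noncomputable def rels1 : List (Word × Word) := List.append (lev1.rels ws2) (memRels (lev1.gens ws2) ex1 [dw (nat_lit 0x080207050a0c1012)])
noncomputable def lev0 : Level := ⟨nat_lit 0,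
[⟨[nat_lit 4], [dw (nat_lit 0x0b0501), dw (nat_lit 0x110505), dw (nat_lit 0x120d09)], [dw (nat_lit 0x0314050e09120f), dw (nat_lit 0x0b0110050f1113), dw (nat_lit 0x0b020705100b1213)],
[⟨nat_lit 0, [], nat_lit 1, [], []⟩,
⟨nat_lit 1, [], nat_lit 1, dw (nat_lit 0x03), dw (nat_lit 0x040107050a0f11)⟩,
⟨nat_lit 1, dw (nat_lit 0x04), nat_lit 0, [], dw (nat_lit 0x0b020f050c1214)⟩],
[dw (nat_lit 0x01), dw (nat_lit 0x03), dw (nat_lit 0x01), dw (nat_lit 0x03), dw (nat_lit 0x01), dw (nat_lit 0x03), dw (nat_lit 0x01)]⟩],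
[⟨dw (nat_lit 0x01), (nat_lit 0x7ffffe), [dw (nat_lit 0x01), dw (nat_lit 0x03), dw (nat_lit 0x05), dw (nat_lit 0x07), dw (nat_lit 0x03), dw (nat_lit 0x01)], (.cons (nat_lit 1) [dw (nat_lit 0x0c0101)] [dw (nat_lit 0x01), dw (nat_lit 0x03), dw (nat_lit 0x0408), dw (nat_lit 0x09), dw (nat_lit 0x01), dw (nat_lit 0x03), dw (nat_lit 0x03), dw (nat_lit 0x03)
]
(.cons (nat_lit 2) [dw (nat_lit 0x0607)] [dw (nat_lit 0x01), dw (nat_lit 0x0101), dw (nat_lit 0x05), dw (nat_lit 0x07), dw (nat_lit 0x01), dw (nat_lit 0x05)]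
(.cons (nat_lit 3) [dw (nat_lit 0x090b09)] [dw (nat_lit 0x01), dw (nat_lit 0x01)]
(.cons (nat_lit 4) [dw (nat_lit 0x0e0f), dw (nat_lit 0x0d12), dw (nat_lit 0x0d10), dw (nat_lit 0x0d110e0e)] [dw (nat_lit 0x01), dw (nat_lit 0x03), dw (nat_lit 0x05), dw (nat_lit 0x07)]
.nil)))), [dw (nat_lit 0x14010c050a120e), dw (nat_lit 0x1301070e0a120e13), dw (nat_lit 0x070214050a0b110e13), dw (nat_lit 0x01011209141114), dw (nat_lit 0x04020c05100a110e14), dw (nat_lit 0x0601050c090f1114), dw (nat_lit 0x14011405100a110f14)]⟩]⟩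
noncomputable def ex0 : List Word := [[nat_lit 6]]
noncomputable def ws0 : List Word := List.append ex0 (lev0.gens ws1)
noncomputable def rels0 : List (Word × Word) := List.append (lev0.rels ws1) (memRels (lev0.gens ws1) ex0 [dw (nat_lit 0x0a01010904140b1113)])
noncomputable def prim0 : List (List Word) := [[dw (nat_lit 0x01), dw (nat_lit 0x0101), dw (nat_lit 0x03), dw (nat_lit 0x05), dw (nat_lit 0x07), dw (nat_lit 0x01)]]
noncomputable def rels : List (Word × Word) := List.append rels0 (List.append rels1 (List.append rels2 (List.append rels3 (List.append rels4 (List.append rels5 ([]))))))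
noncomputable def defs : List Word := [dw (nat_lit 0x02030101040104020203), dw (nat_lit 0x0303030203010104010402020404), dw (nat_lit 0x070508060607050507), dw (nat_lit 0x08060808050707060806060706), dw (nat_lit 0x0c090c0909090c09090c09), dw (nat_lit 0x0a0a0b0b), dw (nat_lit 0x100d100d10100d), dw (nat_lit 0x0e0e0f0f0d0f0f0d)
, dw (nat_lit 0x1212141411), dw (nat_lit 0x121414111312), dw (nat_lit 0x131214141114), dw (nat_lit 0x1919161619171617)]
noncomputable def relsD : List (Word × Word) := defRels defs 2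
noncomputable def relsO : List (Word × Word) := memRels ws0 (lets 2) [dw (nat_lit 0x060117050d0b100d17), dw (nat_lit 0x04010806120d161317)]
noncomputable def zc : Word := dw (nat_lit 0x04010b050b0b140f111517)
noncomputable def relsS : List (Word × Word) := List.append [(powW [2 * 2] 23, [])] [([2 * (2 + 1)], conjW [2 * 2] (flat ws0 zc))]
noncomputable def allRels : List (Word × Word) := List.append rels (List.append relsD (List.append relsO relsS))
theorem chk5 : lev5.chk 24 nets ws6 1 3 = true := by decide +kernel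
theorem chk4 : lev4.chk 24 nets ws5 3 48 = true := by decide +kernel
theorem chk3 : lev3.chk 24 nets ws4 48 960 = true := by decide +kernel
theorem chk2 : lev2.chk 24 nets ws3 960 20160 = true := by decide +kernel
theorem chk1 : lev1.chk 24 nets ws2 20160 443520 = true := by decide +kernel
theorem primc0 : PM.primChk nets ws1 lev0 lev0.sos prim0 = true := by decide +kernel
theorem chk0 : lev0.chk 24 nets ws1 443520 10200960 = true := by decide +kernel
theorem rc0 : relsChk 24 nets 5 (idArr 24 5 5 0) allRels = true := by decide +kernel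
section
variable {Γ Ω : Type*} [Group Γ] [MulAction Γ Ω] (M : PM Γ Ω 24 nets)

theorem all_ok (hs : M.Sep 5 (idArr 24 5 5 0)) : Rels M.gen allRels := (M.rels_of_chk hs rc0)
theorem sep [FaithfulSMul Γ Ω] : M.Sep 5 (idArr 24 5 5 0) := M.sep_idArr (by decide)
theorem all_ok' [FaithfulSMul Γ Ω] : Rels M.gen allRels := all_ok M (sep M)
theorem rels_of_all {gen : ℕ → Γ} (h : Rels gen allRels) : Rels gen rels := Rels.left h
theorem relsD_of_all {gen : ℕ → Γ} (h : Rels gen allRels) : Rels gen relsD := Rels.left (Rels.right h)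
theorem relsO_of_all {gen : ℕ → Γ} (h : Rels gen allRels) : Rels gen relsO := Rels.left (Rels.right (Rels.right h))
theorem relsS_of_all {gen : ℕ → Γ} (h : Rels gen allRels) : Rels gen relsS := Rels.right (Rels.right (Rels.right h))
theorem card6 (_hR : Rels M.gen rels) : Nat.card (sub M.gen ws6) = 1 := M.card_nil
theorem fixw6 (_hR : Rels M.gen rels) : M.FixTriv ws6 [] := M.fixTriv_nil
theorem r5 (hR : Rels M.gen rels) : Rels M.gen rels5 := (Rels.left (Rels.right (Rels.right (Rels.right (Rels.right (Rels.right hR))))))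
theorem res5 (hR : Rels M.gen rels) : M.LevelRes ws6 lev5 3 := M.level (card6 M hR) chk5 (Rels.left (r5 M hR))
theorem ext5 (hR : Rels M.gen rels) : sub M.gen ws5 = sub M.gen (lev5.gens ws6) := sub_extend (Rels.right (r5 M hR))
theorem card5 (hR : Rels M.gen rels) : Nat.card (sub M.gen ws5) = 3 := by rw [ext5 M hR]; exact (res5 M hR).card
theorem fix5 (hR : Rels M.gen rels) : M.FixTriv (lev5.gens ws6) [5] := (res5 M hR).fixTriv M (fixw6 M hR)
theorem fixw5 (hR : Rels M.gen rels) : M.FixTriv ws5 [5] := fun g hg => fix5 M hR g (ext5 M hR ▸ hg)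
theorem stab5 (hR : Rels M.gen rels) : sub M.gen ws5 ⊓ MulAction.stabilizer Γ (M.dec 5) = sub M.gen ws6 := by rw [ext5 M hR]; exact (res5 M hR).stab
theorem orb5 (hR : Rels M.gen rels) (y : Ω) : y ∈ M.S lev5.orb ↔ ∃ g ∈ sub M.gen ws5, g • M.dec 5 = y := by rw [ext5 M hR]; exact (res5 M hR).orb y
theorem r4 (hR : Rels M.gen rels) : Rels M.gen rels4 := (Rels.left (Rels.right (Rels.right (Rels.right (Rels.right hR)))))
theorem res4 (hR : Rels M.gen rels) : M.LevelRes ws5 lev4 48 := M.level (card5 M hR) chk4 (Rels.left (r4 M hR))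
theorem ext4 (hR : Rels M.gen rels) : sub M.gen ws4 = sub M.gen (lev4.gens ws5) := sub_extend (Rels.right (r4 M hR))
theorem card4 (hR : Rels M.gen rels) : Nat.card (sub M.gen ws4) = 48 := by rw [ext4 M hR]; exact (res4 M hR).card
theorem fix4 (hR : Rels M.gen rels) : M.FixTriv (lev4.gens ws5) [4, 5] := (res4 M hR).fixTriv M (fixw5 M hR)
theorem fixw4 (hR : Rels M.gen rels) : M.FixTriv ws4 [4, 5] := fun g hg => fix4 M hR g (ext4 M hR ▸ hg)
theorem stab4 (hR : Rels M.gen rels) : sub M.gen ws4 ⊓ MulAction.stabilizer Γ (M.dec 4) = sub M.gen ws5 := by rw [ext4 M hR]; exact (res4 M hR).stab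
theorem orb4 (hR : Rels M.gen rels) (y : Ω) : y ∈ M.S lev4.orb ↔ ∃ g ∈ sub M.gen ws4, g • M.dec 4 = y := by rw [ext4 M hR]; exact (res4 M hR).orb y
theorem r3 (hR : Rels M.gen rels) : Rels M.gen rels3 := (Rels.left (Rels.right (Rels.right (Rels.right hR))))
theorem res3 (hR : Rels M.gen rels) : M.LevelRes ws4 lev3 960 := M.level (card4 M hR) chk3 (Rels.left (r3 M hR))
theorem ext3 (hR : Rels M.gen rels) : sub M.gen ws3 = sub M.gen (lev3.gens ws4) := sub_extend (Rels.right (r3 M hR))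
theorem card3 (hR : Rels M.gen rels) : Nat.card (sub M.gen ws3) = 960 := by rw [ext3 M hR]; exact (res3 M hR).card
theorem fix3 (hR : Rels M.gen rels) : M.FixTriv (lev3.gens ws4) [3, 4, 5] := (res3 M hR).fixTriv M (fixw4 M hR)
theorem fixw3 (hR : Rels M.gen rels) : M.FixTriv ws3 [3, 4, 5] := fun g hg => fix3 M hR g (ext3 M hR ▸ hg)
theorem stab3 (hR : Rels M.gen rels) : sub M.gen ws3 ⊓ MulAction.stabilizer Γ (M.dec 3) = sub M.gen ws4 := by rw [ext3 M hR]; exact (res3 M hR).stab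
theorem orb3 (hR : Rels M.gen rels) (y : Ω) : y ∈ M.S lev3.orb ↔ ∃ g ∈ sub M.gen ws3, g • M.dec 3 = y := by rw [ext3 M hR]; exact (res3 M hR).orb y
theorem r2 (hR : Rels M.gen rels) : Rels M.gen rels2 := (Rels.left (Rels.right (Rels.right hR)))
theorem res2 (hR : Rels M.gen rels) : M.LevelRes ws3 lev2 20160 := M.level (card3 M hR) chk2 (Rels.left (r2 M hR))
theorem ext2 (hR : Rels M.gen rels) : sub M.gen ws2 = sub M.gen (lev2.gens ws3) := sub_extend (Rels.right (r2 M hR))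
theorem card2 (hR : Rels M.gen rels) : Nat.card (sub M.gen ws2) = 20160 := by rw [ext2 M hR]; exact (res2 M hR).card
theorem fix2 (hR : Rels M.gen rels) : M.FixTriv (lev2.gens ws3) [2, 3, 4, 5] := (res2 M hR).fixTriv M (fixw3 M hR)
theorem fixw2 (hR : Rels M.gen rels) : M.FixTriv ws2 [2, 3, 4, 5] := fun g hg => fix2 M hR g (ext2 M hR ▸ hg)
theorem stab2 (hR : Rels M.gen rels) : sub M.gen ws2 ⊓ MulAction.stabilizer Γ (M.dec 2) = sub M.gen ws3 := by rw [ext2 M hR]; exact (res2 M hR).stab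
theorem orb2 (hR : Rels M.gen rels) (y : Ω) : y ∈ M.S lev2.orb ↔ ∃ g ∈ sub M.gen ws2, g • M.dec 2 = y := by rw [ext2 M hR]; exact (res2 M hR).orb y
theorem r1 (hR : Rels M.gen rels) : Rels M.gen rels1 := (Rels.left (Rels.right hR))
theorem res1 (hR : Rels M.gen rels) : M.LevelRes ws2 lev1 443520 := M.level (card2 M hR) chk1 (Rels.left (r1 M hR))
theorem ext1 (hR : Rels M.gen rels) : sub M.gen ws1 = sub M.gen (lev1.gens ws2) := sub_extend (Rels.right (r1 M hR))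
theorem card1 (hR : Rels M.gen rels) : Nat.card (sub M.gen ws1) = 443520 := by rw [ext1 M hR]; exact (res1 M hR).card
theorem fix1 (hR : Rels M.gen rels) : M.FixTriv (lev1.gens ws2) [1, 2, 3, 4, 5] := (res1 M hR).fixTriv M (fixw2 M hR)
theorem fixw1 (hR : Rels M.gen rels) : M.FixTriv ws1 [1, 2, 3, 4, 5] := fun g hg => fix1 M hR g (ext1 M hR ▸ hg)
theorem stab1 (hR : Rels M.gen rels) : sub M.gen ws1 ⊓ MulAction.stabilizer Γ (M.dec 1) = sub M.gen ws2 := by rw [ext1 M hR]; exact (res1 M hR).stab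
theorem orb1 (hR : Rels M.gen rels) (y : Ω) : y ∈ M.S lev1.orb ↔ ∃ g ∈ sub M.gen ws1, g • M.dec 1 = y := by rw [ext1 M hR]; exact (res1 M hR).orb y
theorem r0 (hR : Rels M.gen rels) : Rels M.gen rels0 := (Rels.left hR)
theorem res0 (hR : Rels M.gen rels) : M.LevelRes ws1 lev0 10200960 := M.level (card1 M hR) chk0 (Rels.left (r0 M hR))
theorem ext0 (hR : Rels M.gen rels) : sub M.gen ws0 = sub M.gen (lev0.gens ws1) := sub_extend (Rels.right (r0 M hR))
theorem card0 (hR : Rels M.gen rels) : Nat.card (sub M.gen ws0) = 10200960 := by rw [ext0 M hR]; exact (res0 M hR).card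
theorem fix0 (hR : Rels M.gen rels) : M.FixTriv (lev0.gens ws1) [0, 1, 2, 3, 4, 5] := (res0 M hR).fixTriv M (fixw1 M hR)
theorem fixw0 (hR : Rels M.gen rels) : M.FixTriv ws0 [0, 1, 2, 3, 4, 5] := fun g hg => fix0 M hR g (ext0 M hR ▸ hg)
theorem stab0 (hR : Rels M.gen rels) : sub M.gen ws0 ⊓ MulAction.stabilizer Γ (M.dec 0) = sub M.gen ws1 := by rw [ext0 M hR]; exact (res0 M hR).stab
theorem orb0 (hR : Rels M.gen rels) (y : Ω) : y ∈ M.S lev0.orb ↔ ∃ g ∈ sub M.gen ws0, g • M.dec 0 = y := by rw [ext0 M hR]; exact (res0 M hR).orb y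
theorem max0 (hR : Rels M.gen rels) (X : Subgroup Γ) (h1 : sub M.gen ws1 ≤ X) (h2 : X ≤ sub M.gen ws0) : X = sub M.gen ws1 ∨ X = sub M.gen ws0 := by rw [ext0 M hR] at h2 ⊢; exact (res0 M hR).max M primc0 X h1 h2
theorem orig_eq {gen : ℕ → Γ} (h : Rels gen allRels) : sub gen (lets 2) = sub gen ws0 :=
  sub_lets_eq_of_rels (ds := defs) (by decide +kernel) (relsD_of_all h) (by decide +kernel) (relsO_of_all h)
theorem gen_mem {gen : ℕ → Γ} (h : Rels gen allRels) {X : Subgroup Γ} (h0 : ∀ l < 2, gen l ∈ X) : sub gen ws0 ≤ X :=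
  sub_le_of_wsIn (lo := 0) (gen_mem_of_defRels (ds := defs) (fun l _ hl => h0 l hl) (by decide +kernel) (relsD_of_all h)) (by decide +kernel)
theorem simple (h : Rels M.gen allRels) : IsSimpleGroup (sub M.gen ws0) :=
  (res0 M (rels_of_all h)).simple (ext0 M (rels_of_all h)) (card1 M (rels_of_all h)) (by decide) primc0 (fix0 M (rels_of_all h)) (by decide +kernel)
    (z := M.gen 2) (by rw [← ev_single M.gen 2]; exact ev_getL_mem M.gen ws0 1) (m := 23)
    (by rw [← ev_single M.gen 2]; exact pow_eq_one_of_rels (Rels.left (relsS_of_all h))) (by norm_num)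
    (ncl_of_defRels (ds := defs.drop 2) (c := zc) (by decide +kernel) (defRels_drop defs 2 2 ▸ (relsD_of_all h).drop 2) (by decide +kernel) (Rels.right (relsS_of_all h)))

end

end H14.M23c
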