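import Cfsg.Agent.H14.Enum3
import Cfsg.Agent.H14.Mathieu

/-! Extensions of the main machine of `M24`, pointwise stabilisers and their enumeration. -/

set_option autoImplicit false
set_option maxRecDepth 100000

namespace H14
open Cfsg MulAction
open scoped Pointwise

theorem m24_ext {L L2 L' : List Net} (e : L2 = List.append L L') (h : L.all golayOk = true)
    (h2 : L2.all golayOk = true) : (m24PM L h).Ext (m24PM L2 h2) :=
  ⟨rfl, rfl, fun l hl => Subtype.ext (by
    show netPerm _ = netPerm _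
    rw [e, getL_append_left _ _ hl])⟩

theorem M0_eq0 : ⊤ ⊓ M0.fixL [] = sub M0.gen M24c.ws0 := M0.inf_fixL_nil M0_top
theorem M0_eq1 : ⊤ ⊓ M0.fixL [23] = sub M0.gen M24c.ws1 := PM.fix_eq_of M0_fix1 (by decide +kernel)
theorem M0_eq2 : ⊤ ⊓ M0.fixL [0, 23] = sub M0.gen M24c.ws2 :=
  PM.fix_eq_of M0_fix2 (by decide +kernel)
theorem M0_eq3 : ⊤ ⊓ M0.fixL [1, 0, 23] = sub M0.gen M24c.ws3 :=
  PM.fix_eq_of M0_fix3 (by decide +kernel)
theorem M0_eq4 : ⊤ ⊓ M0.fixL [2, 1, 0, 23] = sub M0.gen M24c.ws4 :=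
  PM.fix_eq_of M0_fix4 (by decide +kernel)
theorem M0_eq5 : ⊤ ⊓ M0.fixL [3, 2, 1, 0, 23] = sub M0.gen M24c.ws5 :=
  PM.fix_eq_of M0_fix5 (by decide +kernel)

noncomputable def m24Ts7 : List (List Word) := []
noncomputable def m24Ts6 : List (List Word) := List.map (flat M24c.ws6) [[], dw (nat_lit 0x02), dw (nat_lit 0x01)] :: m24Ts7
noncomputable def m24Ts5 : List (List Word) := List.map (flat M24c.ws5) [[], dw (nat_lit 0x02), dw (nat_lit 0x01), dw (nat_lit 0x04), dw (nat_lit 0x03), dw (nat_lit 0x0204), dw (nat_lit 0x0203), dw (nat_lit 0x0205)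
, dw (nat_lit 0x0104), dw (nat_lit 0x0103), dw (nat_lit 0x0402), dw (nat_lit 0x0405), dw (nat_lit 0x0301), dw (nat_lit 0x020402), dw (nat_lit 0x020406), dw (nat_lit 0x020504)
] :: m24Ts6
noncomputable def m24Ts4 : List (List Word) := List.map (flat M24c.ws4) [[], dw (nat_lit 0x02), dw (nat_lit 0x01), dw (nat_lit 0x04), dw (nat_lit 0x03), dw (nat_lit 0x0204), dw (nat_lit 0x0203), dw (nat_lit 0x0206)
, dw (nat_lit 0x0205), dw (nat_lit 0x0207), dw (nat_lit 0x020a), dw (nat_lit 0x0103), dw (nat_lit 0x0105), dw (nat_lit 0x0107), dw (nat_lit 0x010a), dw (nat_lit 0x0407)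
, dw (nat_lit 0x030a), dw (nat_lit 0x020501), dw (nat_lit 0x020703), dw (nat_lit 0x020a02)] :: m24Ts5
noncomputable def m24Ts3 : List (List Word) := List.map (flat M24c.ws3) [[], dw (nat_lit 0x02), dw (nat_lit 0x01), dw (nat_lit 0x04), dw (nat_lit 0x03), dw (nat_lit 0x0202), dw (nat_lit 0x0204), dw (nat_lit 0x0203)
, dw (nat_lit 0x0206), dw (nat_lit 0x0205), dw (nat_lit 0x0207), dw (nat_lit 0x020b), dw (nat_lit 0x020d), dw (nat_lit 0x0104), dw (nat_lit 0x0103), dw (nat_lit 0x0108)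
, dw (nat_lit 0x010a), dw (nat_lit 0x010b), dw (nat_lit 0x040a), dw (nat_lit 0x0409), dw (nat_lit 0x020306)] :: m24Ts4
theorem m24cov7 : Cover M0.gen (sub M0.gen M24c.ws7) m24Ts7 := Cover.nil
theorem m24cov6 : Cover M0.gen (sub M0.gen M24c.ws6) m24Ts6 :=
  M0.cover_step (M24c.stab6 M0 M0_rels) (M24c.orb6 M0 M0_rels) (by decide +kernel) m24cov7
theorem m24cov5 : Cover M0.gen (sub M0.gen M24c.ws5) m24Ts5 :=
  M0.cover_step (M24c.stab5 M0 M0_rels) (M24c.orb5 M0 M0_rels) (by decide +kernel) m24cov6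
theorem m24cov4 : Cover M0.gen (sub M0.gen M24c.ws4) m24Ts4 :=
  M0.cover_step (M24c.stab4 M0 M0_rels) (M24c.orb4 M0 M0_rels) (by decide +kernel) m24cov5
theorem m24cov3 : Cover M0.gen (sub M0.gen M24c.ws3) m24Ts3 :=
  M0.cover_step (M24c.stab3 M0 M0_rels) (M24c.orb3 M0 M0_rels) (by decide +kernel) m24cov4

section
variable {L : List Net} {h : L.all golayOk = true}

theorem inv_stab_bset (m : ℕ) : (m24PM L h).Inv (stabilizer M24 (bset m)) m := fun g hg x hx => by
  rw [mem_S_iff] at hx ⊢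
  rw [← mem_stabilizer_iff.1 hg]
  exact Finset.smul_mem_smul_finset hx

theorem inv_stab_pt {i : ℕ} (hi : i < 24) : (m24PM L h).Inv (stabilizer M24 (gp i)) (bit i) :=
  PM.Inv.stab hi

theorem inv_G23 : (m24PM L h).Inv G23 (bit 23) := inv_stab_pt (i := 23) (by norm_num)
theorem inv_G22a : (m24PM L h).Inv G22 (bit 23) := inv_G23.mono inf_le_left
theorem inv_G22b : (m24PM L h).Inv G22 (bit 0) :=
  (inv_stab_pt (i := 0) (by norm_num)).mono inf_le_right
theorem inv_G12 : (m24PM L h).Inv G12 0x5335f := inv_stab_bset _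
theorem inv_G11a : (m24PM L h).Inv G11 0x5335f := inv_G12.mono inf_le_left
theorem inv_G11b : (m24PM L h).Inv G11 (bit 0) :=
  (inv_stab_pt (i := 0) (by norm_num)).mono inf_le_right

variable {ws : List Word}
theorem le_G23 (c : invChk L ws (bit 23) = true) : sub (m24PM L h).gen ws ≤ G23 :=
  (m24PM L h).fix_sound (b := 23) (by norm_num) c
theorem le_G22 (c : (invChk L ws (bit 23) && invChk L ws (bit 0)) = true) :
    sub (m24PM L h).gen ws ≤ G22 :=
  le_inf (le_G23 (Bool.and_eq_true_iff.1 c).1)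
    ((m24PM L h).fix_sound (b := 0) (by norm_num) (Bool.and_eq_true_iff.1 c).2)
theorem le_G12 (c : invChk L ws 0x5335f = true) : sub (m24PM L h).gen ws ≤ G12 :=
  smul_bset_of_invChk h c
theorem le_G11 (c : (invChk L ws 0x5335f && invChk L ws (bit 0)) = true) :
    sub (m24PM L h).gen ws ≤ G11 :=
  le_inf (le_G12 (Bool.and_eq_true_iff.1 c).1)
    ((m24PM L h).fix_sound (b := 0) (by norm_num) (Bool.and_eq_true_iff.1 c).2)

end

end H14
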