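import Cfsg.Agent.H14.Enum3
import Cfsg.Agent.H14.M24Lab
import Cfsg.Agent.H14.Fus

/-! Generated certificate (tools14/pkgen) for the permutation group F11 of degree 24, order 16, base 5 1. -/
set_option autoImplicit false
set_option maxRecDepth 100000
set_option maxHeartbeats 0

namespace H14.F11
open H14

noncomputable def n11 : Net := (.cons (nat_lit 1) (nat_lit 0x440044)
(.cons (nat_lit 2) (nat_lit 0x210300)
(.cons (nat_lit 4) (nat_lit 0x400)
(.cons (nat_lit 8) (nat_lit 0x85)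
(.cons (nat_lit 16) (nat_lit 0xef)
(.cons (nat_lit 8) (nat_lit 0x6b)
(.cons (nat_lit 4) (nat_lit 0x50d02)
(.cons (nat_lit 2) (nat_lit 0x13202)
(.cons (nat_lit 1) (nat_lit 0x555504)
.nil)))))))))
theorem n11_ok : Net.ok 24 n11 = true := by decide +kernel
noncomputable def n12 : Net := (.cons (nat_lit 1) (nat_lit 0x450104)
(.cons (nat_lit 2) (nat_lit 0x110300)
(.cons (nat_lit 4) (nat_lit 0x40200)
(.cons (nat_lit 8) (nat_lit 0x61)
(.cons (nat_lit 16) (nat_lit 0xeb)
(.cons (nat_lit 8) (nat_lit 0xc5)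
(.cons (nat_lit 4) (nat_lit 0x700)
(.cons (nat_lit 2) (nat_lit 0x221220)
(.cons (nat_lit 1) (nat_lit 0x451104)
.nil)))))))))
theorem n12_ok : Net.ok 24 n12 = true := by decide +kernel
noncomputable def n13 : Net := (.cons (nat_lit 1) (nat_lit 0x5140)
(.cons (nat_lit 2) (nat_lit 0x100020)
(.cons (nat_lit 8) (nat_lit 0x40)
(.cons (nat_lit 16) (nat_lit 0x40)
(.cons (nat_lit 8) (nat_lit 0x62)
(.cons (nat_lit 4) (nat_lit 0xa0b02)
(.cons (nat_lit 2) (nat_lit 0x100020)
(.cons (nat_lit 1) (nat_lit 0x5144)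
.nil))))))))
theorem n13_ok : Net.ok 24 n13 = true := by decide +kernel
noncomputable def nets : List Net := List.append M24c.nets [n11, n12, n13]
theorem nets_ok : netsOk 24 nets = true := netsOk_append M24c.nets_ok <| List.all_eq_true.2 (fa_cons n11_ok (fa_cons n12_ok (fa_cons n13_ok (fa_nil))))
noncomputable def ws2 : List Word := []
noncomputable def lev1 : Level := ⟨nat_lit 1,
[⟨[nat_lit 26], [], [],
[⟨nat_lit 0, [], nat_lit 1, [], []⟩,
⟨nat_lit 1, [], nat_lit 0, [], []⟩],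
[]⟩],
[⟨dw (nat_lit 0x01), (nat_lit 0x1000), [], .nil, []⟩]⟩
noncomputable def ex1 : List Word := []
noncomputable def ws1 : List Word := List.append ex1 (lev1.gens ws2)
noncomputable def rels1 : List (Word × Word) := List.append (lev1.rels ws2) (memRels (lev1.gens ws2) ex1 [])
noncomputable def lev0 : Level := ⟨nat_lit 5,
[⟨[nat_lit 22], [], [],
[⟨nat_lit 0, [], nat_lit 1, [], []⟩,
⟨nat_lit 1, [], nat_lit 3, [], []⟩,
⟨nat_lit 2, [], nat_lit 0, [], []⟩,
⟨nat_lit 3, [], nat_lit 1, dw (nat_lit 0x01), dw (nat_lit 0x01)⟩,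
⟨nat_lit 4, [], nat_lit 2, dw (nat_lit 0x01), []⟩,
⟨nat_lit 1, dw (nat_lit 0x01), nat_lit 4, [], []⟩,
⟨nat_lit 2, dw (nat_lit 0x01), nat_lit 3, dw (nat_lit 0x01), []⟩,
⟨nat_lit 3, dw (nat_lit 0x01), nat_lit 2, [], dw (nat_lit 0x01)⟩],
[]⟩],
[⟨dw (nat_lit 0x01), (nat_lit 0x108000), [dw (nat_lit 0x01)], .nil, []⟩,
⟨dw (nat_lit 0x02), (nat_lit 0x4800), [dw (nat_lit 0x01)], .nil, []⟩,
⟨dw (nat_lit 0x0101), (nat_lit 0x880000), [dw (nat_lit 0x01)], .nil, []⟩,
⟨dw (nat_lit 0x010301), (nat_lit 0x400000), [], (.cons (nat_lit 1) [dw (nat_lit 0x01)] [dw (nat_lit 0x01)]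
.nil), [dw (nat_lit 0x01)]⟩]⟩
noncomputable def ex0 : List Word := [[nat_lit 24]]
noncomputable def ws0 : List Word := List.append ex0 (lev0.gens ws1)
noncomputable def rels0 : List (Word × Word) := List.append (lev0.rels ws1) (memRels (lev0.gens ws1) ex0 [dw (nat_lit 0x0203)])
noncomputable def rels : List (Word × Word) := List.append rels0 (List.append rels1 ([]))
noncomputable def defs : List Word := [dw (nat_lit 0x0301010309070a0c110e11151312), dw (nat_lit 0x0802030213070b0b14101512), dw (nat_lit 0x18181a1a1819)]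
noncomputable def relsD : List (Word × Word) := defRels defs 11
noncomputable def relsO : List (Word × Word) := []
noncomputable def relsS : List (Word × Word) := []
noncomputable def allRels : List (Word × Word) := List.append rels (List.append relsD (List.append relsO relsS))
theorem chk1 : lev1.chk 24 nets ws2 1 2 = true := by decide +kernel
theorem chk0 : lev0.chk 24 nets ws1 2 16 = true := by decide +kernel
theorem rc0 : relsChk 24 nets 5 (idArr 24 5 5 0) allRels = true := by decide +kernel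
section
variable {Γ Ω : Type*} [Group Γ] [MulAction Γ Ω] (M : PM Γ Ω 24 nets)

theorem all_ok (hs : M.Sep 5 (idArr 24 5 5 0)) : Rels M.gen allRels := (M.rels_of_chk hs rc0)
theorem sep [FaithfulSMul Γ Ω] : M.Sep 5 (idArr 24 5 5 0) := M.sep_idArr (by decide)
theorem all_ok' [FaithfulSMul Γ Ω] : Rels M.gen allRels := all_ok M (sep M)
theorem rels_of_all {gen : ℕ → Γ} (h : Rels gen allRels) : Rels gen rels := Rels.left h
theorem relsD_of_all {gen : ℕ → Γ} (h : Rels gen allRels) : Rels gen relsD := Rels.left (Rels.right h)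
theorem relsO_of_all {gen : ℕ → Γ} (h : Rels gen allRels) : Rels gen relsO := Rels.left (Rels.right (Rels.right h))
theorem relsS_of_all {gen : ℕ → Γ} (h : Rels gen allRels) : Rels gen relsS := Rels.right (Rels.right (Rels.right h))
theorem card2 (_hR : Rels M.gen rels) : Nat.card (sub M.gen ws2) = 1 := M.card_nil
theorem fixw2 (_hR : Rels M.gen rels) : M.FixTriv ws2 [] := M.fixTriv_nil
theorem r1 (hR : Rels M.gen rels) : Rels M.gen rels1 := (Rels.left (Rels.right hR))
theorem res1 (hR : Rels M.gen rels) : M.LevelRes ws2 lev1 2 := M.level (card2 M hR) chk1 (Rels.left (r1 M hR))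
theorem ext1 (hR : Rels M.gen rels) : sub M.gen ws1 = sub M.gen (lev1.gens ws2) := sub_extend (Rels.right (r1 M hR))
theorem card1 (hR : Rels M.gen rels) : Nat.card (sub M.gen ws1) = 2 := by rw [ext1 M hR]; exact (res1 M hR).card
theorem fix1 (hR : Rels M.gen rels) : M.FixTriv (lev1.gens ws2) [1] := (res1 M hR).fixTriv M (fixw2 M hR)
theorem fixw1 (hR : Rels M.gen rels) : M.FixTriv ws1 [1] := fun g hg => fix1 M hR g (ext1 M hR ▸ hg)
theorem stab1 (hR : Rels M.gen rels) : sub M.gen ws1 ⊓ MulAction.stabilizer Γ (M.dec 1) = sub M.gen ws2 := by rw [ext1 M hR]; exact (res1 M hR).stab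
theorem orb1 (hR : Rels M.gen rels) (y : Ω) : y ∈ M.S lev1.orb ↔ ∃ g ∈ sub M.gen ws1, g • M.dec 1 = y := by rw [ext1 M hR]; exact (res1 M hR).orb y
theorem r0 (hR : Rels M.gen rels) : Rels M.gen rels0 := (Rels.left hR)
theorem res0 (hR : Rels M.gen rels) : M.LevelRes ws1 lev0 16 := M.level (card1 M hR) chk0 (Rels.left (r0 M hR))
theorem ext0 (hR : Rels M.gen rels) : sub M.gen ws0 = sub M.gen (lev0.gens ws1) := sub_extend (Rels.right (r0 M hR))
theorem card0 (hR : Rels M.gen rels) : Nat.card (sub M.gen ws0) = 16 := by rw [ext0 M hR]; exact (res0 M hR).card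
theorem fix0 (hR : Rels M.gen rels) : M.FixTriv (lev0.gens ws1) [5, 1] := (res0 M hR).fixTriv M (fixw1 M hR)
theorem fixw0 (hR : Rels M.gen rels) : M.FixTriv ws0 [5, 1] := fun g hg => fix0 M hR g (ext0 M hR ▸ hg)
theorem stab0 (hR : Rels M.gen rels) : sub M.gen ws0 ⊓ MulAction.stabilizer Γ (M.dec 5) = sub M.gen ws1 := by rw [ext0 M hR]; exact (res0 M hR).stab
theorem orb0 (hR : Rels M.gen rels) (y : Ω) : y ∈ M.S lev0.orb ↔ ∃ g ∈ sub M.gen ws0, g • M.dec 5 = y := by rw [ext0 M hR]; exact (res0 M hR).orb y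
theorem gen_mem {gen : ℕ → Γ} (h : Rels gen allRels) {X : Subgroup Γ} (h0 : ∀ l < 11, gen l ∈ X) : sub gen ws0 ≤ X :=
  sub_le_of_wsIn (lo := 0) (gen_mem_of_defRels (ds := defs) (fun l _ hl => h0 l hl) (by decide +kernel) (relsD_of_all h)) (by decide +kernel)
theorem exists_ext [FaithfulSMul Γ Ω] (M0 : PM Γ Ω 24 M24c.nets) : ∃ M' : PM Γ Ω 24 nets, M0.Ext M' :=
  M0.exists_ext rfl (relsD_of_all (all_ok' (permPM 24 nets (by norm_num) (by norm_num) nets_ok))) (by decide +kernel)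

end

open Cfsg MulAction
open scoped Pointwise

theorem ok : nets.all golayOk = true := by decide +kernel
noncomputable def M : PM M24 GolayPt 24 nets := m24PM nets ok
theorem hE : M0.Ext M := m24_ext rfl M24c_ok ok
theorem hR : Rels M.gen rels := rels_of_all (all_ok' M)
noncomputable def sTs2 : List (List Word) := []
noncomputable def sTs1 : List (List Word) := List.map (flat H14.F11.ws1) [[], dw (nat_lit 0x02)] :: sTs2
noncomputable def sTs0 : List (List Word) := List.map (flat H14.F11.ws0) [[], dw (nat_lit 0x02), dw (nat_lit 0x01), dw (nat_lit 0x04), dw (nat_lit 0x0202), dw (nat_lit 0x0203), dw (nat_lit 0x0206), dw (nat_lit 0x0103)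
] :: sTs1
theorem scov2 : Cover M.gen (sub M.gen H14.F11.ws2) sTs2 := Cover.nil
theorem scov1 : Cover M.gen (sub M.gen H14.F11.ws1) sTs1 :=
  M.cover_step (H14.F11.stab1 M hR) (H14.F11.orb1 M hR) (by decide +kernel) scov2
theorem scov0 : Cover M.gen (sub M.gen H14.F11.ws0) sTs0 :=
  M.cover_step (H14.F11.stab0 M hR) (H14.F11.orb0 M hR) (by decide +kernel) scov1
theorem xe0 : sub M.gen ws0 ⊓ M.fixL [] = sub M.gen ws0 := M.inf_fixL_nil rfl
theorem xe1 : sub M.gen ws0 ⊓ M.fixL [5] = sub M.gen ws1 := M.inf_fixL_cons xe0 (stab0 M hR)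
theorem xe2 : sub M.gen ws0 ⊓ M.fixL [1, 5] = sub M.gen ws2 := M.inf_fixL_cons xe1 (stab1 M hR)
abbrev A := (G11) ⊓ Subgroup.normalizer (sub M.gen ws0 : Set _)
theorem i1 : M.Inv (A ⊓ M.fixL []) (nat_lit 0xffffff) :=
  (PM.Inv.full).of_eq (by decide +kernel)
theorem i2 : M.Inv (A ⊓ M.fixL []) (nat_lit 0x5335f) :=
  (PM.Inv.base inv_G11a).of_eq (by decide +kernel)
theorem i3 : M.Inv (A ⊓ M.fixL []) (nat_lit 0xfacca0) :=
  (i1.sdf i2).of_eq (by decide +kernel)
theorem i4 : M.Inv (A ⊓ M.fixL []) (nat_lit 0x1) :=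
  (PM.Inv.base inv_G11b).of_eq (by decide +kernel)
theorem i5 : M.Inv (A ⊓ M.fixL []) (nat_lit 0x5335e) :=
  (i2.sdf i4).of_eq (by decide +kernel)
theorem i6 : M.Inv (A ⊓ M.fixL []) (nat_lit 0xd8c820) :=
  PM.Inv.orbit (s := 5) (sc := [dw (nat_lit 0x01), dw (nat_lit 0x0504), dw (nat_lit 0x03), dw (nat_lit 0x01)]) (l := [(nat_lit 7, (nat_lit 0x220480), [dw (nat_lit 0x01), dw (nat_lit 0x03), dw (nat_lit 0x01)])]) (PM.nml_of xe0 (by decide +kernel)) i3 (by decide +kernel)
theorem i8 : M.Inv (A ⊓ M.fixL []) (nat_lit 0x5320e) :=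
  PM.Inv.orbit (s := 1) (sc := [dw (nat_lit 0x01), dw (nat_lit 0x03), dw (nat_lit 0x01), dw (nat_lit 0x05)]) (l := [(nat_lit 4, (nat_lit 0x10), []),
 (nat_lit 6, (nat_lit 0x140), [dw (nat_lit 0x03)])]) (PM.nml_of xe0 (by decide +kernel)) i5 (by decide +kernel)
theorem i10 : M.Inv (A ⊓ M.fixL []) (nat_lit 0x10) :=
  PM.Inv.orbit (s := 4) (sc := []) (l := [(nat_lit 1, (nat_lit 0x5320e), [dw (nat_lit 0x01), dw (nat_lit 0x03), dw (nat_lit 0x01), dw (nat_lit 0x05)]),
 (nat_lit 6, (nat_lit 0x140), [dw (nat_lit 0x03)])]) (PM.nml_of xe0 (by decide +kernel)) i5 (by decide +kernel)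
theorem i12 : M.Inv (A ⊓ M.fixL [5]) (nat_lit 0x20) :=
  (PM.Inv.pt (b := 5) (by decide +kernel)).of_eq (by decide +kernel)
theorem i13 : M.Inv (A ⊓ M.fixL [5]) (nat_lit 0xd8c800) :=
  ((i6.lift (by decide +kernel)).sdf i12).of_eq (by decide +kernel)
theorem i16 : M.Inv (A ⊓ M.fixL [5]) (nat_lit 0x400000) :=
  PM.Inv.orbit (s := 22) (sc := []) (l := [(nat_lit 11, (nat_lit 0x4800), [dw (nat_lit 0x01)]),
 (nat_lit 15, (nat_lit 0x108000), [dw (nat_lit 0x01)]),
 (nat_lit 19, (nat_lit 0x880000), [dw (nat_lit 0x01)])]) (PM.nml_of xe1 (by decide +kernel)) i13 (by decide +kernel)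
theorem ub4 : Nat.card (A ⊓ M.fixL [22, 0, 4, 5] : Subgroup _) ≤ 2 :=
  M.card_le_enum (hE.fix_eq M0_eq4 (by decide +kernel)) (hE.cover' m24cov4 (by decide +kernel)) (dw (nat_lit 0x1002031307010907090c)) (Ys := [(nat_lit 0x5320e)]) (fa_cons (i8.lift (by decide +kernel)) fa_nil) (by decide +kernel)
theorem ub3 : Nat.card (A ⊓ M.fixL [0, 4, 5] : Subgroup _) ≤ 2 :=
  M.card_le_step (p := 1) (i16.lift (by decide +kernel)) (by decide +kernel) ub4
theorem ub2 : Nat.card (A ⊓ M.fixL [4, 5] : Subgroup _) ≤ 2 :=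
  M.card_le_step (p := 1) (i4.lift (by decide +kernel)) (by decide +kernel) ub3
theorem ub1 : Nat.card (A ⊓ M.fixL [5] : Subgroup _) ≤ 2 :=
  M.card_le_step (p := 1) (i10.lift (by decide +kernel)) (by decide +kernel) ub2
theorem ub0 : Nat.card (A ⊓ M.fixL [] : Subgroup _) ≤ 16 :=
  M.card_le_step (p := 8) i6 (by decide +kernel) ub1
theorem ub : Nat.card (A) ≤ 16 := M.card_le_of_nil ub0
noncomputable def z : Word := dw (nat_lit 0x1919)
noncomputable def hs : List Word := [dw (nat_lit 0x0a02030216070e0b0e10131511), dw (nat_lit 0x020302140b07100b0e1213), dw (nat_lit 0x0203021305130911)]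
noncomputable def steps : List (Word × Word × Word) := [(dw (nat_lit 0x0402), dw (nat_lit 0x01), dw (nat_lit 0x01)), (dw (nat_lit 0x010105), dw (nat_lit 0x03), dw (nat_lit 0x01)), (dw (nat_lit 0x0305), dw (nat_lit 0x05), dw (nat_lit 0x0103))]
noncomputable def vs : List Word := [dw (nat_lit 0x050301), dw (nat_lit 0x0502), dw (nat_lit 0x0703)]
theorem res {G : Type*} [Group G] [Finite G] (e : (G11) ≃* G) (S : Sylow 2 G) :
    (groupFusionSystem (S : Subgroup G)).IsSimple 2 ∧ Subgroup.normalizer ((S : Subgroup G) : Set G) = S :=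
  fus_simple_of (X := sub M.gen ws0) (k := 4) (m := 495) (le_G11 (by decide +kernel)) (card0 M hR) card_G11 (by norm_num) (by norm_num) ub
    (M.sc_of_cert (D := 5) (by norm_num) (by norm_num) scov0 (z := z) (by decide +kernel) (hs := hs) (vs := vs) (steps := steps) (by decide +kernel) (le_G11 (by decide +kernel))) e S

end H14.F11
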