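import Cfsg.Agent.H14.Enum3
import Cfsg.Agent.H14.M24Lab
import Cfsg.Agent.H14.Fus

/-! Generated certificate (tools14/pkgen) for the permutation group F24 of degree 24, order 1024, base 1 0 3. -/
set_option autoImplicit false
set_option maxRecDepth 100000
set_option maxHeartbeats 0

namespace H14.F24
open H14

noncomputable def n11 : Net := (.cons (nat_lit 1) (nat_lit 0x44400)
(.cons (nat_lit 2) (nat_lit 0x301220)
(.cons (nat_lit 4) (nat_lit 0x40a00)
(.cons (nat_lit 8) (nat_lit 0x48)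
(.cons (nat_lit 16) (nat_lit 0xd9)
(.cons (nat_lit 8) (nat_lit 0xe0)
(.cons (nat_lit 4) (nat_lit 0xd0309)
(.cons (nat_lit 2) (nat_lit 0x301220)
(.cons (nat_lit 1) (nat_lit 0x44400)
.nil)))))))))
theorem n11_ok : Net.ok 24 n11 = true := by decide +kernel
noncomputable def n12 : Net := (.cons (nat_lit 1) (nat_lit 0x414404)
(.cons (nat_lit 2) (nat_lit 0x122300)
(.cons (nat_lit 4) (nat_lit 0x50e00)
(.cons (nat_lit 8) (nat_lit 0xc2)
(.cons (nat_lit 16) (nat_lit 0xef)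
(.cons (nat_lit 8) (nat_lit 0x9f)
(.cons (nat_lit 4) (nat_lit 0x10c0e)
(.cons (nat_lit 2) (nat_lit 0x211331)
(.cons (nat_lit 1) (nat_lit 0x154105)
.nil)))))))))
theorem n12_ok : Net.ok 24 n12 = true := by decide +kernel
noncomputable def n13 : Net := (.cons (nat_lit 1) (nat_lit 0x515140)
(.cons (nat_lit 2) (nat_lit 0x21300)
(.cons (nat_lit 4) (nat_lit 0x40400)
(.cons (nat_lit 8) (nat_lit 0x9d)
(.cons (nat_lit 16) (nat_lit 0xdd)
(.cons (nat_lit 8) (nat_lit 0xfb)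
(.cons (nat_lit 4) (nat_lit 0x2020f)
(.cons (nat_lit 2) (nat_lit 0x21300)
(.cons (nat_lit 1) (nat_lit 0x515140)
.nil)))))))))
theorem n13_ok : Net.ok 24 n13 = true := by decide +kernel
noncomputable def n14 : Net := (.cons (nat_lit 1) (nat_lit 0x505400)
(.cons (nat_lit 2) (nat_lit 0x110220)
(.cons (nat_lit 4) (nat_lit 0x90400)
(.cons (nat_lit 8) (nat_lit 0x13)
(.cons (nat_lit 16) (nat_lit 0x9b)
(.cons (nat_lit 8) (nat_lit 0x1e)
(.cons (nat_lit 4) (nat_lit 0x3010a)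
(.cons (nat_lit 2) (nat_lit 0x331303)
(.cons (nat_lit 1) (nat_lit 0x104544)
.nil)))))))))
theorem n14_ok : Net.ok 24 n14 = true := by decide +kernel
noncomputable def n15 : Net := (.cons (nat_lit 1) (nat_lit 0x405404)
(.cons (nat_lit 2) (nat_lit 0x21020)
(.cons (nat_lit 4) (nat_lit 0x20100)
(.cons (nat_lit 8) (nat_lit 0x80)
(.cons (nat_lit 16) (nat_lit 0xed)
(.cons (nat_lit 8) (nat_lit 0xd0)
(.cons (nat_lit 4) (nat_lit 0x20101)
(.cons (nat_lit 2) (nat_lit 0x321220)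
(.cons (nat_lit 1) (nat_lit 0x441404)
.nil)))))))))
theorem n15_ok : Net.ok 24 n15 = true := by decide +kernel
noncomputable def n16 : Net := (.cons (nat_lit 1) (nat_lit 0x144140)
(.cons (nat_lit 2) (nat_lit 0x113000)
(.cons (nat_lit 4) (nat_lit 0x10100)
(.cons (nat_lit 16) (nat_lit 0x58)
(.cons (nat_lit 8) (nat_lit 0x81)
(.cons (nat_lit 4) (nat_lit 0x40300)
(.cons (nat_lit 2) (nat_lit 0x203010)
(.cons (nat_lit 1) (nat_lit 0x144140)
.nil))))))))
theorem n16_ok : Net.ok 24 n16 = true := by decide +kernel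
noncomputable def n17 : Net := (.cons (nat_lit 1) (nat_lit 0x100510)
(.cons (nat_lit 2) (nat_lit 0x123020)
(.cons (nat_lit 4) (nat_lit 0x70200)
(.cons (nat_lit 8) (nat_lit 0x29)
(.cons (nat_lit 16) (nat_lit 0xed)
(.cons (nat_lit 8) (nat_lit 0xc1)
(.cons (nat_lit 4) (nat_lit 0x20304)
(.cons (nat_lit 2) (nat_lit 0x313210)
(.cons (nat_lit 1) (nat_lit 0x10444)
.nil)))))))))
theorem n17_ok : Net.ok 24 n17 = true := by decide +kernel
noncomputable def n18 : Net := (.cons (nat_lit 1) (nat_lit 0x554400)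
(.cons (nat_lit 2) (nat_lit 0x12020)
(.cons (nat_lit 4) (nat_lit 0x80300)
(.cons (nat_lit 8) (nat_lit 0x3)
(.cons (nat_lit 16) (nat_lit 0xd7)
(.cons (nat_lit 8) (nat_lit 0x2b)
(.cons (nat_lit 4) (nat_lit 0x80300)
(.cons (nat_lit 2) (nat_lit 0x12020)
(.cons (nat_lit 1) (nat_lit 0x554400)
.nil)))))))))
theorem n18_ok : Net.ok 24 n18 = true := by decide +kernel
noncomputable def nets : List Net := List.append M24c.nets [n11, n12, n13, n14, n15, n16, n17, n18]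
theorem nets_ok : netsOk 24 nets = true := netsOk_append M24c.nets_ok <| List.all_eq_true.2 (fa_cons n11_ok (fa_cons n12_ok (fa_cons n13_ok (fa_cons n14_ok (fa_cons n15_ok (fa_cons n16_ok (fa_cons n17_ok (fa_cons n18_ok (fa_nil)))))))))
noncomputable def ws3 : List Word := []
noncomputable def lev2 : Level := ⟨nat_lit 3,
[⟨[nat_lit 34], [], [],
[⟨nat_lit 0, [], nat_lit 1, [], []⟩,
⟨nat_lit 1, [], nat_lit 4, [], []⟩,
⟨nat_lit 2, [], nat_lit 0, [], []⟩,
⟨nat_lit 3, [], nat_lit 6, [], []⟩,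
⟨nat_lit 4, [], nat_lit 2, [], []⟩,
⟨nat_lit 5, [], nat_lit 3, [], []⟩,
⟨nat_lit 6, [], nat_lit 7, [], []⟩,
⟨nat_lit 7, [], nat_lit 5, [], []⟩],
[]⟩,
⟨[nat_lit 36], [], [],
[⟨nat_lit 0, [], nat_lit 3, [], []⟩,
⟨nat_lit 1, [], nat_lit 5, [], []⟩,
⟨nat_lit 2, [], nat_lit 6, [], []⟩,
⟨nat_lit 3, [], nat_lit 0, [], []⟩,
⟨nat_lit 4, [], nat_lit 7, [], []⟩,
⟨nat_lit 5, [], nat_lit 1, [], []⟩,
⟨nat_lit 6, [], nat_lit 2, [], []⟩,
⟨nat_lit 7, [], nat_lit 4, [], []⟩],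
[]⟩],
[⟨dw (nat_lit 0x01), (nat_lit 0x200), [], .nil, []⟩,
⟨dw (nat_lit 0x02), (nat_lit 0x1000), [], .nil, []⟩,
⟨dw (nat_lit 0x03), (nat_lit 0x400), [], .nil, []⟩,
⟨dw (nat_lit 0x0101), (nat_lit 0x40000), [], .nil, []⟩,
⟨dw (nat_lit 0x0301), (nat_lit 0x80), [], .nil, []⟩,
⟨dw (nat_lit 0x0302), (nat_lit 0x80000), [], .nil, []⟩,
⟨dw (nat_lit 0x030101), (nat_lit 0x20), [], .nil, []⟩]⟩
noncomputable def ex2 : List Word := []
noncomputable def ws2 : List Word := List.append ex2 (lev2.gens ws3)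
noncomputable def rels2 : List (Word × Word) := List.append (lev2.rels ws3) (memRels (lev2.gens ws3) ex2 [])
noncomputable def lev1 : Level := ⟨nat_lit 0,
[⟨[nat_lit 22], [dw (nat_lit 0x03)], [dw (nat_lit 0x03)],
[⟨nat_lit 0, [], nat_lit 1, [], []⟩,
⟨nat_lit 1, [], nat_lit 0, [], []⟩,
⟨nat_lit 2, [], nat_lit 1, dw (nat_lit 0x01), []⟩,
⟨nat_lit 3, [], nat_lit 1, dw (nat_lit 0x0101), []⟩,
⟨nat_lit 1, dw (nat_lit 0x01), nat_lit 2, [], []⟩,
⟨nat_lit 1, dw (nat_lit 0x0101), nat_lit 3, [], []⟩],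
[dw (nat_lit 0x01)]⟩],
[⟨dw (nat_lit 0x01), (nat_lit 0x414100), [dw (nat_lit 0x01), dw (nat_lit 0x0301)], (.cons (nat_lit 3) [dw (nat_lit 0x03)] [dw (nat_lit 0x01)]
.nil), [dw (nat_lit 0x03)]⟩,
⟨dw (nat_lit 0x010301), (nat_lit 0x200010), [dw (nat_lit 0x01)], (.cons (nat_lit 3) [dw (nat_lit 0x0203), dw (nat_lit 0x0101)] [dw (nat_lit 0x01), dw (nat_lit 0x03)]
.nil), [dw (nat_lit 0x0302), dw (nat_lit 0x0101)]⟩,
⟨dw (nat_lit 0x01030301), (nat_lit 0x8000), [], (.cons (nat_lit 3) [dw (nat_lit 0x01), dw (nat_lit 0x03)] [dw (nat_lit 0x01), dw (nat_lit 0x03), dw (nat_lit 0x01), dw (nat_lit 0x01)]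
.nil), [dw (nat_lit 0x01), dw (nat_lit 0x03)]⟩]⟩
noncomputable def ex1 : List Word := [[nat_lit 30], [nat_lit 32]]
noncomputable def ws1 : List Word := List.append ex1 (lev1.gens ws2)
noncomputable def rels1 : List (Word × Word) := List.append (lev1.rels ws2) (memRels (lev1.gens ws2) ex1 [dw (nat_lit 0x04010303), dw (nat_lit 0x010303010503)])
noncomputable def lev0 : Level := ⟨nat_lit 1,
[⟨[nat_lit 24], [dw (nat_lit 0x070701), dw (nat_lit 0x0905)], [dw (nat_lit 0x0507), dw (nat_lit 0x090107)],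
[⟨nat_lit 0, [], nat_lit 1, [], []⟩,
⟨nat_lit 1, [], nat_lit 2, [], []⟩,
⟨nat_lit 2, [], nat_lit 1, dw (nat_lit 0x01), dw (nat_lit 0x01)⟩,
⟨nat_lit 3, [], nat_lit 1, dw (nat_lit 0x0101), dw (nat_lit 0x02)⟩,
⟨nat_lit 4, [], nat_lit 1, dw (nat_lit 0x08), dw (nat_lit 0x0508)⟩,
⟨nat_lit 1, dw (nat_lit 0x01), nat_lit 0, [], dw (nat_lit 0x02)⟩,
⟨nat_lit 1, dw (nat_lit 0x02), nat_lit 3, [], []⟩,
⟨nat_lit 1, dw (nat_lit 0x05), nat_lit 4, [], []⟩],
[dw (nat_lit 0x03), dw (nat_lit 0x01), dw (nat_lit 0x03), dw (nat_lit 0x01)]⟩],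
[⟨dw (nat_lit 0x01), (nat_lit 0xc16a8), [dw (nat_lit 0x01), dw (nat_lit 0x03), dw (nat_lit 0x05)], (.cons (nat_lit 0) [dw (nat_lit 0x0607), dw (nat_lit 0x070308)] [dw (nat_lit 0x01), dw (nat_lit 0x03), dw (nat_lit 0x0202)]
.nil), [dw (nat_lit 0x090109), dw (nat_lit 0x030707)]⟩,
⟨dw (nat_lit 0x0101), (nat_lit 0x20004), [dw (nat_lit 0x01)], (.cons (nat_lit 0) [dw (nat_lit 0x05)] [dw (nat_lit 0x01), dw (nat_lit 0x03), dw (nat_lit 0x05), dw (nat_lit 0x01)]
(.cons (nat_lit 3) [dw (nat_lit 0x0809), dw (nat_lit 0x0709)] [dw (nat_lit 0x01), dw (nat_lit 0x03)]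
.nil)), [dw (nat_lit 0x05), dw (nat_lit 0x0907), dw (nat_lit 0x0908)]⟩,
⟨dw (nat_lit 0x010401), (nat_lit 0x800), [], (.cons (nat_lit 0) [dw (nat_lit 0x01)] [dw (nat_lit 0x01), dw (nat_lit 0x0101), dw (nat_lit 0x03), dw (nat_lit 0x0401)]
(.cons (nat_lit 3) [dw (nat_lit 0x07), dw (nat_lit 0x070a)] [dw (nat_lit 0x01), dw (nat_lit 0x03), dw (nat_lit 0x01), dw (nat_lit 0x01)]
.nil)), [dw (nat_lit 0x01), dw (nat_lit 0x02050707), dw (nat_lit 0x01010908)]⟩,
⟨dw (nat_lit 0x010701), (nat_lit 0x902040), [dw (nat_lit 0x01), dw (nat_lit 0x080a)], (.cons (nat_lit 0) [dw (nat_lit 0x0702), dw (nat_lit 0x01070101)] [dw (nat_lit 0x01), dw (nat_lit 0x05), dw (nat_lit 0x03), dw (nat_lit 0x01)]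
(.cons (nat_lit 3) [dw (nat_lit 0x09)] [dw (nat_lit 0x01)]
.nil)), [dw (nat_lit 0x0108), dw (nat_lit 0x05), dw (nat_lit 0x0307)]⟩]⟩
noncomputable def ex0 : List Word := [[nat_lit 26], [nat_lit 28]]
noncomputable def ws0 : List Word := List.append ex0 (lev0.gens ws1)
noncomputable def rels0 : List (Word × Word) := List.append (lev0.rels ws1) (memRels (lev0.gens ws1) ex0 [dw (nat_lit 0x09020b0909), dw (nat_lit 0x0a010303)])
noncomputable def rels : List (Word × Word) := List.append rels0 (List.append rels1 (List.append rels2 ([])))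
noncomputable def defs : List Word := [dw (nat_lit 0x02060814090e121312), dw (nat_lit 0x0a0203020209070f0a0b130f131512), dw (nat_lit 0x07010103080105120b14101511), dw (nat_lit 0x0702030a01011607160b0f110f14), dw (nat_lit 0x1c181e191b171c1e1c1d18), dw (nat_lit 0x1a1c1d1c1919171d1d1d1b181b1b), dw (nat_lit 0x20182220221f2222), dw (nat_lit 0x18221f)
]
noncomputable def relsD : List (Word × Word) := defRels defs 11
noncomputable def relsO : List (Word × Word) := []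
noncomputable def relsS : List (Word × Word) := []
noncomputable def allRels : List (Word × Word) := List.append rels (List.append relsD (List.append relsO relsS))
theorem chk2 : lev2.chk 24 nets ws3 1 8 = true := by decide +kernel
theorem chk1 : lev1.chk 24 nets ws2 8 64 = true := by decide +kernel
theorem chk0 : lev0.chk 24 nets ws1 64 1024 = true := by decide +kernel
theorem rc0 : relsChk 24 nets 5 (idArr 24 5 5 0) allRels = true := by decide +kernel
section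
variable {Γ Ω : Type*} [Group Γ] [MulAction Γ Ω] (M : PM Γ Ω 24 nets)

theorem all_ok (hs : M.Sep 5 (idArr 24 5 5 0)) : Rels M.gen allRels := (M.rels_of_chk hs rc0)
theorem sep [FaithfulSMul Γ Ω] : M.Sep 5 (idArr 24 5 5 0) := M.sep_idArr (by decide)
theorem all_ok' [FaithfulSMul Γ Ω] : Rels M.gen allRels := all_ok M (sep M)
theorem rels_of_all {gen : ℕ → Γ} (h : Rels gen allRels) : Rels gen rels := Rels.left h
theorem relsD_of_all {gen : ℕ → Γ} (h : Rels gen allRels) : Rels gen relsD := Rels.left (Rels.right h)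
theorem relsO_of_all {gen : ℕ → Γ} (h : Rels gen allRels) : Rels gen relsO := Rels.left (Rels.right (Rels.right h))
theorem relsS_of_all {gen : ℕ → Γ} (h : Rels gen allRels) : Rels gen relsS := Rels.right (Rels.right (Rels.right h))
theorem card3 (_hR : Rels M.gen rels) : Nat.card (sub M.gen ws3) = 1 := M.card_nil
theorem fixw3 (_hR : Rels M.gen rels) : M.FixTriv ws3 [] := M.fixTriv_nil
theorem r2 (hR : Rels M.gen rels) : Rels M.gen rels2 := (Rels.left (Rels.right (Rels.right hR)))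
theorem res2 (hR : Rels M.gen rels) : M.LevelRes ws3 lev2 8 := M.level (card3 M hR) chk2 (Rels.left (r2 M hR))
theorem ext2 (hR : Rels M.gen rels) : sub M.gen ws2 = sub M.gen (lev2.gens ws3) := sub_extend (Rels.right (r2 M hR))
theorem card2 (hR : Rels M.gen rels) : Nat.card (sub M.gen ws2) = 8 := by rw [ext2 M hR]; exact (res2 M hR).card
theorem fix2 (hR : Rels M.gen rels) : M.FixTriv (lev2.gens ws3) [3] := (res2 M hR).fixTriv M (fixw3 M hR)
theorem fixw2 (hR : Rels M.gen rels) : M.FixTriv ws2 [3] := fun g hg => fix2 M hR g (ext2 M hR ▸ hg)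
theorem stab2 (hR : Rels M.gen rels) : sub M.gen ws2 ⊓ MulAction.stabilizer Γ (M.dec 3) = sub M.gen ws3 := by rw [ext2 M hR]; exact (res2 M hR).stab
theorem orb2 (hR : Rels M.gen rels) (y : Ω) : y ∈ M.S lev2.orb ↔ ∃ g ∈ sub M.gen ws2, g • M.dec 3 = y := by rw [ext2 M hR]; exact (res2 M hR).orb y
theorem r1 (hR : Rels M.gen rels) : Rels M.gen rels1 := (Rels.left (Rels.right hR))
theorem res1 (hR : Rels M.gen rels) : M.LevelRes ws2 lev1 64 := M.level (card2 M hR) chk1 (Rels.left (r1 M hR))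
theorem ext1 (hR : Rels M.gen rels) : sub M.gen ws1 = sub M.gen (lev1.gens ws2) := sub_extend (Rels.right (r1 M hR))
theorem card1 (hR : Rels M.gen rels) : Nat.card (sub M.gen ws1) = 64 := by rw [ext1 M hR]; exact (res1 M hR).card
theorem fix1 (hR : Rels M.gen rels) : M.FixTriv (lev1.gens ws2) [0, 3] := (res1 M hR).fixTriv M (fixw2 M hR)
theorem fixw1 (hR : Rels M.gen rels) : M.FixTriv ws1 [0, 3] := fun g hg => fix1 M hR g (ext1 M hR ▸ hg)
theorem stab1 (hR : Rels M.gen rels) : sub M.gen ws1 ⊓ MulAction.stabilizer Γ (M.dec 0) = sub M.gen ws2 := by rw [ext1 M hR]; exact (res1 M hR).stab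
theorem orb1 (hR : Rels M.gen rels) (y : Ω) : y ∈ M.S lev1.orb ↔ ∃ g ∈ sub M.gen ws1, g • M.dec 0 = y := by rw [ext1 M hR]; exact (res1 M hR).orb y
theorem r0 (hR : Rels M.gen rels) : Rels M.gen rels0 := (Rels.left hR)
theorem res0 (hR : Rels M.gen rels) : M.LevelRes ws1 lev0 1024 := M.level (card1 M hR) chk0 (Rels.left (r0 M hR))
theorem ext0 (hR : Rels M.gen rels) : sub M.gen ws0 = sub M.gen (lev0.gens ws1) := sub_extend (Rels.right (r0 M hR))
theorem card0 (hR : Rels M.gen rels) : Nat.card (sub M.gen ws0) = 1024 := by rw [ext0 M hR]; exact (res0 M hR).card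
theorem fix0 (hR : Rels M.gen rels) : M.FixTriv (lev0.gens ws1) [1, 0, 3] := (res0 M hR).fixTriv M (fixw1 M hR)
theorem fixw0 (hR : Rels M.gen rels) : M.FixTriv ws0 [1, 0, 3] := fun g hg => fix0 M hR g (ext0 M hR ▸ hg)
theorem stab0 (hR : Rels M.gen rels) : sub M.gen ws0 ⊓ MulAction.stabilizer Γ (M.dec 1) = sub M.gen ws1 := by rw [ext0 M hR]; exact (res0 M hR).stab
theorem orb0 (hR : Rels M.gen rels) (y : Ω) : y ∈ M.S lev0.orb ↔ ∃ g ∈ sub M.gen ws0, g • M.dec 1 = y := by rw [ext0 M hR]; exact (res0 M hR).orb y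
theorem gen_mem {gen : ℕ → Γ} (h : Rels gen allRels) {X : Subgroup Γ} (h0 : ∀ l < 11, gen l ∈ X) : sub gen ws0 ≤ X :=
  sub_le_of_wsIn (lo := 0) (gen_mem_of_defRels (ds := defs) (fun l _ hl => h0 l hl) (by decide +kernel) (relsD_of_all h)) (by decide +kernel)
theorem exists_ext [FaithfulSMul Γ Ω] (M0 : PM Γ Ω 24 M24c.nets) : ∃ M' : PM Γ Ω 24 nets, M0.Ext M' :=
  M0.exists_ext rfl (relsD_of_all (all_ok' (permPM 24 nets (by norm_num) (by norm_num) nets_ok))) (by decide +kernel)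

end

open Cfsg MulAction
open scoped Pointwise

theorem ok : nets.all golayOk = true := by decide +kernel
noncomputable def M : PM M24 GolayPt 24 nets := m24PM nets ok
theorem hE : M0.Ext M := m24_ext rfl M24c_ok ok
theorem hR : Rels M.gen rels := rels_of_all (all_ok' M)
noncomputable def sTs3 : List (List Word) := []
noncomputable def sTs2 : List (List Word) := List.map (flat H14.F24.ws2) [[], dw (nat_lit 0x02), dw (nat_lit 0x01), dw (nat_lit 0x04), dw (nat_lit 0x0202), dw (nat_lit 0x0204), dw (nat_lit 0x0104), dw (nat_lit 0x020204)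
] :: sTs3
noncomputable def sTs1 : List (List Word) := List.map (flat H14.F24.ws1) [[], dw (nat_lit 0x02), dw (nat_lit 0x01), dw (nat_lit 0x04), dw (nat_lit 0x06), dw (nat_lit 0x0202), dw (nat_lit 0x020a), dw (nat_lit 0x0601)
] :: sTs2
noncomputable def sTs0 : List (List Word) := List.map (flat H14.F24.ws0) [[], dw (nat_lit 0x02), dw (nat_lit 0x04), dw (nat_lit 0x03), dw (nat_lit 0x06), dw (nat_lit 0x05), dw (nat_lit 0x0204), dw (nat_lit 0x0203)
, dw (nat_lit 0x0206), dw (nat_lit 0x0205), dw (nat_lit 0x020e), dw (nat_lit 0x0406), dw (nat_lit 0x0305), dw (nat_lit 0x030d), dw (nat_lit 0x0604), dw (nat_lit 0x0610)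
] :: sTs1
theorem scov3 : Cover M.gen (sub M.gen H14.F24.ws3) sTs3 := Cover.nil
theorem scov2 : Cover M.gen (sub M.gen H14.F24.ws2) sTs2 :=
  M.cover_step (H14.F24.stab2 M hR) (H14.F24.orb2 M hR) (by decide +kernel) scov3
theorem scov1 : Cover M.gen (sub M.gen H14.F24.ws1) sTs1 :=
  M.cover_step (H14.F24.stab1 M hR) (H14.F24.orb1 M hR) (by decide +kernel) scov2
theorem scov0 : Cover M.gen (sub M.gen H14.F24.ws0) sTs0 :=
  M.cover_step (H14.F24.stab0 M hR) (H14.F24.orb0 M hR) (by decide +kernel) scov1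
theorem xe0 : sub M.gen ws0 ⊓ M.fixL [] = sub M.gen ws0 := M.inf_fixL_nil rfl
theorem xe1 : sub M.gen ws0 ⊓ M.fixL [1] = sub M.gen ws1 := M.inf_fixL_cons xe0 (stab0 M hR)
theorem xe2 : sub M.gen ws0 ⊓ M.fixL [0, 1] = sub M.gen ws2 := M.inf_fixL_cons xe1 (stab1 M hR)
theorem xe3 : sub M.gen ws0 ⊓ M.fixL [3, 0, 1] = sub M.gen ws3 := M.inf_fixL_cons xe2 (stab2 M hR)
abbrev A := ((⊤ : Subgroup M24)) ⊓ Subgroup.normalizer (sub M.gen ws0 : Set _)
theorem i1 : M.Inv (A ⊓ M.fixL []) (nat_lit 0xffffff) :=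
  (PM.Inv.full).of_eq (by decide +kernel)
theorem i2 : M.Inv (A ⊓ M.fixL []) (nat_lit 0x61c111) :=
  PM.Inv.orbit (s := 0) (sc := [dw (nat_lit 0x01), dw (nat_lit 0x05), dw (nat_lit 0x07)]) (l := [(nat_lit 1, (nat_lit 0x9e3eee), [dw (nat_lit 0x01), dw (nat_lit 0x03), dw (nat_lit 0x05), dw (nat_lit 0x03), dw (nat_lit 0x03), dw (nat_lit 0x01)])]) (PM.nml_of xe0 (by decide +kernel)) i1 (by decide +kernel)
theorem i3 : M.Inv (A ⊓ M.fixL []) (nat_lit 0x9e3eee) :=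
  (i1.sdf i2).of_eq (by decide +kernel)
theorem i4 : M.Inv (A ⊓ M.fixL [1]) (nat_lit 0x2) :=
  (PM.Inv.pt (b := 1) (by decide +kernel)).of_eq (by decide +kernel)
theorem i5 : M.Inv (A ⊓ M.fixL [1]) (nat_lit 0x9e3eec) :=
  ((i3.lift (by decide +kernel)).sdf i4).of_eq (by decide +kernel)
theorem i6 : M.Inv (A ⊓ M.fixL [1]) (nat_lit 0x20004) :=
  PM.Inv.orbit (s := 2) (sc := [dw (nat_lit 0x01)]) (l := [(nat_lit 3, (nat_lit 0xc16a8), [dw (nat_lit 0x01), dw (nat_lit 0x03), dw (nat_lit 0x05)]),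
 (nat_lit 6, (nat_lit 0x902040), [dw (nat_lit 0x01), dw (nat_lit 0x03)]),
 (nat_lit 11, (nat_lit 0x800), [])]) (PM.nml_of xe1 (by decide +kernel)) i5 (by decide +kernel)
theorem i7 : M.Inv (A ⊓ M.fixL [1]) (nat_lit 0x9c3ee8) :=
  (i5.sdf i6).of_eq (by decide +kernel)
theorem i8 : M.Inv (A ⊓ M.fixL [1]) (nat_lit 0xc16a8) :=
  PM.Inv.orbit (s := 3) (sc := [dw (nat_lit 0x01), dw (nat_lit 0x03), dw (nat_lit 0x05)]) (l := [(nat_lit 2, (nat_lit 0x20004), [dw (nat_lit 0x01)]),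
 (nat_lit 6, (nat_lit 0x902040), [dw (nat_lit 0x01), dw (nat_lit 0x03)]),
 (nat_lit 11, (nat_lit 0x800), [])]) (PM.nml_of xe1 (by decide +kernel)) i5 (by decide +kernel)
theorem i9 : M.Inv (A ⊓ M.fixL [1]) (nat_lit 0x902840) :=
  (i7.sdf i8).of_eq (by decide +kernel)
theorem i10 : M.Inv (A ⊓ M.fixL [1]) (nat_lit 0x902040) :=
  PM.Inv.orbit (s := 6) (sc := [dw (nat_lit 0x01), dw (nat_lit 0x03)]) (l := [(nat_lit 2, (nat_lit 0x20004), [dw (nat_lit 0x01)]),
 (nat_lit 3, (nat_lit 0xc16a8), [dw (nat_lit 0x01), dw (nat_lit 0x03), dw (nat_lit 0x05)]),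
 (nat_lit 11, (nat_lit 0x800), [])]) (PM.nml_of xe1 (by decide +kernel)) i5 (by decide +kernel)
theorem i11 : M.Inv (A ⊓ M.fixL [1]) (nat_lit 0x800) :=
  (i9.sdf i10).of_eq (by decide +kernel)
theorem i12 : M.Inv (A ⊓ M.fixL [0, 1]) (nat_lit 0x1) :=
  (PM.Inv.pt (b := 0) (by decide +kernel)).of_eq (by decide +kernel)
theorem i13 : M.Inv (A ⊓ M.fixL [0, 1]) (nat_lit 0x61c110) :=
  ((i2.lift (by decide +kernel)).sdf i12).of_eq (by decide +kernel)
theorem i14 : M.Inv (A ⊓ M.fixL [0, 1]) (nat_lit 0x200010) :=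
  PM.Inv.orbit (s := 4) (sc := [dw (nat_lit 0x01)]) (l := [(nat_lit 8, (nat_lit 0x414100), [dw (nat_lit 0x01), dw (nat_lit 0x0203)]),
 (nat_lit 15, (nat_lit 0x8000), [])]) (PM.nml_of xe2 (by decide +kernel)) i13 (by decide +kernel)
theorem i15 : M.Inv (A ⊓ M.fixL [0, 1]) (nat_lit 0x41c100) :=
  (i13.sdf i14).of_eq (by decide +kernel)
theorem i16 : M.Inv (A ⊓ M.fixL [0, 1]) (nat_lit 0x414100) :=
  PM.Inv.orbit (s := 8) (sc := [dw (nat_lit 0x01), dw (nat_lit 0x0101)]) (l := [(nat_lit 4, (nat_lit 0x200010), [dw (nat_lit 0x01)]),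
 (nat_lit 15, (nat_lit 0x8000), [])]) (PM.nml_of xe2 (by decide +kernel)) i13 (by decide +kernel)
theorem i17 : M.Inv (A ⊓ M.fixL [0, 1]) (nat_lit 0x8000) :=
  (i15.sdf i16).of_eq (by decide +kernel)
theorem ub4 : Nat.card (A ⊓ M.fixL [11, 15, 0, 1] : Subgroup _) ≤ 8 :=
  M.card_le_enum (hE.fix_eq M0_eq4 (by decide +kernel)) (hE.cover' m24cov4 (by decide +kernel)) (dw (nat_lit 0x0103010e080a)) (Ys := [(nat_lit 0x902040)]) (fa_cons (i10.lift (by decide +kernel)) fa_nil) (by decide +kernel)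
theorem ub3 : Nat.card (A ⊓ M.fixL [15, 0, 1] : Subgroup _) ≤ 8 :=
  M.card_le_step (p := 1) (i11.lift (by decide +kernel)) (by decide +kernel) ub4
theorem ub2 : Nat.card (A ⊓ M.fixL [0, 1] : Subgroup _) ≤ 8 :=
  M.card_le_step (p := 1) i17 (by decide +kernel) ub3
theorem ub1 : Nat.card (A ⊓ M.fixL [1] : Subgroup _) ≤ 64 :=
  M.card_le_step (p := 8) (i2.lift (by decide +kernel)) (by decide +kernel) ub2
theorem ub0 : Nat.card (A ⊓ M.fixL [] : Subgroup _) ≤ 1024 :=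
  M.card_le_step (p := 16) i3 (by decide +kernel) ub1
theorem ub : Nat.card (A) ≤ 1024 := M.card_le_of_nil ub0
noncomputable def z : Word := dw (nat_lit 0x1e1b20172523)
noncomputable def hs : List Word := [dw (nat_lit 0x05010309020e0b0e10141611), dw (nat_lit 0x06020309020707160f15), dw (nat_lit 0x0602030701130714090e1613), dw (nat_lit 0x0202030d0213050e0b14101411), dw (nat_lit 0x12020301010e080a110f1311), dw (nat_lit 0x02030702100814090e1015121311), dw (nat_lit 0x06020310020c080c160f15), dw (nat_lit 0x05020307020f070a130f14)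
]
noncomputable def steps : List (Word × Word × Word) := [(dw (nat_lit 0x0d0107070e), dw (nat_lit 0x01), dw (nat_lit 0x01)), (dw (nat_lit 0x030507070d), dw (nat_lit 0x03), dw (nat_lit 0x01)), (dw (nat_lit 0x04010707), dw (nat_lit 0x05), dw (nat_lit 0x0301)), (dw (nat_lit 0x040107070f), dw (nat_lit 0x07), dw (nat_lit 0x03010501)), (dw (nat_lit 0x030507070e), dw (nat_lit 0x09), dw (nat_lit 0x0705030703)), (dw (nat_lit 0x07070f0e), dw (nat_lit 0x0b), dw (nat_lit 0x0b0503)), (dw (nat_lit 0x0401080b0d0d), dw (nat_lit 0x0d), dw (nat_lit 0x0b)), (dw (nat_lit 0x050108), dw (nat_lit 0x0f), dw (nat_lit 0x090d0b090301))]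
noncomputable def vs : List Word := [dw (nat_lit 0x0b0f0d0b0503), dw (nat_lit 0x0d0b0f), dw (nat_lit 0x0f0905), dw (nat_lit 0x0f0b0f0b090501), dw (nat_lit 0x0903), dw (nat_lit 0x050f030b0f01), dw (nat_lit 0x050b0503), dw (nat_lit 0x0b09)
]
theorem res {G : Type*} [Group G] [Finite G] (e : ((⊤ : Subgroup M24)) ≃* G) (S : Sylow 2 G) :
    (groupFusionSystem (S : Subgroup G)).IsSimple 2 ∧ Subgroup.normalizer ((S : Subgroup G) : Set G) = S :=
  fus_simple_of (X := sub M.gen ws0) (k := 10) (m := 239085) le_top (card0 M hR) (Subgroup.card_top.trans card_M24) (by norm_num) (by norm_num) ub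
    (M.sc_of_cert (D := 5) (by norm_num) (by norm_num) scov0 (z := z) (by decide +kernel) (hs := hs) (vs := vs) (steps := steps) (by decide +kernel) le_top) e S

end H14.F24
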