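import Cfsg.Agent.H14.CoLab

/-! Generated certificate (tools14/pkgen) for the permutation group McLd of degree 275, order 898128000, base 0 1 3 4 2. -/
set_option autoImplicit false
set_option maxRecDepth 100000
set_option maxHeartbeats 0

namespace H14.McLd
open H14

noncomputable def n15 : Net := (.cons (nat_lit 1) (nat_lit 0x10454054141405045454011414401045004010110154511050050500554454141154)
(.cons (nat_lit 2) (nat_lit 0x133321031200123203010303020310011112301120220201132011303232232230300)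
(.cons (nat_lit 4) (nat_lit 0x1030e010b08090d0e0e08040303070f040a090e04080c060400090c04050c040205)
(.cons (nat_lit 8) (nat_lit 0x8100af001100f800d7004400e50007000a000b00c4001b0011003b0024006f0000)
(.cons (nat_lit 16) (nat_lit 0x20000ad60000067a000003d170000913100002c360000242100003d1600000288)
(.cons (nat_lit 32) (nat_lit 0x933ec1f10000000070ea855000000000d23524c3000000000005a523)
(.cons (nat_lit 64) (nat_lit 0x2002bfc81036e1bc0000000000000000000000000005e2a7)
(.cons (nat_lit 128) (nat_lit 0x9cbb24cb4b4baa7ce7859b0179b033fe)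
(.cons (nat_lit 256) (nat_lit 0x7ffff)
(.cons (nat_lit 128) (nat_lit 0x56374)
(.cons (nat_lit 64) (nat_lit 0x24cb0e2fee81656b0000000000000000a4404cf1c38b5be1)
(.cons (nat_lit 32) (nat_lit 0xac662530000000039a3a4cc0000000030273c2500000000b0fe6540)
(.cons (nat_lit 16) (nat_lit 0x20000001f00004db7000029b20000a12f0000b1c300004338000064f50000fb63)
(.cons (nat_lit 8) (nat_lit 0xac0057007f00b0008f0004000a00250071004400a8000a0079005a00dd00e500e0)
(.cons (nat_lit 4) (nat_lit 0x3020300050e0a0f030f00060c04000d010007000a03080c0e010d0b070102000c07)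
(.cons (nat_lit 2) (nat_lit 0x12220212030301320030002113102331103321030202120120312210233102100100)
(.cons (nat_lit 1) (nat_lit 0x1440404115401014155115404405140445004140000114100444444100510450050)
.nil)))))))))))))))))
theorem n15_ok : Net.ok 275 n15 = true := by decide +kernel
noncomputable def n16 : Net := (.cons (nat_lit 1) (nat_lit 0x4444410140100415450511504545005104104545151404401450001440440111050)
(.cons (nat_lit 2) (nat_lit 0x23102031320230221211321213210122122020103310212131313330022203002210)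
(.cons (nat_lit 4) (nat_lit 0x9020f09030c010c09050901010e090a050b0808030607030b030805080604000800)
(.cons (nat_lit 8) (nat_lit 0xaf0026002b006500a400720027002e005900600098006700220002003700cc0002)
(.cons (nat_lit 16) (nat_lit 0x500009ea00000bfae0000c10000002e9e00003474000004670000316900008038)
(.cons (nat_lit 32) (nat_lit 0x6a7c7322000000004b99e014000000008324966f0000000000040030)
(.cons (nat_lit 64) (nat_lit 0x809299115a208ee70000000000000000000000000002060b)
(.cons (nat_lit 128) (nat_lit 0xadb3927a901f2e922a2c2fc14b6c3a8d)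
(.cons (nat_lit 256) (nat_lit 0x7febf)
(.cons (nat_lit 128) (nat_lit 0x3ca64)
(.cons (nat_lit 64) (nat_lit 0xee7bc88e4005245d0000000000000000b0daec2b0304db6f)
(.cons (nat_lit 32) (nat_lit 0xc14264be00000000864f429d00000000c3cd45db00000000bf649f4e)
(.cons (nat_lit 16) (nat_lit 0x3000026030000372a00007f0500006fc40000f7ce00000f9c0000f9a600003584)
(.cons (nat_lit 8) (nat_lit 0x67008900030048004300ad00780047006c004c007800e6009700dc009d0018009c)
(.cons (nat_lit 4) (nat_lit 0x309090a0d0b0d070c040d090d04040f070b02010e00030904080609030a0b070b00)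
(.cons (nat_lit 2) (nat_lit 0x13332303123323013120331110130212130000212300033002313302201123201100)
(.cons (nat_lit 1) (nat_lit 0x10401010141545405515554541115011110144555104101544100501400404001450)
.nil)))))))))))))))))
theorem n16_ok : Net.ok 275 n16 = true := by decide +kernel
noncomputable def n17 : Net := (.cons (nat_lit 1) (nat_lit 0x40505101040145444441515555415450051401410015055155054001155150000544)
(.cons (nat_lit 2) (nat_lit 0x112220303021021231103311231202311132210230232111002012223321202201130)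
(.cons (nat_lit 4) (nat_lit 0x50a0b080f040c0b01080c0904000a01070b03080a030904090e0604000e0f020400)
(.cons (nat_lit 8) (nat_lit 0x580068004600e6009e009d004a00520028009200b1007a00ef0013002800a00003)
(.cons (nat_lit 16) (nat_lit 0x600009ad60000acf6000065d0000044ad000049e70000984000009e4500000840)
(.cons (nat_lit 32) (nat_lit 0x7b8bccbc00000000330003d500000000164a88910000000000008703)
(.cons (nat_lit 64) (nat_lit 0x2238124c508400fb0000000000000000000000000001f8c2)
(.cons (nat_lit 128) (nat_lit 0x56a86b059b06efbce11098fb4ba0605f)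
(.cons (nat_lit 256) (nat_lit 0x5ffdf)
(.cons (nat_lit 128) (nat_lit 0xe515)
(.cons (nat_lit 64) (nat_lit 0x5ff694f5c9c3a8b500000000000000008f499c1eba06525c)
(.cons (nat_lit 32) (nat_lit 0x9f06929c000000009e4ed57900000000099b3099000000006a917fe1)
(.cons (nat_lit 16) (nat_lit 0x40000791e0000fb7c0000129f000067c400001c2700009133000074db000070d5)
(.cons (nat_lit 8) (nat_lit 0x93002500fb0011007b00b30032008600600054002f009b00ca00b200a00054006b)
(.cons (nat_lit 4) (nat_lit 0x2050c09080b010b0e0f070c0908050c0705000b040d06060c0f000f0f0d01020d04)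
(.cons (nat_lit 2) (nat_lit 0x22032030220200312322323120203220323213333111320301130331222010223230)
(.cons (nat_lit 1) (nat_lit 0x10505454515044455444105101015151105151105104441401545141110005515500)
.nil)))))))))))))))))
theorem n17_ok : Net.ok 275 n17 = true := by decide +kernel
noncomputable def n18 : Net := (.cons (nat_lit 1) (nat_lit 0x150450010515004514011005145514004445014551544144545110150004000051050)
(.cons (nat_lit 2) (nat_lit 0x23211113223131312001111110200331313333200321031312310233122100121302)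
(.cons (nat_lit 4) (nat_lit 0x306040c050d06060d080e01050a060901050005050704060600000108020a050500)
(.cons (nat_lit 8) (nat_lit 0x3200ae0065000100830099004200d000cb0081009400a900f40040008a00c80001)
(.cons (nat_lit 16) (nat_lit 0x5000081250000b32a000090590000a194000020cb00006af800000bde000048a0)
(.cons (nat_lit 32) (nat_lit 0x1b21180a0000000024cc289a000000008530a61a0000000000000071)
(.cons (nat_lit 64) (nat_lit 0x2a1094002778c8650000000000000000000000000004acba)
(.cons (nat_lit 128) (nat_lit 0x14b72d6da2caede7fb2cb19b4db27040)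
(.cons (nat_lit 256) (nat_lit 0x7fcfb)
(.cons (nat_lit 128) (nat_lit 0x76412)
(.cons (nat_lit 64) (nat_lit 0xa58a2230742bc457000000000000000074d43ec89341d45e)
(.cons (nat_lit 32) (nat_lit 0x76942aab000000002b997c4700000000ab9c29610000000091389650)
(.cons (nat_lit 16) (nat_lit 0x600007a5d0000f6550000f6100000a11000000b8f0000078a00006b2700006293)
(.cons (nat_lit 8) (nat_lit 0xcc00cb002100cf00d2009a0030006e0099005a0017007b0004006e00c1002f00c5)
(.cons (nat_lit 4) (nat_lit 0xc070d0b0a000800010b06050f070d01020e0f0b010b06090c040604020a01090402)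
(.cons (nat_lit 2) (nat_lit 0x112223300232313102303010103233133012231300011203033010032131010211012)
(.cons (nat_lit 1) (nat_lit 0x151440110015045045054514545500140155515145455111554405415155404004104)
.nil)))))))))))))))))
theorem n18_ok : Net.ok 275 n18 = true := by decide +kernel
noncomputable def n19 : Net := (.cons (nat_lit 1) (nat_lit 0x110151115504404554501545450010011150451151014554545000455515501044004)
(.cons (nat_lit 2) (nat_lit 0x1032331001331002013030311202230022032223302321230113022202313030002)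
(.cons (nat_lit 4) (nat_lit 0x6090d05030804070703050206080c0005030f020f03080e0607020808030b090406)
(.cons (nat_lit 8) (nat_lit 0xb700f2005500ad00820040006400c200950002002a00780052008100a000100002)
(.cons (nat_lit 16) (nat_lit 0x70000c1fc0000220b0000a8080000488a0000b2e50000c7130000a13400002008)
(.cons (nat_lit 32) (nat_lit 0xce31853500000000229490fa00000000a0388ee0000000000005893a)
(.cons (nat_lit 64) (nat_lit 0x588f080200410a85000000000000000000000000000619f8)
(.cons (nat_lit 128) (nat_lit 0xb3c110b914877702ee5e5eeacce278ad)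
(.cons (nat_lit 256) (nat_lit 0x7f9ff)
(.cons (nat_lit 128) (nat_lit 0x6b105)
(.cons (nat_lit 64) (nat_lit 0x9ecfc49c413460880000000000000000d57f9258fd474c74)
(.cons (nat_lit 32) (nat_lit 0xfedb4da700000000bbc9327200000000a069a7bb000000009527ef3e)
(.cons (nat_lit 16) (nat_lit 0x40000af490000eeed00006bb40000f49a0000133f0000346a0000c49f0000af2e)
(.cons (nat_lit 8) (nat_lit 0xe007500340047007e00e7003600070066000600270052001800c5005d00d50036)
(.cons (nat_lit 4) (nat_lit 0x10d0300000c0b0c070b080e030b0d050205080a0f0901020b080c0c040a070a0a04)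
(.cons (nat_lit 2) (nat_lit 0x101112211100323120121223123121030113023202001012320301322010113030232)
(.cons (nat_lit 1) (nat_lit 0x15151411510515014440041145441104515550501555151055104400055100450414)
.nil)))))))))))))))))
theorem n19_ok : Net.ok 275 n19 = true := by decide +kernel
noncomputable def n20 : Net := (.cons (nat_lit 1) (nat_lit 0x4140411414551454100040514054140404015501441441510500414555001104144)
(.cons (nat_lit 2) (nat_lit 0x22201310201100102030301321122331123202333011230311023013232221000220)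
(.cons (nat_lit 4) (nat_lit 0x405060c010a0400010b08040d090300010a010c0f010b0c090b020a020c0b090301)
(.cons (nat_lit 8) (nat_lit 0x9009b00f50080002500d100bb001400c9000700fe000b002e00860033008a0002)
(.cons (nat_lit 16) (nat_lit 0x10000f25300006877000014500000113500003ac00000e8900000ed0e00001440)
(.cons (nat_lit 32) (nat_lit 0xca0790de000000000bba9586000000009f0144240000000000006328)
(.cons (nat_lit 64) (nat_lit 0x4421222414aee43600000000000000000000000000059f78)
(.cons (nat_lit 128) (nat_lit 0x7ec44fab716e876521ab38c62e92a445)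
(.cons (nat_lit 256) (nat_lit 0x7fffd)
(.cons (nat_lit 128) (nat_lit 0x1ec5f)
(.cons (nat_lit 64) (nat_lit 0xf642523d8d63035000000000000000042b17c4a9eb5fadb)
(.cons (nat_lit 32) (nat_lit 0x835fabca000000008cb3e8d100000000706b5a4d0000000086042ec1)
(.cons (nat_lit 16) (nat_lit 0x40000a409000056dc0000bdd30000f5be00002a820000a7b10000b1ba00002961)
(.cons (nat_lit 8) (nat_lit 0x700032008a00b30015007300d800b60008006c00df006d006e008600a200280023)
(.cons (nat_lit 4) (nat_lit 0x9010204010b0d090a06000c0d010a0c0a07050c09010e0f080f0603040600060709)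
(.cons (nat_lit 2) (nat_lit 0x33002210303210330310303120011030000333010201320321331110321002323000)
(.cons (nat_lit 1) (nat_lit 0x40000515455041041010401440404510010115455051500440115500501411415054)
.nil)))))))))))))))))
theorem n20_ok : Net.ok 275 n20 = true := by decide +kernel
noncomputable def n21 : Net := (.cons (nat_lit 1) (nat_lit 0x115050105511051444055151551545100155105541115101051541541514400415500)
(.cons (nat_lit 2) (nat_lit 0x132000301020122203001333133010222120010121121000230212002111222102020)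
(.cons (nat_lit 4) (nat_lit 0x20a070f0b010f0302090c080d020f0e03010900020d000a00000b0f040c060a0403)
(.cons (nat_lit 8) (nat_lit 0xbf00c00040000300d7002200f2004900ce009600a1007200d20050001f00a10002)
(.cons (nat_lit 16) (nat_lit 0x1d1000003f220000d82b00002a9f000084a90000f52e0000534000005920)
(.cons (nat_lit 32) (nat_lit 0xd28e838800000000a36631c800000000b88fc603000000000006a40c)
(.cons (nat_lit 64) (nat_lit 0x7222662c649224940000000000000000000000000000d736)
(.cons (nat_lit 128) (nat_lit 0x84f6f24b63e16faf774114b58e120750)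
(.cons (nat_lit 256) (nat_lit 0x7ff7e)
(.cons (nat_lit 128) (nat_lit 0x4470b)
(.cons (nat_lit 64) (nat_lit 0xd0602e42d2db76030000000000000000474ca771fbc18673)
(.cons (nat_lit 32) (nat_lit 0x930e03cc00000000384925d800000000ce8897810000000037885faf)
(.cons (nat_lit 16) (nat_lit 0x20000c2c80000a6e20000efc7000064970000c6aa0000104900004cf600009964)
(.cons (nat_lit 8) (nat_lit 0xb90044008800150003005200c800a200c0007800d000d1007b004f00f600c20084)
(.cons (nat_lit 4) (nat_lit 0x40b010f0b0a0d020f0a0403090600020e020b00050d0204030c0f0f07070e0d0e03)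
(.cons (nat_lit 2) (nat_lit 0x130330201030301002202201201011203003021031022211102113121112111120010)
(.cons (nat_lit 1) (nat_lit 0x111001045110004041441014554055510151010145054115114110441014110515400)
.nil)))))))))))))))))
theorem n21_ok : Net.ok 275 n21 = true := by decide +kernel
noncomputable def n22 : Net := (.cons (nat_lit 1) (nat_lit 0x55115500001044040045051414044054115005444514054410004111415151004414)
(.cons (nat_lit 2) (nat_lit 0x32220332001312010110012220000012313111332132202133233101002103122002)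
(.cons (nat_lit 4) (nat_lit 0xb0a03020208050f0003070d0d0200020605080c0f020308020e0e03040a09040305)
(.cons (nat_lit 8) (nat_lit 0x5600d3008f00fe000b008a008d0087008700f7006d003200600091008e00490005)
(.cons (nat_lit 16) (nat_lit 0x500009c0e0000ba260000a0060000965200004f20000044750000982c0000b5a0)
(.cons (nat_lit 32) (nat_lit 0x8d98266e00000000d62cde9400000000c46b908c000000000002412b)
(.cons (nat_lit 64) (nat_lit 0x8ee1803b70811d8c00000000000000000000000000007060)
(.cons (nat_lit 128) (nat_lit 0x154e3988b2b19a139ab387f74f1a9114)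
(.cons (nat_lit 256) (nat_lit 0x3f7ff)
(.cons (nat_lit 128) (nat_lit 0x6749f)
(.cons (nat_lit 64) (nat_lit 0x3eb12e2c37b0ffd80000000000000000bacfa241fa953ccd)
(.cons (nat_lit 32) (nat_lit 0x422dbb61000000000eb5e8c6000000003fa337c100000000934a34a9)
(.cons (nat_lit 16) (nat_lit 0x60000387b0000df9b00008f5c00001b59000087dd0000a6b70000add900004725)
(.cons (nat_lit 8) (nat_lit 0xd6008d0049007f009800da008400c4009b000a00450086001c00fe00d000450007)
(.cons (nat_lit 4) (nat_lit 0xb09040b040e060c02010e0a0c05070e0c0d0409090a080e0c0c0003080802090505)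
(.cons (nat_lit 2) (nat_lit 0x132010023002300333321201210231332011131323220000200232302302313203102)
(.cons (nat_lit 1) (nat_lit 0x154050551010515001014010514005010551401145055151541551410445455105414)
.nil)))))))))))))))))
theorem n22_ok : Net.ok 275 n22 = true := by decide +kernel
noncomputable def nets : List Net := List.append McLc.nets [n15, n16, n17, n18, n19, n20, n21, n22]
theorem nets_ok : netsOk 275 nets = true := netsOk_append McLc.nets_ok <| List.all_eq_true.2 (fa_cons n15_ok (fa_cons n16_ok (fa_cons n17_ok (fa_cons n18_ok (fa_cons n19_ok (fa_cons n20_ok (fa_cons n21_ok (fa_cons n22_ok (fa_nil)))))))))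
noncomputable def ws5 : List Word := []
noncomputable def lev4 : Level := ⟨nat_lit 2,
[⟨[nat_lit 44], [], [],
[⟨nat_lit 0, [], nat_lit 1, [], []⟩,
⟨nat_lit 1, [], nat_lit 2, [], []⟩,
⟨nat_lit 2, [], nat_lit 0, [], []⟩],
[]⟩],
[⟨dw (nat_lit 0x01), (nat_lit 0x10000000000000000000000000000000000), [], .nil, []⟩,
⟨dw (nat_lit 0x02), (nat_lit 0x4000000000000000000000000000), [], .nil, []⟩]⟩
noncomputable def ex4 : List Word := []
noncomputable def ws4 : List Word := List.append ex4 (lev4.gens ws5)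
noncomputable def rels4 : List (Word × Word) := List.append (lev4.rels ws5) (memRels (lev4.gens ws5) ex4 [])
noncomputable def lev3 : Level := ⟨nat_lit 4,
[⟨[nat_lit 38], [], [],
[⟨nat_lit 0, [], nat_lit 1, [], []⟩,
⟨nat_lit 1, [], nat_lit 5, [], []⟩,
⟨nat_lit 2, [], nat_lit 0, [], []⟩,
⟨nat_lit 3, [], nat_lit 9, dw (nat_lit 0x02), dw (nat_lit 0x02)⟩,
⟨nat_lit 4, [], nat_lit 8, dw (nat_lit 0x01), dw (nat_lit 0x01)⟩,
⟨nat_lit 5, [], nat_lit 2, [], []⟩,
⟨nat_lit 6, [], nat_lit 11, [], []⟩,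
⟨nat_lit 7, [], nat_lit 11, dw (nat_lit 0x01), dw (nat_lit 0x01)⟩,
⟨nat_lit 8, [], nat_lit 13, dw (nat_lit 0x02), dw (nat_lit 0x02)⟩,
⟨nat_lit 9, [], nat_lit 12, dw (nat_lit 0x01), dw (nat_lit 0x01)⟩,
⟨nat_lit 10, [], nat_lit 15, [], dw (nat_lit 0x02)⟩,
⟨nat_lit 11, [], nat_lit 20, dw (nat_lit 0x02), []⟩,
⟨nat_lit 12, [], nat_lit 6, [], []⟩,
⟨nat_lit 13, [], nat_lit 7, [], []⟩,
⟨nat_lit 14, [], nat_lit 1, dw (nat_lit 0x01), []⟩,
⟨nat_lit 15, [], nat_lit 4, dw (nat_lit 0x02), []⟩,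
⟨nat_lit 16, [], nat_lit 1, dw (nat_lit 0x02), []⟩,
⟨nat_lit 17, [], nat_lit 3, dw (nat_lit 0x01), []⟩,
⟨nat_lit 18, [], nat_lit 8, [], []⟩,
⟨nat_lit 19, [], nat_lit 10, [], dw (nat_lit 0x01)⟩,
⟨nat_lit 20, [], nat_lit 10, dw (nat_lit 0x01), []⟩,
⟨nat_lit 21, [], nat_lit 7, dw (nat_lit 0x02), dw (nat_lit 0x02)⟩,
⟨nat_lit 1, dw (nat_lit 0x01), nat_lit 2, dw (nat_lit 0x02), dw (nat_lit 0x02)⟩,
⟨nat_lit 1, dw (nat_lit 0x02), nat_lit 2, dw (nat_lit 0x01), dw (nat_lit 0x01)⟩,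
⟨nat_lit 2, dw (nat_lit 0x01), nat_lit 16, dw (nat_lit 0x01), dw (nat_lit 0x01)⟩,
⟨nat_lit 2, dw (nat_lit 0x02), nat_lit 14, dw (nat_lit 0x02), dw (nat_lit 0x02)⟩,
⟨nat_lit 3, dw (nat_lit 0x01), nat_lit 20, [], []⟩,
⟨nat_lit 3, dw (nat_lit 0x02), nat_lit 13, dw (nat_lit 0x01), dw (nat_lit 0x02)⟩,
⟨nat_lit 4, dw (nat_lit 0x01), nat_lit 12, dw (nat_lit 0x02), dw (nat_lit 0x01)⟩,
⟨nat_lit 4, dw (nat_lit 0x02), nat_lit 19, [], []⟩,
⟨nat_lit 5, dw (nat_lit 0x01), nat_lit 16, dw (nat_lit 0x02), []⟩,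
⟨nat_lit 5, dw (nat_lit 0x02), nat_lit 14, dw (nat_lit 0x01), []⟩,
⟨nat_lit 6, dw (nat_lit 0x01), nat_lit 4, [], dw (nat_lit 0x02)⟩,
⟨nat_lit 6, dw (nat_lit 0x02), nat_lit 9, dw (nat_lit 0x01), dw (nat_lit 0x02)⟩,
⟨nat_lit 7, dw (nat_lit 0x01), nat_lit 8, dw (nat_lit 0x02), dw (nat_lit 0x01)⟩,
⟨nat_lit 7, dw (nat_lit 0x02), nat_lit 3, [], dw (nat_lit 0x01)⟩,
⟨nat_lit 8, dw (nat_lit 0x01), nat_lit 21, dw (nat_lit 0x01), []⟩,
⟨nat_lit 8, dw (nat_lit 0x02), nat_lit 15, dw (nat_lit 0x02), dw (nat_lit 0x02)⟩,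
⟨nat_lit 9, dw (nat_lit 0x01), nat_lit 17, dw (nat_lit 0x01), dw (nat_lit 0x01)⟩,
⟨nat_lit 9, dw (nat_lit 0x02), nat_lit 21, [], dw (nat_lit 0x01)⟩,
⟨nat_lit 10, dw (nat_lit 0x01), nat_lit 17, [], []⟩,
⟨nat_lit 10, dw (nat_lit 0x02), nat_lit 11, dw (nat_lit 0x02), []⟩,
⟨nat_lit 11, dw (nat_lit 0x01), nat_lit 19, dw (nat_lit 0x01), dw (nat_lit 0x02)⟩,
⟨nat_lit 11, dw (nat_lit 0x02), nat_lit 21, dw (nat_lit 0x02), []⟩,
⟨nat_lit 12, dw (nat_lit 0x01), nat_lit 15, dw (nat_lit 0x01), dw (nat_lit 0x02)⟩,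
⟨nat_lit 12, dw (nat_lit 0x02), nat_lit 3, dw (nat_lit 0x02), []⟩,
⟨nat_lit 13, dw (nat_lit 0x01), nat_lit 4, dw (nat_lit 0x01), []⟩,
⟨nat_lit 13, dw (nat_lit 0x02), nat_lit 17, dw (nat_lit 0x02), dw (nat_lit 0x01)⟩,
⟨nat_lit 14, dw (nat_lit 0x01), nat_lit 5, dw (nat_lit 0x01), dw (nat_lit 0x01)⟩,
⟨nat_lit 14, dw (nat_lit 0x02), nat_lit 14, [], dw (nat_lit 0x02)⟩,
⟨nat_lit 15, dw (nat_lit 0x01), nat_lit 18, dw (nat_lit 0x01), dw (nat_lit 0x01)⟩,
⟨nat_lit 15, dw (nat_lit 0x02), nat_lit 20, dw (nat_lit 0x01), dw (nat_lit 0x01)⟩,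
⟨nat_lit 16, dw (nat_lit 0x01), nat_lit 16, [], dw (nat_lit 0x01)⟩,
⟨nat_lit 16, dw (nat_lit 0x02), nat_lit 5, dw (nat_lit 0x02), dw (nat_lit 0x02)⟩,
⟨nat_lit 17, dw (nat_lit 0x01), nat_lit 19, dw (nat_lit 0x02), dw (nat_lit 0x02)⟩,
⟨nat_lit 17, dw (nat_lit 0x02), nat_lit 18, [], []⟩,
⟨nat_lit 18, dw (nat_lit 0x01), nat_lit 9, [], dw (nat_lit 0x02)⟩,
⟨nat_lit 18, dw (nat_lit 0x02), nat_lit 10, dw (nat_lit 0x02), []⟩,
⟨nat_lit 19, dw (nat_lit 0x01), nat_lit 13, [], []⟩,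
⟨nat_lit 19, dw (nat_lit 0x02), nat_lit 6, dw (nat_lit 0x02), dw (nat_lit 0x01)⟩,
⟨nat_lit 20, dw (nat_lit 0x01), nat_lit 7, dw (nat_lit 0x01), dw (nat_lit 0x02)⟩,
⟨nat_lit 20, dw (nat_lit 0x02), nat_lit 12, [], []⟩,
⟨nat_lit 21, dw (nat_lit 0x01), nat_lit 6, dw (nat_lit 0x01), []⟩,
⟨nat_lit 21, dw (nat_lit 0x02), nat_lit 18, dw (nat_lit 0x02), []⟩],
[]⟩,
⟨[nat_lit 40], [], [],
[⟨nat_lit 0, [], nat_lit 3, [], []⟩,
⟨nat_lit 1, [], nat_lit 6, [], []⟩,
⟨nat_lit 2, [], nat_lit 8, [], []⟩,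
⟨nat_lit 3, [], nat_lit 4, [], []⟩,
⟨nat_lit 4, [], nat_lit 0, [], []⟩,
⟨nat_lit 5, [], nat_lit 10, [], []⟩,
⟨nat_lit 6, [], nat_lit 7, [], []⟩,
⟨nat_lit 7, [], nat_lit 1, [], []⟩,
⟨nat_lit 8, [], nat_lit 9, [], []⟩,
⟨nat_lit 9, [], nat_lit 2, [], []⟩,
⟨nat_lit 10, [], nat_lit 10, dw (nat_lit 0x01), dw (nat_lit 0x01)⟩,
⟨nat_lit 11, [], nat_lit 6, dw (nat_lit 0x01), dw (nat_lit 0x01)⟩,
⟨nat_lit 12, [], nat_lit 17, [], dw (nat_lit 0x01)⟩,
⟨nat_lit 13, [], nat_lit 1, dw (nat_lit 0x01), dw (nat_lit 0x02)⟩,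
⟨nat_lit 14, [], nat_lit 11, [], dw (nat_lit 0x01)⟩,
⟨nat_lit 15, [], nat_lit 13, [], dw (nat_lit 0x01)⟩,
⟨nat_lit 16, [], nat_lit 7, dw (nat_lit 0x02), dw (nat_lit 0x01)⟩,
⟨nat_lit 17, [], nat_lit 1, dw (nat_lit 0x02), []⟩,
⟨nat_lit 18, [], nat_lit 8, dw (nat_lit 0x01), dw (nat_lit 0x01)⟩,
⟨nat_lit 19, [], nat_lit 12, dw (nat_lit 0x01), dw (nat_lit 0x02)⟩,
⟨nat_lit 20, [], nat_lit 2, dw (nat_lit 0x02), []⟩,
⟨nat_lit 21, [], nat_lit 3, dw (nat_lit 0x01), dw (nat_lit 0x01)⟩,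
⟨nat_lit 1, dw (nat_lit 0x01), nat_lit 15, [], []⟩,
⟨nat_lit 1, dw (nat_lit 0x02), nat_lit 12, [], dw (nat_lit 0x02)⟩,
⟨nat_lit 2, dw (nat_lit 0x01), nat_lit 19, [], []⟩,
⟨nat_lit 2, dw (nat_lit 0x02), nat_lit 13, dw (nat_lit 0x02), dw (nat_lit 0x01)⟩,
⟨nat_lit 3, dw (nat_lit 0x01), nat_lit 5, dw (nat_lit 0x01), dw (nat_lit 0x01)⟩,
⟨nat_lit 3, dw (nat_lit 0x02), nat_lit 4, dw (nat_lit 0x01), dw (nat_lit 0x01)⟩,
⟨nat_lit 4, dw (nat_lit 0x01), nat_lit 10, dw (nat_lit 0x02), []⟩,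
⟨nat_lit 4, dw (nat_lit 0x02), nat_lit 21, dw (nat_lit 0x01), dw (nat_lit 0x02)⟩,
⟨nat_lit 5, dw (nat_lit 0x01), nat_lit 21, [], dw (nat_lit 0x01)⟩,
⟨nat_lit 5, dw (nat_lit 0x02), nat_lit 4, dw (nat_lit 0x02), dw (nat_lit 0x01)⟩,
⟨nat_lit 6, dw (nat_lit 0x01), nat_lit 14, [], dw (nat_lit 0x01)⟩,
⟨nat_lit 6, dw (nat_lit 0x02), nat_lit 13, dw (nat_lit 0x01), dw (nat_lit 0x01)⟩,
⟨nat_lit 7, dw (nat_lit 0x01), nat_lit 8, dw (nat_lit 0x02), []⟩,
⟨nat_lit 7, dw (nat_lit 0x02), nat_lit 11, dw (nat_lit 0x01), dw (nat_lit 0x02)⟩,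
⟨nat_lit 8, dw (nat_lit 0x01), nat_lit 16, dw (nat_lit 0x01), dw (nat_lit 0x02)⟩,
⟨nat_lit 8, dw (nat_lit 0x02), nat_lit 12, dw (nat_lit 0x02), dw (nat_lit 0x02)⟩,
⟨nat_lit 9, dw (nat_lit 0x01), nat_lit 6, dw (nat_lit 0x02), []⟩,
⟨nat_lit 9, dw (nat_lit 0x02), nat_lit 18, dw (nat_lit 0x01), dw (nat_lit 0x02)⟩,
⟨nat_lit 10, dw (nat_lit 0x01), nat_lit 5, [], dw (nat_lit 0x02)⟩,
⟨nat_lit 10, dw (nat_lit 0x02), nat_lit 3, dw (nat_lit 0x02), dw (nat_lit 0x02)⟩,
⟨nat_lit 11, dw (nat_lit 0x01), nat_lit 16, [], []⟩,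
⟨nat_lit 11, dw (nat_lit 0x02), nat_lit 19, dw (nat_lit 0x02), dw (nat_lit 0x01)⟩,
⟨nat_lit 12, dw (nat_lit 0x01), nat_lit 2, dw (nat_lit 0x01), dw (nat_lit 0x01)⟩,
⟨nat_lit 12, dw (nat_lit 0x02), nat_lit 7, dw (nat_lit 0x01), dw (nat_lit 0x01)⟩,
⟨nat_lit 13, dw (nat_lit 0x01), nat_lit 9, dw (nat_lit 0x01), dw (nat_lit 0x02)⟩,
⟨nat_lit 13, dw (nat_lit 0x02), nat_lit 20, [], dw (nat_lit 0x02)⟩,
⟨nat_lit 14, dw (nat_lit 0x01), nat_lit 17, dw (nat_lit 0x02), dw (nat_lit 0x02)⟩,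
⟨nat_lit 14, dw (nat_lit 0x02), nat_lit 9, dw (nat_lit 0x02), dw (nat_lit 0x02)⟩,
⟨nat_lit 15, dw (nat_lit 0x01), nat_lit 16, dw (nat_lit 0x02), dw (nat_lit 0x02)⟩,
⟨nat_lit 15, dw (nat_lit 0x02), nat_lit 17, dw (nat_lit 0x01), []⟩,
⟨nat_lit 16, dw (nat_lit 0x01), nat_lit 18, [], []⟩,
⟨nat_lit 16, dw (nat_lit 0x02), nat_lit 20, dw (nat_lit 0x02), dw (nat_lit 0x01)⟩,
⟨nat_lit 17, dw (nat_lit 0x01), nat_lit 18, dw (nat_lit 0x02), dw (nat_lit 0x02)⟩,
⟨nat_lit 17, dw (nat_lit 0x02), nat_lit 19, dw (nat_lit 0x01), []⟩,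
⟨nat_lit 18, dw (nat_lit 0x01), nat_lit 14, dw (nat_lit 0x02), dw (nat_lit 0x02)⟩,
⟨nat_lit 18, dw (nat_lit 0x02), nat_lit 15, dw (nat_lit 0x02), dw (nat_lit 0x01)⟩,
⟨nat_lit 19, dw (nat_lit 0x01), nat_lit 14, dw (nat_lit 0x01), dw (nat_lit 0x01)⟩,
⟨nat_lit 19, dw (nat_lit 0x02), nat_lit 20, dw (nat_lit 0x01), []⟩,
⟨nat_lit 20, dw (nat_lit 0x01), nat_lit 11, dw (nat_lit 0x02), dw (nat_lit 0x02)⟩,
⟨nat_lit 20, dw (nat_lit 0x02), nat_lit 15, dw (nat_lit 0x01), []⟩,
⟨nat_lit 21, dw (nat_lit 0x01), nat_lit 5, dw (nat_lit 0x02), []⟩,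
⟨nat_lit 21, dw (nat_lit 0x02), nat_lit 21, dw (nat_lit 0x02), dw (nat_lit 0x02)⟩],
[]⟩],
[⟨dw (nat_lit 0x01), (nat_lit 0x400000000008000000000000000000000000002000000000000000000), [dw (nat_lit 0x01), dw (nat_lit 0x01)], .nil, []⟩,
⟨dw (nat_lit 0x02), (nat_lit 0x80000000000000000080000000000000000000000000000000000000000000200000), [dw (nat_lit 0x01), dw (nat_lit 0x01)], .nil, []⟩,
⟨dw (nat_lit 0x03), (nat_lit 0x2000000000000240000000000000), [dw (nat_lit 0x01), dw (nat_lit 0x01)], .nil, []⟩,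
⟨dw (nat_lit 0x04), (nat_lit 0x800000000100000004000000000000000000000), [dw (nat_lit 0x01), dw (nat_lit 0x01)], .nil, []⟩,
⟨dw (nat_lit 0x0101), (nat_lit 0x80000000000000000000000000400000001000000000000), [dw (nat_lit 0x01), dw (nat_lit 0x01)], .nil, []⟩,
⟨dw (nat_lit 0x0301), (nat_lit 0x10000000000020000000000000000000000000000000000000000000000004000), [dw (nat_lit 0x01), dw (nat_lit 0x01)], .nil, []⟩,
⟨dw (nat_lit 0x0401), (nat_lit 0x4002000000000000000000000000000000000000000000000080000000000000000), [dw (nat_lit 0x01), dw (nat_lit 0x01)], .nil, []⟩,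
⟨dw (nat_lit 0x0302), (nat_lit 0x10000000802000000000000000000000000000000000000000000000000000), [dw (nat_lit 0x01), dw (nat_lit 0x01)], .nil, []⟩,
⟨dw (nat_lit 0x0402), (nat_lit 0x2000000400000000000000000000000000000000040000000000000000000), [dw (nat_lit 0x01), dw (nat_lit 0x01)], .nil, []⟩,
⟨dw (nat_lit 0x030101), (nat_lit 0x2100000000000200000000000), [dw (nat_lit 0x01), dw (nat_lit 0x01)], .nil, []⟩,
⟨dw (nat_lit 0x010301), (nat_lit 0x4000000000004000000040000000000), [dw (nat_lit 0x01), dw (nat_lit 0x01)], .nil, []⟩,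
⟨dw (nat_lit 0x020301), (nat_lit 0x100000000000000400000000000000000000000020000000000000000), [dw (nat_lit 0x01), dw (nat_lit 0x01)], .nil, []⟩,
⟨dw (nat_lit 0x020401), (nat_lit 0x1000000000000000000200000000000000000000000000100000000), [dw (nat_lit 0x01), dw (nat_lit 0x01)], .nil, []⟩,
⟨dw (nat_lit 0x020501), (nat_lit 0x2000000000020000000000000000000000000000000000000100000), [dw (nat_lit 0x01), dw (nat_lit 0x01)], .nil, []⟩,
⟨dw (nat_lit 0x030501), (nat_lit 0x200000002000000000080000000000000000000000000000000000), [dw (nat_lit 0x01), dw (nat_lit 0x01)], .nil, []⟩,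
⟨dw (nat_lit 0x020601), (nat_lit 0x202000000000000000000000000002000000000000000000000), [dw (nat_lit 0x01), dw (nat_lit 0x01)], .nil, []⟩,
⟨dw (nat_lit 0x040601), (nat_lit 0x200000080000000000000000000000000000200), [dw (nat_lit 0x01), dw (nat_lit 0x01)], .nil, []⟩,
⟨dw (nat_lit 0x020302), (nat_lit 0x20000000000000010000000000008000000000000000000000000000000), [dw (nat_lit 0x01), dw (nat_lit 0x01)], .nil, []⟩,
⟨dw (nat_lit 0x030502), (nat_lit 0x100000000000000000000000000008000008000), [dw (nat_lit 0x01), dw (nat_lit 0x01)], .nil, []⟩,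
⟨dw (nat_lit 0x040602), (nat_lit 0x100000000000000000000000000000000001000000000000000000008000000), [dw (nat_lit 0x01), dw (nat_lit 0x01)], .nil, []⟩,
⟨dw (nat_lit 0x010103), (nat_lit 0x40000000000100000000200000000000000000000000000000000000000000000), [dw (nat_lit 0x01), dw (nat_lit 0x01)], .nil, []⟩]⟩
noncomputable def ex3 : List Word := [[nat_lit 42]]
noncomputable def ws3 : List Word := List.append ex3 (lev3.gens ws4)
noncomputable def rels3 : List (Word × Word) := List.append (lev3.rels ws4) (memRels (lev3.gens ws4) ex3 [dw (nat_lit 0x010405)])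
noncomputable def lev2 : Level := ⟨nat_lit 3,
[⟨[nat_lit 34], [dw (nat_lit 0x0207), dw (nat_lit 0x030705)], [dw (nat_lit 0x0207030107), dw (nat_lit 0x040208)],
[⟨nat_lit 0, [], nat_lit 1, [], []⟩,
⟨nat_lit 1, [], nat_lit 2, dw (nat_lit 0x0502), dw (nat_lit 0x01050308)⟩,
⟨nat_lit 2, [], nat_lit 0, [], []⟩,
⟨nat_lit 3, [], nat_lit 3, dw (nat_lit 0x06), dw (nat_lit 0x06)⟩,
⟨nat_lit 4, [], nat_lit 1, dw (nat_lit 0x07), []⟩,
⟨nat_lit 5, [], nat_lit 3, dw (nat_lit 0x0603), dw (nat_lit 0x050301)⟩,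
⟨nat_lit 1, dw (nat_lit 0x01), nat_lit 3, dw (nat_lit 0x01), dw (nat_lit 0x060108)⟩,
⟨nat_lit 2, dw (nat_lit 0x01), nat_lit 5, [], []⟩,
⟨nat_lit 2, dw (nat_lit 0x0502), nat_lit 3, [], dw (nat_lit 0x01050308)⟩,
⟨nat_lit 3, dw (nat_lit 0x05), nat_lit 3, dw (nat_lit 0x04), dw (nat_lit 0x0308)⟩,
⟨nat_lit 3, dw (nat_lit 0x02), nat_lit 3, dw (nat_lit 0x0401), dw (nat_lit 0x070408)⟩,
⟨nat_lit 3, dw (nat_lit 0x07), nat_lit 2, dw (nat_lit 0x05), dw (nat_lit 0x07030307)⟩,
⟨nat_lit 3, dw (nat_lit 0x06), nat_lit 1, dw (nat_lit 0x0401), dw (nat_lit 0x02030308)⟩,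
⟨nat_lit 4, dw (nat_lit 0x03), nat_lit 5, dw (nat_lit 0x02), dw (nat_lit 0x02060407)⟩,
⟨nat_lit 3, dw (nat_lit 0x0407), nat_lit 4, [], dw (nat_lit 0x08030108)⟩],
[dw (nat_lit 0x01), dw (nat_lit 0x03), dw (nat_lit 0x01), dw (nat_lit 0x03), dw (nat_lit 0x01)]⟩],
[⟨dw (nat_lit 0x01), (nat_lit 0x200004400000800008002100000000400000002000080a8000200004000000000800), [dw (nat_lit 0x01), dw (nat_lit 0x03), dw (nat_lit 0x05), dw (nat_lit 0x01), dw (nat_lit 0x01)], (.cons (nat_lit 4) [dw (nat_lit 0x0305), dw (nat_lit 0x010307)] [dw (nat_lit 0x01), dw (nat_lit 0x03), dw (nat_lit 0x01), dw (nat_lit 0x03), dw (nat_lit 0x01)]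
.nil), [dw (nat_lit 0x0503), dw (nat_lit 0x01050308)]⟩,
⟨dw (nat_lit 0x02), (nat_lit 0x2000008001068000050000000000010000802020000001000018000000000800000), [dw (nat_lit 0x01), dw (nat_lit 0x03), dw (nat_lit 0x01), dw (nat_lit 0x03), dw (nat_lit 0x05), dw (nat_lit 0x01)], (.cons (nat_lit 4) [dw (nat_lit 0x0207), dw (nat_lit 0x030705)] [dw (nat_lit 0x01), dw (nat_lit 0x03), dw (nat_lit 0x01), dw (nat_lit 0x03), dw (nat_lit 0x01)]
.nil), [dw (nat_lit 0x0207030107), dw (nat_lit 0x040208)]⟩,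
⟨dw (nat_lit 0x010101), (nat_lit 0x84052112020503f2228208a230400b0028008c1030021064460a024124810830c210), [dw (nat_lit 0x01), dw (nat_lit 0x03), dw (nat_lit 0x05), dw (nat_lit 0x03), dw (nat_lit 0x07), dw (nat_lit 0x03), dw (nat_lit 0x07), dw (nat_lit 0x01)
], (.cons (nat_lit 4) [dw (nat_lit 0x050106)] [dw (nat_lit 0x01), dw (nat_lit 0x01)]
.nil), [dw (nat_lit 0x02)]⟩,
⟨dw (nat_lit 0x020901), (nat_lit 0x10000000000000000000000000000000100000000004000000000000000000000080), [dw (nat_lit 0x01), dw (nat_lit 0x03)], (.cons (nat_lit 4) [dw (nat_lit 0x0405), dw (nat_lit 0x0208), dw (nat_lit 0x020702)] [dw (nat_lit 0x01), dw (nat_lit 0x03), dw (nat_lit 0x01), dw (nat_lit 0x05), dw (nat_lit 0x01), dw (nat_lit 0x03), dw (nat_lit 0x01), dw (nat_lit 0x01)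
]
.nil), [dw (nat_lit 0x01050107), dw (nat_lit 0x05030108), dw (nat_lit 0x060803)]⟩,
⟨dw (nat_lit 0x010302), (nat_lit 0x404000000000000000900000000000000000000000000), [dw (nat_lit 0x01), dw (nat_lit 0x03)], (.cons (nat_lit 4) [dw (nat_lit 0x05), dw (nat_lit 0x0404), dw (nat_lit 0x0207)] [dw (nat_lit 0x01), dw (nat_lit 0x03), dw (nat_lit 0x01), dw (nat_lit 0x05), dw (nat_lit 0x01), dw (nat_lit 0x01), dw (nat_lit 0x03), dw (nat_lit 0x01)
]
.nil), [dw (nat_lit 0x0501), dw (nat_lit 0x060408), dw (nat_lit 0x0406)]⟩]⟩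
noncomputable def ex2 : List Word := [[nat_lit 36]]
noncomputable def ws2 : List Word := List.append ex2 (lev2.gens ws3)
noncomputable def rels2 : List (Word × Word) := List.append (lev2.rels ws3) (memRels (lev2.gens ws3) ex2 [dw (nat_lit 0x0502060104070409)])
noncomputable def lev1 : Level := ⟨nat_lit 1,
[⟨[nat_lit 32], [dw (nat_lit 0x0b01), dw (nat_lit 0x0b0705), dw (nat_lit 0x060a050c)], [dw (nat_lit 0x03080208), dw (nat_lit 0x01010608060c), dw (nat_lit 0x0c01070c050c)],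
[⟨nat_lit 0, [], nat_lit 1, [], []⟩,
⟨nat_lit 1, [], nat_lit 1, dw (nat_lit 0x050703), dw (nat_lit 0x03010105070b)⟩,
⟨nat_lit 2, [], nat_lit 2, dw (nat_lit 0x040508), dw (nat_lit 0x05040b0a080b)⟩,
⟨nat_lit 1, dw (nat_lit 0x04), nat_lit 2, dw (nat_lit 0x08), dw (nat_lit 0x0c030709)⟩,
⟨nat_lit 2, dw (nat_lit 0x01), nat_lit 1, dw (nat_lit 0x0302), dw (nat_lit 0x0301010b070c)⟩,
⟨nat_lit 2, dw (nat_lit 0x03), nat_lit 2, dw (nat_lit 0x0c03), dw (nat_lit 0x0c030507070c)⟩,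
⟨nat_lit 1, dw (nat_lit 0x0a0303), nat_lit 0, [], dw (nat_lit 0x0702080a050c)⟩],
[dw (nat_lit 0x01), dw (nat_lit 0x03), dw (nat_lit 0x01), dw (nat_lit 0x05), dw (nat_lit 0x01), dw (nat_lit 0x03), dw (nat_lit 0x01), dw (nat_lit 0x03)
, dw (nat_lit 0x05), dw (nat_lit 0x03)]⟩],
[⟨dw (nat_lit 0x01), (nat_lit 0x10198802111800408042510404311100d0053208100c1800280000c38116490041020), [dw (nat_lit 0x01), dw (nat_lit 0x03), dw (nat_lit 0x05), dw (nat_lit 0x01), dw (nat_lit 0x0b), dw (nat_lit 0x03), dw (nat_lit 0x01), dw (nat_lit 0x01)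
], (.cons (nat_lit 3) [dw (nat_lit 0x010b01)] [dw (nat_lit 0x01), dw (nat_lit 0x03), dw (nat_lit 0x01), dw (nat_lit 0x05), dw (nat_lit 0x01), dw (nat_lit 0x03), dw (nat_lit 0x01), dw (nat_lit 0x03)
, dw (nat_lit 0x05)]
(.cons (nat_lit 4) [dw (nat_lit 0x0b08), dw (nat_lit 0x0c070a)] [dw (nat_lit 0x01), dw (nat_lit 0x03), dw (nat_lit 0x01), dw (nat_lit 0x03), dw (nat_lit 0x01)]
.nil)), [dw (nat_lit 0x01040209060c), dw (nat_lit 0x08020c07), dw (nat_lit 0x080501060c)]⟩,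
⟨dw (nat_lit 0x010101), (nat_lit 0xb605255a0215ebf22ad229a634400b5038088e32390e1af4462b8245248108b0ca98), [dw (nat_lit 0x01), dw (nat_lit 0x03), dw (nat_lit 0x05), dw (nat_lit 0x09), dw (nat_lit 0x0b), dw (nat_lit 0x03), dw (nat_lit 0x01), dw (nat_lit 0x07)
, dw (nat_lit 0x03)], (.cons (nat_lit 3) [dw (nat_lit 0x010301)] [dw (nat_lit 0x01), dw (nat_lit 0x05), dw (nat_lit 0x03), dw (nat_lit 0x05), dw (nat_lit 0x05), dw (nat_lit 0x03), dw (nat_lit 0x01)]
(.cons (nat_lit 4) [dw (nat_lit 0x0507)] [dw (nat_lit 0x01), dw (nat_lit 0x03), dw (nat_lit 0x03)]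
(.cons (nat_lit 2) [dw (nat_lit 0x0b)] [dw (nat_lit 0x01), dw (nat_lit 0x01)]
.nil))), [dw (nat_lit 0x060b07050c), dw (nat_lit 0x0b08), dw (nat_lit 0x0609060b)]⟩]⟩
noncomputable def ex1 : List Word := [[nat_lit 30]]
noncomputable def ws1 : List Word := List.append ex1 (lev1.gens ws2)
noncomputable def rels1 : List (Word × Word) := List.append (lev1.rels ws2) (memRels (lev1.gens ws2) ex1 [dw (nat_lit 0x010802090505070b0d)])
noncomputable def lev0 : Level := ⟨nat_lit 0,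
[⟨[nat_lit 2], [dw (nat_lit 0x0301), dw (nat_lit 0x070d06), dw (nat_lit 0x0a0d)], [dw (nat_lit 0x0a02090707090c), dw (nat_lit 0x0503010809050f0b10), dw (nat_lit 0x0c07010d05050d090f)],
[⟨nat_lit 0, [], nat_lit 1, [], []⟩,
⟨nat_lit 1, [], nat_lit 1, dw (nat_lit 0x0408), dw (nat_lit 0x0f030106070c0f)⟩,
⟨nat_lit 2, [], nat_lit 2, dw (nat_lit 0x0310), dw (nat_lit 0x030501100c0509)⟩,
⟨nat_lit 1, dw (nat_lit 0x0c), nat_lit 2, dw (nat_lit 0x01), dw (nat_lit 0x0a010b08050f0e0c10)⟩,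
⟨nat_lit 2, dw (nat_lit 0x01), nat_lit 1, dw (nat_lit 0x0a), dw (nat_lit 0x1007010d05050a0f0b0f)⟩,
⟨nat_lit 1, dw (nat_lit 0x0907), nat_lit 0, [], dw (nat_lit 0x050e010810070d0b)⟩],
[dw (nat_lit 0x01), dw (nat_lit 0x05), dw (nat_lit 0x01), dw (nat_lit 0x05), dw (nat_lit 0x01), dw (nat_lit 0x05), dw (nat_lit 0x01), dw (nat_lit 0x05)
, dw (nat_lit 0x03), dw (nat_lit 0x01), dw (nat_lit 0x01)]⟩],
[⟨dw (nat_lit 0x01), (nat_lit 0x648625a84ec6a1005d108c61988aee4a2c7a4514cc630650939d47182ca1a674b2544), [dw (nat_lit 0x01), dw (nat_lit 0x03), dw (nat_lit 0x07), dw (nat_lit 0x09), dw (nat_lit 0x01), dw (nat_lit 0x05), dw (nat_lit 0x03), dw (nat_lit 0x01)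
, dw (nat_lit 0x05)], (.cons (nat_lit 1) [dw (nat_lit 0x0205)] [dw (nat_lit 0x01), dw (nat_lit 0x0501), dw (nat_lit 0x01), dw (nat_lit 0x03), dw (nat_lit 0x01), dw (nat_lit 0x05), dw (nat_lit 0x03), dw (nat_lit 0x01)
, dw (nat_lit 0x03), dw (nat_lit 0x07)]
(.cons (nat_lit 3) [dw (nat_lit 0x060d)] [dw (nat_lit 0x01), dw (nat_lit 0x0203), dw (nat_lit 0x03), dw (nat_lit 0x01), dw (nat_lit 0x05), dw (nat_lit 0x01), dw (nat_lit 0x01), dw (nat_lit 0x01)
]
(.cons (nat_lit 4) [dw (nat_lit 0x0c0f), dw (nat_lit 0x0d0b0d)] [dw (nat_lit 0x01), dw (nat_lit 0x03), dw (nat_lit 0x01), dw (nat_lit 0x03), dw (nat_lit 0x01)]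
.nil))), [dw (nat_lit 0x090203070e050d0f), dw (nat_lit 0x04060206060d0b0910), dw (nat_lit 0x0401050a070f0b), dw (nat_lit 0x0c0f0106070d10)]⟩,
⟨dw (nat_lit 0x010101), (nat_lit 0x1b79da57b1395effa2ef739e677511b5d385baeb339cf9af6c62b8e7d35e598b4daba), [dw (nat_lit 0x01), dw (nat_lit 0x03), dw (nat_lit 0x05), dw (nat_lit 0x07), dw (nat_lit 0x01), dw (nat_lit 0x0b), dw (nat_lit 0x03), dw (nat_lit 0x07)
, dw (nat_lit 0x01), dw (nat_lit 0x01)], (.cons (nat_lit 1) [dw (nat_lit 0x020a0302)] [dw (nat_lit 0x01), dw (nat_lit 0x03), dw (nat_lit 0x07), dw (nat_lit 0x03), dw (nat_lit 0x07), dw (nat_lit 0x03), dw (nat_lit 0x05), dw (nat_lit 0x03)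
, dw (nat_lit 0x01), dw (nat_lit 0x03), dw (nat_lit 0x07), dw (nat_lit 0x03), dw (nat_lit 0x03)]
(.cons (nat_lit 3) [dw (nat_lit 0x0b08), dw (nat_lit 0x05050f0d)] [dw (nat_lit 0x01), dw (nat_lit 0x03), dw (nat_lit 0x01), dw (nat_lit 0x05), dw (nat_lit 0x01), dw (nat_lit 0x05), dw (nat_lit 0x01), dw (nat_lit 0x05)
, dw (nat_lit 0x01), dw (nat_lit 0x01)]
(.cons (nat_lit 4) [dw (nat_lit 0x0b0b09)] [dw (nat_lit 0x01), dw (nat_lit 0x01)]
.nil))), [dw (nat_lit 0x0e02060a0b10), dw (nat_lit 0x070c0107050f0b0910), dw (nat_lit 0x040a01100a050f0b0b0f), dw (nat_lit 0x060401050a070f0e0c)]⟩]⟩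
noncomputable def ex0 : List Word := [[nat_lit 0]]
noncomputable def ws0 : List Word := List.append ex0 (lev0.gens ws1)
noncomputable def rels0 : List (Word × Word) := List.append (lev0.rels ws1) (memRels (lev0.gens ws1) ex0 [dw (nat_lit 0x0302020208050d09070d0d0c12)])
noncomputable def rels : List (Word × Word) := List.append rels0 (List.append rels1 (List.append rels2 (List.append rels3 (List.append rels4 ([])))))
noncomputable def defs : List Word := [dw (nat_lit 0x02020301040104020402030101040402), dw (nat_lit 0x030301040203020402020203020303), dw (nat_lit 0x1f1f211f2121211f22), dw (nat_lit 0x212022202022222020), dw (nat_lit 0x2425242425242624252424), dw (nat_lit 0x252426232623252425242624), dw (nat_lit 0x23252325232623252424), dw (nat_lit 0x282a2a2b27292929)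
]
noncomputable def relsD : List (Word × Word) := defRels defs 15
noncomputable def relsO : List (Word × Word) := []
noncomputable def relsS : List (Word × Word) := []
noncomputable def allRels : List (Word × Word) := List.append rels (List.append relsD (List.append relsO relsS))
theorem chk4 : lev4.chk 275 nets ws5 1 3 = true := by decide +kernel
theorem chk3 : lev3.chk 275 nets ws4 3 192 = true := by decide +kernel
theorem chk2 : lev2.chk 275 nets ws3 192 20160 = true := by decide +kernel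
theorem chk1 : lev1.chk 275 nets ws2 20160 3265920 = true := by decide +kernel
theorem chk0 : lev0.chk 275 nets ws1 3265920 898128000 = true := by decide +kernel
theorem rc0 : relsChk 275 nets 9 (idArr 275 9 9 0) allRels = true := by decide +kernel
section
variable {Γ Ω : Type*} [Group Γ] [MulAction Γ Ω] (M : PM Γ Ω 275 nets)

theorem all_ok (hs : M.Sep 9 (idArr 275 9 9 0)) : Rels M.gen allRels := (M.rels_of_chk hs rc0)
theorem sep [FaithfulSMul Γ Ω] : M.Sep 9 (idArr 275 9 9 0) := M.sep_idArr (by decide)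
theorem all_ok' [FaithfulSMul Γ Ω] : Rels M.gen allRels := all_ok M (sep M)
theorem rels_of_all {gen : ℕ → Γ} (h : Rels gen allRels) : Rels gen rels := Rels.left h
theorem relsD_of_all {gen : ℕ → Γ} (h : Rels gen allRels) : Rels gen relsD := Rels.left (Rels.right h)
theorem relsO_of_all {gen : ℕ → Γ} (h : Rels gen allRels) : Rels gen relsO := Rels.left (Rels.right (Rels.right h))
theorem relsS_of_all {gen : ℕ → Γ} (h : Rels gen allRels) : Rels gen relsS := Rels.right (Rels.right (Rels.right h))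
theorem card5 (_hR : Rels M.gen rels) : Nat.card (sub M.gen ws5) = 1 := M.card_nil
theorem fixw5 (_hR : Rels M.gen rels) : M.FixTriv ws5 [] := M.fixTriv_nil
theorem r4 (hR : Rels M.gen rels) : Rels M.gen rels4 := (Rels.left (Rels.right (Rels.right (Rels.right (Rels.right hR)))))
theorem res4 (hR : Rels M.gen rels) : M.LevelRes ws5 lev4 3 := M.level (card5 M hR) chk4 (Rels.left (r4 M hR))
theorem ext4 (hR : Rels M.gen rels) : sub M.gen ws4 = sub M.gen (lev4.gens ws5) := sub_extend (Rels.right (r4 M hR))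
theorem card4 (hR : Rels M.gen rels) : Nat.card (sub M.gen ws4) = 3 := by rw [ext4 M hR]; exact (res4 M hR).card
theorem fix4 (hR : Rels M.gen rels) : M.FixTriv (lev4.gens ws5) [2] := (res4 M hR).fixTriv M (fixw5 M hR)
theorem fixw4 (hR : Rels M.gen rels) : M.FixTriv ws4 [2] := fun g hg => fix4 M hR g (ext4 M hR ▸ hg)
theorem stab4 (hR : Rels M.gen rels) : sub M.gen ws4 ⊓ MulAction.stabilizer Γ (M.dec 2) = sub M.gen ws5 := by rw [ext4 M hR]; exact (res4 M hR).stab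
theorem orb4 (hR : Rels M.gen rels) (y : Ω) : y ∈ M.S lev4.orb ↔ ∃ g ∈ sub M.gen ws4, g • M.dec 2 = y := by rw [ext4 M hR]; exact (res4 M hR).orb y
theorem r3 (hR : Rels M.gen rels) : Rels M.gen rels3 := (Rels.left (Rels.right (Rels.right (Rels.right hR))))
theorem res3 (hR : Rels M.gen rels) : M.LevelRes ws4 lev3 192 := M.level (card4 M hR) chk3 (Rels.left (r3 M hR))
theorem ext3 (hR : Rels M.gen rels) : sub M.gen ws3 = sub M.gen (lev3.gens ws4) := sub_extend (Rels.right (r3 M hR))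
theorem card3 (hR : Rels M.gen rels) : Nat.card (sub M.gen ws3) = 192 := by rw [ext3 M hR]; exact (res3 M hR).card
theorem fix3 (hR : Rels M.gen rels) : M.FixTriv (lev3.gens ws4) [4, 2] := (res3 M hR).fixTriv M (fixw4 M hR)
theorem fixw3 (hR : Rels M.gen rels) : M.FixTriv ws3 [4, 2] := fun g hg => fix3 M hR g (ext3 M hR ▸ hg)
theorem stab3 (hR : Rels M.gen rels) : sub M.gen ws3 ⊓ MulAction.stabilizer Γ (M.dec 4) = sub M.gen ws4 := by rw [ext3 M hR]; exact (res3 M hR).stab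
theorem orb3 (hR : Rels M.gen rels) (y : Ω) : y ∈ M.S lev3.orb ↔ ∃ g ∈ sub M.gen ws3, g • M.dec 4 = y := by rw [ext3 M hR]; exact (res3 M hR).orb y
theorem r2 (hR : Rels M.gen rels) : Rels M.gen rels2 := (Rels.left (Rels.right (Rels.right hR)))
theorem res2 (hR : Rels M.gen rels) : M.LevelRes ws3 lev2 20160 := M.level (card3 M hR) chk2 (Rels.left (r2 M hR))
theorem ext2 (hR : Rels M.gen rels) : sub M.gen ws2 = sub M.gen (lev2.gens ws3) := sub_extend (Rels.right (r2 M hR))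
theorem card2 (hR : Rels M.gen rels) : Nat.card (sub M.gen ws2) = 20160 := by rw [ext2 M hR]; exact (res2 M hR).card
theorem fix2 (hR : Rels M.gen rels) : M.FixTriv (lev2.gens ws3) [3, 4, 2] := (res2 M hR).fixTriv M (fixw3 M hR)
theorem fixw2 (hR : Rels M.gen rels) : M.FixTriv ws2 [3, 4, 2] := fun g hg => fix2 M hR g (ext2 M hR ▸ hg)
theorem stab2 (hR : Rels M.gen rels) : sub M.gen ws2 ⊓ MulAction.stabilizer Γ (M.dec 3) = sub M.gen ws3 := by rw [ext2 M hR]; exact (res2 M hR).stab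
theorem orb2 (hR : Rels M.gen rels) (y : Ω) : y ∈ M.S lev2.orb ↔ ∃ g ∈ sub M.gen ws2, g • M.dec 3 = y := by rw [ext2 M hR]; exact (res2 M hR).orb y
theorem r1 (hR : Rels M.gen rels) : Rels M.gen rels1 := (Rels.left (Rels.right hR))
theorem res1 (hR : Rels M.gen rels) : M.LevelRes ws2 lev1 3265920 := M.level (card2 M hR) chk1 (Rels.left (r1 M hR))
theorem ext1 (hR : Rels M.gen rels) : sub M.gen ws1 = sub M.gen (lev1.gens ws2) := sub_extend (Rels.right (r1 M hR))
theorem card1 (hR : Rels M.gen rels) : Nat.card (sub M.gen ws1) = 3265920 := by rw [ext1 M hR]; exact (res1 M hR).card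
theorem fix1 (hR : Rels M.gen rels) : M.FixTriv (lev1.gens ws2) [1, 3, 4, 2] := (res1 M hR).fixTriv M (fixw2 M hR)
theorem fixw1 (hR : Rels M.gen rels) : M.FixTriv ws1 [1, 3, 4, 2] := fun g hg => fix1 M hR g (ext1 M hR ▸ hg)
theorem stab1 (hR : Rels M.gen rels) : sub M.gen ws1 ⊓ MulAction.stabilizer Γ (M.dec 1) = sub M.gen ws2 := by rw [ext1 M hR]; exact (res1 M hR).stab
theorem orb1 (hR : Rels M.gen rels) (y : Ω) : y ∈ M.S lev1.orb ↔ ∃ g ∈ sub M.gen ws1, g • M.dec 1 = y := by rw [ext1 M hR]; exact (res1 M hR).orb y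
theorem r0 (hR : Rels M.gen rels) : Rels M.gen rels0 := (Rels.left hR)
theorem res0 (hR : Rels M.gen rels) : M.LevelRes ws1 lev0 898128000 := M.level (card1 M hR) chk0 (Rels.left (r0 M hR))
theorem ext0 (hR : Rels M.gen rels) : sub M.gen ws0 = sub M.gen (lev0.gens ws1) := sub_extend (Rels.right (r0 M hR))
theorem card0 (hR : Rels M.gen rels) : Nat.card (sub M.gen ws0) = 898128000 := by rw [ext0 M hR]; exact (res0 M hR).card
theorem fix0 (hR : Rels M.gen rels) : M.FixTriv (lev0.gens ws1) [0, 1, 3, 4, 2] := (res0 M hR).fixTriv M (fixw1 M hR)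
theorem fixw0 (hR : Rels M.gen rels) : M.FixTriv ws0 [0, 1, 3, 4, 2] := fun g hg => fix0 M hR g (ext0 M hR ▸ hg)
theorem stab0 (hR : Rels M.gen rels) : sub M.gen ws0 ⊓ MulAction.stabilizer Γ (M.dec 0) = sub M.gen ws1 := by rw [ext0 M hR]; exact (res0 M hR).stab
theorem orb0 (hR : Rels M.gen rels) (y : Ω) : y ∈ M.S lev0.orb ↔ ∃ g ∈ sub M.gen ws0, g • M.dec 0 = y := by rw [ext0 M hR]; exact (res0 M hR).orb y
theorem gen_mem {gen : ℕ → Γ} (h : Rels gen allRels) {X : Subgroup Γ} (h0 : ∀ l < 15, gen l ∈ X) : sub gen ws0 ≤ X :=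
  sub_le_of_wsIn (lo := 0) (gen_mem_of_defRels (ds := defs) (fun l _ hl => h0 l hl) (by decide +kernel) (relsD_of_all h)) (by decide +kernel)
theorem exists_ext [FaithfulSMul Γ Ω] (M0 : PM Γ Ω 275 McLc.nets) : ∃ M' : PM Γ Ω 275 nets, M0.Ext M' :=
  M0.exists_ext rfl (relsD_of_all (all_ok' (permPM 275 nets (by norm_num) (by norm_num) nets_ok))) (by decide +kernel)

end

open Cfsg MulAction
open scoped Pointwise

noncomputable def M : PM CM TM 275 nets := (exists_ext PMc).choose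
theorem hE : PMc.Ext M := (exists_ext PMc).choose_spec
theorem hR : Rels M.gen rels := rels_of_all (all_ok' M)
theorem top : sub M.gen ws0 = ⊤ := Subgroup.eq_top_of_card_eq _ ((card0 M hR).trans card_CM.symm)
theorem eq0 : ⊤ ⊓ M.fixL [] = sub M.gen ws0 := M.inf_fixL_nil top
theorem eq1 : ⊤ ⊓ M.fixL [0] = sub M.gen ws1 :=
  M.inf_fixL_cons eq0 (stab0 M hR)
theorem eq2 : ⊤ ⊓ M.fixL [1, 0] = sub M.gen ws2 :=
  M.inf_fixL_cons eq1 (stab1 M hR)
theorem eq3 : ⊤ ⊓ M.fixL [3, 1, 0] = sub M.gen ws3 :=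
  M.inf_fixL_cons eq2 (stab2 M hR)
theorem eq4 : ⊤ ⊓ M.fixL [4, 3, 1, 0] = sub M.gen ws4 :=
  M.inf_fixL_cons eq3 (stab3 M hR)
theorem eq5 : ⊤ ⊓ M.fixL [2, 4, 3, 1, 0] = sub M.gen ws5 :=
  M.inf_fixL_cons eq4 (stab4 M hR)
noncomputable def Ts5 : List (List Word) := []
noncomputable def Ts4 : List (List Word) := List.map (flat H14.McLd.ws4) [[], dw (nat_lit 0x02), dw (nat_lit 0x01)] :: Ts5
noncomputable def Ts3 : List (List Word) := List.map (flat H14.McLd.ws3) [[], dw (nat_lit 0x02), dw (nat_lit 0x01), dw (nat_lit 0x04), dw (nat_lit 0x03), dw (nat_lit 0x06), dw (nat_lit 0x05), dw (nat_lit 0x0204)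
, dw (nat_lit 0x0206), dw (nat_lit 0x0205), dw (nat_lit 0x0207), dw (nat_lit 0x0104), dw (nat_lit 0x0103), dw (nat_lit 0x0106), dw (nat_lit 0x0402), dw (nat_lit 0x0401)
, dw (nat_lit 0x0404), dw (nat_lit 0x0406), dw (nat_lit 0x0408), dw (nat_lit 0x0407), dw (nat_lit 0x0302), dw (nat_lit 0x0301), dw (nat_lit 0x0305), dw (nat_lit 0x0308)
, dw (nat_lit 0x0307), dw (nat_lit 0x0602), dw (nat_lit 0x0601), dw (nat_lit 0x0604), dw (nat_lit 0x0608), dw (nat_lit 0x0502), dw (nat_lit 0x0501), dw (nat_lit 0x0503)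
, dw (nat_lit 0x0508), dw (nat_lit 0x0507), dw (nat_lit 0x020402), dw (nat_lit 0x020401), dw (nat_lit 0x020406), dw (nat_lit 0x020408), dw (nat_lit 0x020407), dw (nat_lit 0x020602)
, dw (nat_lit 0x020601), dw (nat_lit 0x020608), dw (nat_lit 0x020501), dw (nat_lit 0x020503), dw (nat_lit 0x020704), dw (nat_lit 0x010401), dw (nat_lit 0x010404), dw (nat_lit 0x010406)
, dw (nat_lit 0x010408), dw (nat_lit 0x010301), dw (nat_lit 0x010601), dw (nat_lit 0x010608), dw (nat_lit 0x040203), dw (nat_lit 0x040402), dw (nat_lit 0x040401), dw (nat_lit 0x040406)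
, dw (nat_lit 0x040408), dw (nat_lit 0x040602), dw (nat_lit 0x040801), dw (nat_lit 0x040803), dw (nat_lit 0x040705), dw (nat_lit 0x030501), dw (nat_lit 0x030508), dw (nat_lit 0x02040801)
] :: Ts4
noncomputable def Ts2 : List (List Word) := List.map (flat H14.McLd.ws2) [[], dw (nat_lit 0x02), dw (nat_lit 0x01), dw (nat_lit 0x04), dw (nat_lit 0x03), dw (nat_lit 0x0202), dw (nat_lit 0x0204), dw (nat_lit 0x0203)
, dw (nat_lit 0x0206), dw (nat_lit 0x0205), dw (nat_lit 0x0207), dw (nat_lit 0x020a), dw (nat_lit 0x0209), dw (nat_lit 0x020c), dw (nat_lit 0x020b), dw (nat_lit 0x0101)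
, dw (nat_lit 0x0103), dw (nat_lit 0x0106), dw (nat_lit 0x0105), dw (nat_lit 0x0108), dw (nat_lit 0x0107), dw (nat_lit 0x010a), dw (nat_lit 0x0109), dw (nat_lit 0x010c)
, dw (nat_lit 0x010b), dw (nat_lit 0x0402), dw (nat_lit 0x0401), dw (nat_lit 0x0404), dw (nat_lit 0x0406), dw (nat_lit 0x0405), dw (nat_lit 0x0408), dw (nat_lit 0x0407)
, dw (nat_lit 0x0409), dw (nat_lit 0x040c), dw (nat_lit 0x040b), dw (nat_lit 0x0302), dw (nat_lit 0x0301), dw (nat_lit 0x0303), dw (nat_lit 0x0306), dw (nat_lit 0x0305)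
, dw (nat_lit 0x0308), dw (nat_lit 0x0307), dw (nat_lit 0x030a), dw (nat_lit 0x030b), dw (nat_lit 0x020204), dw (nat_lit 0x020206), dw (nat_lit 0x020205), dw (nat_lit 0x020208)
, dw (nat_lit 0x02020a), dw (nat_lit 0x02020b), dw (nat_lit 0x020401), dw (nat_lit 0x020404), dw (nat_lit 0x020405), dw (nat_lit 0x020408), dw (nat_lit 0x020409), dw (nat_lit 0x020302)
, dw (nat_lit 0x020301), dw (nat_lit 0x020303), dw (nat_lit 0x020308), dw (nat_lit 0x02030a), dw (nat_lit 0x020309), dw (nat_lit 0x020602), dw (nat_lit 0x020604), dw (nat_lit 0x020603)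
, dw (nat_lit 0x020607), dw (nat_lit 0x020504), dw (nat_lit 0x020503), dw (nat_lit 0x02050b), dw (nat_lit 0x020701), dw (nat_lit 0x020709), dw (nat_lit 0x02070b), dw (nat_lit 0x020a04)
, dw (nat_lit 0x020a0c), dw (nat_lit 0x020901), dw (nat_lit 0x020904), dw (nat_lit 0x020905), dw (nat_lit 0x020c04), dw (nat_lit 0x020c05), dw (nat_lit 0x01010a), dw (nat_lit 0x010109)
, dw (nat_lit 0x010302), dw (nat_lit 0x010303), dw (nat_lit 0x010308), dw (nat_lit 0x01030a), dw (nat_lit 0x01060b), dw (nat_lit 0x010501), dw (nat_lit 0x010504), dw (nat_lit 0x010509)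
, dw (nat_lit 0x010805), dw (nat_lit 0x010704), dw (nat_lit 0x010a02), dw (nat_lit 0x010a01), dw (nat_lit 0x010902), dw (nat_lit 0x010b03), dw (nat_lit 0x04020a), dw (nat_lit 0x040103)
, dw (nat_lit 0x040406), dw (nat_lit 0x040408), dw (nat_lit 0x040608), dw (nat_lit 0x040502), dw (nat_lit 0x040508), dw (nat_lit 0x04070c), dw (nat_lit 0x040b03), dw (nat_lit 0x030504)
, dw (nat_lit 0x030b04)] :: Ts3
theorem cov5 : Cover M.gen (sub M.gen H14.McLd.ws5) Ts5 := Cover.nil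
theorem cov4 : Cover M.gen (sub M.gen H14.McLd.ws4) Ts4 :=
  M.cover_step (H14.McLd.stab4 M hR) (H14.McLd.orb4 M hR) (by decide +kernel) cov5
theorem cov3 : Cover M.gen (sub M.gen H14.McLd.ws3) Ts3 :=
  M.cover_step (H14.McLd.stab3 M hR) (H14.McLd.orb3 M hR) (by decide +kernel) cov4
theorem cov2 : Cover M.gen (sub M.gen H14.McLd.ws2) Ts2 :=
  M.cover_step (H14.McLd.stab2 M hR) (H14.McLd.orb2 M hR) (by decide +kernel) cov3

end H14.McLd
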