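import Cfsg.Agent.H14.Enum4
import Cfsg.Agent.H14.McLd
import Cfsg.Agent.H14.Fus

/-! Generated certificate (tools14/pkgen) for the permutation group FMc of degree 275, order 128, base 2 0. -/
set_option autoImplicit false
set_option maxRecDepth 100000
set_option maxHeartbeats 0

namespace H14.FMc
open H14

noncomputable def n23 : Net := (.cons (nat_lit 1) (nat_lit 0x15050411540014014001411455505114444155540514001110414551554114044104)
(.cons (nat_lit 2) (nat_lit 0x12323011311013300013033010330013331022003300100000301310332320200020)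
(.cons (nat_lit 4) (nat_lit 0xc0a0a00080c0106010d0b0b010e030a02050c00090000010b0900020903020a0000)
(.cons (nat_lit 8) (nat_lit 0x4f0080000600f000b0009b0021003200820002001c00af0080000a0073001b0003)
(.cons (nat_lit 16) (nat_lit 0x5ea90000142e0000746400003360000035dd000073990000a609000084a8)
(.cons (nat_lit 32) (nat_lit 0xb316bd3000000005620229000000000b0e42c16000000000001c840)
(.cons (nat_lit 64) (nat_lit 0xb48311c05059024c00000000000000000000000000000d45)
(.cons (nat_lit 128) (nat_lit 0x1c7af87ea790c6d8eabde59152695070)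
(.cons (nat_lit 256) (nat_lit 0x3dffd)
(.cons (nat_lit 128) (nat_lit 0x34ce6)
(.cons (nat_lit 64) (nat_lit 0x24b7d40c4b1264fb00000000000000009c3789322e4a4c60)
(.cons (nat_lit 32) (nat_lit 0x8171be1c00000000e26e568c00000000ddbacbc40000000018252669)
(.cons (nat_lit 16) (nat_lit 0x300000cde0000bcd0000038b10000f2e40000f64c0000135e000085aa0000b634)
(.cons (nat_lit 8) (nat_lit 0x8b00d300cd00c6005f00d7000f006000f8005400d20005005e00b8001100300004)
(.cons (nat_lit 4) (nat_lit 0xe0c0f020e0e0d090b030d0308070206000c00080e000807000d0a01090203070e04)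
(.cons (nat_lit 2) (nat_lit 0x32102031210133310131221002102122321330021100330323111100121311332202)
(.cons (nat_lit 1) (nat_lit 0x151510504154105141500041415105505544455114051515051401451101405500000)
.nil)))))))))))))))))
theorem n23_ok : Net.ok 275 n23 = true := by decide +kernel
noncomputable def n24 : Net := (.cons (nat_lit 1) (nat_lit 0x54554540501550055005151444404145500505145004104111415045441445541010)
(.cons (nat_lit 2) (nat_lit 0x23011222103101031310300103033021132102300112220203203311022130021330)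
(.cons (nat_lit 4) (nat_lit 0xc070005080309010c040b060e050e09050f050e000a030a060b060c0c010a0b0501)
(.cons (nat_lit 8) (nat_lit 0x1200cf00d700c30077006e00ad004400af001200da007800d200a5002f00080003)
(.cons (nat_lit 16) (nat_lit 0x400006f84000013a50000d8130000e841000079670000ba1a0000900700000d08)
(.cons (nat_lit 32) (nat_lit 0x49d040cb00000000412399950000000030a8ddc00000000000008228)
(.cons (nat_lit 64) (nat_lit 0x82e20fca411c982900000000000000000000000000025d61)
(.cons (nat_lit 128) (nat_lit 0xbe1011ba049e394645eade617923e02a)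
(.cons (nat_lit 256) (nat_lit 0x7ff6b)
(.cons (nat_lit 128) (nat_lit 0x2831f)
(.cons (nat_lit 64) (nat_lit 0xf789c1f305f48ade00000000000000008ccb8cde69e36842)
(.cons (nat_lit 32) (nat_lit 0x75e7500200000000be16c15800000000d65dec3800000000d489c708)
(.cons (nat_lit 16) (nat_lit 0x70000385a000014740000958b00006f8c0000a0fa0000f50e0000c41100007f05)
(.cons (nat_lit 8) (nat_lit 0x2100c800ac00020043007e00e1003a00ec0091005e00240091006a009300f20008)
(.cons (nat_lit 4) (nat_lit 0x701000d030e040d000c090b0d080d0e0b070c0a040a00010f0306040e0a0f07060a)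
(.cons (nat_lit 2) (nat_lit 0x2100003112211001221133322031200121123020200121200320202111323230320)
(.cons (nat_lit 1) (nat_lit 0x111544501440440155114001410404405540450150041450544005045411141545404)
.nil)))))))))))))))))
theorem n24_ok : Net.ok 275 n24 = true := by decide +kernel
noncomputable def n25 : Net := (.cons (nat_lit 1) (nat_lit 0x1105501514540454541044014101114054415100155100511114514050415400400)
(.cons (nat_lit 2) (nat_lit 0x13311231223333221132330112201210133030002121011101223333011010130010)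
(.cons (nat_lit 4) (nat_lit 0xf07030a080f0d060606040a0801010a02040e0d07020404030c0705000f02010703)
(.cons (nat_lit 8) (nat_lit 0x4800ea0062005c0044000a00d600ea00df0074006c002500ce006100a500050001)
(.cons (nat_lit 16) (nat_lit 0x60000d9fd00007e4c000063060000b0990000be8c000036740000204100009678)
(.cons (nat_lit 32) (nat_lit 0x8970145b00000000d1b3935000000000804390a0000000000001d9c0)
(.cons (nat_lit 64) (nat_lit 0x5f50208c028404b1000000000000000000000000000030aa)
(.cons (nat_lit 128) (nat_lit 0xe32b0aae51984df51e44a25c798a6a0)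
(.cons (nat_lit 256) (nat_lit 0x5fffb)
(.cons (nat_lit 128) (nat_lit 0x54180)
(.cons (nat_lit 64) (nat_lit 0xa888a2eaaafe7d2400000000000000003fa1c93cb762c4eb)
(.cons (nat_lit 32) (nat_lit 0xe38e279600000000a0050b8700000000c9977e4900000000f572f859)
(.cons (nat_lit 16) (nat_lit 0x40000e103000010cd0000381d0000ed2500006fa600001ea300007da200005c05)
(.cons (nat_lit 8) (nat_lit 0xb9004900ac00ce00d500d200ed00370029004400b400170059001300e400f900b1)
(.cons (nat_lit 4) (nat_lit 0xc0d03020b0b010f05090102030c0a01010809040000030f05080a060102040d0a01)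
(.cons (nat_lit 2) (nat_lit 0x33211020322313133002110023301302111023221201102201310202101003222230)
(.cons (nat_lit 1) (nat_lit 0x15054051540415411101504511454550055010154010400451005405450055005010)
.nil)))))))))))))))))
theorem n25_ok : Net.ok 275 n25 = true := by decide +kernel
noncomputable def n26 : Net := (.cons (nat_lit 1) (nat_lit 0x44055010445044055115001405001045011014511154044411400400401041000400)
(.cons (nat_lit 2) (nat_lit 0x20223032133322103102033002312230301222331111212010302011002211000000)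
(.cons (nat_lit 4) (nat_lit 0x50807050c0601020f0a080107000a0000090f0101080d0706080c00010700080800)
(.cons (nat_lit 8) (nat_lit 0x5008500e000e1008800020022008800a20034008b0060002000c000a700080001)
(.cons (nat_lit 16) (nat_lit 0x100009f2100007d94000049800000099b0000580d00007e6600008a1000002400)
(.cons (nat_lit 32) (nat_lit 0xc2afc25000000002700c48c00000000c34b68920000000000008808)
(.cons (nat_lit 64) (nat_lit 0xc44c69a4001a12820000000000000000000000000001c49e)
(.cons (nat_lit 128) (nat_lit 0x63a05368e85a75f3a75cacc40ea2631e)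
(.cons (nat_lit 256) (nat_lit 0x3ef9f)
(.cons (nat_lit 128) (nat_lit 0x66f12)
(.cons (nat_lit 64) (nat_lit 0x4c62899f0b36126200000000000000009047803ad2698c7e)
(.cons (nat_lit 32) (nat_lit 0xf47f908d00000000a72f4c0c000000006b0be852000000000a4cb18a)
(.cons (nat_lit 16) (nat_lit 0x1000097490000b1fc0000c1a8000089bb00005c7d00007e46000082980000a622)
(.cons (nat_lit 8) (nat_lit 0x8900c90088008b00c00080000e009300fa007f006300b6002c00c800050007004b)
(.cons (nat_lit 4) (nat_lit 0x50103050c060d000b0200090700030102010d0101040d070e0000000b0f0e080800)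
(.cons (nat_lit 2) (nat_lit 0x20223032133322103102033002312230301222331111230010302011022231000000)
(.cons (nat_lit 1) (nat_lit 0x54055010445044055115001405001045011014515154044411400400401041000400)
.nil)))))))))))))))))
theorem n26_ok : Net.ok 275 n26 = true := by decide +kernel
noncomputable def nets : List Net := List.append McLd.nets [n23, n24, n25, n26]
theorem nets_ok : netsOk 275 nets = true := netsOk_append McLd.nets_ok <| List.all_eq_true.2 (fa_cons n23_ok (fa_cons n24_ok (fa_cons n25_ok (fa_cons n26_ok (fa_nil)))))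
noncomputable def ws2 : List Word := []
noncomputable def lev1 : Level := ⟨nat_lit 0,
[⟨[nat_lit 52], [], [],
[⟨nat_lit 0, [], nat_lit 1, [], []⟩,
⟨nat_lit 1, [], nat_lit 0, [], []⟩],
[]⟩],
[⟨dw (nat_lit 0x01), (nat_lit 0x2000000000), [], .nil, []⟩]⟩
noncomputable def ex1 : List Word := []
noncomputable def ws1 : List Word := List.append ex1 (lev1.gens ws2)
noncomputable def rels1 : List (Word × Word) := List.append (lev1.rels ws2) (memRels (lev1.gens ws2) ex1 [])
noncomputable def lev0 : Level := ⟨nat_lit 2,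
[⟨[nat_lit 46], [], [],
[⟨nat_lit 0, [], nat_lit 1, [], []⟩,
⟨nat_lit 1, [], nat_lit 5, [], []⟩,
⟨nat_lit 2, [], nat_lit 0, [], []⟩,
⟨nat_lit 3, [], nat_lit 8, [], []⟩,
⟨nat_lit 4, [], nat_lit 9, dw (nat_lit 0x01), dw (nat_lit 0x01)⟩,
⟨nat_lit 5, [], nat_lit 2, [], []⟩,
⟨nat_lit 6, [], nat_lit 4, [], []⟩,
⟨nat_lit 7, [], nat_lit 4, dw (nat_lit 0x01), dw (nat_lit 0x01)⟩,
⟨nat_lit 8, [], nat_lit 21, [], []⟩,
⟨nat_lit 9, [], nat_lit 3, [], []⟩,
⟨nat_lit 10, [], nat_lit 22, dw (nat_lit 0x01), dw (nat_lit 0x01)⟩,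
⟨nat_lit 11, [], nat_lit 20, dw (nat_lit 0x01), dw (nat_lit 0x01)⟩,
⟨nat_lit 12, [], nat_lit 7, [], []⟩,
⟨nat_lit 13, [], nat_lit 19, dw (nat_lit 0x01), []⟩,
⟨nat_lit 14, [], nat_lit 6, [], []⟩,
⟨nat_lit 15, [], nat_lit 31, [], []⟩,
⟨nat_lit 16, [], nat_lit 33, [], []⟩,
⟨nat_lit 17, [], nat_lit 29, dw (nat_lit 0x01), dw (nat_lit 0x01)⟩,
⟨nat_lit 18, [], nat_lit 1, dw (nat_lit 0x01), []⟩,
⟨nat_lit 19, [], nat_lit 14, dw (nat_lit 0x01), []⟩,
⟨nat_lit 20, [], nat_lit 26, [], dw (nat_lit 0x01)⟩,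
⟨nat_lit 21, [], nat_lit 9, [], []⟩,
⟨nat_lit 22, [], nat_lit 26, dw (nat_lit 0x01), []⟩,
⟨nat_lit 23, [], nat_lit 30, dw (nat_lit 0x01), dw (nat_lit 0x01)⟩,
⟨nat_lit 24, [], nat_lit 27, dw (nat_lit 0x01), []⟩,
⟨nat_lit 25, [], nat_lit 34, [], []⟩,
⟨nat_lit 26, [], nat_lit 16, [], dw (nat_lit 0x01)⟩,
⟨nat_lit 27, [], nat_lit 6, dw (nat_lit 0x01), dw (nat_lit 0x01)⟩,
⟨nat_lit 28, [], nat_lit 15, dw (nat_lit 0x01), dw (nat_lit 0x01)⟩,
⟨nat_lit 29, [], nat_lit 35, [], dw (nat_lit 0x01)⟩,
⟨nat_lit 30, [], nat_lit 5, dw (nat_lit 0x01), []⟩,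
⟨nat_lit 31, [], nat_lit 22, [], []⟩,
⟨nat_lit 32, [], nat_lit 25, dw (nat_lit 0x01), dw (nat_lit 0x01)⟩,
⟨nat_lit 33, [], nat_lit 20, [], []⟩,
⟨nat_lit 34, [], nat_lit 12, dw (nat_lit 0x01), dw (nat_lit 0x01)⟩,
⟨nat_lit 35, [], nat_lit 30, [], dw (nat_lit 0x01)⟩,
⟨nat_lit 1, dw (nat_lit 0x01), nat_lit 17, [], []⟩,
⟨nat_lit 2, dw (nat_lit 0x01), nat_lit 23, [], []⟩,
⟨nat_lit 3, dw (nat_lit 0x01), nat_lit 7, dw (nat_lit 0x01), []⟩,
⟨nat_lit 4, dw (nat_lit 0x01), nat_lit 24, dw (nat_lit 0x01), dw (nat_lit 0x01)⟩,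
⟨nat_lit 5, dw (nat_lit 0x01), nat_lit 29, [], []⟩,
⟨nat_lit 6, dw (nat_lit 0x01), nat_lit 13, dw (nat_lit 0x01), []⟩,
⟨nat_lit 7, dw (nat_lit 0x01), nat_lit 13, [], dw (nat_lit 0x01)⟩,
⟨nat_lit 8, dw (nat_lit 0x01), nat_lit 25, [], dw (nat_lit 0x01)⟩,
⟨nat_lit 9, dw (nat_lit 0x01), nat_lit 14, [], dw (nat_lit 0x01)⟩,
⟨nat_lit 12, dw (nat_lit 0x01), nat_lit 8, dw (nat_lit 0x01), []⟩,
⟨nat_lit 13, dw (nat_lit 0x01), nat_lit 34, dw (nat_lit 0x01), []⟩,
⟨nat_lit 14, dw (nat_lit 0x01), nat_lit 32, [], dw (nat_lit 0x01)⟩,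
⟨nat_lit 15, dw (nat_lit 0x01), nat_lit 11, [], dw (nat_lit 0x01)⟩,
⟨nat_lit 16, dw (nat_lit 0x01), nat_lit 10, [], dw (nat_lit 0x01)⟩,
⟨nat_lit 17, dw (nat_lit 0x01), nat_lit 2, dw (nat_lit 0x01), dw (nat_lit 0x01)⟩,
⟨nat_lit 19, dw (nat_lit 0x01), nat_lit 3, dw (nat_lit 0x01), dw (nat_lit 0x01)⟩,
⟨nat_lit 20, dw (nat_lit 0x01), nat_lit 28, [], dw (nat_lit 0x01)⟩,
⟨nat_lit 21, dw (nat_lit 0x01), nat_lit 24, [], []⟩,
⟨nat_lit 22, dw (nat_lit 0x01), nat_lit 28, dw (nat_lit 0x01), []⟩,
⟨nat_lit 24, dw (nat_lit 0x01), nat_lit 12, [], []⟩,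
⟨nat_lit 25, dw (nat_lit 0x01), nat_lit 19, [], []⟩,
⟨nat_lit 26, dw (nat_lit 0x01), nat_lit 15, [], []⟩,
⟨nat_lit 27, dw (nat_lit 0x01), nat_lit 32, dw (nat_lit 0x01), []⟩,
⟨nat_lit 28, dw (nat_lit 0x01), nat_lit 16, dw (nat_lit 0x01), []⟩,
⟨nat_lit 29, dw (nat_lit 0x01), nat_lit 18, [], dw (nat_lit 0x01)⟩,
⟨nat_lit 30, dw (nat_lit 0x01), nat_lit 17, dw (nat_lit 0x01), []⟩,
⟨nat_lit 32, dw (nat_lit 0x01), nat_lit 21, dw (nat_lit 0x01), []⟩,
⟨nat_lit 34, dw (nat_lit 0x01), nat_lit 27, [], dw (nat_lit 0x01)⟩],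
[]⟩,
⟨[nat_lit 50], [], [],
[⟨nat_lit 0, [], nat_lit 3, [], []⟩,
⟨nat_lit 1, [], nat_lit 6, [], []⟩,
⟨nat_lit 2, [], nat_lit 7, dw (nat_lit 0x01), dw (nat_lit 0x01)⟩,
⟨nat_lit 3, [], nat_lit 10, [], []⟩,
⟨nat_lit 4, [], nat_lit 0, [], []⟩,
⟨nat_lit 5, [], nat_lit 12, [], []⟩,
⟨nat_lit 6, [], nat_lit 15, [], []⟩,
⟨nat_lit 7, [], nat_lit 1, [], []⟩,
⟨nat_lit 8, [], nat_lit 2, [], []⟩,
⟨nat_lit 9, [], nat_lit 2, dw (nat_lit 0x01), dw (nat_lit 0x01)⟩,
⟨nat_lit 10, [], nat_lit 25, [], []⟩,
⟨nat_lit 11, [], nat_lit 4, [], []⟩,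
⟨nat_lit 12, [], nat_lit 28, [], []⟩,
⟨nat_lit 13, [], nat_lit 5, [], []⟩,
⟨nat_lit 14, [], nat_lit 18, [], dw (nat_lit 0x01)⟩,
⟨nat_lit 15, [], nat_lit 32, [], []⟩,
⟨nat_lit 16, [], nat_lit 7, [], []⟩,
⟨nat_lit 17, [], nat_lit 25, dw (nat_lit 0x01), []⟩,
⟨nat_lit 18, [], nat_lit 13, dw (nat_lit 0x01), []⟩,
⟨nat_lit 19, [], nat_lit 1, dw (nat_lit 0x01), []⟩,
⟨nat_lit 20, [], nat_lit 6, dw (nat_lit 0x01), dw (nat_lit 0x01)⟩,
⟨nat_lit 21, [], nat_lit 31, [], []⟩,
⟨nat_lit 22, [], nat_lit 8, [], []⟩,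
⟨nat_lit 23, [], nat_lit 21, [], dw (nat_lit 0x01)⟩,
⟨nat_lit 24, [], nat_lit 20, dw (nat_lit 0x01), []⟩,
⟨nat_lit 25, [], nat_lit 35, [], []⟩,
⟨nat_lit 26, [], nat_lit 3, dw (nat_lit 0x01), []⟩,
⟨nat_lit 27, [], nat_lit 11, [], []⟩,
⟨nat_lit 28, [], nat_lit 21, dw (nat_lit 0x01), dw (nat_lit 0x01)⟩,
⟨nat_lit 29, [], nat_lit 32, dw (nat_lit 0x01), []⟩,
⟨nat_lit 30, [], nat_lit 8, dw (nat_lit 0x01), []⟩,
⟨nat_lit 31, [], nat_lit 14, [], []⟩,
⟨nat_lit 32, [], nat_lit 30, [], dw (nat_lit 0x01)⟩,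
⟨nat_lit 33, [], nat_lit 12, dw (nat_lit 0x01), dw (nat_lit 0x01)⟩,
⟨nat_lit 34, [], nat_lit 16, dw (nat_lit 0x01), dw (nat_lit 0x01)⟩,
⟨nat_lit 35, [], nat_lit 27, [], []⟩,
⟨nat_lit 1, dw (nat_lit 0x01), nat_lit 9, dw (nat_lit 0x01), []⟩,
⟨nat_lit 2, dw (nat_lit 0x01), nat_lit 24, [], []⟩,
⟨nat_lit 3, dw (nat_lit 0x01), nat_lit 17, [], []⟩,
⟨nat_lit 4, dw (nat_lit 0x01), nat_lit 26, [], []⟩,
⟨nat_lit 5, dw (nat_lit 0x01), nat_lit 14, dw (nat_lit 0x01), []⟩,
⟨nat_lit 6, dw (nat_lit 0x01), nat_lit 29, [], []⟩,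
⟨nat_lit 7, dw (nat_lit 0x01), nat_lit 20, [], dw (nat_lit 0x01)⟩,
⟨nat_lit 8, dw (nat_lit 0x01), nat_lit 16, [], dw (nat_lit 0x01)⟩,
⟨nat_lit 9, dw (nat_lit 0x01), nat_lit 15, dw (nat_lit 0x01), []⟩,
⟨nat_lit 12, dw (nat_lit 0x01), nat_lit 23, [], []⟩,
⟨nat_lit 13, dw (nat_lit 0x01), nat_lit 33, [], dw (nat_lit 0x01)⟩,
⟨nat_lit 14, dw (nat_lit 0x01), nat_lit 28, dw (nat_lit 0x01), []⟩,
⟨nat_lit 15, dw (nat_lit 0x01), nat_lit 24, dw (nat_lit 0x01), dw (nat_lit 0x01)⟩,
⟨nat_lit 16, dw (nat_lit 0x01), nat_lit 19, [], []⟩,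
⟨nat_lit 17, dw (nat_lit 0x01), nat_lit 4, dw (nat_lit 0x01), dw (nat_lit 0x01)⟩,
⟨nat_lit 19, dw (nat_lit 0x01), nat_lit 22, dw (nat_lit 0x01), dw (nat_lit 0x01)⟩,
⟨nat_lit 20, dw (nat_lit 0x01), nat_lit 34, dw (nat_lit 0x01), []⟩,
⟨nat_lit 21, dw (nat_lit 0x01), nat_lit 5, dw (nat_lit 0x01), []⟩,
⟨nat_lit 22, dw (nat_lit 0x01), nat_lit 9, [], dw (nat_lit 0x01)⟩,
⟨nat_lit 24, dw (nat_lit 0x01), nat_lit 30, dw (nat_lit 0x01), []⟩,
⟨nat_lit 25, dw (nat_lit 0x01), nat_lit 26, dw (nat_lit 0x01), dw (nat_lit 0x01)⟩,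
⟨nat_lit 26, dw (nat_lit 0x01), nat_lit 27, dw (nat_lit 0x01), dw (nat_lit 0x01)⟩,
⟨nat_lit 27, dw (nat_lit 0x01), nat_lit 17, dw (nat_lit 0x01), dw (nat_lit 0x01)⟩,
⟨nat_lit 28, dw (nat_lit 0x01), nat_lit 13, [], dw (nat_lit 0x01)⟩,
⟨nat_lit 29, dw (nat_lit 0x01), nat_lit 19, dw (nat_lit 0x01), []⟩,
⟨nat_lit 30, dw (nat_lit 0x01), nat_lit 34, [], []⟩,
⟨nat_lit 32, dw (nat_lit 0x01), nat_lit 22, [], dw (nat_lit 0x01)⟩,
⟨nat_lit 34, dw (nat_lit 0x01), nat_lit 29, dw (nat_lit 0x01), dw (nat_lit 0x01)⟩],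
[]⟩],
[⟨dw (nat_lit 0x01), (nat_lit 0x1000400000000000000000000000000000000000000000000), [dw (nat_lit 0x01)], .nil, []⟩,
⟨dw (nat_lit 0x02), (nat_lit 0x8000000000000000000000000000040), [dw (nat_lit 0x01)], .nil, []⟩,
⟨dw (nat_lit 0x03), (nat_lit 0x100000000000400000), [dw (nat_lit 0x01)], .nil, []⟩,
⟨dw (nat_lit 0x04), (nat_lit 0x800000000001000000000000000000000000000000000000000000000000000), [dw (nat_lit 0x01)], .nil, []⟩,
⟨dw (nat_lit 0x0101), (nat_lit 0x800000000400000000000000000000000000000000000000000000000000), [dw (nat_lit 0x01)], .nil, []⟩,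
⟨dw (nat_lit 0x0301), (nat_lit 0x100000000000000000000000000000000000000000000000000000000000000000100), [dw (nat_lit 0x01)], .nil, []⟩,
⟨dw (nat_lit 0x0401), (nat_lit 0x20800000000000000000000000000000), [dw (nat_lit 0x01)], .nil, []⟩,
⟨dw (nat_lit 0x0402), (nat_lit 0x4000000080000000000000000000000000000000000000000000000), [dw (nat_lit 0x01)], .nil, []⟩,
⟨dw (nat_lit 0x0203), (nat_lit 0x22000000000000000000000), [dw (nat_lit 0x01)], .nil, []⟩,
⟨dw (nat_lit 0x0303), (nat_lit 0x10000000000000000000000000000000000000000000000000000000000000), [], (.cons (nat_lit 0) [dw (nat_lit 0x01)] [dw (nat_lit 0x01)]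
.nil), [dw (nat_lit 0x01)]⟩,
⟨dw (nat_lit 0x0404), (nat_lit 0x10000000000000), [], (.cons (nat_lit 0) [dw (nat_lit 0x01)] [dw (nat_lit 0x01)]
.nil), [dw (nat_lit 0x01)]⟩,
⟨dw (nat_lit 0x030101), (nat_lit 0x200000008000000000000000000000000000000000000000000000000000000000000), [dw (nat_lit 0x01)], .nil, []⟩,
⟨dw (nat_lit 0x040101), (nat_lit 0x2002000000000000000000000000000000000000), [dw (nat_lit 0x01)], .nil, []⟩,
⟨dw (nat_lit 0x020301), (nat_lit 0x20000000000000000000000000080000000000000000000000000000000000000), [dw (nat_lit 0x01)], .nil, []⟩,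
⟨dw (nat_lit 0x030301), (nat_lit 0x200000000000000000000000000000000000000000000400000000000000000), [dw (nat_lit 0x01)], .nil, []⟩,
⟨dw (nat_lit 0x040401), (nat_lit 0x200000000000000000800000000000000000000000000000000000000000), [dw (nat_lit 0x01)], .nil, []⟩,
⟨dw (nat_lit 0x010501), (nat_lit 0x10000000000000000000000000000008), [dw (nat_lit 0x01)], .nil, []⟩,
⟨dw (nat_lit 0x020501), (nat_lit 0x400000000000000000000), [], (.cons (nat_lit 0) [dw (nat_lit 0x01)] [dw (nat_lit 0x01)]
.nil), [dw (nat_lit 0x01)]⟩,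
⟨dw (nat_lit 0x040501), (nat_lit 0x10004000000000000000000000000000000), [dw (nat_lit 0x01)], .nil, []⟩,
⟨dw (nat_lit 0x030302), (nat_lit 0x80020000000), [dw (nat_lit 0x01)], .nil, []⟩,
⟨dw (nat_lit 0x010402), (nat_lit 0x10000000000000000000000000000000000000800000000000000000000), [dw (nat_lit 0x01)], .nil, []⟩,
⟨dw (nat_lit 0x040402), (nat_lit 0x10000000000000000000000000000000000000000000001000000), [dw (nat_lit 0x01)], .nil, []⟩,
⟨dw (nat_lit 0x010502), (nat_lit 0x200000000000000000000000), [], (.cons (nat_lit 0) [dw (nat_lit 0x01)] [dw (nat_lit 0x01)]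
.nil), [dw (nat_lit 0x01)]⟩,
⟨dw (nat_lit 0x030502), (nat_lit 0x80000000000000000000008000000000000), [dw (nat_lit 0x01)], .nil, []⟩,
⟨dw (nat_lit 0x030303), (nat_lit 0x80000000000000000000000000000000000000000000000000000000200000), [dw (nat_lit 0x01)], .nil, []⟩,
⟨dw (nat_lit 0x040503), (nat_lit 0x10000000000000000000000000000000000000000000800), [dw (nat_lit 0x01)], .nil, []⟩,
⟨dw (nat_lit 0x040404), (nat_lit 0x4000000000000000000000000080000000000000000000000000000000000000000), [dw (nat_lit 0x01)], .nil, []⟩,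
⟨dw (nat_lit 0x03030101), (nat_lit 0x400000000000000000000000000000000000000000000000000010), [dw (nat_lit 0x01)], .nil, []⟩,
⟨dw (nat_lit 0x01050101), (nat_lit 0x4000000000000020000000000000000000000000000000000000000000), [dw (nat_lit 0x01)], .nil, []⟩,
⟨dw (nat_lit 0x02050101), (nat_lit 0x400000000000000100000000000000000000), [dw (nat_lit 0x01)], .nil, []⟩,
⟨dw (nat_lit 0x04020301), (nat_lit 0x200000000000000), [], (.cons (nat_lit 0) [dw (nat_lit 0x01)] [dw (nat_lit 0x01)]
.nil), [dw (nat_lit 0x01)]⟩,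
⟨dw (nat_lit 0x03030301), (nat_lit 0x100000000000000000002000000000000000000000000000000000), [dw (nat_lit 0x01)], .nil, []⟩,
⟨dw (nat_lit 0x01040401), (nat_lit 0x800000000000000000000000000000000000000000000000000000000000000000), [], (.cons (nat_lit 0) [dw (nat_lit 0x01)] [dw (nat_lit 0x01)]
.nil), [dw (nat_lit 0x01)]⟩,
⟨dw (nat_lit 0x04020303), (nat_lit 0x100000000000010000000000000000000000), [dw (nat_lit 0x01)], .nil, []⟩,
⟨dw (nat_lit 0x03030303), (nat_lit 0x2000000000000000000000000000000000000000000000), [], (.cons (nat_lit 0) [dw (nat_lit 0x01)] [dw (nat_lit 0x01)]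
.nil), [dw (nat_lit 0x01)]⟩]⟩
noncomputable def ex0 : List Word := [[nat_lit 48]]
noncomputable def ws0 : List Word := List.append ex0 (lev0.gens ws1)
noncomputable def rels0 : List (Word × Word) := List.append (lev0.rels ws1) (memRels (lev0.gens ws1) ex0 [dw (nat_lit 0x0404010105)])
noncomputable def rels : List (Word × Word) := List.append rels0 (List.append rels1 ([]))
noncomputable def defs : List Word := [dw (nat_lit 0x0422022b22262a252c292c2d), dw (nat_lit 0x2a1f012321212d28232e28), dw (nat_lit 0x20030324211f2a2327), dw (nat_lit 0x3133303431303233323332)]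
noncomputable def relsD : List (Word × Word) := defRels defs 23
noncomputable def relsO : List (Word × Word) := []
noncomputable def relsS : List (Word × Word) := []
noncomputable def allRels : List (Word × Word) := List.append rels (List.append relsD (List.append relsO relsS))
theorem chk1 : lev1.chk 275 nets ws2 1 2 = true := by decide +kernel
theorem chk0 : lev0.chk 275 nets ws1 2 128 = true := by decide +kernel
theorem rc0 : relsChk 275 nets 9 (idArr 275 9 9 0) allRels = true := by decide +kernel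
section
variable {Γ Ω : Type*} [Group Γ] [MulAction Γ Ω] (M : PM Γ Ω 275 nets)

theorem all_ok (hs : M.Sep 9 (idArr 275 9 9 0)) : Rels M.gen allRels := (M.rels_of_chk hs rc0)
theorem sep [FaithfulSMul Γ Ω] : M.Sep 9 (idArr 275 9 9 0) := M.sep_idArr (by decide)
theorem all_ok' [FaithfulSMul Γ Ω] : Rels M.gen allRels := all_ok M (sep M)
theorem rels_of_all {gen : ℕ → Γ} (h : Rels gen allRels) : Rels gen rels := Rels.left h
theorem relsD_of_all {gen : ℕ → Γ} (h : Rels gen allRels) : Rels gen relsD := Rels.left (Rels.right h)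
theorem relsO_of_all {gen : ℕ → Γ} (h : Rels gen allRels) : Rels gen relsO := Rels.left (Rels.right (Rels.right h))
theorem relsS_of_all {gen : ℕ → Γ} (h : Rels gen allRels) : Rels gen relsS := Rels.right (Rels.right (Rels.right h))
theorem card2 (_hR : Rels M.gen rels) : Nat.card (sub M.gen ws2) = 1 := M.card_nil
theorem fixw2 (_hR : Rels M.gen rels) : M.FixTriv ws2 [] := M.fixTriv_nil
theorem r1 (hR : Rels M.gen rels) : Rels M.gen rels1 := (Rels.left (Rels.right hR))
theorem res1 (hR : Rels M.gen rels) : M.LevelRes ws2 lev1 2 := M.level (card2 M hR) chk1 (Rels.left (r1 M hR))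
theorem ext1 (hR : Rels M.gen rels) : sub M.gen ws1 = sub M.gen (lev1.gens ws2) := sub_extend (Rels.right (r1 M hR))
theorem card1 (hR : Rels M.gen rels) : Nat.card (sub M.gen ws1) = 2 := by rw [ext1 M hR]; exact (res1 M hR).card
theorem fix1 (hR : Rels M.gen rels) : M.FixTriv (lev1.gens ws2) [0] := (res1 M hR).fixTriv M (fixw2 M hR)
theorem fixw1 (hR : Rels M.gen rels) : M.FixTriv ws1 [0] := fun g hg => fix1 M hR g (ext1 M hR ▸ hg)
theorem stab1 (hR : Rels M.gen rels) : sub M.gen ws1 ⊓ MulAction.stabilizer Γ (M.dec 0) = sub M.gen ws2 := by rw [ext1 M hR]; exact (res1 M hR).stab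
theorem orb1 (hR : Rels M.gen rels) (y : Ω) : y ∈ M.S lev1.orb ↔ ∃ g ∈ sub M.gen ws1, g • M.dec 0 = y := by rw [ext1 M hR]; exact (res1 M hR).orb y
theorem r0 (hR : Rels M.gen rels) : Rels M.gen rels0 := (Rels.left hR)
theorem res0 (hR : Rels M.gen rels) : M.LevelRes ws1 lev0 128 := M.level (card1 M hR) chk0 (Rels.left (r0 M hR))
theorem ext0 (hR : Rels M.gen rels) : sub M.gen ws0 = sub M.gen (lev0.gens ws1) := sub_extend (Rels.right (r0 M hR))
theorem card0 (hR : Rels M.gen rels) : Nat.card (sub M.gen ws0) = 128 := by rw [ext0 M hR]; exact (res0 M hR).card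
theorem fix0 (hR : Rels M.gen rels) : M.FixTriv (lev0.gens ws1) [2, 0] := (res0 M hR).fixTriv M (fixw1 M hR)
theorem fixw0 (hR : Rels M.gen rels) : M.FixTriv ws0 [2, 0] := fun g hg => fix0 M hR g (ext0 M hR ▸ hg)
theorem stab0 (hR : Rels M.gen rels) : sub M.gen ws0 ⊓ MulAction.stabilizer Γ (M.dec 2) = sub M.gen ws1 := by rw [ext0 M hR]; exact (res0 M hR).stab
theorem orb0 (hR : Rels M.gen rels) (y : Ω) : y ∈ M.S lev0.orb ↔ ∃ g ∈ sub M.gen ws0, g • M.dec 2 = y := by rw [ext0 M hR]; exact (res0 M hR).orb y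
theorem gen_mem {gen : ℕ → Γ} (h : Rels gen allRels) {X : Subgroup Γ} (h0 : ∀ l < 23, gen l ∈ X) : sub gen ws0 ≤ X :=
  sub_le_of_wsIn (lo := 0) (gen_mem_of_defRels (ds := defs) (fun l _ hl => h0 l hl) (by decide +kernel) (relsD_of_all h)) (by decide +kernel)
theorem exists_ext [FaithfulSMul Γ Ω] (M0 : PM Γ Ω 275 McLd.nets) : ∃ M' : PM Γ Ω 275 nets, M0.Ext M' :=
  M0.exists_ext rfl (relsD_of_all (all_ok' (permPM 275 nets (by norm_num) (by norm_num) nets_ok))) (by decide +kernel)

end

open Cfsg MulAction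
open scoped Pointwise

noncomputable def M : PM CM TM 275 nets := (exists_ext McLd.M).choose
theorem hE : McLd.M.Ext M := (exists_ext McLd.M).choose_spec
theorem hR : Rels M.gen rels := rels_of_all (all_ok' M)
noncomputable def sTs2 : List (List Word) := []
noncomputable def sTs1 : List (List Word) := List.map (flat H14.FMc.ws1) [[], dw (nat_lit 0x02)] :: sTs2
noncomputable def sTs0 : List (List Word) := List.map (flat H14.FMc.ws0) [[], dw (nat_lit 0x02), dw (nat_lit 0x01), dw (nat_lit 0x04), dw (nat_lit 0x03), dw (nat_lit 0x06), dw (nat_lit 0x05), dw (nat_lit 0x0202)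
, dw (nat_lit 0x0204), dw (nat_lit 0x0203), dw (nat_lit 0x0206), dw (nat_lit 0x0205), dw (nat_lit 0x0104), dw (nat_lit 0x0103), dw (nat_lit 0x0106), dw (nat_lit 0x0105)
, dw (nat_lit 0x0404), dw (nat_lit 0x0406), dw (nat_lit 0x0405), dw (nat_lit 0x0408), dw (nat_lit 0x0306), dw (nat_lit 0x0305), dw (nat_lit 0x0308), dw (nat_lit 0x0603)
, dw (nat_lit 0x0606), dw (nat_lit 0x0608), dw (nat_lit 0x0504), dw (nat_lit 0x0505), dw (nat_lit 0x0508), dw (nat_lit 0x020204), dw (nat_lit 0x020203), dw (nat_lit 0x020206)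
, dw (nat_lit 0x020205), dw (nat_lit 0x020406), dw (nat_lit 0x020405), dw (nat_lit 0x020408), dw (nat_lit 0x020305), dw (nat_lit 0x020308), dw (nat_lit 0x020608), dw (nat_lit 0x020504)
, dw (nat_lit 0x020505), dw (nat_lit 0x020508), dw (nat_lit 0x010406), dw (nat_lit 0x010408), dw (nat_lit 0x010306), dw (nat_lit 0x010305), dw (nat_lit 0x010308), dw (nat_lit 0x010603)
, dw (nat_lit 0x010608), dw (nat_lit 0x010508), dw (nat_lit 0x040608), dw (nat_lit 0x040804), dw (nat_lit 0x040803), dw (nat_lit 0x030508), dw (nat_lit 0x030804), dw (nat_lit 0x030803)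
, dw (nat_lit 0x060805), dw (nat_lit 0x02020408), dw (nat_lit 0x02020308), dw (nat_lit 0x02020608), dw (nat_lit 0x02020508), dw (nat_lit 0x02040804), dw (nat_lit 0x02030804), dw (nat_lit 0x02030803)
] :: sTs1
theorem scov2 : Cover M.gen (sub M.gen H14.FMc.ws2) sTs2 := Cover.nil
theorem scov1 : Cover M.gen (sub M.gen H14.FMc.ws1) sTs1 :=
  M.cover_step (H14.FMc.stab1 M hR) (H14.FMc.orb1 M hR) (by decide +kernel) scov2
theorem scov0 : Cover M.gen (sub M.gen H14.FMc.ws0) sTs0 :=
  M.cover_step (H14.FMc.stab0 M hR) (H14.FMc.orb0 M hR) (by decide +kernel) scov1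
theorem xe0 : sub M.gen ws0 ⊓ M.fixL [] = sub M.gen ws0 := M.inf_fixL_nil rfl
theorem xe1 : sub M.gen ws0 ⊓ M.fixL [2] = sub M.gen ws1 := M.inf_fixL_cons xe0 (stab0 M hR)
theorem xe2 : sub M.gen ws0 ⊓ M.fixL [0, 2] = sub M.gen ws2 := M.inf_fixL_cons xe1 (stab1 M hR)
abbrev A := ((⊤ : Subgroup CM)) ⊓ Subgroup.normalizer (sub M.gen ws0 : Set _)
noncomputable def z : Word := flat ws0 (dw (nat_lit 0x0101))
theorem zc : enumA (arF 275 nets 9) (fun w A => !commAll 275 nets 9 ws0 w A || (Nat.beq A (arI 275 9) || Nat.beq A (arW 275 nets 9 z))) sTs0 [] (arI 275 9) = true := by decide +kernel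
theorem hz : A ≤ Subgroup.centralizer {ev M.gen z} := inf_le_right.trans (M.nml_comm (by norm_num) (by norm_num) scov0 _ zc (by decide +kernel))
theorem i1 : M.Inv (A ⊓ M.fixL []) (nat_lit 0x7ffffffffffffffffffffffffffffffffffffffffffffffffffffffffffffffffffff) :=
  (PM.Inv.full).of_eq (by decide +kernel)
theorem i2 : M.Inv (A ⊓ M.fixL []) (nat_lit 0x4004864004202880008000000002300042004000108260010000040a490000808a080) :=
  (PM.Inv.fix (D := 9) (by norm_num) (z := z) (M.comm_of_le hz)).of_eq (by decide +kernel)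
theorem i3 : M.Inv (A ⊓ M.fixL []) (nat_lit 0x3ffb79bffbdfd77fff7ffffffffdcfffbdffbfffef7d9ffefffffbf5b6ffff7f75f7f) :=
  (i1.sdf i2).of_eq (by decide +kernel)
theorem i4 : M.Inv (A ⊓ M.fixL []) (nat_lit 0x200000008000000000200000004000000000000000000a0800000000080) :=
  PM.Inv.orbit (s := 7) (sc := [dw (nat_lit 0x01), dw (nat_lit 0x03), dw (nat_lit 0x05)]) (l := [(nat_lit 13, (nat_lit 0x2000000000000000000000000000000000000020000000000000100000002000), [dw (nat_lit 0x01), dw (nat_lit 0x05)]),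
 (nat_lit 15, (nat_lit 0x200000000000000000000000000000000000000000000000000008000), [dw (nat_lit 0x01)]),
 (nat_lit 19, (nat_lit 0x84400400088000000000000010004200000010802001000004004000000080000), [dw (nat_lit 0x01), dw (nat_lit 0x03), dw (nat_lit 0x07), dw (nat_lit 0x05), dw (nat_lit 0x01)]),
 (nat_lit 27, (nat_lit 0x400000000000000000000000200000000000000004000000000000000008000000), [dw (nat_lit 0x01), dw (nat_lit 0x03)]),
 (nat_lit 274, (nat_lit 0x400000000000000000000000000000000000000000000000000000000000000000000), [])]) (PM.nml_of xe0 (by decide +kernel)) i2 (by decide +kernel)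
theorem i5 : M.Inv (A ⊓ M.fixL []) (nat_lit 0x40048640040028800000000000021000420000001082600100000400410000808a000) :=
  (i2.sdf i4).of_eq (by decide +kernel)
theorem i6 : M.Inv (A ⊓ M.fixL []) (nat_lit 0x200000000000000000000000000000000000000000000000000008000) :=
  PM.Inv.orbit (s := 15) (sc := [dw (nat_lit 0x01)]) (l := [(nat_lit 7, (nat_lit 0x200000008000000000200000004000000000000000000a0800000000080), [dw (nat_lit 0x01), dw (nat_lit 0x03), dw (nat_lit 0x05)]),
 (nat_lit 13, (nat_lit 0x2000000000000000000000000000000000000020000000000000100000002000), [dw (nat_lit 0x01), dw (nat_lit 0x05)]),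
 (nat_lit 19, (nat_lit 0x84400400088000000000000010004200000010802001000004004000000080000), [dw (nat_lit 0x01), dw (nat_lit 0x03), dw (nat_lit 0x07), dw (nat_lit 0x05), dw (nat_lit 0x01)]),
 (nat_lit 27, (nat_lit 0x400000000000000000000000200000000000000004000000000000000008000000), [dw (nat_lit 0x01), dw (nat_lit 0x03)]),
 (nat_lit 274, (nat_lit 0x400000000000000000000000000000000000000000000000000000000000000000000), [])]) (PM.nml_of xe0 (by decide +kernel)) i2 (by decide +kernel)
theorem i7 : M.Inv (A ⊓ M.fixL []) (nat_lit 0x400486400400088000000000000210004200000010826001000004004100008082000) :=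
  (i5.sdf i6).of_eq (by decide +kernel)
theorem i8 : M.Inv (A ⊓ M.fixL []) (nat_lit 0x84400400088000000000000010004200000010802001000004004000000080000) :=
  PM.Inv.orbit (s := 19) (sc := [dw (nat_lit 0x01), dw (nat_lit 0x03), dw (nat_lit 0x07), dw (nat_lit 0x05), dw (nat_lit 0x01)]) (l := [(nat_lit 7, (nat_lit 0x200000008000000000200000004000000000000000000a0800000000080), [dw (nat_lit 0x01), dw (nat_lit 0x03), dw (nat_lit 0x05)]),
 (nat_lit 13, (nat_lit 0x2000000000000000000000000000000000000020000000000000100000002000), [dw (nat_lit 0x01), dw (nat_lit 0x05)]),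
 (nat_lit 15, (nat_lit 0x200000000000000000000000000000000000000000000000000008000), [dw (nat_lit 0x01)]),
 (nat_lit 27, (nat_lit 0x400000000000000000000000200000000000000004000000000000000008000000), [dw (nat_lit 0x01), dw (nat_lit 0x03)]),
 (nat_lit 274, (nat_lit 0x400000000000000000000000000000000000000000000000000000000000000000000), [])]) (PM.nml_of xe0 (by decide +kernel)) i2 (by decide +kernel)
theorem i9 : M.Inv (A ⊓ M.fixL []) (nat_lit 0x400402000000000000000000000200000000000000024000000000000100008002000) :=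
  (i7.sdf i8).of_eq (by decide +kernel)
theorem i10 : M.Inv (A ⊓ M.fixL []) (nat_lit 0x400000000000000000000000000000000000000000000000000000000000000000000) :=
  PM.Inv.orbit (s := 274) (sc := []) (l := [(nat_lit 7, (nat_lit 0x200000008000000000200000004000000000000000000a0800000000080), [dw (nat_lit 0x01), dw (nat_lit 0x03), dw (nat_lit 0x05)]),
 (nat_lit 13, (nat_lit 0x2000000000000000000000000000000000000020000000000000100000002000), [dw (nat_lit 0x01), dw (nat_lit 0x05)]),
 (nat_lit 15, (nat_lit 0x200000000000000000000000000000000000000000000000000008000), [dw (nat_lit 0x01)]),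
 (nat_lit 19, (nat_lit 0x84400400088000000000000010004200000010802001000004004000000080000), [dw (nat_lit 0x01), dw (nat_lit 0x03), dw (nat_lit 0x07), dw (nat_lit 0x05), dw (nat_lit 0x01)]),
 (nat_lit 27, (nat_lit 0x400000000000000000000000200000000000000004000000000000000008000000), [dw (nat_lit 0x01), dw (nat_lit 0x03)])]) (PM.nml_of xe0 (by decide +kernel)) i2 (by decide +kernel)
theorem i11 : M.Inv (A ⊓ M.fixL []) (nat_lit 0x402000000000000000000000200000000000000024000000000000100008002000) :=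
  (i9.sdf i10).of_eq (by decide +kernel)
theorem i12 : M.Inv (A ⊓ M.fixL []) (nat_lit 0x304820a98a1400451140109242088208259203c800000232d0050021808002160095c) :=
  PM.Inv.orbit (s := 2) (sc := [dw (nat_lit 0x01), dw (nat_lit 0x03), dw (nat_lit 0x05), dw (nat_lit 0x01), dw (nat_lit 0x07), dw (nat_lit 0x03), dw (nat_lit 0x05), dw (nat_lit 0x03)
]) (l := [(nat_lit 0, (nat_lit 0x60000000080000020000100020601080002001000002010800001), [dw (nat_lit 0x01), dw (nat_lit 0x03), dw (nat_lit 0x07), dw (nat_lit 0x0202)]),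
 (nat_lit 1, (nat_lit 0x200100000c0001000040801048008200020080044000148014a02140220000024202), [dw (nat_lit 0x01), dw (nat_lit 0x03), dw (nat_lit 0x05), dw (nat_lit 0x01), dw (nat_lit 0x07), dw (nat_lit 0x03)]),
 (nat_lit 5, (nat_lit 0x140009000002000200004400000008002000000000001000800001800100020), [dw (nat_lit 0x01), dw (nat_lit 0x03), dw (nat_lit 0x01), dw (nat_lit 0x03), dw (nat_lit 0x05)]),
 (nat_lit 10, (nat_lit 0x1000000040800004108002004018000000101000000000020003000000000400), [dw (nat_lit 0x01), dw (nat_lit 0x05), dw (nat_lit 0x01), dw (nat_lit 0x07), dw (nat_lit 0x01)]),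
 (nat_lit 12, (nat_lit 0x1a000000000902204100400100000001800200608050004008080400418344011000), [dw (nat_lit 0x01), dw (nat_lit 0x03), dw (nat_lit 0x07), dw (nat_lit 0x03), dw (nat_lit 0x05), dw (nat_lit 0x01), dw (nat_lit 0x01)]),
 (nat_lit 18, (nat_lit 0x41000023002000000020000001000000001041000180000040000000000080040000), [dw (nat_lit 0x01), dw (nat_lit 0x03), dw (nat_lit 0x05), dw (nat_lit 0x01), dw (nat_lit 0x05)]),
 (nat_lit 25, (nat_lit 0x80000000000000000288060800000840000000000008c00020048000000002000000), [dw (nat_lit 0x01), dw (nat_lit 0x03), dw (nat_lit 0x07), dw (nat_lit 0x01), dw (nat_lit 0x03)]),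
 (nat_lit 34, (nat_lit 0x148000000410008012000010140100040000000000000000010000004400000000), [dw (nat_lit 0x01), dw (nat_lit 0x05), dw (nat_lit 0x07), dw (nat_lit 0x03), dw (nat_lit 0x01), dw (nat_lit 0x01)]),
 (nat_lit 42, (nat_lit 0x200004100020080000004200001400004800082000000280000000040000000000), [dw (nat_lit 0x01), dw (nat_lit 0x05), dw (nat_lit 0x01), dw (nat_lit 0x03), dw (nat_lit 0x01)])]) (PM.nml_of xe0 (by decide +kernel)) i3 (by decide +kernel)
theorem i14 : M.Inv (A ⊓ M.fixL []) (nat_lit 0xc134916710b4708ea2be36ca97545d7804d9431a3789c802e3079803047c92940421) :=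
  PM.Inv.orbits 16 [(nat_lit 0, (nat_lit 0x60000000080000020000100020601080002001000002010800001), [dw (nat_lit 0x01), dw (nat_lit 0x03), dw (nat_lit 0x07), dw (nat_lit 0x01), dw (nat_lit 0x01)]),
 (nat_lit 5, (nat_lit 0x140009000002000200004400000008002000000000001000800001800100020), [dw (nat_lit 0x01), dw (nat_lit 0x03), dw (nat_lit 0x01), dw (nat_lit 0x03), dw (nat_lit 0x05)]),
 (nat_lit 10, (nat_lit 0x1000000040800004108002004018000000101000000000020003000000000400), [dw (nat_lit 0x01), dw (nat_lit 0x05), dw (nat_lit 0x01), dw (nat_lit 0x07), dw (nat_lit 0x01)]),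
 (nat_lit 18, (nat_lit 0x41000023002000000020000001000000001041000180000040000000000080040000), [dw (nat_lit 0x01), dw (nat_lit 0x03), dw (nat_lit 0x05), dw (nat_lit 0x01), dw (nat_lit 0x05)]),
 (nat_lit 25, (nat_lit 0x80000000000000000288060800000840000000000008c00020048000000002000000), [dw (nat_lit 0x01), dw (nat_lit 0x03), dw (nat_lit 0x07), dw (nat_lit 0x01), dw (nat_lit 0x03)]),
 (nat_lit 34, (nat_lit 0x148000000410008012000010140100040000000000000000010000004400000000), [dw (nat_lit 0x01), dw (nat_lit 0x05), dw (nat_lit 0x07), dw (nat_lit 0x03), dw (nat_lit 0x01), dw (nat_lit 0x01)]),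
 (nat_lit 42, (nat_lit 0x200004100020080000004200001400004800082000000280000000040000000000), [dw (nat_lit 0x01), dw (nat_lit 0x05), dw (nat_lit 0x01), dw (nat_lit 0x03), dw (nat_lit 0x01)])] [(nat_lit 1, (nat_lit 0x200100000c0001000040801048008200020080044000148014a02140220000024202), [dw (nat_lit 0x01), dw (nat_lit 0x03), dw (nat_lit 0x05), dw (nat_lit 0x01), dw (nat_lit 0x07), dw (nat_lit 0x03)]),
 (nat_lit 2, (nat_lit 0x304820a98a1400451140109242088208259203c800000232d0050021808002160095c), [dw (nat_lit 0x01), dw (nat_lit 0x03), dw (nat_lit 0x05), dw (nat_lit 0x01), dw (nat_lit 0x07), dw (nat_lit 0x03), dw (nat_lit 0x05), dw (nat_lit 0x03)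
]),
 (nat_lit 12, (nat_lit 0x1a000000000902204100400100000001800200608050004008080400418344011000), [dw (nat_lit 0x01), dw (nat_lit 0x03), dw (nat_lit 0x07), dw (nat_lit 0x03), dw (nat_lit 0x05), dw (nat_lit 0x01), dw (nat_lit 0x01)])] (PM.nml_of xe0 (by decide +kernel)) i3 (by decide +kernel)
theorem i16 : M.Inv (A ⊓ M.fixL [274]) (nat_lit 0x3bec32a98af4b07715fc9cf3d68aaaac3db26bce4c07cf7ed3cfca7f8fb836f63fbde) :=
  (PM.Inv.conjL (hE.fix_eq McLd.eq1 (by decide +kernel)) (dw (nat_lit 0x2c1f03)) (Y := (nat_lit 0x1b79da57b1395effa2ef739e677511b5d385baeb339cf9af6c62b8e7d35e598b4daba)) (by decide +kernel)).of_eq (by decide +kernel)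
theorem i18 : M.Inv (A ⊓ M.fixL [274]) (nat_lit 0x4134916710b4708ea03630c29754553804d9431a37810802c3031803047c90940421) :=
  ((i14.lift (by decide +kernel)).sdf i16).of_eq (by decide +kernel)
theorem i19 : M.Inv (A ⊓ M.fixL [274]) (nat_lit 0x77fdffebbed6fdff7d577d9b5fbbde3bfff33fdf7dff73ffd5efb775f7be7fdefff5f) :=
  (PM.Inv.nbr (hE.fix_eq McLd.eq1 (by decide +kernel)) [dw (nat_lit 0x0302), dw (nat_lit 0x282003)] (nat_lit 0x1b79da57b1395effa2ef739e677511b5d385baeb339cf9af6c62b8e7d35e598b4daba) (i6.lift (by decide +kernel)) (by decide +kernel)).of_eq (by decide +kernel)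
theorem i20 : M.Inv (A ⊓ M.fixL [274]) (nat_lit 0x41149023002450868036108093144138041141121781080042031003006490840401) :=
  (i18.land i19).of_eq (by decide +kernel)
theorem i21 : M.Inv (A ⊓ M.fixL [274]) (nat_lit 0x20014410902008200020420440140000c802082000000281000800041800100020) :=
  (i18.sdf i19).of_eq (by decide +kernel)
theorem i22 : M.Inv (A ⊓ M.fixL [274]) (nat_lit 0xba3dc5445e9dbb2eebdae65bdc579f65a6cf826fee5bdcd2bfadfde4e7ff569b52a3) :=
  (PM.Inv.nbr (hE.fix_eq McLd.eq1 (by decide +kernel)) [dw (nat_lit 0x0302), dw (nat_lit 0x282003)] (nat_lit 0x648625a84ec6a1005d108c61988aee4a2c7a4514cc630650939d47182ca1a674b2544) (i6.lift (by decide +kernel)) (by decide +kernel)).of_eq (by decide +kernel)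
theorem i24 : M.Inv (A ⊓ M.fixL [274]) (nat_lit 0x41001023002040800024108003004018001041101180000040020003000080040400) :=
  (i20.sdf i22).of_eq (by decide +kernel)
theorem i25 : M.Inv (A ⊓ M.fixL [2, 274]) (nat_lit 0x4) :=
  (PM.Inv.pt (b := 2) (by decide +kernel)).of_eq (by decide +kernel)
theorem i26 : M.Inv (A ⊓ M.fixL [2, 274]) (nat_lit 0x304820a98a1400451140109242088208259203c800000232d00500218080021600958) :=
  ((i12.lift (by decide +kernel)).sdf i25).of_eq (by decide +kernel)
theorem i27 : M.Inv (A ⊓ M.fixL [2, 274]) (nat_lit 0x20000000000000000000000000000000000000000000000000000000080) :=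
  PM.Inv.orbit (s := 7) (sc := [dw (nat_lit 0x01)]) (l := [(nat_lit 47, (nat_lit 0x800000000000), []),
 (nat_lit 53, (nat_lit 0x20000000000000), []),
 (nat_lit 55, (nat_lit 0x80000000000000), []),
 (nat_lit 130, (nat_lit 0x400000000000000000000000000000000), []),
 (nat_lit 161, (nat_lit 0x20000000000000000000000000000000000000000), []),
 (nat_lit 203, (nat_lit 0x800000000000000000000000000000000000000000000000000), [])]) (PM.nml_of xe1 (by decide +kernel)) (i4.lift (by decide +kernel)) (by decide +kernel)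
theorem i28 : M.Inv (A ⊓ M.fixL [2, 274]) (nat_lit 0x8000000000200000004000000000000000000a0800000000000) :=
  ((i4.lift (by decide +kernel)).sdf i27).of_eq (by decide +kernel)
theorem i29 : M.Inv (A ⊓ M.fixL [2, 274]) (nat_lit 0x400000000000000000000000200000000000000000000000000000100000002000) :=
  PM.Inv.orbits 1 [(nat_lit 13, (nat_lit 0x2000), []),
 (nat_lit 44, (nat_lit 0x100000000000), []),
 (nat_lit 165, (nat_lit 0x200000000000000000000000000000000000000000), []),
 (nat_lit 262, (nat_lit 0x400000000000000000000000000000000000000000000000000000000000000000), [])] [(nat_lit 27, (nat_lit 0x4000000000000000008000000), [dw (nat_lit 0x01)]),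
 (nat_lit 101, (nat_lit 0x2000000000000000000000000000000000000020000000000000000000000000), [dw (nat_lit 0x01)])] (PM.nml_of xe1 (by decide +kernel)) (i11.lift (by decide +kernel)) (by decide +kernel)
theorem i31 : M.Inv (A ⊓ M.fixL [2, 274]) (nat_lit 0x140100000000000200000000400000800000000000200000000000000100000) :=
  PM.Inv.orbits 1 [(nat_lit 20, (nat_lit 0x100000), []),
 (nat_lit 81, (nat_lit 0x200000000000000000000), []),
 (nat_lit 131, (nat_lit 0x800000000000000000000000000000000), []),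
 (nat_lit 154, (nat_lit 0x400000000000000000000000000000000000000), []),
 (nat_lit 189, (nat_lit 0x200000000000000000000000000000000000000000000000), []),
 (nat_lit 236, (nat_lit 0x100000000000000000000000000000000000000000000000000000000000), []),
 (nat_lit 246, (nat_lit 0x40000000000000000000000000000000000000000000000000000000000000), []),
 (nat_lit 248, (nat_lit 0x100000000000000000000000000000000000000000000000000000000000000), [])] [(nat_lit 5, (nat_lit 0x1000000000000000020), [dw (nat_lit 0x01)]),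
 (nat_lit 35, (nat_lit 0x4000000000000000000000000000000000800000000), [dw (nat_lit 0x01)]),
 (nat_lit 36, (nat_lit 0x8000000000000000000000001000000000), [dw (nat_lit 0x01)]),
 (nat_lit 42, (nat_lit 0x80000000000000000000000000000000000000000040000000000), [dw (nat_lit 0x01)]),
 (nat_lit 59, (nat_lit 0x2000000000000000000000000000000000000800000000000000), [dw (nat_lit 0x01)]),
 (nat_lit 79, (nat_lit 0x200000000000000000000000000000000000000000000080000000000000000000), [dw (nat_lit 0x01)]),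
 (nat_lit 109, (nat_lit 0x4000000000000000000000000000000002000000000000000000000000000), [dw (nat_lit 0x01)]),
 (nat_lit 115, (nat_lit 0x200000000000000080000000000000000000000000000), [dw (nat_lit 0x01)]),
 (nat_lit 121, (nat_lit 0x1000000000000000000000000002000000000000000000000000000000), [dw (nat_lit 0x01)]),
 (nat_lit 134, (nat_lit 0x4000000000004000000000000000000000000000000000), [dw (nat_lit 0x01)]),
 (nat_lit 156, (nat_lit 0x20000000000000001000000000000000000000000000000000000000), [dw (nat_lit 0x01)]),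
 (nat_lit 166, (nat_lit 0x8000000000000000400000000000000000000000000000000000000000), [dw (nat_lit 0x01)])] (PM.nml_of xe1 (by decide +kernel)) (i21.lift (by decide +kernel)) (by decide +kernel)
theorem i33 : M.Inv (A ⊓ M.fixL [2, 274]) (nat_lit 0x1000000002000000000100002004010000040000100000000000000000000000000) :=
  PM.Inv.orbits 1 [(nat_lit 104, (nat_lit 0x100000000000000000000000000), []),
 (nat_lit 126, (nat_lit 0x40000000000000000000000000000000), []),
 (nat_lit 148, (nat_lit 0x10000000000000000000000000000000000000), []),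
 (nat_lit 158, (nat_lit 0x4000000000000000000000000000000000000000), []),
 (nat_lit 169, (nat_lit 0x2000000000000000000000000000000000000000000), []),
 (nat_lit 188, (nat_lit 0x100000000000000000000000000000000000000000000000), []),
 (nat_lit 229, (nat_lit 0x2000000000000000000000000000000000000000000000000000000000), []),
 (nat_lit 264, (nat_lit 0x1000000000000000000000000000000000000000000000000000000000000000000), [])] [(nat_lit 10, (nat_lit 0x800000000000000000000000000000000000000000000000000400), [dw (nat_lit 0x01)]),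
 (nat_lit 18, (nat_lit 0x20000000000000000000000000000000000000000000000000000000040000), [dw (nat_lit 0x01)]),
 (nat_lit 31, (nat_lit 0x40000000000080000000), [dw (nat_lit 0x01)]),
 (nat_lit 48, (nat_lit 0x8000000000000000000000001000000000000), [dw (nat_lit 0x01)]),
 (nat_lit 49, (nat_lit 0x20002000000000000), [dw (nat_lit 0x01)]),
 (nat_lit 103, (nat_lit 0x1000080000000000000000000000000), [dw (nat_lit 0x01)]),
 (nat_lit 108, (nat_lit 0x40000000000000000000000000001000000000000000000000000000), [dw (nat_lit 0x01)]),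
 (nat_lit 116, (nat_lit 0x1000000000000000000000000000000000100000000000000000000000000000), [dw (nat_lit 0x01)]),
 (nat_lit 132, (nat_lit 0x40000000000000000000000000000000001000000000000000000000000000000000), [dw (nat_lit 0x01)]),
 (nat_lit 168, (nat_lit 0x2000000000000000001000000000000000000000000000000000000000000), [dw (nat_lit 0x01)]),
 (nat_lit 183, (nat_lit 0x4008000000000000000000000000000000000000000000000), [dw (nat_lit 0x01)]),
 (nat_lit 197, (nat_lit 0x1000000000020000000000000000000000000000000000000000000000000), [dw (nat_lit 0x01)])] (PM.nml_of xe1 (by decide +kernel)) (i24.lift (by decide +kernel)) (by decide +kernel)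
theorem i35 : M.Inv (A ⊓ M.fixL [2, 274]) (nat_lit 0x800010000000000000002000000000000000000000200400000210000000000000) :=
  PM.Inv.orbits 1 [(nat_lit 52, (nat_lit 0x10000000000000), []),
 (nat_lit 57, (nat_lit 0x200000000000000), []),
 (nat_lit 82, (nat_lit 0x400000000000000000000), []),
 (nat_lit 93, (nat_lit 0x200000000000000000000000), []),
 (nat_lit 181, (nat_lit 0x2000000000000000000000000000000000000000000000), []),
 (nat_lit 244, (nat_lit 0x10000000000000000000000000000000000000000000000000000000000000), []),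
 (nat_lit 263, (nat_lit 0x800000000000000000000000000000000000000000000000000000000000000000), [])] [(nat_lit 3, (nat_lit 0x10000000000000000000000000000008), [dw (nat_lit 0x01)]),
 (nat_lit 4, (nat_lit 0x400000000000000000000000000000000000000000000000000010), [dw (nat_lit 0x01)]),
 (nat_lit 6, (nat_lit 0x8000000000000000000000000000040), [dw (nat_lit 0x01)]),
 (nat_lit 8, (nat_lit 0x100000000000000000000000000000000000000000000000000000000000000000100), [dw (nat_lit 0x01)]),
 (nat_lit 11, (nat_lit 0x10000000000000000000000000000000000000000000800), [dw (nat_lit 0x01)]),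
 (nat_lit 21, (nat_lit 0x80000000000000000000000000000000000000000000000000000000200000), [dw (nat_lit 0x01)]),
 (nat_lit 22, (nat_lit 0x100000000000400000), [dw (nat_lit 0x01)]),
 (nat_lit 24, (nat_lit 0x10000000000000000000000000000000000000000000001000000), [dw (nat_lit 0x01)]),
 (nat_lit 29, (nat_lit 0x80020000000), [dw (nat_lit 0x01)]),
 (nat_lit 51, (nat_lit 0x80000000000000000000008000000000000), [dw (nat_lit 0x01)]),
 (nat_lit 70, (nat_lit 0x200000000000000000000000000000000000000000000400000000000000000), [dw (nat_lit 0x01)]),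
 (nat_lit 80, (nat_lit 0x400000000000000100000000000000000000), [dw (nat_lit 0x01)]),
 (nat_lit 83, (nat_lit 0x10000000000000000000000000000000000000800000000000000000000), [dw (nat_lit 0x01)]),
 (nat_lit 85, (nat_lit 0x22000000000000000000000), [dw (nat_lit 0x01)]),
 (nat_lit 88, (nat_lit 0x100000000000010000000000000000000000), [dw (nat_lit 0x01)]),
 (nat_lit 119, (nat_lit 0x20800000000000000000000000000000), [dw (nat_lit 0x01)]),
 (nat_lit 122, (nat_lit 0x10004000000000000000000000000000000), [dw (nat_lit 0x01)]),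
 (nat_lit 133, (nat_lit 0x100000000000000000002000000000000000000000000000000000), [dw (nat_lit 0x01)]),
 (nat_lit 145, (nat_lit 0x2002000000000000000000000000000000000000), [dw (nat_lit 0x01)]),
 (nat_lit 151, (nat_lit 0x20000000000000000000000000080000000000000000000000000000000000000), [dw (nat_lit 0x01)]),
 (nat_lit 163, (nat_lit 0x4000000000000000000000000080000000000000000000000000000000000000000), [dw (nat_lit 0x01)]),
 (nat_lit 167, (nat_lit 0x200000000000000000800000000000000000000000000000000000000000), [dw (nat_lit 0x01)]),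
 (nat_lit 173, (nat_lit 0x4000000000000020000000000000000000000000000000000000000000), [dw (nat_lit 0x01)]),
 (nat_lit 178, (nat_lit 0x1000400000000000000000000000000000000000000000000), [dw (nat_lit 0x01)]),
 (nat_lit 187, (nat_lit 0x4000000080000000000000000000000000000000000000000000000), [dw (nat_lit 0x01)]),
 (nat_lit 202, (nat_lit 0x800000000400000000000000000000000000000000000000000000000000), [dw (nat_lit 0x01)]),
 (nat_lit 204, (nat_lit 0x800000000001000000000000000000000000000000000000000000000000000), [dw (nat_lit 0x01)]),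
 (nat_lit 243, (nat_lit 0x200000008000000000000000000000000000000000000000000000000000000000000), [dw (nat_lit 0x01)])] (PM.nml_of xe1 (by decide +kernel)) i26 (by decide +kernel)
theorem i37 : M.Inv (A ⊓ M.fixL [2, 274]) (nat_lit 0x2000000000000000000000000000000000000000000000) :=
  (i25.img (z := z) (M.comm_of_le hz)).of_eq (by decide +kernel)
theorem i38 : M.Inv (A ⊓ M.fixL [2, 274]) (nat_lit 0x800010000000000000000000000000000000000000200400000210000000000000) :=
  (i35.sdf i37).of_eq (by decide +kernel)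
theorem i39 : M.Inv (A ⊓ M.fixL [2, 274]) (nat_lit 0x7f8f37f6eeeefdef39f0ad938b9c4c7a0dbbd5470f8377d45f676670a4b12fb44bd9a) :=
  (PM.Inv.conjL (hE.fix_eq McLd.eq1 (by decide +kernel)) (dw (nat_lit 0x03)) (Y := (nat_lit 0x1b79da57b1395effa2ef739e677511b5d385baeb339cf9af6c62b8e7d35e598b4daba)) (by decide +kernel)).of_eq (by decide +kernel)
theorem i48 : M.Inv (A ⊓ M.fixL [2, 274]) (nat_lit 0x800000000000000000400000000000000000000000000000000) :=
  (i28.land i39).of_eq (by decide +kernel)
theorem i49 : M.Inv (A ⊓ M.fixL [2, 274]) (nat_lit 0x200000000000000000000000000a0800000000000) :=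
  (i28.sdf i39).of_eq (by decide +kernel)
theorem i50 : M.Inv (A ⊓ M.fixL [2, 274]) (nat_lit 0x400000000000000000000000000000000000000000000000000000000000002000) :=
  (i29.land i39).of_eq (by decide +kernel)
theorem i51 : M.Inv (A ⊓ M.fixL [2, 274]) (nat_lit 0x200000000000000000000000000000100000000000) :=
  (i29.sdf i39).of_eq (by decide +kernel)
theorem i53 : M.Inv (A ⊓ M.fixL [2, 274]) (nat_lit 0x100000000000200000000000000000000000000200000000000000100000) :=
  (i31.sdf i39).of_eq (by decide +kernel)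
theorem i56 : M.Inv (A ⊓ M.fixL [2, 274]) (nat_lit 0x2000000000100000004000000040000000000000000000000000000000) :=
  (i33.land i39).of_eq (by decide +kernel)
theorem i62 : M.Inv (A ⊓ M.fixL [2, 274]) (nat_lit 0x800000000000000000000000000000000000000000200400000200000000000000) :=
  (i38.land i39).of_eq (by decide +kernel)
theorem i110 : M.Inv (A ⊓ M.fixL [181, 2, 274]) (nat_lit 0xc00000000000000000000000000000000400000000000000000200000000000000) :=
  (PM.Inv.conjL (hE.fix_eq McLd.eq3 (by decide +kernel)) (dw (nat_lit 0x2c1f032d21242c25)) (Y := (nat_lit 0x10000000000000000000000000000000100000000004000000000000000000000080)) (by decide +kernel)).of_eq (by decide +kernel)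
theorem i112 : M.Inv (A ⊓ M.fixL [181, 2, 274]) (nat_lit 0x800000000000000000000000000000000000000000000000000) :=
  ((i48.lift (by decide +kernel)).sdf i110).of_eq (by decide +kernel)
theorem i114 : M.Inv (A ⊓ M.fixL [181, 2, 274]) (nat_lit 0x2000) :=
  ((i50.lift (by decide +kernel)).sdf i110).of_eq (by decide +kernel)
theorem i115 : M.Inv (A ⊓ M.fixL [181, 2, 274]) (nat_lit 0x800000000000000000000000000000000000000000000000000200000000000000) :=
  ((i62.lift (by decide +kernel)).land i110).of_eq (by decide +kernel)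
theorem i133 : M.Inv (A ⊓ M.fixL [13, 181, 2, 274]) (nat_lit 0x7df22eaafed2ba633dda84a6b939874a3bd7275e8adf3776efa5f54aadbc7f56f930c) :=
  (PM.Inv.conjL (hE.fix_eq McLd.eq1 (by decide +kernel)) (dw (nat_lit 0x010303)) (Y := (nat_lit 0x1b79da57b1395effa2ef739e677511b5d385baeb339cf9af6c62b8e7d35e598b4daba)) (by decide +kernel)).of_eq (by decide +kernel)
theorem i137 : M.Inv (A ⊓ M.fixL [13, 181, 2, 274]) (nat_lit 0x20000000000000000000000000000000000000000) :=
  ((i49.lift (by decide +kernel)).sdf i133).of_eq (by decide +kernel)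
theorem i139 : M.Inv (A ⊓ M.fixL [13, 181, 2, 274]) (nat_lit 0x200000000000000000000000000000000000000000) :=
  ((i51.lift (by decide +kernel)).sdf i133).of_eq (by decide +kernel)
theorem i142 : M.Inv (A ⊓ M.fixL [13, 181, 2, 274]) (nat_lit 0x200000000000000000000) :=
  ((i53.lift (by decide +kernel)).land i133).of_eq (by decide +kernel)
theorem i144 : M.Inv (A ⊓ M.fixL [13, 181, 2, 274]) (nat_lit 0x2000000000000000004000000040000000000000000000000000000000) :=
  ((i56.lift (by decide +kernel)).land i133).of_eq (by decide +kernel)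
theorem i182 : M.Inv (A ⊓ M.fixL [161, 13, 181, 2, 274]) (nat_lit 0x4ae552314735c11ed63dbc64facacaf6fe2cedb4f6ff8e45f2ddcbdd5ae9b67db46fa) :=
  (PM.Inv.conjL (hE.fix_eq McLd.eq1 (by decide +kernel)) (dw (nat_lit 0x2b2403)) (Y := (nat_lit 0x1b79da57b1395effa2ef739e677511b5d385baeb339cf9af6c62b8e7d35e598b4daba)) (by decide +kernel)).of_eq (by decide +kernel)
theorem i198 : M.Inv (A ⊓ M.fixL [161, 13, 181, 2, 274]) (nat_lit 0x2000000000000000004000000000000000000000000000000000000000) :=
  ((i144.lift (by decide +kernel)).sdf i182).of_eq (by decide +kernel)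
theorem i237 : M.Inv (A ⊓ M.fixL [81, 203, 165, 161, 13, 181, 2, 274]) (nat_lit 0xc3bde3b7fb9df72b64bbaa6f87d75f6da05eb3af3ff3d00cab4dfc21e5af152f32a9) :=
  (PM.Inv.conjL (hE.fix_eq McLd.eq1 (by decide +kernel)) (dw (nat_lit 0x2b2101)) (Y := (nat_lit 0x1b79da57b1395effa2ef739e677511b5d385baeb339cf9af6c62b8e7d35e598b4daba)) (by decide +kernel)).of_eq (by decide +kernel)
theorem i244 : M.Inv (A ⊓ M.fixL [81, 203, 165, 161, 13, 181, 2, 274]) (nat_lit 0x800000000000000000000000000000000000000000000000000000000000000000) :=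
  ((i115.lift (by decide +kernel)).land i237).of_eq (by decide +kernel)
theorem i264 : M.Inv (A ⊓ M.fixL [81, 203, 165, 161, 13, 181, 2, 274]) (nat_lit 0x4000000000000000000000000000000000000000) :=
  ((i198.lift (by decide +kernel)).land i237).of_eq (by decide +kernel)
theorem i290 : M.Inv (A ⊓ M.fixL [81, 203, 165, 161, 13, 181, 2, 274]) (nat_lit 0x2000000000000000000000000000000000000000000) :=
  (i264.img (z := z) (M.comm_of_le hz)).of_eq (by decide +kernel)
theorem ub10 : Nat.card (A ⊓ M.fixL [169, 263, 81, 203, 165, 161, 13, 181, 2, 274] : Subgroup _) ≤ 2 :=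
  M.card_le_enum (hE.fix_eq McLd.eq3 (by decide +kernel)) (hE.cover' McLd.cov3 (by decide +kernel)) (dw (nat_lit 0x241f022226202a23)) (Ys := [(nat_lit 0x200000000000000000000000000000000000000000000000000008000)]) (fa_cons (i6.lift (by decide +kernel)) fa_nil) (by decide +kernel)
theorem ub9 : Nat.card (A ⊓ M.fixL [263, 81, 203, 165, 161, 13, 181, 2, 274] : Subgroup _) ≤ 2 :=
  M.card_le_step (p := 1) (i290.lift (by decide +kernel)) (by decide +kernel) ub10
theorem ub8 : Nat.card (A ⊓ M.fixL [81, 203, 165, 161, 13, 181, 2, 274] : Subgroup _) ≤ 2 :=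
  M.card_le_step (p := 1) i244 (by decide +kernel) ub9
theorem ub7 : Nat.card (A ⊓ M.fixL [203, 165, 161, 13, 181, 2, 274] : Subgroup _) ≤ 2 :=
  M.card_le_step (p := 1) (i142.lift (by decide +kernel)) (by decide +kernel) ub8
theorem ub6 : Nat.card (A ⊓ M.fixL [165, 161, 13, 181, 2, 274] : Subgroup _) ≤ 2 :=
  M.card_le_step (p := 1) (i112.lift (by decide +kernel)) (by decide +kernel) ub7
theorem ub5 : Nat.card (A ⊓ M.fixL [161, 13, 181, 2, 274] : Subgroup _) ≤ 2 :=
  M.card_le_step (p := 1) (i139.lift (by decide +kernel)) (by decide +kernel) ub6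
theorem ub4 : Nat.card (A ⊓ M.fixL [13, 181, 2, 274] : Subgroup _) ≤ 2 :=
  M.card_le_step (p := 1) i137 (by decide +kernel) ub5
theorem ub3 : Nat.card (A ⊓ M.fixL [181, 2, 274] : Subgroup _) ≤ 2 :=
  M.card_le_step (p := 1) i114 (by decide +kernel) ub4
theorem ub2 : Nat.card (A ⊓ M.fixL [2, 274] : Subgroup _) ≤ 2 :=
  M.card_le_step (p := 1) i37 (by decide +kernel) ub3
theorem ub1 : Nat.card (A ⊓ M.fixL [274] : Subgroup _) ≤ 128 :=
  M.card_le_step (p := 64) (i12.lift (by decide +kernel)) (by decide +kernel) ub2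
theorem ub0 : Nat.card (A ⊓ M.fixL [] : Subgroup _) ≤ 128 :=
  M.card_le_step (p := 1) i10 (by decide +kernel) ub1
theorem ub : Nat.card (A) ≤ 128 := M.card_le_of_nil ub0
noncomputable def hs : List Word := [dw (nat_lit 0x022201212c1f2b262c292b), dw (nat_lit 0x221f012c25252a28), dw (nat_lit 0x1f220125222e28252c282c2d), dw (nat_lit 0x270322251f2b26282c2e), dw (nat_lit 0x211f012321212723252c2d272b)]
noncomputable def steps : List (Word × Word × Word) := [(dw (nat_lit 0x07060407), dw (nat_lit 0x01), dw (nat_lit 0x01)), (dw (nat_lit 0x07040107), dw (nat_lit 0x03), dw (nat_lit 0x0301)), (dw (nat_lit 0x03070407), dw (nat_lit 0x05), dw (nat_lit 0x0501)), (dw (nat_lit 0x0107), dw (nat_lit 0x07), dw (nat_lit 0x0703)), (dw (nat_lit 0x040703), dw (nat_lit 0x09), dw (nat_lit 0x07050705))]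
noncomputable def vs : List Word := [dw (nat_lit 0x050301), dw (nat_lit 0x05030701), dw (nat_lit 0x09070301), dw (nat_lit 0x0b0501)]
theorem res {G : Type*} [Group G] [Finite G] (e : ((⊤ : Subgroup CM)) ≃* G) (S : Sylow 2 G) :
    (groupFusionSystem (S : Subgroup G)).IsSimple 2 ∧ Subgroup.normalizer ((S : Subgroup G) : Set G) = S :=
  fus_simple_of (X := sub M.gen ws0) (k := 7) (m := 7016625) le_top (card0 M hR) (Subgroup.card_top.trans card_CM) (by norm_num) (by norm_num) ub
    (M.sc_of_cert (D := 9) (by norm_num) (by norm_num) scov0 zc (hs := hs) (vs := vs) (steps := steps) (by decide +kernel) le_top) e S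

end H14.FMc
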