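import Cfsg.Agent.H14.FixL
import Cfsg.Agent.H15.Std

/-! Kernel checks for the fixed sublattice of a permutation in `M24`. -/

set_option autoImplicit false

namespace H14
open Cfsg MulAction H18 Subgroup Matrix
open scoped Pointwise

noncomputable def sumN (n : Nat) (f : Nat → Int) : Int :=
  @Nat.rec (fun _ => Int) 0 (fun i ih => Int.add ih (f i)) n

theorem sumN_eq (n : ℕ) (f : ℕ → ℤ) : sumN n f = ∑ i ∈ Finset.range n, f i := by
  induction n with
  | zero => rfl
  | succ n ih => rw [Finset.sum_range_succ, ← ih]; rfl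

theorem allLt_intro {f : ℕ → Bool} {k : ℕ} (h : ∀ i < k, f i = true) : allLt f k = true := by
  induction k with
  | zero => rfl
  | succ k ih =>
    show @Bool.rec (fun _ => Bool) false (allLt f k) (f k) = true
    rw [h k k.lt_succ_self]; exact ih fun i hi => h i (by omega)

/-- The bytes of `T` are the images of the points. -/
def IsTab (σ : M24) (T : ℕ) : Prop := ∀ p : GolayPt, gi (σ • p) = byt T (gi p)

noncomputable def tabB (w : Word) (T : Nat) : Bool :=
  allLt (fun q => Nat.ble (Nat.succ (byt T q)) 24 && tb (runW (letN M24c.nets) w (bit q)) (byt T q)) 24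

theorem isTab_of {w : Word} {T : ℕ} (h : tabB w T = true) : IsTab (ev M0.gen w) T := fun p => by
  have h1 := all24 h p
  rw [Bool.and_eq_true, Nat.ble_eq, tb_eq] at h1
  have h2 := M0.testBit_runW' w (bit (gi p)) (gp (byt T (gi p)))
  rw [show M0.enc = gi from rfl, gi_gp _ h1.1, h1.2, testBit_bit, eq_comm, decide_eq_true_iff] at h2
  rw [gi_inj h2, smul_inv_smul, ← gi_inj h2, gi_gp _ h1.1]

noncomputable def itT (T i r : Nat) : Nat := @Nat.rec (fun _ => Nat) r (fun _ x => byt T x) i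

theorem IsTab.pow {σ : M24} {T : ℕ} (h : IsTab σ T) (i : ℕ) (p : GolayPt) :
    gi (σ ^ i • p) = itT T i (gi p) := by
  induction i with
  | zero => rw [pow_zero, one_smul]; rfl
  | succ i ih => rw [pow_succ', mul_smul, h, ih]; rfl

noncomputable def fixB (T y : Nat) : Bool := allLt (fun q => eqZ (bv y (byt T q)) (bv y q)) 24

theorem IsTab.fix {σ : M24} {T y : ℕ} (h : IsTab σ T) (e : fixB T y = true) {x : Λ}
    (hx : x.1 = vecN y) : permH σ • x = x :=
  permH_fix fun p => by
    rw [hx]; show bv y (gi _) = bv y (gi p); rw [h]; exact of_decide_eq_true (all24 e p)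

theorem IsTab.ncard {σ : M24} {T : ℕ} (h : IsTab σ T) : {s | s ∈ GC ∧ σ • s = s}.ncard =
    cntCW fun m => allLt (fun q => tb m (byt T q) == tb m q) 24 :=
  ncard_CW fun m _ => ⟨fun e => allLt_intro fun q hq => by
    have := Finset.smul_mem_smul_finset_iff (s := bset m) (b := gp q) σ
    rw [e, mem_bset, mem_bset, h, gi_gp _ hq] at this
    rw [beq_iff_eq, tb_eq, tb_eq, Bool.eq_iff_iff, this], fun e => by
    ext p
    obtain ⟨q, rfl⟩ := smul_surj σ p
    have := all24 e q
    rw [beq_iff_eq, tb_eq, tb_eq] at this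
    rw [Finset.smul_mem_smul_finset_iff, mem_bset, mem_bset, h, this]⟩

theorem coOf_fr {R : List ℕ} (h : coChk R = true) (q p : GolayPt) :
    (coOf R h • fr q : Λ).1 p = matR R p q := by
  have := congrFun (coOf_spec h (fr q)) p
  rw [fr, mulVec_single] at this
  simp only [Pi.smul_apply, col_apply, MulOpposite.smul_eq_mul_unop, MulOpposite.unop_op, smul_eq_mul] at this
  rw [fr]; omega

theorem permH_fr (σ : M24) (q : GolayPt) : permH σ • fr q = fr (σ • q) := by
  simpa [sgn_empty] using mon_fr σ empty_mem_GC q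

noncomputable def comB (R : List Nat) (T T' : Nat) : Bool :=
  allLt (fun p => allLt (fun q => eqZ (bv (getL 0 R (byt T p)) (byt T' q)) (bv (getL 0 R p) q)) 24) 24

theorem coOf_comm {R : List ℕ} (h : coChk R = true) {σ τ : M24} {T T' : ℕ} (h1 : IsTab σ T)
    (h2 : IsTab τ T') (e : comB R T T' = true) : permH σ * coOf R h = coOf R h * permH τ :=
  eq_of_frame fun q => Subtype.ext (funext fun p => by
    obtain ⟨p, rfl⟩ := smul_surj σ p
    rw [mul_smul, mul_smul, permH_apply', permH_fr, coOf_fr, coOf_fr, matR, matR, h1, h2]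
    exact (of_decide_eq_true (all24 (all24 e p) q)).symm)

/-- `R K = K ε_c`. -/
noncomputable def sgB (R K : List Nat) (c : Nat) : Bool :=
  allLt (fun q => allLt (fun p => eqZ (mv R (fun r => bv (getL 0 K r) q) p)
    (Int.mul (ite' (tb c q) (-8) 8) (bv (getL 0 K p) q))) 24) 24

theorem coOf_sg {R K : List ℕ} (h : coChk R = true) (h' : coChk K = true) {c : ℕ} (hc : bset c ∈ GC)
    (e : sgB R K c = true) : coOf R h * coOf K h' = coOf K h' * sgn _ hc :=
  eq_of_frame fun q => Subtype.ext (funext fun p => by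
    have h1 := congrFun (coOf_spec h (coOf K h' • fr q)) p
    have h2 : mv R _ _ = ite' _ _ _ * _ := of_decide_eq_true (all24 (all24 e q) p)
    have h3 := mon_fr 1 hc q
    rw [map_one, mul_one, one_smul] at h3
    rw [show (coOf K h' • fr q : Λ).1 = toV fun r => bv (getL 0 K r) (gi q) from funext (coOf_fr h' q),
      mulVec_toV, toV, h2, tb_eq] at h1
    rw [mul_smul, mul_smul, h3]
    have h4 : (coOf K h' • fr q : Λ).1 p = bv (getL 0 K (gi p)) (gi q) := coOf_fr h' q p
    simp only [Pi.smul_apply, smul_eq_mul] at h1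
    split_ifs with h5
    · rw [mem_bset.1 h5] at h1
      rw [smul_neg', AddSubgroup.coe_neg, Pi.neg_apply]
      simp only [ite'] at h1; omega
    · rw [Bool.eq_false_iff.2 (mem_bset.not.1 h5)] at h1
      simp only [ite'] at h1; omega)

/-- The packed zero vector. -/
abbrev pZ : ℕ := 0x808080808080808080808080808080808080808080808080

noncomputable def allLe (L : List Nat) : Bool := L.all fun m => leechB (bv m)

/-- A list of lattice vectors. -/
noncomputable def lvs (L : List ℕ) (h : allLe L = true) (j : ℕ) : Λ :=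
  ⟨vecN (getL pZ L j), mem_of_leechB ((getL_mem_or pZ L j).elim (List.all_eq_true.1 h _)
    fun e => by rw [e]; decide +kernel)⟩

noncomputable def b2 (a : Int) (n : Int) : Nat := Int.toNat (Int.emod (Int.ediv a n) 2)

theorem cast_b2 (a n : ℤ) : (b2 a n : ZMod 2) = (a / n : ℤ) := by
  have : ((b2 a n : ℕ) : ℤ) = a / n % 2 := Int.toNat_of_nonneg (Int.emod_nonneg _ two_ne_zero)
  rw [← Int.cast_natCast, this]; exact ZMod.intCast_mod _ 2

theorem b2_lt (a n : ℤ) : b2 a n < 2 := by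
  have : ((b2 a n : ℕ) : ℤ) = a / n % 2 := Int.toNat_of_nonneg (Int.emod_nonneg _ two_ne_zero)
  omega

noncomputable def fxB (p d T : Nat) (bs cs : List Nat) : Bool :=
  allLt (fun j => fixB T (getL pZ bs j) && (fixB T (getL pZ cs j) && allLt (fun i =>
    Nat.beq (b2 (dotZ (bv (getL pZ bs j)) (bv (getL pZ cs i))) 8) (cond (Nat.beq i j) 1 0)) d)) d &&
  allLt (fun r => allLt (fun q => eqZ (sumN p fun i => ite' (Nat.beq (itT T i r) q) 8 0)
    (sumN d fun j => Int.mul (bv (getL pZ cs j) q) (bv (getL pZ bs j) r))) 24) 24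

theorem fx_of {σ : M24} {p d T : ℕ} (h : IsTab σ T) (hp : Odd p) {bs cs : List ℕ} (hb : allLe bs = true)
    (hc : allLe cs = true) (e : fxB p d T bs cs = true) :
    FX (permH σ) (fun j : Fin d => lvs bs hb j) fun j => lvs cs hc j := by
  rw [fxB, Bool.and_eq_true] at e
  have e1 := fun j : Fin d => allLt_spec e.1 j j.2
  simp only [Bool.and_eq_true] at e1
  refine ⟨fun j => h.fix (e1 j).1 rfl, fun j => h.fix (e1 j).2.1 rfl, fun j => funext fun i => ?_,
    fun x hx h0 => ?_⟩
  · rw [kap_apply, bf2, show dotInt (lvs bs hb j).1 (lvs cs hc i).1 = _ from dot_toV (bv _) (bv _), ← cast_b2,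
      Nat.eq_of_beq_eq_true (allLt_spec (e1 j).2.2 i i.2), Pi.single_apply]
    by_cases hij : i = j
    · simp [hij]
    · rw [show Nat.beq i j = false from Bool.eq_false_iff.2 fun h => hij (Fin.ext (Nat.eq_of_beq_eq_true h))]
      simp [hij]
  have h1 : ∀ n, E2 (∑ i ∈ Finset.range n, permH (σ ^ i)⁻¹ • x) (n • x) := fun n => by
    induction n with
    | zero => exact E2.of_eq (by simp)
    | succ n ih =>
      rw [Finset.sum_range_succ, succ_nsmul]
      refine ih.add (E2.of_smul (permH (σ ^ n)) ?_)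
      rw [map_inv, smul_inv_smul, map_pow]
      exact E2.symm (hx.pow n)
  choose m hm using fun j => bf2_eq_zero.1 (congrFun h0 j)
  have h2 : ∑ i ∈ Finset.range p, permH (σ ^ i)⁻¹ • x =
      ∑ j : Fin d, m j • lvs bs hb j + ∑ j : Fin d, m j • lvs bs hb j := Subtype.ext (funext fun r => by
    have h3 : ∀ q, ∑ i ∈ Finset.range p, (if σ ^ i • r = q then (8 : ℤ) else 0) =
        ∑ j : Fin d, (lvs cs hc j).1 q * (lvs bs hb j).1 r := fun q => by
      have := of_decide_eq_true (all24 (all24 e.2 r) q)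
      rw [sumN_eq, sumN_eq, Finset.sum_range (n := d)] at this
      refine Eq.trans (Finset.sum_congr rfl fun i _ => ?_) this
      rw [← h.pow, ite'_beq]
    have h4 := Finset.sum_congr rfl fun q (_ : q ∈ Finset.univ) => congrArg (x.1 q * ·) (h3 q)
    simp only [Finset.mul_sum] at h4
    rw [Finset.sum_comm, Finset.sum_comm (s := Finset.univ)] at h4
    simp only [mul_ite, mul_zero, Finset.sum_ite_eq, Finset.mem_univ, if_true, ← mul_assoc,
      ← Finset.sum_mul] at h4
    simp only [AddSubgroup.coe_add, AddSubgroup.val_finsetSum, Pi.add_apply, Finset.sum_apply,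
      permH_apply, inv_inv, AddSubgroup.coe_zsmul, Pi.smul_apply, smul_eq_mul]
    have h5 : ∀ j : Fin d, ∑ i, x.1 i * (lvs cs hc j).1 i = 16 * m j := hm
    simp only [h5, mul_assoc, ← Finset.mul_sum] at h4
    omega)
  obtain ⟨k, rfl⟩ := hp
  have h3 := h1 (2 * k + 1)
  rw [h2, succ_nsmul, mul_nsmul', two_nsmul, add_comm _ x] at h3
  exact E2.zero_iff.1 (((E2.add_dbl _ _).symm.trans h3.symm).trans (E2.zero_iff.2 (dbl_mem _)))

/-- Arithmetic modulo 2. -/
abbrev a2 : H15.Ar (ZMod 2) := H15.arZ 2 1 (by decide)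

noncomputable def rhoB (d : Nat) (R bs cs : List Nat) (A : Nat) : Bool :=
  allLt (fun j => allLt (fun i => Nat.beq (b2 (dotZ (mv R (bv (getL pZ bs j))) (bv (getL pZ cs i))) 64)
    (H15.fld 1 A (Nat.add (Nat.mul d i) j))) d) d

theorem rho_coOf {g : Co0} {d : ℕ} {bs cs : List ℕ} {hb : allLe bs = true} {hc : allLe cs = true}
    (F : FX g (fun j : Fin d => lvs bs hb j) fun j => lvs cs hc j) {R : List ℕ} (h : coChk R = true)
    (hg : coOf R h ∈ C1(g)) {A : ℕ} (e : rhoB d R bs cs A = true) :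
    F.rho ⟨_, hg⟩ = a2.toM (Equiv.refl _) A := Matrix.ext fun i j => by
  have h1 := Nat.eq_of_beq_eq_true (allLt_spec (allLt_spec e j j.2) i i.2)
  have h2 := coOf_spec h (lvs bs hb j)
  rw [show (lvs bs hb j).1 = toV (bv (getL pZ bs j)) from rfl, mulVec_toV] at h2
  show bf2 (coOf R h • lvs bs hb j) (lvs cs hc i) = ((H15.fld 1 A (d * i + j) : ℕ) : ZMod 2)
  rw [show H15.fld 1 A (d * i + j) = _ from h1.symm, cast_b2, ← dot_toV, h2, bf2]
  congr 1
  rw [show dotInt ((8 : ℤ) • (coOf R h • lvs bs hb j : Λ).1) (toV (bv (getL pZ cs i))) =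
    8 * dotInt (coOf R h • lvs bs hb j : Λ).1 (lvs cs hc i).1 by
      simp only [dotInt, Finset.mul_sum, Pi.smul_apply, smul_eq_mul, mul_assoc]; rfl]
  omega

noncomputable def codeK (d : Nat) (cs : List Nat) (y : Nat) : Nat :=
  H15.pack 1 (fun j => b2 (dotZ (bv y) (bv (getL pZ cs j))) 8) d

noncomputable def tyB (d T : Nat) (cs : List Nat) (n : Int) (ys : List Nat) (m : Nat) : Bool :=
  ys.all (fun y => leechB (bv y) && (eqZ (dotZ (bv y) (bv y)) n && fixB T y)) &&
    Nat.ble m (pop (Nat.pow 2 d) (bits (ys.map (codeK d cs))))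

theorem le_ncard_TyK {σ : M24} {d T : ℕ} (h : IsTab σ T) (hd : d < 31) {cs : List ℕ}
    (hc : allLe cs = true) {n : ℤ} (ys : List ℕ) {m : ℕ} (e : tyB d T cs n ys m = true) :
    m ≤ (TyK (permH σ) (fun j : Fin d => lvs cs hc j) n).ncard := by
  rw [tyB, Bool.and_eq_true, Nat.ble_eq, pop_eq (n := Nat.pow 2 d) (Nat.pow_lt_pow_right (by norm_num) hd),
    cnt_eq_card, ← Set.ncard_coe_finset] at e
  refine e.2.trans ((Set.ncard_le_ncard fun i hi => ?_).trans (Set.ncard_image_le (f := fun k =>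
    H15.pack 1 (fun j => if h : j < d then (k ⟨j, h⟩).val else 0) d) (Set.toFinite _)))
  obtain ⟨y, hy, rfl⟩ := List.mem_map.1 ((testBit_bits _ _).1 (Finset.mem_filter.1 hi).2)
  have h1 := List.all_eq_true.1 e.1 y hy
  simp only [Bool.and_eq_true] at h1
  refine ⟨_, ⟨lv y h1.1, E2.of_eq (h.fix h1.2.2 rfl), (sqNorm_toV _).trans (of_decide_eq_true h1.2.1), rfl⟩, ?_⟩
  refine H15.Ar.pack_congr fun j hj => ?_
  rw [dif_pos hj, kap_apply, bf2, show dotInt (lv y h1.1).1 (lvs cs hc j).1 = _ from dot_toV (bv _) (bv _), ← cast_b2,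
    ZMod.val_cast_of_lt (b2_lt _ _)]

theorem a2_ne {d A B : ℕ} (i j : Fin d) (h : Nat.beq (H15.fld 1 A (d * i + j)) (H15.fld 1 B (d * i + j)) = false) :
    a2.toM (Equiv.refl (Fin d)) A ≠ a2.toM (Equiv.refl _) B := fun e => by
  have h1 : ((H15.fld 1 A (d * i + j) : ℕ) : ZMod 2) = (H15.fld 1 B (d * i + j) : ℕ) := congrFun (congrFun e i) j
  have h2 := congrArg ZMod.val h1
  rw [ZMod.val_cast_of_lt (H15.fld_lt 1 _ _), ZMod.val_cast_of_lt (H15.fld_lt 1 _ _)] at h2
  rw [h2, Nat.beq_refl] at h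
  exact Bool.noConfusion h

theorem mm_word {T : Type*} [Group T] {d : ℕ} {ρ : T →* Matrix (Fin d) (Fin d) (ZMod 2)} {L : List (ℕ × ℕ)}
    (M : H15.MM ρ a2 (Equiv.refl _) L) (w : Word) {A : ℕ} (h : Nat.beq (a2.evM d L w) A = true) :
    ρ (ev M.gen w) = a2.toM (Equiv.refl _) A := by rw [← M.toM_ev, Nat.eq_of_beq_eq_true h]

noncomputable def wordsB (d : Nat) (L L' : List (Nat × Nat)) (W : List Word) (k : Nat) : Bool :=
  allLt (fun l => Nat.beq (a2.evM d L (getL [] W l)) (getL (a2.idN d, a2.idN d) L' l).1) k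

/-- The quotient of the centraliser acting faithfully on the fixed classes. -/
structure FT {d : ℕ} (g : Co0) (b c : Fin d → Λ) {T : Type*} [Group T] (τ : C1(g) →* T) : Prop
    extends FX g b c where
  surj : Function.Surjective τ
  ker : ∀ y, τ y = 1 ↔ ∀ x, CF g x → E2 (y.1 • x) x
  ker' : ∀ y, τ y = 1 → y.1 ∈ zpowers (g * negOne)

theorem FT.congr {d : ℕ} {g : Co0} {b c : Fin d → Λ} {T T' : Type*} [Group T] [Group T'] {τ : C1(g) →* T}
    (h : FT g b c τ) (e : T ≃* T') : FT g b c (e.toMonoidHom.comp τ) :=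
  ⟨h.1, e.surjective.comp h.surj, fun y => (map_eq_one_iff e e.injective).trans (h.ker y),
    fun y hy => h.ker' y ((map_eq_one_iff e e.injective).1 hy)⟩

theorem orderOf_negOne : orderOf negOne = 2 := orderOf_eq_prime ((sq _).trans negOne_sq) negOne_ne_one

namespace FX
variable {d : ℕ} {g : Co0} {b c : Fin d → Λ} (F : FX g b c)

/-- The group induced on the fixed classes. -/
noncomputable abbrev TB := F.rho.toHomUnits.range

/-- ... as a matrix group. -/
noncomputable def rb : F.TB →* Matrix (Fin d) (Fin d) (ZMod 2) := (Units.coeHom _).comp F.TB.subtype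

theorem rb_inj : Function.Injective F.rb := Units.val_injective.comp (subtype_injective _)

theorem ft {p n : ℕ} (ho : orderOf g = p) (hp : Odd p) (h1 : Nat.card C1(g) ≤ 2 * p * n) (h0 : n ≠ 0) :
    Nat.card F.TB ≤ n ∧ (n ≤ Nat.card F.TB → FT g b c F.rho.toHomUnits.rangeRestrict) := by
  have hk : ∀ y, F.rho.toHomUnits.rangeRestrict y = 1 ↔ F.rho y = 1 := fun y =>
    Subtype.ext_iff.trans Units.ext_iff
  have h2 : zpowers (g * negOne) ≤ F.rho.toHomUnits.ker.map C1(g).subtype := zpowers_le.2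
    ⟨⟨g * negOne, mem_C1.2 (by rw [mul_assoc, ← negOne_comm])⟩, Units.ext (F.rho_eq_one.2 fun x hx => by
      rw [mul_smul, negOne_smul, smul_neg']; exact (E2.neg _).trans hx), rfl⟩
  have h3 : Nat.card (zpowers (g * negOne)) = p * 2 := by
    rw [Nat.card_zpowers, Commute.orderOf_mul_eq_mul_orderOf_of_coprime (negOne_comm g)
      (by rw [ho, orderOf_negOne]; exact hp.coprime_two_right), ho, orderOf_negOne]
  have h4 := F.rho.toHomUnits.ker.card_mul_index
  rw [index_ker, ← card_map_of_injective (subtype_injective _)] at h4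
  have h5 := card_le_of_le h2
  have h6 := hp.pos
  refine ⟨by nlinarith, fun h7 => ⟨F, MonoidHom.rangeRestrict_surjective _, fun y => (hk y).trans F.rho_eq_one,
    fun y hy => (eq_of_le_of_card_ge h2 (by nlinarith [Nat.pos_of_ne_zero h0])).ge
      ⟨y, Units.ext ((hk y).1 hy), rfl⟩⟩⟩

end FX

theorem exists_mm2 {σ : M24} {T d : ℕ} (h : IsTab σ T) {bs cs : List ℕ} {hb : allLe bs = true} {hc : allLe cs = true}
    (F : FX (permH σ) (fun j : Fin d => lvs bs hb j) fun j => lvs cs hc j) {R R' : List ℕ}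
    (h1 : coChk R = true) (h2 : coChk R' = true) {A A' B B' : ℕ}
    (e : (comB R T T && comB R' T T && rhoB d R bs cs A && rhoB d R' bs cs B &&
      a2.invM d [(A, A'), (B, B')]) = true) :
    Nonempty (H15.MM F.rb a2 (Equiv.refl _) [(A, A'), (B, B')]) := by
  simp only [Bool.and_eq_true] at e
  refine H15.exists_MM e.2 (k := 2) (fun l hl => ?_) (ds := []) rfl le_rfl rfl
  interval_cases l
  · exact ⟨⟨_, _, rfl⟩, rho_coOf F h1 (mem_C1.2 (coOf_comm h1 h h e.1.1.1.1).symm) e.1.1.2⟩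
  · exact ⟨⟨_, _, rfl⟩, rho_coOf F h2 (mem_C1.2 (coOf_comm h2 h h e.1.1.1.2).symm) e.1.2⟩

theorem mm_step {T : Type*} [Group T] {d : ℕ} {ρ : T →* Matrix (Fin d) (Fin d) (ZMod 2)} {L : List (ℕ × ℕ)}
    (M : H15.MM ρ a2 (Equiv.refl _) L) (L' : List (ℕ × ℕ)) (W : List Word) (k : ℕ) (ds : List Word)
    (e : (wordsB d L L' W k && a2.invM d L' && defOk ds k && Nat.ble L'.length (k + ds.length) &&
      a2.relsM d L' [] (defRels ds k)) = true) : Nonempty (H15.MM ρ a2 (Equiv.refl _) L') := by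
  simp only [Bool.and_eq_true, Nat.ble_eq] at e
  exact H15.exists_MM e.1.1.1.2 (fun l hl => ⟨_, mm_word M _ (allLt_spec e.1.1.1.1 l hl)⟩) e.1.1.2 e.1.2 e.2

theorem card_cent_le {σ : M24} {T d : ℕ} (h : IsTab σ T) {b c : Fin d → Λ} (F : FX (permH σ) b c) {e : ℕ}
    (he : d = 2 * e) {n2 n4 k m : ℕ} (h2 : n2 ≤ (TyK (permH σ) c 32).ncard)
    (h4 : (2 ^ e) ^ 2 + 2 ^ e = 2 * (1 + n2 + n4)) (hm : Nat.card C1(σ) ≤ m)
    (hk : (cntCW fun m => allLt (fun q => tb m (byt T q) == tb m q) 24) = k) :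
    (TyK (permH σ) c 64).ncard ≤ n4 ∧ Nat.card (C1(permH σ) ⊓ Mon : Subgroup Co0) ≤ k * m ∧
      Nat.card C1(permH σ) ≤ n4 * (k * m) := by
  have h5 := F.ncard_Ty he
  have h6 := (card_cent_Mon σ).trans (Nat.mul_le_mul (h.ncard.trans hk).le hm)
  have h7 : (TyK (permH σ) c 64).ncard ≤ n4 := by omega
  exact ⟨h7, h6, (F.card_le (permH_mem σ)).trans (Nat.mul_le_mul h7 h6)⟩

end H14
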