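import Cfsg.Agent.H14.MonH
import Cfsg.Agent.H15.Mat

/-! The classes of the Leech lattice modulo 2 fixed by an automorphism `g` of odd prime order, the
action `rho` of the centraliser of `g` on them, and a bound for the order of that centraliser. -/

set_option autoImplicit false

namespace H14
open Cfsg MulAction H18 Subgroup Matrix
open scoped Pointwise

theorem bf2_add (x y c : Λ) : bf2 (x + y) c = bf2 x c + bf2 y c := by
  obtain ⟨a, ha⟩ := eight_dvd_dot x.2 c.2
  obtain ⟨b, hb⟩ := eight_dvd_dot y.2 c.2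
  simp only [bf2, AddSubgroup.coe_add, add_dot, ha, hb, ← mul_add,
    Int.mul_ediv_cancel_left _ (show (8 : ℤ) ≠ 0 by norm_num), Int.cast_add]

theorem bf2_comm (x y : Λ) : bf2 x y = bf2 y x := by rw [bf2, dot_comm, bf2]

theorem zmod2_add_self (a : ZMod 2) : a + a = 0 := by revert a; decide

/-- The number of zeros of a quadratic form with non-degenerate polar form. -/
theorem sing_count {W : Type*} [AddCommGroup W] [Fintype W] (q : W → ZMod 2) (B : W → W → ZMod 2)
    (hq : ∀ x y, q (x + y) = q x + q y + B x y) (hB : ∀ x x' y, B (x + x') y = B x y + B x' y)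
    (hn : ∀ y, y ≠ 0 → ∃ x, B x y ≠ 0) {m : ℕ} (hm : Fintype.card W = m ^ 2) :
    2 * {x | q x = 0}.ncard ≤ m ^ 2 + m := by
  classical
  let χ : ZMod 2 → ℤ := fun a => if a = 0 then 1 else -1
  have h1 : ∀ a b, χ (a + b) = χ a * χ b := by decide
  have h2 : ∀ a b, χ a * χ (a + b) = χ b := by decide
  have h3 : ∀ a, a ≠ 0 → χ a = -1 := by decide
  have h0 : q 0 = 0 := by
    have e := hq 0 0
    have e' := hB 0 0 0
    rw [add_zero] at e e'
    rw [e, e', zmod2_add_self, zmod2_add_self, add_zero]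
  have h4 : ∀ x, B x 0 = 0 := fun x => by simpa [h0] using hq x 0
  have h5 : (∑ x, χ (q x)) ^ 2 = (m : ℤ) ^ 2 := by
    rw [sq, Finset.sum_mul_sum]
    have : ∀ x, ∑ y, χ (q x) * χ (q y) = ∑ y, χ (q y) * χ (B x y) := fun x => by
      rw [← Equiv.sum_comp (Equiv.addLeft x)]
      exact Finset.sum_congr rfl fun y _ => by rw [Equiv.coe_addLeft, hq, add_assoc, h2, h1]
    rw [Finset.sum_congr rfl fun x _ => this x, Finset.sum_comm, Finset.sum_eq_single 0 _ (by simp)]
    · simp [h0, h4, χ, hm]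
    · intro y _ hy
      obtain ⟨a, ha⟩ := hn y hy
      have e := Equiv.sum_comp (Equiv.addRight a) fun x => χ (B x y)
      simp only [Equiv.coe_addRight, hB, h1, h3 _ ha, mul_neg, mul_one, Finset.sum_neg_distrib] at e
      rw [← Finset.mul_sum, show ∑ x, χ (B x y) = 0 by omega, mul_zero]
  have h6 : (2 * {x | q x = 0}.ncard : ℤ) = m ^ 2 + ∑ x, χ (q x) := by
    rw [Set.ncard_eq_toFinset_card', Set.toFinset_ofPred, Finset.card_filter, ← Nat.cast_pow, ← hm,
      Fintype.card, Finset.card_eq_sum_ones]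
    push_cast
    rw [Finset.mul_sum, ← Finset.sum_add_distrib]
    exact Finset.sum_congr rfl fun x _ => by simp only [χ]; split_ifs <;> rfl
  have := (abs_le.1 ((sq_eq_sq_iff_abs_eq_abs _ _).1 h5).le).2
  rw [abs_of_nonneg (by positivity)] at this
  zify; omega

variable {d : ℕ}

/-- Coordinates modulo 2. -/
def kap (c : Fin d → Λ) : Λ →+ (Fin d → ZMod 2) :=
  AddMonoidHom.mk' (fun x j => bf2 x (c j)) fun x y => funext fun j => bf2_add x y (c j)

theorem kap_apply (c : Fin d → Λ) (x : Λ) (j : Fin d) : kap c x j = bf2 x (c j) := rfl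

theorem E2.kap {x y : Λ} (h : E2 x y) (c : Fin d → Λ) : kap c x = kap c y := by
  obtain ⟨w, rfl⟩ := h.exists_eq
  ext j
  simp [zmod2_add_self]

theorem E2.bf2 {x y : Λ} (h : E2 x y) (c : Λ) : bf2 x c = bf2 y c :=
  congrFun (h.kap fun _ : Fin 1 => c) 0

/-- The vector with given coordinates. -/
def bet (b : Fin d → Λ) (k : Fin d → ZMod 2) : Λ := ∑ j, (k j).val • b j

/-- The class of `x` is fixed by `g`. -/
def CF (g : Co0) (x : Λ) : Prop := E2 (g • x) x

theorem CF.add {g : Co0} {x y : Λ} (hx : CF g x) (hy : CF g y) : CF g (x + y) := by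
  rw [CF, smul_add]; exact E2.add hx hy

theorem CF.pow {g : Co0} {x : Λ} (hx : CF g x) (k : ℕ) : CF (g ^ k) x := by
  induction k with
  | zero => exact E2.of_eq (by simp)
  | succ k ih => rw [CF, pow_succ', mul_smul]; exact (E2.smul g ih).trans hx

theorem CF.smul {g n : Co0} {x : Λ} (hx : CF g x) {k : ℕ} (h : g * n = n * g ^ k) : CF g (n • x) := by
  rw [CF, ← mul_smul, h, mul_smul]
  exact E2.smul n (hx.pow k)

theorem CF.cent {g n : Co0} {x : Λ} (hx : CF g x) (h : n ∈ C1(g)) : CF g (n • x) :=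
  hx.smul (k := 1) (by rw [pow_one, mem_C1.1 h])

theorem CF.of_E2 {g : Co0} {x y : Λ} (hx : CF g x) (h : E2 x y) : CF g y :=
  ((h.smul g).symm.trans hx).trans h

/-- The classes of the vectors of norm `n`. -/
def TyK (g : Co0) (c : Fin d → Λ) (n : ℤ) : Set (Fin d → ZMod 2) :=
  {k | ∃ x, CF g x ∧ sqNorm x.1 = n ∧ kap c x = k}

/-- `b`, `c` are dual bases of the fixed classes of `g`. -/
structure FX (g : Co0) (b c : Fin d → Λ) : Prop where
  fb : ∀ j, g • b j = b j
  fc : ∀ j, g • c j = c j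
  dual : ∀ j, kap c (b j) = Pi.single j 1
  inj : ∀ x, CF g x → kap c x = 0 → x ∈ TwoL

namespace FX
variable {g : Co0} {b c : Fin d → Λ} (F : FX g b c) {x y : Λ}
include F

theorem cb (j : Fin d) : CF g (b j) := E2.of_eq (F.fb j)
theorem cc (j : Fin d) : CF g (c j) := E2.of_eq (F.fc j)

theorem cbet (k : Fin d → ZMod 2) : CF g (bet b k) := E2.of_eq (by
  rw [bet, Finset.smul_sum]
  exact Finset.sum_congr rfl fun j _ => by rw [smul_comm, F.fb])

omit F in
theorem kap_smul_bet (n : Co0) (k : Fin d → ZMod 2) :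
    kap c (n • bet b k) = (Matrix.of fun i j => kap c (n • b j) i) *ᵥ k := by
  ext i
  rw [bet, Finset.smul_sum, map_sum, Finset.sum_apply]
  exact Finset.sum_congr rfl fun j _ => by
    rw [smul_comm, map_nsmul, Pi.smul_apply, nsmul_eq_mul, ZMod.natCast_zmod_val, mul_comm]; rfl

theorem kap_bet (k : Fin d → ZMod 2) : kap c (bet b k) = k := by
  have := kap_smul_bet (b := b) (c := c) 1 k
  simp only [one_smul, F.dual] at this
  rw [this, show (Matrix.of fun i j : Fin d => (Pi.single j 1 : Fin d → ZMod 2) i) = 1 from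
    Matrix.ext fun i j => by simp [Pi.single_apply, Matrix.one_apply], one_mulVec]

theorem E2_iff (hx : CF g x) (hy : CF g y) : E2 x y ↔ kap c x = kap c y :=
  ⟨fun h => h.kap c, fun h => F.inj _ ((hx.add hy).of_E2 (E2.sub _ _).symm) (by rw [_root_.map_sub, h, sub_self])⟩

theorem E2_bet (hx : CF g x) : E2 x (bet b (kap c x)) :=
  (F.E2_iff hx (F.cbet _)).2 (F.kap_bet _).symm

theorem kap_smul (n : Co0) (hx : CF g x) :
    kap c (n • x) = (Matrix.of fun i j => kap c (n • b j) i) *ᵥ kap c x := by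
  rw [← kap_smul_bet]; exact ((F.E2_bet hx).smul n).kap c

/-- The action of the centraliser on the fixed classes. -/
noncomputable def rho : C1(g) →* Matrix (Fin d) (Fin d) (ZMod 2) where
  toFun n := Matrix.of fun i j => kap c (n.1 • b j) i
  map_one' := Matrix.ext fun i j => by simp [F.dual, Pi.single_apply, Matrix.one_apply]
  map_mul' n m := Matrix.ext fun i j => by
    rw [Matrix.of_apply, coe_mul, mul_smul, F.kap_smul _ ((F.cb j).cent m.2)]; rfl

theorem rho_eq_one {n : C1(g)} : F.rho n = 1 ↔ ∀ x, CF g x → E2 (n.1 • x) x :=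
  ⟨fun h x hx => (F.E2_iff (hx.cent n.2) hx).2 ((F.kap_smul _ hx).trans (by
    rw [show (Matrix.of fun i j => kap c (n.1 • b j) i) = 1 from h, one_mulVec])),
    fun h => Matrix.ext fun i j => by
      rw [← map_one F.rho]; exact congrFun (((h _ (F.cb j)).trans (E2.of_eq (one_smul _ _).symm)).kap c) i⟩

theorem card_sing {e : ℕ} (he : d = 2 * e) :
    2 * {k | qf (bet b k) = 0}.ncard ≤ (2 ^ e) ^ 2 + 2 ^ e := by
  have h1 : ∀ k l, E2 (bet b (k + l)) (bet b k + bet b l) := fun k l =>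
    (F.E2_iff (F.cbet _) ((F.cbet _).add (F.cbet _))).2 (by simp only [map_add, F.kap_bet])
  refine sing_count _ (fun k l => bf2 (bet b k) (bet b l)) (fun k l => (h1 k l).qf_eq.trans (qf_add _ _))
    (fun k l m => ((h1 k l).bf2 _).trans (bf2_add _ _ _)) (fun l hl => ?_) (by simp [he, ← pow_mul, mul_comm])
  obtain ⟨j, hj⟩ := Function.ne_iff.1 hl
  exact ⟨kap c (c j), by rwa [← (F.E2_bet (F.cc j)).bf2, bf2_comm, ← kap_apply, F.kap_bet]⟩

theorem ncard_Ty {e : ℕ} (he : d = 2 * e) :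
    2 * (1 + (TyK g c 32).ncard + (TyK g c 64).ncard) ≤ (2 ^ e) ^ 2 + 2 ^ e := by
  have h1 : ∀ {n m : ℤ}, n ≤ 64 → m ≤ 64 → n ≠ m → Disjoint (TyK g c n) (TyK g c m) := fun hn hm h =>
    Set.disjoint_left.2 fun k ⟨x, hx, e, e1⟩ ⟨y, hy, e', e2⟩ => h (by
      rw [← e, ← e', ((F.E2_iff hx hy).2 (e1.trans e2.symm)).norm_eq (e ▸ hn) (e' ▸ hm)])
  have h2 : ∀ {n : ℤ}, 32 ∣ n → TyK g c n ⊆ {k | qf (bet b k) = 0} := fun hn k ⟨x, hx, e, e1⟩ =>
    (e1 ▸ F.E2_bet hx).qf_eq.symm.trans (qf_eq_zero.2 (e ▸ hn))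
  have h3 : 1 ≤ (TyK g c 0).ncard := (Set.ncard_pos (Set.toFinite _)).2
    ⟨_, 0, E2.of_eq (smul_zero _), by simp [sqNorm], rfl⟩
  have h4 := Set.ncard_le_ncard (Set.union_subset (Set.union_subset (h2 (n := 0) (by norm_num))
    (h2 (n := 32) (by norm_num))) (h2 (n := 64) (by norm_num)))
  rw [Set.ncard_union_eq (Set.disjoint_union_left.2 ⟨h1 (by norm_num) le_rfl (by norm_num),
    h1 (by norm_num) le_rfl (by norm_num)⟩), Set.ncard_union_eq (h1 (by norm_num) (by norm_num) (by norm_num))] at h4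
  have := F.card_sing he
  omega

theorem card_eq (hg : g ∈ Mon) {n : Co0} {k : ℕ} (h : g * n = n * g ^ k) :
    Nat.card C1(g) = ((fun y => kap c (n • y • fr none)) '' SetLike.coe C1(g)).ncard * Nat.card (C1(g) ⊓ Mon : Subgroup Co0) ∧
      (fun y => kap c (n • y • fr none)) '' SetLike.coe C1(g) ⊆ TyK g c 64 := by
  have h0 : CF g (fr none) := (mem_Mon_iff_E2 _).1 hg
  refine ⟨ncard_eq_mul_image (Set.toFinite _) _ fun x hx => ?_, ?_⟩
  · rw [← Nat.card_coe_set_eq]
    have key : ∀ y ∈ C1(g), kap c (n • y • fr none) = kap c (n • x • fr none) ↔ x⁻¹ * y ∈ Mon := fun y hy => by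
      rw [← F.E2_iff ((h0.cent hy).smul h) ((h0.cent hx).smul h), mem_Mon_iff_E2 none, mul_smul]
      exact ⟨fun e => by simpa using (e.of_smul _).smul x⁻¹, fun e => by simpa using (e.smul x).smul n⟩
    refine Nat.card_congr ⟨fun y => ⟨x⁻¹ * y, C1(g).mul_mem (C1(g).inv_mem hx) y.2.1, (key _ y.2.1).1 y.2.2⟩,
      fun y => ⟨x * y, mul_mem hx y.2.1, (key _ (mul_mem hx y.2.1)).2 (by simpa using y.2.2)⟩,
      fun y => by simp, fun y => by simp⟩
  · rintro _ ⟨y, hy, rfl⟩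
    exact ⟨_, (h0.cent hy).smul h, by rw [sqNorm_smul, sqNorm_smul, norm_fr], rfl⟩

theorem card_le (hg : g ∈ Mon) :
    Nat.card C1(g) ≤ (TyK g c 64).ncard * Nat.card (C1(g) ⊓ Mon : Subgroup Co0) := by
  obtain ⟨h1, h2⟩ := F.card_eq hg (n := 1) (k := 1) (by simp)
  rw [h1]
  exact Nat.mul_le_mul_right _ (Set.ncard_le_ncard h2)

theorem card_le_half (hg : g ∈ Mon) {n : Co0} {k : ℕ} (h : g * n = n * g ^ k)
    (hn : ∀ m ∈ Mon, g * m ≠ m * g ^ k) :
    2 * Nat.card C1(g) ≤ (TyK g c 64).ncard * Nat.card (C1(g) ⊓ Mon : Subgroup Co0) := by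
  have h0 : CF g (fr none) := (mem_Mon_iff_E2 _).1 hg
  obtain ⟨h1, h2⟩ := F.card_eq hg (n := 1) (k := 1) (by simp)
  obtain ⟨h3, h4⟩ := F.card_eq hg h
  have h5 := Set.ncard_le_ncard (Set.union_subset h2 h4)
  rw [Set.ncard_union_eq (Set.disjoint_left.2 ?_)] at h5
  · nlinarith
  · rintro _ ⟨x, hx, rfl⟩ ⟨y, hy, e⟩
    have e := (F.E2_iff ((h0.cent hy).smul h) (h0.cent hx)).2 (by simpa using e)
    refine hn (x⁻¹ * n * y) ((mem_Mon_iff_E2 none).2 (by simpa [mul_smul] using e.smul x⁻¹)) ?_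
    rw [← mul_assoc, ← mul_assoc, ← mem_C1.1 (inv_mem hx), mul_assoc x⁻¹, h, mul_assoc, mul_assoc,
      ← mem_C1.1 (mem_C1_comm.1 (pow_mem (mem_C1_comm.1 hy) k))]
    simp only [mul_assoc]

end FX

theorem card_cent_Mon (σ : M24) : Nat.card (C1(permH σ) ⊓ Mon : Subgroup Co0) ≤
    {s | s ∈ GC ∧ σ • s = s}.ncard * Nat.card C1(σ) := by
  rw [← Nat.card_coe_set_eq, ← Nat.card_prod]
  have key : ∀ y : (C1(permH σ) ⊓ Mon : Subgroup Co0), ∃ x : {s | s ∈ GC ∧ σ • s = s} × C1(σ),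
      y.1 = sgn x.1.1 x.1.2.1 * permH x.2.1 := by
    rintro ⟨_, hy, τ, s, hs, rfl⟩
    have e := mem_C1.1 hy
    rw [mul_assoc, ← map_mul, ← mul_assoc, ← inv_mul_cancel_right (permH σ * sgn s hs) (permH σ),
      ← sgn_smul, mul_assoc, ← map_mul] at e
    exact ⟨(⟨s, hs, (mon_inj e).2.symm⟩, ⟨τ, mem_C1.2 (mon_inj e).1⟩), rfl⟩
  choose f hf using key
  exact Nat.card_le_card_of_injective f fun x y e => Subtype.ext (by rw [hf, hf, e])

end H14
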