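import Cfsg.Agent.H14.Amal
import Cfsg.Agent.H14.HNS
import Cfsg.Agent.H15.HN
import Cfsg.Agent.L.Out2
import Cfsg.Agent.L.Br2

/-! The relators of the presented group `HN` (`Rl`, `hom_of_rl`), relations checked in the faithful
representation (`rels_rho`), and the Schur multiplier (`schur_HN`). -/

set_option autoImplicit false

namespace H14.HN
open Cfsg L Cfsg.Spor H15.HN
open scoped commutatorElement

section
variable {Γ : Type*} [Group Γ]

/-- the relators -/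
structure Rl (x y z t : Γ) : Prop where
  r1 : y ^ 6 = 1
  r2 : x ^ 2 * y * x ^ 2 * y⁻¹ = 1
  r3 : (x⁻¹ * y⁻¹ * x * y) ^ 3 = 1
  r4 : (x⁻¹ * y ^ 2 * x * y ^ 3) ^ 3 = 1
  r5 : (x * y) ^ 8 = 1
  r6 : (x * y * x * y ^ 3) ^ 4 = 1
  r7 : z ^ 2 = 1
  r8 : (z * x) ^ 2 = 1
  r9 : z⁻¹ * (y * x * y * x * y ^ 2 * x * y⁻¹)⁻¹ * z * (y * x * y * x * y ^ 2 * x * y⁻¹) * (x ^ 2)⁻¹ = 1
  r10 : z * ((y ^ 3 * x * y * x * y)⁻¹ * z * (y ^ 3 * x * y * x * y) * x) ^ 3 = 1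
  r11 : t ^ 5 = 1
  r12 : x⁻¹ * t * x * t ^ 2 = 1
  r13 : t⁻¹ * y⁻¹ * t * y = 1
  r14 : (z * t) ^ 3 = 1

theorem hom_of_rl {x y z t : Γ} (h : Rl x y z t) :
    ∃ φ : Spor.HN →* Γ, φ (g 0) = x ∧ φ (g 1) = y ∧ φ (g 2) = z ∧ φ (g 3) = t := by
  let f : HN.Gen → Γ := fun a => match a with | .x => x | .y => y | .z => z | .t => t
  refine ⟨PresentedGroup.toGroup (f := f) ?_, PresentedGroup.toGroup.of _, PresentedGroup.toGroup.of _,
    PresentedGroup.toGroup.of _, PresentedGroup.toGroup.of _⟩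
  rintro r (⟨a, ha, -⟩ | hr)
  · simp [coxNodes, HN.edges] at ha
  · revert r
    simp only [HN.extra, Set.mem_setOf_eq, List.forall_mem_cons, map_mul, map_pow, map_inv,
      FreeGroup.lift_apply_of]
    exact ⟨h.1, h.2, h.3, h.4, h.5, h.6, h.7, h.8, h.9, h.10, h.11, h.12, h.13, h.14, fa_nil⟩

end

theorem rl : Rl (g 0) (g 1) (g 2) (g 3) := by
  have h : ∀ r ∈ HN.extra, FreeGroup.lift (H15.pof HN.edges HN.extra) r = 1 := fun _ => H15.extra_rel
  simp only [HN.extra, List.forall_mem_cons, map_mul, map_pow, map_inv, FreeGroup.lift_apply_of] at h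
  obtain ⟨h1, h2, h3, h4, h5, h6, h7, h8, h9, h10, h11, h12, h13, h14, -⟩ := h
  exact ⟨h1, h2, h3, h4, h5, h6, h7, h8, h9, h10, h11, h12, h13, h14⟩

theorem hom_ext {Γ : Type*} [Group Γ] {φ ψ : Spor.HN →* Γ} (h : ∀ l < 4, φ (g l) = ψ (g l)) : φ = ψ :=
  PresentedGroup.ext fun a => by
    have := h (ix a) (by cases a <;> decide)
    rwa [g_ix] at this

theorem rels_rho {l : List (Word × Word)} (h : H15.HNM.c.rels H15.HNM.ms l = true)
    (h' : l.all (fun p => (p.1 ++ p.2).all (Nat.blt · 8)) = true) : Rels g l := fun p hp => by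
  have h1 : ∀ a ∈ p.1 ++ p.2, a < 2 * 4 := fun a ha => by
    simpa using List.all_eq_true.1 (List.all_eq_true.1 h' p hp) a ha
  refine main.2.1 ?_
  rw [map_ev, map_ev, ev_congr rho_g fun a ha => h1 a (List.mem_append_left _ ha),
    ev_congr rho_g fun a ha => h1 a (List.mem_append_right _ ha)]
  exact H15.BP.rels_of_chk H15.HNM.c_ok H15.HNM.hgen h p hp

theorem rc : H15.HNM.c.rels H15.HNM.ms [([0, 0, 0, 0], []), ([4, 0, 0], [0, 0, 4]),
    ([0, 0, 6, 4, 7, 7], [6, 4, 7, 7, 4]), (powW [6, 6, 4] 5, []), (powW [6, 6, 0, 0, 4] 3, [])] = true := by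
  decide +kernel

theorem facts : g 0 ^ 2 * g 0 ^ 2 = 1 ∧ g 0 ^ 2 * g 2 = g 2 * g 0 ^ 2 ∧
    (g 3)⁻¹ * (g 3)⁻¹ * g 2 * g 3 * g 0 ^ 2 = g 2 * ((g 3)⁻¹ * (g 3)⁻¹ * g 2 * g 3) ∧
    (g 2 * g 3 ^ 2) ^ 5 = 1 ∧ (g 2 * g 0 ^ 2 * g 3 ^ 2) ^ 3 = 1 := by
  have h := rels_rho rc (by decide +kernel)
  simp only [Rels, List.forall_mem_cons, ev_powW] at h
  simpa [letter, sq, mul_assoc] using h

section
variable {Γ : Type*} [Group Γ] {σ : Γ →* Spor.HN} {p : ℕ} (h : CE σ p)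
include h

theorem lift_t (hp : Nat.Coprime p 5 ∨ Nat.Coprime p 3) {x y : Γ} (hx : σ x = g 0) (hy : σ y = g 1)
    (h6 : y ^ 6 = 1) : ∃ t, σ t = g 3 ∧ t ^ 5 = 1 ∧ x⁻¹ * t * x * t ^ 2 = 1 ∧ t⁻¹ * y⁻¹ * t * y = 1 := by
  have key : ∃ t, σ t = g 3 ∧ t ^ 5 = 1 ∧ x⁻¹ * t * x * t ^ 2 = 1 := by
    rcases hp with hp | hp
    · obtain ⟨t, h1, h2⟩ := lift_ord h hp rl.r11
      refine ⟨t, h1, h2, mul_eq_one_iff_eq_inv.2 (eq_of_pow h hp ?_ ?_ ?_)⟩
      · simp only [map_mul, map_inv, map_pow, hx, h1]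
        exact mul_eq_one_iff_eq_inv.1 rl.r12
      · have := conj_pow (a := x⁻¹) (b := t) (i := 5)
        rw [inv_inv] at this
        rw [this, h2, mul_one, inv_mul_cancel]
      · rw [inv_pow, ← pow_mul, mul_comm, pow_mul, h2, one_pow, inv_one]
    · obtain ⟨t, h1⟩ := h.surj (g 3)
      obtain ⟨d, h2, h3⟩ := exists_root h hp (c := x⁻¹ * t * x * t ^ 2) (by
        simp only [map_mul, map_inv, map_pow, hx, h1]; exact rl.r12)
      have h4 : x⁻¹ * (t * d) * x * (t * d) ^ 2 = 1 := by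
        rw [mul_pow_of h h2, ← h3]
        calc _ = x⁻¹ * t * (d * (x * t ^ 2)) * d ^ 2 := by simp only [mul_assoc]
          _ = _ := by rw [← CE_comm h h2]; simp [pow_succ, mul_assoc]
      have h5 : σ (t * d) = g 3 := by rw [map_mul, h1, h2, mul_one]
      generalize t * d = s at h4 h5
      refine ⟨s, h5, ?_, h4⟩
      have h6 : σ (s ^ 5) = 1 := by rw [map_pow, h5, rl.r11]
      refine eq_one_of_pow h hp h6 ?_
      have := conj_pow (a := x⁻¹) (b := s) (i := 5)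
      rw [inv_inv, mul_eq_one_iff_eq_inv.1 h4, CE_comm h h6, inv_mul_cancel_right, inv_pow,
        inv_eq_iff_mul_eq_one] at this
      rw [← this]; group
  obtain ⟨t, h1, h2, h3⟩ := key
  refine ⟨t, h1, h2, h3, ?_⟩
  have h4 : σ (t⁻¹ * y⁻¹ * t * y) = 1 := by
    simp only [map_mul, map_inv, hy, h1]; exact rl.r13
  have h5 : y⁻¹ * t * y = t * (t⁻¹ * y⁻¹ * t * y) := by group
  generalize t⁻¹ * y⁻¹ * t * y = e at h4 h5
  have h7 : ∀ k : ℕ, (y ^ k)⁻¹ * t * y ^ k = t * e ^ k := fun k => by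
    induction k with
    | zero => simp
    | succ k ih =>
      calc _ = y⁻¹ * ((y ^ k)⁻¹ * t * y ^ k) * y := by group
        _ = y⁻¹ * t * (e ^ k * y) := by rw [ih]; group
        _ = _ := by
          rw [← CE_comm h (c := e ^ k) (by rw [map_pow, h4, one_pow]), ← mul_assoc, h5]; group
  have h8 := h7 6
  have h9 := conj_pow (a := y⁻¹) (b := t) (i := 5)
  rw [h6, inv_one, one_mul, mul_one, left_eq_mul] at h8
  rw [inv_inv, h5, mul_pow_of h h4, h2, one_mul, mul_one, inv_mul_cancel] at h9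
  rwa [pow_succ, h9, one_mul] at h8

theorem lift_z (hp : Nat.Coprime p 2 ∨ p = 2) {x t : Γ} (hx : σ x = g 0) (ht : σ t = g 3)
    (h4 : x ^ 2 * x ^ 2 = 1) (h5 : t ^ 5 = 1) (h6 : x⁻¹ * t * x * t ^ 2 = 1) :
    ∃ z, σ z = g 2 ∧ z ^ 2 = 1 ∧ (z * t) ^ 3 = 1 := by
  rcases hp with hp | rfl
  · obtain ⟨z, h1, h2⟩ := lift_ord h hp rl.r7
    have h3 : σ ((z * t) ^ 3) = 1 := by rw [map_pow, map_mul, h1, ht, rl.r14]
    refine ⟨z, h1, h2, eq_one_of_pow h hp h3 ?_⟩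
    have e1 : (x ^ 2)⁻¹ * z * x ^ 2 = z := by
      refine eq_of_pow h hp ?_ ?_ h2
      · simp only [map_mul, map_inv, map_pow, hx, h1]
        rw [mul_assoc, ← facts.2.1, inv_mul_cancel_left]
      · calc _ = (x ^ 2)⁻¹ * z ^ 2 * x ^ 2 := by simp [pow_succ, mul_assoc]
          _ = 1 := by rw [h2]; group
    have e0 : x⁻¹ * t * x = (t ^ 2)⁻¹ := mul_eq_one_iff_eq_inv.1 h6
    have e2 : (x ^ 2)⁻¹ * t * x ^ 2 = t⁻¹ := by
      calc _ = x⁻¹ * (x⁻¹ * t * x) * x := by simp [pow_succ, mul_assoc]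
        _ = x⁻¹ * (t ^ 2)⁻¹ * x := by rw [e0]
        _ = ((x⁻¹ * t * x) ^ 2)⁻¹ := by simp [pow_succ, mul_assoc]
        _ = t ^ 5 * t⁻¹ := by rw [e0]; group
        _ = _ := by rw [h5, one_mul]
    have e3 : (z * t) ^ 3 = (z * t⁻¹) ^ 3 := by
      calc _ = (x ^ 2)⁻¹ * (z * t) ^ 3 * x ^ 2 := by rw [CE_comm h h3, inv_mul_cancel_right]
        _ = ((x ^ 2)⁻¹ * z * x ^ 2 * ((x ^ 2)⁻¹ * t * x ^ 2)) ^ 3 := by
          simp only [pow_succ (_ * _), pow_zero]; group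
        _ = _ := by rw [e1, e2]
    have e4 : z⁻¹ = z := inv_eq_of_mul_eq_one_left (by rw [← sq, h2])
    have e5 : (z * t) ^ 3 = z⁻¹ * (z * t) ^ 3 * z := by rw [CE_comm h h3, inv_mul_cancel_right]
    rw [sq]
    nth_rewrite 1 [e5]
    nth_rewrite 2 [e3]
    rw [← show (z⁻¹ * t⁻¹) ^ 3 = (z * t⁻¹) ^ 3 by rw [e4]]
    simp [pow_succ, mul_assoc]
  · obtain ⟨z, h1⟩ := h.surj (g 2)
    obtain ⟨d, h2, h3⟩ := exists_root h (q := 3) (by decide) (c := (z * t) ^ 3) (by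
      rw [map_pow, map_mul, h1, ht, rl.r14])
    refine ⟨z * d, by rw [map_mul, h1, h2, mul_one], ?_, by
      rw [mul_assoc, ← CE_comm h h2, ← mul_assoc, mul_pow_of h h2, h3]⟩
    have e1 : σ ((t⁻¹ * t⁻¹ * z * t * x ^ 2 * (t⁻¹ * t⁻¹ * z * t)⁻¹)⁻¹ * (z * d)) = 1 := by
      simp only [map_mul, map_inv, map_pow, hx, h1, ht, h2]
      rw [facts.2.2.1]; group
    have := mul_pow_of h e1 (t⁻¹ * t⁻¹ * z * t * x ^ 2 * (t⁻¹ * t⁻¹ * z * t)⁻¹) 2
    rw [mul_inv_cancel_left, h.exp _ e1, conj_pow, sq (x ^ 2), h4] at this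
    rw [this]; group

end

/-- the machine with the letters of the certificate -/
noncomputable def MS : PM Y (H15.Pt pi) 1408 H14HNS.nets := H14HNS.mach (encPM M) (real_take _ rfl)

theorem MS_gen : ∀ l < 3, theta (MS.gen l) = g l := fun l hl => by
  rw [gen_eq_take M MS rfl (k := 3) rfl hl, theta_gen l hl]

theorem secK {p : ℕ} (hp : p ∈ [2, 3, 5]) (Γ : Type) [Group Γ] [Finite Γ] (σ : Γ →* Y) (h : CE σ p) :
    Sec σ (sub MS.gen H14HNS.wsK) := by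
  simp only [List.mem_cons, List.not_mem_nil, or_false] at hp
  rcases hp with rfl | rfl | rfl
  · exact (H14HNS.T2 MS Γ σ h fa_nil).mono (H14HNS.KC MS)
  · exact (secTop_gas cardY (H14HNS.UP MS) (H14HNS.LP MS) (by decide +kernel) (H14HNS.T3 MS)
      Γ σ h fa_nil).mono le_top
  · exact (secTop_gas cardY (H14HNS.UQ MS) (H14HNS.LQ MS) (by decide +kernel) (H14HNS.T5 MS)
      Γ σ h fa_nil).mono le_top

theorem secTop {p : ℕ} (hp : p ∈ [2, 3, 5]) : SecTop g p [] := fun Γ _ _ σ h _ => by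
  obtain ⟨N, h1, h2, h3⟩ := exists_norm h (sec_of_inj main.1 (secK hp) h)
  have hD : ∀ l < 2, ∃ n ∈ N, σ n = g l := fun l hl => h2 _ (by
    rw [← Subgroup.map_commutator, ← MS_gen l (by omega)]
    refine Subgroup.mem_map_of_mem _ ((H14HNS.KD MS).trans ((sub_le _).2 ?_)
      (ev_single MS.gen l ▸ ev_mem_sub _ (by interval_cases l <;> simp)))
    intro w hw
    obtain ⟨q, -, rfl⟩ := List.mem_map.1 hw
    rw [ev_commW]
    have := Subgroup.commutator_mem_commutator (inv_mem (ev_flat_mem MS.gen H14HNS.wsK q.2))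
      (inv_mem (ev_flat_mem MS.gen H14HNS.wsK q.1))
    rwa [commutatorElement_def, inv_inv, inv_inv] at this)
  obtain ⟨x, hx, ex⟩ := hD 0 (by decide)
  obtain ⟨y, hy, ey⟩ := hD 1 (by decide)
  have hp' : p = 2 ∨ p = 3 ∨ p = 5 := by simpa using hp
  have h6 : y ^ 6 = 1 := h1 _ (pow_mem hy _) (by rw [map_pow, ey, rl.r1])
  obtain ⟨t, et, t1, t2, t3⟩ := lift_t h (by rcases hp' with rfl | rfl | rfl <;> decide) ex ey h6
  obtain ⟨z, ez, z1, z2⟩ := lift_z h (by rcases hp' with rfl | rfl | rfl <;> decide) ex et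
    (h1 _ (mul_mem (pow_mem hx _) (pow_mem hx _)) (by rw [map_mul, map_pow, ex, facts.1])) t1 t2
  have e4 : z⁻¹ = z := inv_eq_of_mul_eq_one_left (by rw [← sq, z1])
  have hz : ∀ n ∈ N, z * n * z ∈ N := fun n hn => by
    have := h3 z (fun k hk => ?_) n hn
    · rwa [e4] at this
    have e : g 2 * g 2 = 1 := by rw [← sq, rl.r7]
    rw [map_sub] at hk ⊢
    refine (sub_le _ (H := (sub _ H14HNS.wsK).comap (MulAut.conj (σ z)).toMonoidHom)).2 ?_ hk
    have a := fun w (hw : w ∈ H14HNS.wsK) => ev_mem_sub (fun l => theta (MS.gen l)) hw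
    simp only [H14HNS.wsK, List.forall_mem_cons] at a ⊢
    simp [letter, MS_gen, ez, inv_eq_of_mul_eq_one_left e, mul_assoc, e, ← mul_assoc (g 2) (g 2)] at a ⊢
    exact ⟨a.2.2.1, a.2.2.2, a.1, a.2.1⟩
  have m : ∀ {n}, n ∈ N → σ n = 1 → n = 1 := fun h => h1 _ h
  have s : ∀ {w}, w ∈ N → z⁻¹ * w * z ∈ N := fun h => e4.symm ▸ hz _ h
  have R : Rl x y z t := by
    refine ⟨h6, m ?_ ?_, m ?_ ?_, m ?_ ?_, m ?_ ?_, m ?_ ?_, z1, m ?_ ?_, m ?_ ?_, m ?_ ?_, t1, t2, t3, z2⟩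
    · apply_rules [mul_mem, inv_mem, pow_mem]
    · simpa only [map_mul, map_inv, map_pow, ex, ey, ez] using rl.r2
    · apply_rules [mul_mem, inv_mem, pow_mem]
    · simpa only [map_mul, map_inv, map_pow, ex, ey, ez] using rl.r3
    · apply_rules [mul_mem, inv_mem, pow_mem]
    · simpa only [map_mul, map_inv, map_pow, ex, ey, ez] using rl.r4
    · apply_rules [mul_mem, inv_mem, pow_mem]
    · simpa only [map_mul, map_inv, map_pow, ex, ey, ez] using rl.r5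
    · apply_rules [mul_mem, inv_mem, pow_mem]
    · simpa only [map_mul, map_inv, map_pow, ex, ey, ez] using rl.r6
    · rw [sq, ← mul_assoc]; exact mul_mem (hz _ hx) hx
    · simpa only [map_mul, map_inv, map_pow, ex, ey, ez] using rl.r8
    · refine mul_mem (mul_mem (s (inv_mem ?_)) ?_) ?_ <;> apply_rules [mul_mem, inv_mem, pow_mem]
    · simpa only [map_mul, map_inv, map_pow, ex, ey, ez] using rl.r9
    · have hv : y ^ 3 * x * y * x * y ∈ N := by apply_rules [mul_mem, inv_mem, pow_mem]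
      generalize y ^ 3 * x * y * x * y = v at hv
      have : z * (v⁻¹ * z * v * x) ^ 3 =
          z * v⁻¹ * z * (v * x * v⁻¹) * (z * (v * x * v⁻¹) * z) * (v * x) := by simp [pow_succ, mul_assoc]
      rw [this]
      have hw : v * x * v⁻¹ ∈ N := mul_mem (mul_mem hv hx) (inv_mem hv)
      exact mul_mem (mul_mem (mul_mem (hz _ (inv_mem hv)) hw) (hz _ hw)) (mul_mem hv hx)
    · simpa only [map_mul, map_inv, map_pow, ex, ey, ez] using rl.r10
  obtain ⟨φ, f0, f1, f2, f3⟩ := hom_of_rl R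
  refine sec_of_hom φ fun a => DFunLike.congr_fun (hom_ext (φ := σ.comp φ) (ψ := MonoidHom.id _)
    fun l hl => ?_) a
  interval_cases l <;> simp [*]

theorem schur_HN : HasCyclicSchurMultiplier Spor.HN 1 :=
  haveI := fin_of_card main.2.2.2.1 (by decide)
  schur_triv' (gen := g) main.2.2.2.1 (ms := [2, 3, 5]) (a := 186624000000) (b := 1463) (k := 14) (B := 39)
    (by decide +kernel) fun _ => secTop

end H14.HN
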