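import Cfsg.Agent.H14.HNa
import Cfsg.Agent.H14.HNO
import Cfsg.Agent.H14.Amal2

/-! The outer automorphism group of the presented group `HN` has order 2 (`out_HN`). -/

set_option autoImplicit false

namespace H14.HN
open Cfsg L Cfsg.Spor H15.HN H15.DC MulAction

instance : Finite Spor.HN := fin_of_card main.2.2.2.1 (by decide)
instance : Finite Y := fin_of_card cardY (by decide)

/-- the subgroup `2.HS.2` -/
noncomputable abbrev HH : Subgroup Spor.HN := theta.range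
/-- the stabiliser of a coset -/
noncomputable def St (x : Spor.HN) : Subgroup Y := (stabilizer Spor.HN (x : Spor.HN ⧸ HH)).comap theta

theorem mem_St {x : Spor.HN} {y : Y} : y ∈ St x ↔ x⁻¹ * theta y * x ∈ HH :=
  (QuotientGroup.eq.trans (by simp [mul_assoc])).trans inv_mem_iff

theorem uu : g 0 ^ 2 * g 0 ^ 2 = 1 := facts.1

theorem gH {l : ℕ} (hl : l < 3) : g l ∈ HH := ⟨_, theta_gen l hl⟩

theorem cu {x : Spor.HN} (hx : x ∈ HH) : Commute (g 0 ^ 2) x := by
  have : HH ≤ Subgroup.centralizer {g 0 ^ 2} := by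
    rw [HH, range_theta]
    refine H15.lts_le fun l hl => Subgroup.mem_centralizer_singleton_iff.2 ?_
    interval_cases l
    · group
    · have := rl.r2
      rw [mul_inv_eq_one, mul_assoc, ← eq_inv_mul_iff_mul_eq, inv_eq_of_mul_eq_one_left uu] at this
      exact this
    · exact facts.2.1.symm
  exact (Subgroup.mem_centralizer_singleton_iff.1 (this hx)).symm

theorem xt : (g 0)⁻¹ * g 3 * g 0 = (g 3 ^ 2)⁻¹ := mul_eq_one_iff_eq_inv.1 rl.r12

theorem xt' : g 0 * g 3 = g 3 ^ 2 * g 0 := by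
  calc _ = g 0 * ((g 3 ^ 5)⁻¹ * g 3) := by rw [rl.r11]; simp
    _ = g 0 * ((g 0)⁻¹ * g 3 * g 0) ^ 2 := by rw [xt]; group
    _ = _ := by simp [pow_succ, mul_assoc]

theorem ut : g 0 ^ 2 * g 3 = (g 3)⁻¹ * g 0 ^ 2 := by
  rw [pow_conj_of xt' 2]
  congr 1
  exact eq_inv_of_mul_eq_one_left rl.r11

theorem ut' : g 0 ^ 2 * (g 3)⁻¹ = g 3 * g 0 ^ 2 := by
  rw [mul_inv_eq_iff_eq_mul, mul_assoc, ut, mul_inv_cancel_left]

theorem tH : g 3 ∉ HH := fun h => by
  have := main.2.2.1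
  rw [hgen _ le_rfl h, Subgroup.index_top] at this
  exact absurd this (by decide)

theorem t2 : g 3 ^ 2 ≠ 1 := fun h => tH (by
  have : g 3 = 1 := by rw [← rl.r11, show g 3 ^ 5 = g 3 ^ 2 * g 3 ^ 2 * g 3 by group, h]; simp
  exact this ▸ one_mem _)

theorem cl : (∀ X : Subgroup Spor.HN, HH ≤ X → X = HH ∨ X = ⊤) ∧
    (∀ y, y ∈ St (g 3) ↔ y • M.dec 0 = M.dec 0) ∧ (St (g 3)).index = 1408 ∧
    ∀ x : Spor.HN, x ∈ HH ∨ (11 ∣ (St x).index ∧ ((St x).index = 1408 → ∃ y, ∃ h ∈ HH, x = theta y * g 3 * h)) := by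
  have := H15.HNX.hF
  obtain ⟨E, h⟩ := H15.HNX.ex_cl M cardY hyp.1 hyp.2 hgen
  have hi : theta.range.index = 1 + (H15.HNX.cs.map CI.m).sum := main.2.2.1.trans (by decide +kernel)
  have h1 : om E theta (g 3) H15.HNX.row 1 = (g 3 : Spor.HN) := by rw [om, h.gel_one]
  have h2 : ∀ c ∈ H15.HNX.cs, 11 ∣ c.m ∧ (c.m = 1408 ↔ c.i = 1) ∧ (c.i = 1 → pop 1408 H15.HNX.O ≤ c.m) := by
    decide +kernel
  refine ⟨h.max, fun y => ?_, ?_, fun x => ?_⟩
  · rw [← h.stab_iff hi (by simpa [rw14] using hyp.2 _ List.mem_cons_self) fun c hc => (h2 c hc).2.2, mem_St]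
    have e : (g 3)⁻¹ * theta y * g 3 = g 0 ^ 2 * (g 3 * theta y * (g 3)⁻¹) * (g 0 ^ 2)⁻¹ := by
      rw [← mul_assoc, ← mul_assoc, ut, mul_assoc (g 3)⁻¹ (g 0 ^ 2), (cu ⟨y, rfl⟩).eq, ← mul_assoc,
        mul_assoc _ (g 0 ^ 2), ut', ← mul_assoc, mul_inv_cancel_right]
    rw [e, mul_mem_cancel_right (inv_mem (pow_mem (gH (by decide)) _)),
      mul_mem_cancel_left (pow_mem (gH (by decide)) _)]
  · obtain ⟨c, hc, e⟩ := h.one_mem
    rw [St, ← ncard_range, ← h1, ← e, h.ncard_eq hi hc, (h2 c hc).2.1.2 e]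
  · obtain ⟨j, hj, y, e⟩ := h.cover (x : Spor.HN ⧸ HH)
    rcases List.mem_cons.1 hj with rfl | hj
    · refine Or.inl ?_
      rw [om, gel] at e
      have : (theta y * 1)⁻¹ * x ∈ HH := QuotientGroup.eq.1 e
      exact (mul_mem_cancel_left (inv_mem (mul_mem (show _ ∈ HH from ⟨y, rfl⟩) (one_mem _)))).1 this
    obtain ⟨c, hc, rfl⟩ := List.mem_map.1 hj
    have h3 : (St x).index = c.m := by
      rw [St, ← ncard_range, ← h.ncard_eq hi hc, ← e]
      congr 1
      ext z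
      exact ⟨fun ⟨g, e⟩ => ⟨g * y, by simpa [mul_smul] using e⟩,
        fun ⟨g, e⟩ => ⟨g * y⁻¹, by simpa [mul_smul] using e⟩⟩
    refine Or.inr ⟨h3 ▸ (h2 c hc).1, fun h4 => ⟨y, (theta y * g 3)⁻¹ * x, ?_, by group⟩⟩
    rw [(h2 c hc).2.1.1 (h3 ▸ h4), h1] at e
    exact QuotientGroup.eq.1 e

theorem mem_of_cu {x : Spor.HN} (h : x * g 0 ^ 2 = g 0 ^ 2 * x) : x ∈ HH := by
  rcases cl.1 (Subgroup.centralizer {g 0 ^ 2}) (fun y hy =>
    Subgroup.mem_centralizer_singleton_iff.2 (cu hy).symm) with e | e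
  · exact e.le (Subgroup.mem_centralizer_singleton_iff.2 h)
  · have := Subgroup.mem_centralizer_singleton_iff.1 (e.ge (Subgroup.mem_top (g 3)))
    rw [ut, mul_left_inj, eq_inv_iff_mul_eq_one, ← sq] at this
    exact absurd this t2

theorem fc : allN (fun q => bor (List.elem q [0, 2, 4, 1]) (bor
    (bnot (Nat.beq (apW H15.HNX.F [2] q) q)) (bnot (Nat.beq (apW H15.HNX.F [0, 2, 1] q) q)))) 1408 = true := by
  decide +kernel

theorem fc2 : allN (fun i => Nat.beq (apW H15.HNX.F (powW [0] i) 0) (getL 0 [0, 2, 4, 1] i)) 4 = true := by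
  decide +kernel

/-- an automorphism fixing `HH` is trivial or the conjugation by the central involution -/
theorem fix_HH {γ : MulAut Spor.HN} (h : ∀ y, γ (theta y) = theta y) :
    γ = 1 ∨ MulAut.conj (g 0 ^ 2) * γ = 1 := by
  have := H15.HNX.hF
  have hH : ∀ x ∈ HH, γ x = x := by rintro _ ⟨y, rfl⟩; exact h y
  have h1 : St (γ (g 3)) = St (g 3) := by
    ext y
    rw [mem_St, mem_St, ← h, ← map_inv, ← map_mul, ← map_mul, h]
    exact ⟨fun a => γ.injective (hH _ a) ▸ a, fun a => (hH _ a).symm ▸ a⟩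
  obtain ⟨y, k, hk, e⟩ := ((cl.2.2.2 (γ (g 3))).resolve_left fun a =>
    tH (γ.injective (hH _ a) ▸ a)).2 (h1 ▸ cl.2.2.1)
  have h2 : ∀ w, Commute (g 3) (theta (ev M.gen w)) → apW H15.HNX.F w (M.enc (y • M.dec 0)) = M.enc (y • M.dec 0) :=
    fun w hw => by
    have a : ev M.gen w ∈ St (g 3) := mem_St.2 (by
      rw [mul_assoc, ← hw.eq, inv_mul_cancel_left]; exact ⟨_, rfl⟩)
    rw [← h1, mem_St, e] at a
    have b : y⁻¹ * ev M.gen w * y ∈ St (g 3) := mem_St.2 (by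
      have := mul_mem (mul_mem hk a) (inv_mem hk)
      simpa [mul_assoc] using this)
    rw [cl.2.1, mul_smul, mul_smul, inv_smul_eq_iff] at b
    rw [← enc_ev, b]
  have c1 : Commute (g 3) (g 1) := by
    have := rl.r13
    rw [mul_assoc, mul_assoc, inv_mul_eq_one, eq_inv_mul_iff_mul_eq] at this
    exact this.symm
  have h3 : M.enc (y • M.dec 0) ∈ [0, 2, 4, 1] := by
    rcases bor_iff.1 (allN_iff.1 fc _ (M.enc_lt (y • M.dec 0))) with a | a
    · exact List.mem_of_elem_eq_true a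
    · rcases bor_iff.1 a with a | a <;> refine absurd (h2 _ ?_) (Nat.ne_of_beq_eq_false (bnot_iff.1 a))
      · simpa [letter, theta_gen] using c1
      · have : theta (ev M.gen [0, 2, 1]) = (g 0)⁻¹ * g 1 * g 0 := by simp [letter, theta_gen]
        rw [this, Commute, SemiconjBy, mul_assoc _ (g 0), xt', ← mul_assoc, ← mul_assoc, ← mul_assoc,
          mul_left_inj, mul_assoc (g 0)⁻¹, ← (c1.pow_left 2).eq, ← mul_assoc, mul_left_inj,
          eq_inv_mul_iff_mul_eq, ← mul_assoc, xt', mul_inv_cancel_right]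
  obtain ⟨i, hi, e1⟩ := exists_getL 0 h3
  have h4 : (M.gen 0 ^ i)⁻¹ * y ∈ St (g 3) := by
    have a := Nat.eq_of_beq_eq_true (allN_iff.1 fc2 i hi)
    rw [e1, ← enc_ev_dec M _ (by decide), ev_powW, ev_single _ 0] at a
    rw [cl.2.1, mul_smul, inv_smul_eq_iff, M.enc_inj a]
  rw [mem_St, map_mul, map_inv, map_pow, theta_gen 0 (by decide)] at h4
  have h5 : (g 3 ^ 2 ^ i)⁻¹ * γ (g 3) ∈ HH := by
    have := mul_mem (mul_mem (pow_mem (gH (l := 0) (by decide)) i) h4) hk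
    rw [← mul_assoc, ← mul_assoc, ← mul_assoc, show g 0 ^ i * (g 3)⁻¹ * (g 0 ^ i)⁻¹ = (g 3 ^ 2 ^ i)⁻¹ by
      rw [← mul_inv_eq_iff_eq_mul.2 (pow_conj_of xt' i)]; group] at this
    simpa only [e, mul_assoc] using this
  have u1 : γ (g 0 ^ 2) = g 0 ^ 2 := hH _ (pow_mem (gH (by decide)) _)
  have h6 : γ (g 3) = g 3 ^ 2 ^ i := by
    have a := (cu h5).eq
    have b : g 0 ^ 2 * γ (g 3) = (γ (g 3))⁻¹ * g 0 ^ 2 := by rw [← u1, ← map_inv, ← map_mul, ut, map_mul]
    have c : g 0 ^ 2 * (g 3 ^ 2 ^ i)⁻¹ = g 3 ^ 2 ^ i * g 0 ^ 2 := by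
      rw [← inv_pow, ← mul_inv_eq_iff_eq_mul, ← conj_pow, mul_inv_eq_iff_eq_mul.2 ut']
    rw [← mul_assoc, c, mul_assoc, b, ← mul_assoc, mul_left_inj, mul_inv_eq_iff_eq_mul,
      eq_comm, mul_assoc, inv_mul_eq_iff_eq_mul, ← sq, ← sq] at a
    have d : ∀ s : Spor.HN, s ^ 5 = 1 → s = (s ^ 2) ^ 3 := fun s hs => by
      rw [← pow_mul, show 2 * 3 = 5 + 1 from rfl, pow_succ, hs, one_mul]
    rw [d (γ (g 3)) (by rw [← map_pow, rl.r11, map_one]), a,
      ← d _ (by rw [← pow_mul, mul_comm, pow_mul, rl.r11, one_pow])]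
  have h7 : (g 2 * g 3 ^ 2 ^ i) ^ 3 = 1 := by
    rw [← h6, ← hH _ (gH (l := 2) (by decide)), ← map_mul, ← map_pow, rl.r14, map_one]
  have h8 : (g 2 * g 3 ^ 2) ^ 3 ≠ 1 := fun a => by
    have b := pow_gcd_eq_one.2 ⟨a, facts.2.2.2.1⟩
    rw [show Nat.gcd 3 5 = 1 from rfl, pow_one, mul_eq_one_iff_eq_inv] at b
    have c := rl.r7
    rw [b, inv_pow, inv_eq_one, ← pow_mul] at c
    have d := pow_gcd_eq_one.2 ⟨c, rl.r11⟩
    rw [show Nat.gcd (2 * 2) 5 = 1 from rfl, pow_one] at d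
    exact t2 (by rw [d, one_pow])
  have fin : ∀ δ : MulAut Spor.HN, (∀ x ∈ HH, δ x = x) → δ (g 3) = g 3 → δ = 1 := fun δ a b =>
    MulEquiv.toMonoidHom_injective (hom_ext fun l hl => by
      rcases Nat.lt_succ_iff_lt_or_eq.1 hl with hl | rfl
      exacts [a _ (gH hl), b])
  have hi' : i < 4 := hi
  interval_cases i
  · exact Or.inl (fin _ hH (by simpa using h6))
  · exact absurd (by simpa using h7) h8
  · refine Or.inr (fin _ (fun x hx => ?_) ?_)
    · rw [MulAut.mul_apply, hH x hx, MulAut.conj_apply, (cu hx).eq, mul_inv_cancel_right]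
    · rw [MulAut.mul_apply, h6, MulAut.conj_apply, ← conj_pow, ut, mul_inv_cancel_right, inv_pow]
      exact inv_eq_of_mul_eq_one_right rl.r11
  · refine absurd ?_ h8
    have a := congrArg (MulAut.conj (g 0 ^ 2)) h7
    rw [map_pow, map_mul, map_pow _ (g 3), map_one, MulAut.conj_apply, MulAut.conj_apply, facts.2.1,
      mul_inv_cancel_right, ut, mul_inv_cancel_right] at a
    rwa [show g 3 ^ 2 = (g 3)⁻¹ ^ 2 ^ 3 * (g 3 ^ 5) ^ 2 by group, rl.r11, one_pow, mul_one]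

/-- the machine with the letters of the certificate -/
noncomputable def MO : PM Y (H15.Pt pi) 1408 H14HNO.nets := H14HNO.mach (encPM M) (real_take _ rfl)

theorem MO_ev {w : Word} (h : w.all (Nat.blt · 6) = true) : theta (ev MO.gen w) = ev g w := by
  rw [map_ev]
  exact ev_congr (k := 3) (fun l hl => by rw [gen_eq_take M MO rfl (k := 3) rfl hl, theta_gen l hl])
    fun a ha => by simpa using List.all_eq_true.1 h a ha

/-- images of the generators under the outer automorphism -/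
def vs : List Word := [[0], [2], [0, 0, 4], [6, 6]]
/-- the word of an element of order 22 -/
noncomputable def da : Word := getL [] H14HNO.defs 0

theorem nc0 : H15.HNM.c.rels H15.HNM.ms (List.take 9 (flatR vs (H15.homW ix HN.edges HN.extra []))) = true := by
  decide +kernel
theorem nc1 : H15.HNM.c.rels H15.HNM.ms (List.drop 9 (flatR vs (H15.homW ix HN.edges HN.extra []))) = true := by
  decide +kernel
theorem nc2 : H15.HNM.c.rels H15.HNM.ms [(flat vs da, da), (flat vs H14HNO.du, [0, 0] ++ H14HNO.du)] = true := by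
  decide +kernel

theorem ex_nu : ∃ ν : MulAut Spor.HN, ν (theta (ev MO.gen H14HNO.wa)) = theta (ev MO.gen H14HNO.wa) ∧
    ν (theta (ev MO.gen H14HNO.wu)) = theta (ev MO.gen H14HNO.wu) * g 0 ^ 2 := by
  obtain ⟨φ, h⟩ := H15.exists_hom ix (loc g vs) (fun x hx => by simp [coxNodes, HN.edges] at hx)
    (rels_loc (Rels.take_drop 9 (rels_rho nc0 (by decide +kernel)) (rels_rho nc1 (by decide +kernel))))
  have h1 : ∀ l < 4, φ (g l) = loc g vs l := fun l hl => by
    rw [g, h]; congr 1; revert l; decide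
  have := main.2.2.2.2
  have h2 : Function.Injective φ := (MonoidHom.ker_eq_bot_iff φ).1
    ((MonoidHom.normal_ker φ).eq_bot_or_eq_top.resolve_right fun e => t2 (by
      have := MonoidHom.mem_ker.1 (e.ge (Subgroup.mem_top (g 3)))
      rw [h1 3 (by decide), show loc g vs 3 = ev g [6, 6] from rfl] at this
      simpa [letter, sq] using this))
  have h3 := rels_rho nc2 (by decide +kernel)
  have e1 : ev MO.gen H14HNO.wa = ev MO.gen da := H14HNO.Rdefs MO (H14HNO.wa, da) (by decide +kernel)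
  have e2 : ev MO.gen H14HNO.wu = ev MO.gen H14HNO.du := 
    H14HNO.RU MO cardY _ (List.mem_cons_of_mem _ List.mem_cons_self)
  refine ⟨MulEquiv.ofBijective φ ⟨h2, Finite.surjective_of_injective h2⟩, ?_, ?_⟩
  · rw [e1, MO_ev (by decide +kernel)]
    exact (map_ev_lt h1 (by decide +kernel)).trans (h3 _ List.mem_cons_self)
  · rw [e2, MO_ev (by decide +kernel)]
    refine (map_ev_lt h1 (by decide +kernel)).trans 
      ((h3 _ (List.mem_cons_of_mem _ List.mem_cons_self)).trans ?_)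
    rw [ev_append, show ev g [0, 0] = g 0 ^ 2 by simp [letter, sq]]

theorem w2 : apW H14HNO.F (powW H14HNO.wa 2) 0 ≠ 0 := by decide +kernel

theorem out_HN : Nat.card (Out Spor.HN) = 2 := by
  obtain ⟨ν, n1, n2⟩ := ex_nu
  have R := H14HNO.RN MO cardY
  have r1 : ev MO.gen (powW H14HNO.wa 22) = ev MO.gen [] := R _ List.mem_cons_self
  have r2 : ev MO.gen (H14HNO.wa ++ H14HNO.wu) = ev MO.gen (H14HNO.wu ++ powW H14HNO.wa 7) :=
    R _ (List.mem_cons_of_mem _ List.mem_cons_self)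
  have r3 : ev MO.gen (powW H14HNO.wa 11) = ev MO.gen [0, 0] := H14HNO.RU MO cardY _ List.mem_cons_self
  have r4 : ev MO.gen H14HNO.wa ^ 2 ≠ 1 := fun e => w2 (by
    rw [← enc_ev_dec MO _ (by decide), ev_powW, e, one_smul, MO.enc_dec _ (by decide)])
  have hC : ∀ y, y * ev MO.gen H14HNO.wa = ev MO.gen H14HNO.wa * y → ∃ i : ℕ, y = ev MO.gen H14HNO.wa ^ i :=
    fun y hy => by
    obtain ⟨t, ht, rfl⟩ := H14HNO.cena MO cardY y hy
    obtain ⟨i, -, rfl⟩ := List.mem_map.1 (List.mem_of_elem_eq_true (allL_iff.1 H14HNO.pwa t ht))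
    exact ⟨i, ev_powW _ _⟩
  have key := eq_one_of_lf R (H14HNO.cenu MO cardY) H14HNO.LF (H14HNO.top MO cardY)
  rw [ev_powW, ev_nil] at r1
  rw [ev_append, ev_append, ev_powW] at r2
  rw [ev_powW] at r3
  replace r3 := (congrArg theta r3).trans (MO_ev (by decide))
  rw [map_pow, show ev g [0, 0] = g 0 ^ 2 by simp [letter, sq]] at r3
  generalize ev MO.gen H14HNO.wa = w at *
  generalize ev MO.gen H14HNO.wu = v at *
  have ha : (theta w ^ 2) ^ 11 = 1 := by rw [← pow_mul, ← map_pow, r1, map_one]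
  have ha1 : theta w ^ 2 ≠ 1 := fun e => r4 (main.1 (by rw [map_pow, e, map_one]))
  have hw : theta w = (theta w ^ 2) ^ 6 * g 0 ^ 2 := by
    rw [← r3, ← pow_mul, ← pow_add, show 2 * 6 + 11 = 22 + 1 from rfl, pow_succ, ← map_pow, r1, map_one, one_mul]
  have hu1 : g 0 ^ 2 ≠ 1 := fun e => t2 (by simpa [e, eq_inv_iff_mul_eq_one, sq] using ut)
  have hua : Commute (g 0 ^ 2) (theta w ^ 2) := (cu ⟨w, rfl⟩).pow_right 2
  have hv : theta v * theta w ^ 2 = (theta w ^ 2) ^ 7 * theta v := by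
    rw [conj_pow_of (r := 7) (by rw [← map_mul, r2, map_mul, map_pow]), ← pow_mul]
  have hCa : ∀ x, x * theta w ^ 2 = theta w ^ 2 * x →
      ∃ j : ℕ, x = (theta w ^ 2) ^ j ∨ x = (theta w ^ 2) ^ j * g 0 ^ 2 := fun x hx => by
    obtain ⟨y, rfl⟩ := (cl.2.2.2 x).resolve_right fun ⟨h, _⟩ => by
      have a : w ^ 2 ∈ St x := mem_St.2 (by
        rw [map_pow, mul_assoc, ← hx, inv_mul_cancel_left]; exact pow_mem (show _ ∈ HH from ⟨w, rfl⟩) _)
      have b := (St x).orderOf_dvd_natCard a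
      have := Fact.mk (by norm_num : Nat.Prime 11)
      rw [orderOf_eq_prime (p := 11) (by rw [← pow_mul]; exact r1) r4] at b
      have c := mul_dvd_mul h b
      rw [Subgroup.index_mul_card, cardY] at c
      exact absurd c (by decide)
    obtain ⟨i, rfl⟩ := hC y (main.1 (by
      rw [map_mul, map_mul, hw]
      exact ((Commute.pow_right hx 6).mul_right (cu ⟨y, rfl⟩).symm).eq))
    rcases Nat.even_or_odd' i with ⟨k, rfl | rfl⟩
    · exact ⟨k, Or.inl (by rw [map_pow, pow_mul])⟩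
    · exact ⟨k + 6, Or.inr (by rw [map_pow, pow_succ, pow_mul, pow_add, mul_assoc, ← hw])⟩
  have fin : ∀ γ : MulAut Spor.HN, γ (theta w ^ 2) = theta w ^ 2 → γ (g 0 ^ 2) = g 0 ^ 2 →
      γ (theta v) = theta v → ∃ x, MulAut.conj x * γ = 1 := fun γ h1 h2 h3 => by
    have a : ∀ y, ∃ y', theta y' = γ (theta y) := fun y => mem_of_cu (by
      rw [← h2, ← map_mul, ← map_mul, (cu ⟨y, rfl⟩).eq])
    choose f hf using a
    let ψ : Y →* Y := MonoidHom.mk' f fun a b => main.1 (by simp only [hf, map_mul])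
    have b : Function.Injective ψ := fun a b e => main.1 (γ.injective (by
      rw [← hf, ← hf]; exact congrArg theta e))
    have c := key (MulEquiv.ofBijective ψ ⟨b, Finite.surjective_of_injective b⟩)
      (main.1 ((hf w).trans (by rw [hw, map_mul, map_pow, h1, h2]))) (main.1 ((hf v).trans h3))
    rcases fix_HH (γ := γ) fun y => by rw [← hf]; exact congrArg theta (DFunLike.congr_fun c y) with e | e
    exacts [⟨1, by rw [e, map_one, one_mul]⟩, ⟨_, e⟩]
  have n3 : ν (theta w ^ 2) = theta w ^ 2 := by rw [map_pow, n1]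
  have n4 : ν (g 0 ^ 2) = g 0 ^ 2 := by rw [← r3, map_pow, n1]
  refine out_two_of (ν := ν) (fun x e => ?_) fun α => ?_
  · subst e
    rw [MulAut.conj_apply, mul_inv_eq_iff_eq_mul] at n2 n3
    have : ∃ j : ℕ, (theta w ^ 2) ^ j * theta v = theta v * g 0 ^ 2 * (theta w ^ 2) ^ j := by
      obtain ⟨j, rfl | rfl⟩ := hCa x n3
      · exact ⟨j, n2⟩
      · rw [mul_assoc, (cu ⟨v, rfl⟩).eq, ← mul_assoc, ← mul_assoc, mul_left_inj] at n2
        exact ⟨j, n2⟩
    obtain ⟨j, e⟩ := this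
    rw [← (cu ⟨v, rfl⟩).eq, mul_assoc, conj_pow_of hv, ← mul_assoc, mul_left_inj, ← mul_inv_eq_iff_eq_mul] at e
    have a : (g 0 ^ 2) ^ 11 = 1 := by
      rw [← e, (Commute.inv_right (Commute.pow_pow_self _ _ _)).mul_pow, inv_pow, pow_right_comm _ j,
        pow_right_comm _ (7 * j), ha, one_pow, one_pow, inv_one, mul_one]
    have b := pow_gcd_eq_one.2 ⟨a, (sq _).trans uu⟩
    rw [show Nat.gcd 11 2 = 1 from rfl, pow_one] at b
    exact hu1 b
  · obtain ⟨t, a1, a2, a3 | a3⟩ := aut_normal2 (p := 11) (r := 7) (by norm_num) (by decide) ha ha1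
      (by rw [main.2.2.2.1]; decide) hv (by decide) (by decide) uu hu1 hua hCa
      (fun k hk h0 => (by decide : ∀ k < 11, k ≠ 0 → ∃ i < 10, k * 7 ^ i % 11 = 1) k hk h0 |>.imp fun _ h => h.2) α
    · obtain ⟨x, e⟩ := fin _ a1 a2 a3
      exact ⟨x * t, Or.inl (by rw [map_mul, mul_assoc, e])⟩
    · obtain ⟨x, e⟩ := fin (ν⁻¹ * (MulAut.conj t * α)) (by rw [MulAut.mul_apply, a1, MulAut.inv_apply, MulEquiv.symm_apply_eq, n3])
        (by rw [MulAut.mul_apply, a2, MulAut.inv_apply, MulEquiv.symm_apply_eq, n4])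
        (by rw [MulAut.mul_apply, a3, MulAut.inv_apply, MulEquiv.symm_apply_eq, n2])
      refine ⟨ν x * t, Or.inr ?_⟩
      ext y
      have := congrArg ν (DFunLike.congr_fun e y)
      simpa [mul_assoc] using this

end H14.HN
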