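import Cfsg.Agent.H14.R3K
import Cfsg.Agent.H1.Fitting

/-! Split extensions of an abelian normal subgroup: a characteristic subgroup of a Sylow subgroup (`Spl.char`),
automorphisms (`Spl.aut`); polycyclic series with factors of order 2 (`pc2_spec`), fixed point masks (`fxM`). -/

set_option autoImplicit false

namespace H14
open L Subgroup
open scoped commutatorElement

section grp
variable {G : Type*} [Group G]

/-- relations of a polycyclic series with factors of order 2 -/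
noncomputable def pc2 (l : List (Word × Word × List Word)) : List (Word × Word) :=
  @List.rec _ (fun _ => List (Word × Word)) []
    (fun p r ih => (List.append p.1 p.1, flat (List.map Prod.fst r) p.2.1) ::
      List.append (nmRels p.1 (List.map Prod.fst r) p.2.2) ih) l

theorem pc2_spec [Finite G] {x : ℕ → G} {l : List (Word × Word × List Word)} (h : Rels x (pc2 l)) :
    IsPGroup 2 (sub x (l.map Prod.fst)) ∧ Cover x (sub x (l.map Prod.fst)) (l.map fun p => [[], p.1]) := by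
  induction l with
  | nil =>
    rw [List.map_nil, sub_nil]
    exact ⟨IsPGroup.of_bot, fun g hg => ⟨[], List.mem_cons_self, (mem_bot.1 hg).symm⟩⟩
  | cons a l ih =>
    have h1 : Rels x (nmRels a.1 (l.map Prod.fst) a.2.2 ++ pc2 l) := fun q hq => h q (List.mem_cons_of_mem _ hq)
    have h2 : ev x (a.1 ++ a.1) = ev x (flat (l.map Prod.fst) a.2.1) := h _ List.mem_cons_self
    have h3 : ev x a.1 ^ 2 ∈ sub x (l.map Prod.fst) := by rw [sq, ← ev_append, h2]; exact ev_flat_mem _ _ _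
    have hn := norm_of_mem h1.left
    obtain ⟨i1, i2⟩ := ih h1.right
    refine ⟨?_, fun y hy => ?_⟩
    · obtain ⟨k, hk⟩ := i1 ⟨_, h3⟩
      rw [List.map_cons, sub_cons]
      exact (pg_zp (k := k + 1) (by rw [pow_succ', pow_mul]; exact congrArg Subtype.val hk)).to_sup_of_normal_right'
        i1 (zpowers_le.2 hn)
    · obtain ⟨j, d, hd, rfl⟩ := mem_cons hn hy
      have h4 : ev x a.1 ^ j * d * (ev x a.1 ^ (j % 2))⁻¹ ∈ sub x (l.map Prod.fst) := by
        rw [show ev x a.1 ^ j = ev x a.1 ^ (j % 2) * (ev x a.1 ^ 2) ^ (j / 2) by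
          rw [← pow_mul, ← pow_add, Nat.mod_add_div], mul_assoc _ _ d]
        exact (mem_normalizer_iff.1 (pow_mem hn _) _).1 (mul_mem (pow_mem h3 _) hd)
      obtain ⟨w, hw, e⟩ := i2 _ h4
      rw [eq_mul_inv_iff_mul_eq] at e
      rcases Nat.mod_two_eq_zero_or_one j with e0 | e0 <;> rw [e0] at e
      · exact ⟨[] ++ w, List.mem_flatMap.2 ⟨[], by simp, List.mem_map_of_mem hw⟩, by simpa using e⟩
      · exact ⟨a.1 ++ w, List.mem_flatMap.2 ⟨a.1, by simp, List.mem_map_of_mem hw⟩, by simpa using e⟩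

theorem map_flat {G' : Type*} [Group G'] (φ : G →* G') {x : ℕ → G} {y : ℕ → G'} {l : List (Word × Word)}
    (h : ∀ p ∈ l, φ (ev x p.1) = ev y p.2) (v : Word) :
    φ (ev x (flat (l.map Prod.fst) v)) = ev y (flat (l.map Prod.snd) v) := by
  rw [ev_flat, ev_flat, map_ev]
  congr 1
  funext i
  induction l generalizing i with
  | nil => exact map_one φ
  | cons p l ih =>
    cases i with
    | zero => exact h p List.mem_cons_self
    | succ i => exact ih (fun q hq => h q (List.mem_cons_of_mem _ hq)) i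

theorem ex_cent [Finite G] {P A : Subgroup G} (hP : IsPGroup 2 P) (hA : A ≤ P)
    (hn : ∀ s ∈ P, ∀ a ∈ A, s * a * s⁻¹ ∈ A) (h0 : A ≠ ⊥) : ∃ c ∈ A, c ≠ 1 ∧ ∀ s ∈ P, s * c = c * s := by
  have := hP.isNilpotent
  have : (A.subgroupOf P).Normal := ⟨fun a ha s => hn s s.2 a ha⟩
  obtain ⟨⟨c, h1, h2⟩, h3⟩ := ne_bot_iff_exists_ne_one.1 (H1.normal_inf_center_ne_bot (A.subgroupOf P)
    fun e => h0 ((subgroupOf_eq_bot.1 e).eq_bot_of_le hA))
  exact ⟨c, h1, fun e => h3 (Subtype.ext (Subtype.ext e)),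
    fun s hs => congrArg Subtype.val (mem_center_iff.1 h2 ⟨s, hs⟩)⟩

theorem ex_res {Y : Type*} [Group Y] [Finite Y] {θ : Y →* G} (hθ : Function.Injective θ) (γ : MulAut G)
    (hγ : ∀ y, γ (θ y) ∈ θ.range) : ∃ σ : MulAut Y, ∀ y, γ (θ y) = θ (σ y) := by
  choose f hf using hγ
  let ψ : Y →* Y := MonoidHom.mk' f fun a b => hθ (by simp only [hf, map_mul])
  have b : Function.Injective ψ := fun a b e => hθ (γ.injective (by
    rw [← hf, ← hf]; exact congrArg θ e))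
  exact ⟨MulEquiv.ofBijective ψ ⟨b, Finite.surjective_of_injective b⟩, fun y => (hf y).symm⟩

theorem inn_of_out (h : Nat.card (Cfsg.Out G) = 1) (α : MulAut G) : ∃ y, MulAut.conj y * α = 1 := by
  have := (Nat.card_eq_one_iff_unique.1 h).1
  obtain ⟨y, e⟩ := (QuotientGroup.eq_one_iff (N := Cfsg.Inn G) α⁻¹).1 (Subsingleton.elim _ _)
  exact ⟨y, mul_eq_one_iff_eq_inv.2 e⟩

/-- `ρ` is the projection onto the complement `L` of the abelian normal subgroup `V` -/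
structure Spl (V L : Subgroup G) (ρ : G →* G) : Prop where
  nm : V.Normal
  cm : ∀ a ∈ V, ∀ b ∈ V, a * b = b * a
  mem : ∀ g, ρ g ∈ L
  fix : ∀ l ∈ L, ρ l = l
  ker : ∀ g, ρ g = 1 ↔ g ∈ V

theorem ex_spl {V L : Subgroup G} [h1 : V.Normal] (h2 : ∀ a ∈ V, ∀ b ∈ V, a * b = b * a) (h : L.IsComplement' V) :
    ∃ ρ, Spl V L ρ :=
  ⟨L.subtype.comp (h.QuotientMulEquiv.toMonoidHom.comp (QuotientGroup.mk' V)), h1, h2, fun _ => Subtype.prop _,
    fun l hl => congrArg Subtype.val (h.QuotientMulEquiv.apply_symm_apply ⟨l, hl⟩), fun g =>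
      OneMemClass.coe_eq_one.trans ((map_eq_one_iff _ h.QuotientMulEquiv.injective).trans (QuotientGroup.eq_one_iff g))⟩

namespace Spl
variable {V L : Subgroup G} {ρ : G →* G} (h : Spl V L ρ)
include h

theorem cj (g : G) {v : G} (hv : v ∈ V) : g * v * g⁻¹ = ρ g * v * (ρ g)⁻¹ := by
  have h1 : g * (ρ g)⁻¹ ∈ V := (h.ker _).1 (by rw [map_mul, map_inv, h.fix _ (h.mem g), mul_inv_cancel])
  have h2 := h.cm _ h1 _ (h.nm.conj_mem v hv (ρ g))
  calc g * v * g⁻¹ = g * (ρ g)⁻¹ * (ρ g * v * (ρ g)⁻¹) * (g * (ρ g)⁻¹)⁻¹ := by group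
    _ = _ := by rw [h2, mul_inv_cancel_right]

theorem char [Finite G] {S W B : Subgroup G} {z b : G} (hS : S ≤ L) (hp : IsPGroup 2 S)
    (hz : ∀ c ∈ S, (∀ s ∈ S, s * c = c * s) → c = 1 ∨ c = z)
    (hB : ∀ g ∈ S, (∀ q ∈ V, g * ⁅q, z⁆ = ⁅q, z⁆ * g) → g ∈ B) (cB : Nat.card B ≤ 16) (hb : b ∈ B)
    (c1 : ∀ X ≤ V, (∀ v ∈ X, z * v = v * z) → Nat.card X ≤ 128)
    (c2 : ∀ X ≤ V, (∀ v ∈ X, z * v = v * z) → (∀ v ∈ X, b * v = v * b) → Nat.card X ≤ 64)
    (hV : Nat.card V = 2048) (hW : W ≤ S ⊔ V) (hn : ∀ s ∈ S ⊔ V, ∀ w ∈ W, s * w * s⁻¹ ∈ W)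
    (hc : ∀ a ∈ W, ∀ b ∈ W, a * b = b * a) (hk : Nat.card W = 2048) : W = V := by
  by_contra hne
  have a1 : W.map ρ ≤ S := (map_mono hW).trans (by
    rw [Subgroup.map_sup]
    refine sup_le ?_ ?_ <;> rintro _ ⟨s, hs, rfl⟩
    · rwa [h.fix s (hS hs)]
    · rw [(h.ker s).2 hs]; exact one_mem _)
  obtain ⟨_, ⟨w, hw, rfl⟩, a2, a3⟩ := ex_cent hp a1 (by
    rintro s hs _ ⟨w, hw, rfl⟩
    exact ⟨_, hn s (mem_sup_left hs) w hw, by rw [map_mul, map_mul, map_inv, h.fix s (hS hs)]⟩)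
    fun e => hne (eq_of_le_of_card_ge (fun w hw => (h.ker w).1 ((map_eq_bot_iff W).1 e hw)) (by rw [hV, hk]))
  replace hw : w ∈ W := hw
  have e : ρ w = z := (hz _ (a1 ⟨w, hw, rfl⟩) a3).resolve_left a2
  have a4 : ∀ w ∈ W, ∀ v ∈ V ⊓ W, ρ w * v = v * ρ w := fun w hw v hv => by
    rw [← mul_inv_eq_iff_eq_mul, ← h.cj w hv.1, hc w hw v hv.2, mul_inv_cancel_right]
  have a5 : W.map ρ ≤ B := by
    rintro _ ⟨u, hu, rfl⟩
    refine hB _ (a1 ⟨u, hu, rfl⟩) fun q hq => a4 u hu _ (mem_inf.2 ⟨?_, ?_⟩)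
    · rw [commutatorElement_def, mul_assoc, mul_assoc, ← mul_assoc z]
      exact mul_mem hq (h.nm.conj_mem _ (inv_mem hq) z)
    · rw [commutatorElement_def, mul_assoc, mul_assoc, ← mul_assoc z, ← e, ← h.cj w (inv_mem hq), ← mul_assoc,
        ← mul_assoc]
      exact mul_mem (hn q (mem_sup_right hq) w hw) (inv_mem hw)
  have a6 : Nat.card (V ⊓ W : Subgroup G) * Nat.card (W.map ρ) = 2048 := by
    rw [← hk, ← relIndex_ker, show ρ.ker = V from Subgroup.ext h.ker, ← subgroupOf_map_subtype,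
      card_map_of_injective W.subtype_injective]
    exact card_mul_index _
  have a7 := c1 _ inf_le_left (e ▸ a4 w hw)
  have a8 := (card_le_of_le a5).trans cB
  have a9 : 16 ≤ Nat.card (W.map ρ) := by
    by_contra a
    have := Nat.mul_le_mul a7 (Nat.le_of_lt_succ (not_le.1 a))
    omega
  obtain ⟨u, hu, rfl⟩ := (eq_of_le_of_card_ge a5 (cB.trans a9)).ge hb
  have := Nat.mul_le_mul (c2 _ inf_le_left (e ▸ a4 w hw) (a4 u hu)) a8
  omega

theorem aut [Finite G] (ho : Nat.card (Cfsg.Out L) = 1) (σ : MulAut G) (hσ : ∀ v, σ v ∈ V ↔ v ∈ V) {a q : G}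
    (ha : a ∈ L) (hf : ∀ v ∈ V, a * v = v * a → v = 1) (hq : q ∈ V) (h1 : q ≠ 1)
    (hu : ∀ v ∈ V, (∀ l ∈ L, l * q = q * l → l * v = v * l) → v = 1 ∨ v = q) :
    ∃ g, (MulAut.conj g * σ : MulAut G) a = a ∧
      (∀ l ∈ L, (MulAut.conj g * σ : MulAut G) (l * q * l⁻¹) = l * q * l⁻¹) ∧
      ∀ l ∈ L, (MulAut.conj g * σ : MulAut G) l * l⁻¹ ∈ V := by
  let δ : L →* L := (ρ.comp (σ.toMonoidHom.comp L.subtype)).codRestrict L fun _ => h.mem _
  have b : Function.Injective δ := (injective_iff_map_eq_one δ).2 fun l e =>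
    Subtype.ext ((h.fix l l.2).symm.trans ((h.ker _).2 ((hσ _).1 ((h.ker _).1 (congrArg Subtype.val e)))))
  obtain ⟨y, e⟩ := inn_of_out ho (MulEquiv.ofBijective δ ⟨b, Finite.surjective_of_injective b⟩)
  obtain ⟨τ, hτ⟩ : ∃ τ : MulAut G, τ = MulAut.conj (y : G) * σ := ⟨_, rfl⟩
  have b1 : ∀ l ∈ L, ρ (τ l) = l := fun l hl => by
    rw [hτ, MulAut.mul_apply, MulAut.conj_apply, map_mul, map_mul, map_inv, h.fix y y.2]
    exact congrArg Subtype.val (DFunLike.congr_fun e ⟨l, hl⟩)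
  have b2 : ∀ v ∈ V, τ v ∈ V := fun v hv => hτ ▸ h.nm.conj_mem _ ((hσ v).2 hv) y
  have b3 : ∀ l ∈ L, ∀ v ∈ V, τ (l * v * l⁻¹) = l * τ v * l⁻¹ := fun l hl v hv => by
    rw [map_mul, map_mul, map_inv, h.cj _ (b2 v hv), b1 l hl]
  have b4 : τ q = q := (hu _ (b2 q hq) fun l hl e => by
    rw [← mul_inv_eq_iff_eq_mul, ← b3 l hl q hq, e, mul_inv_cancel_right]).resolve_left
      fun e => h1 (τ.injective (e.trans (map_one τ).symm))
  have b5 : ∀ l ∈ L, τ l * l⁻¹ ∈ V := fun l hl => (h.ker _).1 (by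
    rw [map_mul, map_inv, b1 l hl, h.fix l hl, mul_inv_cancel])
  let f : V → V := fun v => ⟨v.1⁻¹ * (a * v * a⁻¹), mul_mem (inv_mem v.2) (h.nm.conj_mem _ v.2 a)⟩
  have b6 : Function.Injective f := fun v w e => Subtype.ext (by
    have e1 : v.1⁻¹ * (a * v * a⁻¹) = w.1⁻¹ * (a * w * a⁻¹) := congrArg Subtype.val e
    have e2 := hf _ (mul_mem w.2 (inv_mem v.2)) (by
      rw [← mul_inv_eq_iff_eq_mul, ← mul_right_inj w.1⁻¹]
      calc w.1⁻¹ * (a * (w * v.1⁻¹) * a⁻¹) = w.1⁻¹ * (a * w * a⁻¹) * (a * v * a⁻¹)⁻¹ := by group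
        _ = _ := by rw [← e1]; group)
    exact (mul_inv_eq_one.1 e2).symm)
  obtain ⟨⟨v, hv⟩, e3⟩ := Finite.surjective_of_injective b6 ⟨_, b5 a ha⟩
  have e4 : v⁻¹ * (a * v * a⁻¹) = τ a * a⁻¹ := congrArg Subtype.val e3
  have e5 : ∀ x, (MulAut.conj (v * y) * σ : MulAut G) x = v * τ x * v⁻¹ := fun x => by
    rw [map_mul, mul_assoc, ← hτ]; rfl
  refine ⟨v * y, ?_, fun l hl => ?_, fun l hl => ?_⟩ <;> rw [e5]
  · rw [← mul_inv_cancel_right (τ a) a⁻¹, ← e4]; group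
  · rw [b3 l hl q hq, b4, h.cm v hv _ (h.nm.conj_mem q hq l), mul_inv_cancel_right]
  · rw [show v * τ l * v⁻¹ * l⁻¹ = v * (τ l * l⁻¹) * (l * v⁻¹ * l⁻¹) by group]
    exact mul_mem (mul_mem hv (b5 l hl)) (h.nm.conj_mem _ (inv_mem hv) l)

end Spl
end grp

/-- the points of `O` fixed by the words -/
noncomputable def fxM (n : ℕ) (L : List Net) (us : List Word) (O : ℕ) : ℕ :=
  @List.rec _ (fun _ => ℕ) O (fun u _ ih => sdf ih (mvRun n L u)) us

theorem mem_fxM {Γ Ω : Type*} [Group Γ] [MulAction Γ Ω] {n : ℕ} {L : List Net} (M : PM Γ Ω n L) {us : List Word}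
    {O : ℕ} {x : Ω} (hx : x ∈ M.S O) (h : ∀ u ∈ us, ev M.gen u • x = x) : x ∈ M.S (fxM n L us O) := by
  induction us with
  | nil => exact hx
  | cons u us ih =>
    exact (M.mem_S_sdf _ _ x).2 ⟨ih fun v hv => h v (List.mem_cons_of_mem _ hv), not_mem_mvRun (h u List.mem_cons_self)⟩

end H14
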