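import Cfsg.Agent.H14.J4U
import Cfsg.Agent.L.KD
import Cfsg.Agent.H15.J4T

/-! Data and kernel checks for the automorphisms of `2^11 : M24` inside `J4`. -/

set_option autoImplicit false
set_option Elab.async false
set_option maxRecDepth 100000

namespace H14.J4O
open L R3 H15.J4X

noncomputable def pS : List (Word × Word × List Word) := [([21, 3, 4, 20], [], [[2, 6, 10, 12, 14, 16], [0, 2, 4, 6, 8, 10, 12, 14], [0, 2, 4, 8, 14, 16], [0, 2, 6, 8, 14], [8, 16], [0, 4, 6, 8], [12], [14, 16], [16]]),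
  ([23, 12, 9, 6, 0], [0, 2, 4, 8, 12, 14], [[2, 4, 8, 12, 14], [0, 4, 6, 8, 14], [6, 8, 12], [10, 14], [4, 6, 10], [6, 10, 12], [6, 14], [14]]),
  ([0, 11, 21, 0, 18, 16], [2, 4, 6, 8, 12], [[0, 4, 10], [4, 6, 8, 12], [10, 12], [2, 4, 10], [4], [4, 8, 10, 12], [12]]),
  ([12, 9, 22, 13], [0, 4], [[2, 4, 6, 10], [6, 10], [0, 2, 6, 10], [2, 6, 8, 10], [2], [10]]),
  ([9, 18, 14, 18], [4, 6], [[0, 4, 6, 8], [2, 4, 6, 8], [4, 8], [6, 8], [8]]),
  ([21, 17, 25], [], [[0, 6], [2], [4], [6]]),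
  ([10, 15, 25, 11], [], [[2], [0], [4]]),
  ([16, 20, 24], [], [[0], [2]]),
  ([17, 21, 24, 16], [], [[0]]),
  ([14, 14], [], [])]
noncomputable def pQ : List (Word × Word × List Word) := [([28], [], [[0], [2], [4], [6], [8], [10], [12], [14], [16], [18]]),
  ([30], [], [[0], [2], [4], [6], [8], [10], [12], [14], [16]]),
  ([32], [], [[0], [2], [4], [6], [8], [10], [12], [14]]),
  ([34], [], [[0], [2], [4], [6], [8], [10], [12]]),
  ([36], [], [[0], [2], [4], [6], [8], [10]]),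
  ([38], [], [[0], [2], [4], [6], [8]]),
  ([40], [], [[0], [2], [4], [6]]),
  ([42], [], [[0], [2], [4]]),
  ([44], [], [[0], [2]]),
  ([46], [], [[0]]),
  ([48], [], [])]
noncomputable def nX : List Word := [[2], [0], [0, 2, 4, 8, 18, 20], [0, 2, 4, 6, 12], [0, 4, 10], [0, 4, 18, 20], [0, 2, 8, 12, 18, 20], [0, 4, 6, 12, 16, 18], [0, 2, 16], [2, 6, 14, 16], [0, 2, 4, 6, 8, 10, 14, 16, 18, 20]]
noncomputable def nA : List Word := [[2, 6, 8, 10, 18, 20], [0], [2], [4], [6], [8], [10], [12], [14], [16], [18]]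
noncomputable def cS : Lv := (.cons 0 [[20], [22], [24], [26], [28], [30], [32], [34], [36], [38], [40]] [[0], [2], [4], [6], [8], [10], [12], [14], [16], [18], [20]]
  (.cons 2055 [[0], [2], [4], [6], [8], [10], [12], [14], [16], [18]] [[18], [16], [14], [12], [10], [8], [6], [4], [2], [0]]
  .nil))
noncomputable def uq : List Word := [[30], [34], [36], [38]]
noncomputable def wB : List Word := [[21, 3, 4, 20, 0, 11, 21, 0, 18, 16, 12, 9, 22, 13, 16, 20, 24, 14, 14], [21, 3, 4, 20, 23, 12, 9, 6, 0, 0, 11, 21, 0, 18, 16], [21, 3, 4, 20, 23, 12, 9, 6, 0, 12, 9, 22, 13, 9, 18, 14, 18, 10, 15, 25, 11, 16, 20, 24], [21, 3, 4, 20, 21, 17, 25, 17, 21, 24, 16, 14, 14], [21, 3, 4, 20, 21, 17, 25, 17, 21, 24, 16], [0, 11, 21, 0, 18, 16, 12, 9, 22, 13, 21, 17, 25, 16, 20, 24, 17, 21, 24, 16], [23, 12, 9, 6, 0, 12, 9, 22, 13, 9, 18, 14, 18, 21, 17, 25, 10, 15, 25, 11, 16, 20, 24, 17, 21, 24, 16, 14, 14], [0, 11, 21, 0, 18, 16, 12, 9, 22, 13, 21, 17, 25, 16, 20,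 24, 17, 21, 24, 16, 14, 14], [23, 12, 9, 6, 0, 0, 11, 21, 0, 18, 16, 21, 17, 25, 17, 21, 24, 16, 14, 14], [21, 3, 4, 20, 23, 12, 9, 6, 0, 12, 9, 22, 13, 9, 18, 14, 18, 10, 15, 25, 11, 16, 20, 24, 14, 14], [21, 3, 4, 20, 0, 11, 21, 0, 18, 16, 12, 9, 22, 13, 16, 20, 24], [], [14, 14], [21, 3, 4, 20, 23, 12, 9, 6, 0, 0, 11, 21, 0, 18, 16, 14, 14], [23, 12, 9, 6, 0, 12, 9, 22, 13, 9, 18, 14, 18, 21, 17, 25, 10, 15, 25, 11, 16, 20, 24, 17, 21, 24, 16], [23, 12, 9, 6, 0, 0, 11, 21, 0, 18, 16, 21, 17, 25, 17, 21, 24, 16]]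
noncomputable def lb : Word := [0, 10, 16]
noncomputable def pz : ℕ := 7
noncomputable def u1 : List Word := [[3], [10, 19, 6]]
noncomputable def lq : List Word := [[], [0], [0, 5], [0, 5, 5], [4, 0, 11], [6, 13, 9], [9, 11, 23], [0, 17, 10], [0, 9, 22], [11, 7, 18], [7, 19, 10]]
noncomputable def rl : List Word := [[0, 0], [0, 2, 0, 2, 0, 2]]
noncomputable def c0 : Word := [28, 30, 34, 36, 42, 48]
noncomputable def kl : List Word := [[0], [0, 2, 2, 2, 0, 3, 3, 0, 2, 2], [8, 16], [0, 2, 2, 0, 3, 3, 3, 3, 3, 3, 0, 2, 2, 2, 2, 2, 2, 0, 3, 3, 3, 3, 3, 3, 0, 2, 2, 2, 2, 2, 2, 0, 3, 3, 8, 16]]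
noncomputable def kb : List Word := [[0, 28, 30, 34, 36, 42, 48], [2, 0, 2, 0, 2, 0, 3, 0, 3, 0, 2, 0, 2, 28, 32, 38, 42, 46], [32, 40], [20, 24, 18, 25, 8, 6, 32, 40]]
noncomputable def wm : Word := [28]
noncomputable def t1 : Word := [4]
noncomputable def t2 : Word := [3, 4, 2]
noncomputable def v1 : Word := [4, 12]
noncomputable def v2 : Word := [0, 2, 4, 10, 14, 16, 18, 20]
noncomputable def pn : ℕ := 0
noncomputable def cK : List (ℕ × List Word × List Word) := [(0, [[0], [3]], [[]]),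
  (829, [[4, 2, 0, 4, 3, 5], [2, 0, 2, 0, 2, 5, 1]], [[], [2, 0, 4], [0, 6, 2, 4, 2, 6, 2, 2]])]
noncomputable abbrev nets : List Net := H15.J4H.nets
noncomputable def sw : List Word := pS.map Prod.fst
noncomputable def qs : List Word := pQ.map Prod.fst
noncomputable def zw : Word := [14, 14]
noncomputable def bs : List ℕ := bas H15.J4H.lv0
noncomputable def O0 : ℕ := H14.full 2048
noncomputable def ks : List Word := [[0], [2, 0, 2, 0, 2, 0, 3, 0, 3, 0, 2, 0, 2], [32, 40], [20, 24, 18, 25, 8, 6, 32, 40]]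
/-- exchange of the last two entries -/
noncomputable def sx (l : List Word) : List Word := [getL [] l 0, getL [] l 1, getL [] l 3, getL [] l 2]
/-- the images of the generators -/
noncomputable def im (c : Word) : List (Word × Word) := ([0], List.append [0] c) :: ([4], [4]) :: qs.map fun q => (q, q)
noncomputable def ptsB : List ℕ := List.map (fun q => apW F (cmW q zw) 0) uq
noncomputable def relL : List (List (Word × Word)) := [pc2 pS, pc2 pQ, nmRels [0] qs nX, nmRels [4] qs nA,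
  commR qs qs, commR [[28]] u1, (List.zip qs lq).map fun p => (cjW p.2 [28], p.1),
  H15.J4.R7.map fun w => (w.reverse, []), [([2], [0, 4])],
  rl.map fun r => (flat ((im []).map Prod.fst) r, []),
  (List.zip ks kl).map fun p => (p.1, flat ((im c0).map Prod.fst) p.2),
  (List.zip kb kl).map fun p => (flat ((im c0).map Prod.snd) p.2, p.1),
  [(flat ks t1, flat qs v1), (flat ks t2, flat qs v2)]]

theorem k_rels : relsPt F bs relL.flatten = true := by decide +kernel
theorem k_orb : band (PM.orbChk 17228 nets qs 0 O0 ((List.range 11).map fun i => [2 * i]))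
    (lvCase H15.J4H.lv0 false (fun _ O _ => subs O O0) nets) = true := by decide +kernel
theorem k_reg : allL (fun w => bor (List.elem w [[]]) (bnot (Nat.beq (apW F w 0) 0)))
    (prods (pQ.map fun p => [[], p.1])) = true := by decide +kernel
theorem k_fix : fxB 17228 F ([0] :: [2] :: [4] :: zw :: flat sw lb :: List.flatten [sw, u1, lq]) [0] = true := by
  decide +kernel
theorem k_low : Nat.ble (2 ^ 21) ((cS.sbst (List.append sw qs)).val 17228 nets) = true := by decide +kernel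
theorem k_S : allL (fun w => band (bor (List.elem w [[], zw]) (anyL (fun s =>
    bnot (Nat.beq (apW F (List.append w s) pz) (apW F (List.append s w) pz))) sw))
    (bor (bnot (fixes F w ptsB)) (List.elem w wB))) (prods (pS.map fun p => [[], p.1])) = true := by decide +kernel
theorem k_b : fixes F (flat sw lb) ptsB = true := by decide +kernel
theorem k_z : band (Nat.ble (pop 17228 (fxM 17228 nets [zw] O0)) 128)
    (Nat.ble (pop 17228 (fxM 17228 nets [flat sw lb, zw] O0)) 64) = true := by decide +kernel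
theorem k_a : band (Nat.beq (fxM 17228 nets [[4]] O0) (bit 0))
    (Nat.beq (fxM 17228 nets u1 O0) (Nat.lor (bit 0) (bit (apW F [28] 0)))) = true := by decide +kernel
theorem k_c : allL (fun c => bor (List.elem c [[], c0]) (anyL (fun r =>
    bnot (Nat.beq (apW F (flat ((im c).map Prod.snd) r) 0) 0)) rl)) (prods (pQ.map fun p => [[], p.1])) = true := by
  decide +kernel
theorem k_K : band (fxB 17228 F ks [2048]) (band (Nat.beq (fxM 17228 nets ks O) (bit (apW F [] 2048)))
    (Nat.beq (fxM 17228 nets kb O) (bit (apW F wm 2048)))) = true := by decide +kernel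
theorem k_n : Nat.beq (apW F (List.append (flat (sx kb) t1) (cjW wm (flat (sx ks) t2))) pn)
    (apW F (List.append (cjW wm (flat (sx ks) t2)) (flat (sx kb) t1)) pn) = false := by decide +kernel
theorem k_C : band (allL (fun p => band (band (tb O0 p.1) (fxB 17228 F (p.2.1.map (flat ks)) [p.1]))
    (Nat.beq (fxM 17228 nets (p.2.1.map (flat ks)) O0) (bit p.1))) cK)
    (allL (fun b => anyL (fun p => anyL (fun t => Nat.beq (apW F (flat ks t) p.1) b) p.2.2) cK) bs) = true := by
  decide +kernel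

end H14.J4O
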