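import Cfsg.Agent.H14.J4V
import Cfsg.Agent.S2064

/-! The group `2^11 : M24`: its normal subgroup is characteristic in a Sylow subgroup (`charV`), its automorphisms
(`autH`), the centraliser of the stabiliser (`centK`). -/

set_option autoImplicit false
set_option maxRecDepth 100000

namespace H14.J4O
open L R3 H15.J4X Subgroup MulAction
open scoped commutatorElement

attribute [local instance] H15.J4X.hF

variable {Γ Ω : Type*} [Group Γ] [MulAction Γ Ω] (M : PM Γ Ω 17228 nets)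

/-- the normal subgroup -/
noncomputable abbrev V : Subgroup Γ := sub M.gen qs
/-- its complement -/
noncomputable abbrev Lz : Subgroup Γ := stabilizer Γ (M.dec 0)
/-- a Sylow subgroup -/
noncomputable abbrev S : Subgroup Γ := sub M.gen sw ⊔ V M

theorem eq_pt {u v : Word} (h : ev M.gen u = ev M.gen v) {x : ℕ} (hx : x < 17228) :
    Nat.beq (apW F u x) (apW F v x) = true := by
  rw [← enc_ev_dec M u hx, ← enc_ev_dec M v hx, h, Nat.beq_refl]

theorem beq_pt {u : Word} {x : ℕ} (hx : x < 17228) (h : ev M.gen u • M.dec x = M.dec x) :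
    Nat.beq (apW F u x) x = true := by rw [← enc_ev_dec M u hx, h, M.enc_dec x hx, Nat.beq_refl]

theorem inL {w : Word} (h : w ∈ [0] :: [2] :: [4] :: zw :: flat sw lb :: List.flatten [sw, u1, lq]) :
    ev M.gen w ∈ Lz M := le_fix (M := M) k_fix (ev_mem_sub _ h) 0 List.mem_cons_self

theorem S_le : sub M.gen sw ≤ Lz M := (sub_le _).2 fun w hw => inL M (by revert w; decide +kernel)

theorem orbV (y : Ω) : y ∈ M.S O0 ↔ ∃ g ∈ V M, g • M.dec 0 = y := M.orb_of_chk (band_iff.1 k_orb).1 y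

theorem ptV {l v : Γ} (hl : l ∈ Lz M) (h : l * v = v * l) : l • v • M.dec 0 = v • M.dec 0 := by
  rw [← mul_smul, h, mul_smul, mem_stabilizer_iff.1 hl]

theorem hc0 : band (Nat.ble 1 501397585920) (Nat.ble 501397585920 (H15.J4H.lv0.val 17228 nets)) = true := by
  rw [H15.J4H.lvval0]; rfl

variable {M} [Finite Γ] (hN : Nat.card Γ = 501397585920)
include hN

theorem R (i : ℕ) : Rels M.gen (getL [] relL i) := by
  rcases getL_mem_or [] relL i with h | h
  · exact (rels_of_pt hN hc0 k_rels).flatten h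
  · rw [h]; exact Rels.nil _

theorem memO (g : Γ) {y : Ω} (hy : y ∈ M.S O0) : g • y ∈ M.S O0 := by
  obtain ⟨v, -, rfl⟩ := (orbV M y).1 hy
  rw [← mul_smul]
  exact M.S_mono (band_iff.1 k_orb).2 ((ex_top (M := M) hN hc0).step.2.2 _ fa_nil)

theorem covV : Cover M.gen (V M) (pQ.map fun p => [[], p.1]) := (pc2_spec (R hN 1)).2

theorem reg {v : Γ} (hv : v ∈ V M) (h : v ∈ Lz M) : v = 1 := by
  obtain ⟨w, hw, rfl⟩ := covV hN v hv
  rcases bor_iff.1 (allL_iff.1 k_reg w hw) with e | e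
  · rw [List.mem_singleton.1 (List.mem_of_elem_eq_true e), ev_nil]
  · rw [beq_pt M (by decide) h] at e; exact absurd e (by decide)

theorem injV {v w : Γ} (hv : v ∈ V M) (hw : w ∈ V M) (h : v • M.dec 0 = w • M.dec 0) : v = w :=
  (inv_mul_eq_one.1 (reg hN (mul_mem (inv_mem hw) hv) (by
    rw [mem_stabilizer_iff, mul_smul, h, inv_smul_smul]))).symm

theorem compl : (Lz M).IsComplement' (V M) :=
  isComplement'_of_disjoint_and_mul_eq_univ (disjoint_def.2 fun h1 h2 => reg hN h2 h1)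
    (Set.eq_univ_of_forall fun g => by
      obtain ⟨v, hv, e⟩ := (orbV M _).1 (memO hN g⁻¹ ((orbV M _).2 ⟨1, one_mem _, one_smul _ _⟩))
      exact ⟨g * v, by rw [SetLike.mem_coe, mem_stabilizer_iff, mul_smul, e, smul_inv_smul], v⁻¹, inv_mem hv,
        mul_inv_cancel_right g v⟩)

theorem isoL : H15.Sw M.gen (H15.lts 2) = Lz M ∧ Nat.card (Lz M) = 244823040 ∧ Nat.card (Cfsg.Out (Lz M)) = 1 := by
  obtain ⟨e⟩ := H15.J4.isoM24 (H15.relL_of_rels (R (M := M) hN 7)) fun e =>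
    absurd (eq_pt M (u := [0]) (v := []) (by simpa [letter] using e) (x := 1) (by decide)) (by decide +kernel)
  have h1 : Nat.card (H15.Sw M.gen (H15.lts 2)) = 244823040 := (Nat.card_congr e.toEquiv).trans card_M24
  have h2 := (ex_top (M := M) hN hc0).step.2.1
  have h3 : H15.Sw M.gen (H15.lts 2) = Lz M := eq_of_le_of_card_ge (H15.lts_le fun l hl => by
    interval_cases l
    · simpa [letter] using inL M (w := [0]) (by simp)
    · simpa [letter] using inL M (w := [2]) (by simp)) (by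
    rw [h1, ← H15.J4H.lvval1, ← h2.card]
    exact card_le_of_le fun g hg => h2.mem g (fa_cons hg fa_nil))
  exact ⟨h3, h3 ▸ h1, h3 ▸ (out_congr e).trans Cfsg.Agent.S2064.result⟩

theorem top3 (X : Subgroup Γ) (h0 : ev M.gen [0] ∈ X) (h1 : ev M.gen [4] ∈ X) (h : V M ≤ X) : X = ⊤ := by
  have h2 : ev M.gen [2] = ev M.gen ([0] ++ [4]) := R hN 8 _ List.mem_cons_self
  rw [eq_top_iff, ← (compl (M := M) hN).sup_eq_top, ← (isoL hN).1]
  refine sup_le (H15.lts_le fun l hl => ?_) h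
  interval_cases l
  · simpa [letter] using h0
  · have := mul_mem h1 h0
    rw [← ev_append, ← h2] at this
    simpa [letter] using this

theorem Vn : (V M).Normal := normalizer_eq_top_iff.1
  (top3 hN _ (norm_of_mem (R hN 2)) (norm_of_mem (R hN 3)) le_normalizer)

theorem spl : ∃ ρ, Spl (V M) (Lz M) ρ :=
  have := Vn (M := M) hN
  ex_spl (fun _ ha _ hb => comm_of_commR (R hN 4) hb ha) (compl hN)

theorem cardV : Nat.card (V M) = 2048 := by
  have := (compl (M := M) hN).card_mul_card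
  rw [(isoL hN).2.1, hN] at this
  omega

theorem fxV {us : List Word} (h : ∀ u ∈ us, ev M.gen u ∈ Lz M) {v : Γ}
    (h' : ∀ u ∈ us, ev M.gen u * v = v * ev M.gen u) : v • M.dec 0 ∈ M.S (fxM 17228 nets us O0) :=
  mem_fxM M (memO hN v ((orbV M _).2 ⟨1, one_mem _, one_smul _ _⟩)) fun u hu => ptV M (h u hu) (h' u hu)

theorem cardF {us : List Word} (h : ∀ u ∈ us, ev M.gen u ∈ Lz M) {X : Subgroup Γ} (hX : X ≤ V M)
    (h' : ∀ v ∈ X, ∀ u ∈ us, ev M.gen u * v = v * ev M.gen u) {k : ℕ}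
    (hk : Nat.ble (pop 17228 (fxM 17228 nets us O0)) k = true) : Nat.card X ≤ k := by
  have := M.finite
  refine le_trans ?_ (Nat.le_of_ble_eq_true hk)
  rw [← M.ncard_S]
  exact Set.ncard_le_ncard_of_injOn (s := (X : Set Γ)) (· • M.dec 0) (fun v hv => fxV hN h (h' v hv))
    fun v hv w hw => injV hN (hX hv) (hX hw)

theorem charV {W : Subgroup Γ} (hW : W ≤ S M) (hn : ∀ s ∈ S M, ∀ w ∈ W, s * w * s⁻¹ ∈ W)
    (hc : ∀ a ∈ W, ∀ b ∈ W, a * b = b * a) (hk : Nat.card W = 2048) : W = V M := by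
  obtain ⟨ρ, h⟩ := spl (M := M) hN
  obtain ⟨h1, h2⟩ := pc2_spec (l := pS) (R (M := M) hN 0)
  have h3 : ∀ x ∈ ptsB, x < 17228 := fun x hx => by
    obtain ⟨q, -, rfl⟩ := List.mem_map.1 hx
    exact apW_lt M _ (by decide)
  refine h.char (B := sub M.gen sw ⊓ M.fixL ptsB) (z := ev M.gen zw) (b := ev M.gen (flat sw lb)) (S_le M) h1
    (fun c hc h4 => ?_) (fun g hg h4 => ⟨hg, fun x hx => ?_⟩) 
    (card_pairs (x := M.gen) (S := wB) (P := []) (fun g hg => ?_) fa_nil)
    ⟨ev_flat_mem _ _ _, fixes_spec k_b h3⟩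
    (fun X hX h4 => cardF hN (fa_cons (inL M (by simp)) fa_nil) hX (fun v hv => fa_cons (h4 v hv) fa_nil)
      (band_iff.1 k_z).1)
    (fun X hX h4 h5 => cardF hN (fa_cons (inL M (by simp)) (fa_cons (inL M (by simp)) fa_nil)) hX
      (fun v hv => fa_cons (h5 v hv) (fa_cons (h4 v hv) fa_nil)) (band_iff.1 k_z).2) (cardV hN) hW hn hc hk
  · obtain ⟨w, hw, rfl⟩ := h2 c hc
    rcases bor_iff.1 (band_iff.1 (allL_iff.1 k_S w hw)).1 with e | e
    · rcases List.mem_pair.1 (List.mem_of_elem_eq_true e) with rfl | rfl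
      exacts [Or.inl rfl, Or.inr rfl]
    · obtain ⟨s, hs, e⟩ := anyL_iff.1 e
      rw [eq_pt M (u := List.append w s) (v := List.append s w) ((ev_append _ _ _).trans
        ((h4 _ (ev_mem_sub _ hs)).trans (ev_append _ _ _).symm)) (by decide)] at e
      exact absurd e (by decide)
  · obtain ⟨q, hq, rfl⟩ := List.mem_map.1 hx
    rw [← ev_dec M _ (by decide), ev_cmW]
    exact ptV M (S_le M hg) (h4 _ (ev_mem_sub _ (by revert q; decide +kernel)))
  · obtain ⟨w, hw, rfl⟩ := h2 g hg.1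
    rcases bor_iff.1 (band_iff.1 (allL_iff.1 k_S w hw)).2 with e | e
    · rw [show fixes F w ptsB = true from allL_iff.2 fun x hx => beq_pt M (h3 x hx) (hg.2 x hx)] at e
      exact absurd e (by decide)
    · exact ⟨w, List.mem_append_left _ (List.mem_of_elem_eq_true e), rfl⟩

theorem cardS : Nat.card (S M) = 2 ^ 21 := by
  have := Vn (M := M) hN
  refine card_pg Nat.prime_two ((pc2_spec (R hN 0)).1.to_sup_of_normal_right (pc2_spec (R hN 1)).1) ?_
    fun h => absurd (h.trans (hN ▸ card_subgroup_dvd_card _)) (by decide)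
  rw [S, ← sub_append]
  exact (Nat.le_of_ble_eq_true k_low).trans (low_sub _ _)

theorem autH (σ : MulAut Γ) (hσ : ∀ v, σ v ∈ V M ↔ v ∈ V M) : ∃ g, MulAut.conj g * σ = 1 ∨
    (∀ v ∈ V M, (MulAut.conj g * σ : MulAut Γ) v = v) ∧
      ∀ p ∈ List.zip ks kb, (MulAut.conj g * σ : MulAut Γ) (ev M.gen p.1) = ev M.gen p.2 := by
  obtain ⟨ρ, h⟩ := spl (M := M) hN
  have hq : ev M.gen [28] ∈ V M := ev_mem_sub _ List.mem_cons_self
  obtain ⟨g, h1, h2, h3⟩ := h.aut (isoL hN).2.2 σ hσ (a := ev M.gen [4]) (inL M (by simp)) (fun v hv e => by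
    have := fxV hN (us := [[4]]) (fa_cons (inL M (by simp)) fa_nil) (fa_cons e fa_nil)
    rw [Nat.eq_of_beq_eq_true (band_iff.1 k_a).1, M.mem_S_bit (by decide)] at this
    exact reg hN hv this) hq
    (fun e => absurd (eq_pt M (v := []) e (x := 0) (by decide)) (by decide +kernel)) fun v hv e => by
    have k : ∀ u ∈ u1, ev M.gen u ∈ Lz M := fun u hu => inL M (by revert u; decide +kernel)
    have := fxV hN k fun u hu => e _ (k u hu)
      (comm_of_commR (R hN 5) (ev_mem_sub _ List.mem_cons_self) (ev_mem_sub _ hu))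
    rw [Nat.eq_of_beq_eq_true (band_iff.1 k_a).2, M.mem_S_lor, M.mem_S_bit (by decide),
      M.mem_S_bit (apW_lt M _ (by decide)), ← ev_dec M _ (by decide)] at this
    exact this.imp (reg hN hv) (injV hN hv hq)
  refine ⟨g, ?_⟩
  generalize MulAut.conj g * σ = τ at *
  have h4 : ∀ q ∈ qs, τ (ev M.gen q) = ev M.gen q := fun q hq => by
    obtain ⟨p, hp, rfl, h5⟩ : ∃ p ∈ List.zip qs lq, p.1 = q ∧
      p.2 ∈ [0] :: [2] :: [4] :: zw :: flat sw lb :: List.flatten [sw, u1, lq] := by revert q; decide +kernel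
    have : ev M.gen (cjW p.2 [28]) = ev M.gen p.1 := R hN 6 _ (List.mem_map_of_mem hp)
    rw [← this, ev_cjW, h2 _ (inL M h5)]
  have h5 : V M ≤ τ.toMonoidHom.eqLocus (MonoidHom.id Γ) := (sub_le _).2 h4
  obtain ⟨w, hw, e⟩ := covV hN _ (h3 _ (inL M (w := [0]) (by simp)))
  have h6 : ∀ p ∈ im w, τ.toMonoidHom (ev M.gen p.1) = ev M.gen p.2 :=
    fa_cons ((eq_mul_inv_iff_mul_eq.1 e).symm.trans (ev_append _ _ _).symm) (fa_cons h1 fun p hp => by
      obtain ⟨q, hq, rfl⟩ := List.mem_map.1 hp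
      exact h4 q hq)
  rcases bor_iff.1 (allL_iff.1 k_c w hw) with e1 | e1
  · rcases List.mem_pair.1 (List.mem_of_elem_eq_true e1) with rfl | rfl
    · exact Or.inl (MulEquiv.ext fun x => (top3 hN _ (h6 _ List.mem_cons_self) h1 h5).ge (mem_top x))
    · refine Or.inr ⟨h5, fun p hp => ?_⟩
      obtain ⟨l, a, b⟩ : ∃ l ∈ kl, (p.1, l) ∈ List.zip ks kl ∧ (p.2, l) ∈ List.zip kb kl := by
        revert p; decide +kernel
      exact (congrArg τ (R hN 10 _ (List.mem_map_of_mem b.1))).trans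
        ((map_flat _ h6 l).trans (R hN 11 _ (List.mem_map_of_mem b.2)))
  · obtain ⟨r, hr, e1⟩ := anyL_iff.1 e1
    have h7 : ev M.gen (flat ((im w).map Prod.fst) r) = 1 := R hN 9 _ (List.mem_map_of_mem hr)
    rw [beq_pt M (by decide) (by rw [← map_flat _ h6, h7, map_one, one_smul])] at e1
    exact absurd e1 (by decide)

theorem centK {h : Γ} (hh : ∀ k ∈ ks, ev M.gen k * h = h * ev M.gen k) : h = 1 := by
  have h1 : ∀ t, ev M.gen (flat ks t) * h = h * ev M.gen (flat ks t) := fun t =>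
    mem_centralizer_singleton_iff.1 ((sub_le _).2 (fun k hk => mem_centralizer_singleton_iff.2 (hh k hk))
      (ev_flat_mem _ ks t))
  refine ex_base (ex_top (M := M) hN hc0) fa_nil fun b hb _ => ?_
  obtain ⟨p, hp, e⟩ := anyL_iff.1 (allL_iff.1 (band_iff.1 k_C).2 b hb)
  obtain ⟨t, -, e⟩ := anyL_iff.1 e
  obtain ⟨a1, a2⟩ := band_iff.1 (allL_iff.1 (band_iff.1 k_C).1 p hp)
  obtain ⟨a0, a1⟩ := band_iff.1 a1
  have a3 : p.1 < 17228 := Nat.le_of_ble_eq_true (allL_iff.1 (band_iff.1 a1).1 _ List.mem_cons_self)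
  have a4 := mem_fxM M (us := p.2.1.map (flat ks)) (memO hN h ((M.mem_S_dec a3).2 a0)) fun u hu => by
    have := le_fix (M := M) a1 (ev_mem_sub _ hu) _ List.mem_cons_self
    obtain ⟨t, -, rfl⟩ := List.mem_map.1 hu
    rw [← mul_smul, h1, mul_smul, this]
  rw [Nat.eq_of_beq_eq_true a2, M.mem_S_bit a3] at a4
  rw [← Nat.eq_of_beq_eq_true e, ← ev_dec M _ a3, ← mul_smul, ← h1, mul_smul, a4]

end H14.J4O
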