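import Cfsg.Agent.H14.J4W

/-! Every automorphism of a group with the double coset structure of `J4` is inner (`inner`). -/

set_option autoImplicit false
set_option maxRecDepth 100000

namespace H14.J4O
open L R3 H15.J4X H15.DC Subgroup MulAction

attribute [local instance] H15.J4X.hF

variable {Γ G Ω : Type*} [Group Γ] [Group G] [MulAction Γ Ω] {M : PM Γ Ω 17228 nets} [Finite Γ] [Finite G]
  {θ : Γ →* G} {T : G} {E : Ev Γ st P0} (h : Cl M 323 451 62 E θ T row F 242 2048 O 501397585920 cs)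
  (hi : θ.range.index = 1 + (cs.map CI.m).sum)
include h hi

theorem ne_top : θ.range ≠ ⊤ := fun e => by
  rw [e, index_top] at hi
  exact absurd hi (by decide +kernel)

theorem dc {γ : MulAut G} {τ : MulAut Γ} (hγ : ∀ y, γ (θ y) = θ (τ y)) : ∃ a b, γ T = θ a * T * θ b := by
  have hr : ∀ x, γ x ∈ θ.range ↔ x ∈ θ.range := fun x =>
    ⟨fun ⟨y, e⟩ => ⟨τ⁻¹ y, γ.injective (by rw [hγ, ← e]; simp)⟩, fun ⟨y, e⟩ => ⟨τ y, by rw [← hγ, e]⟩⟩
  obtain ⟨j, hj, g, e⟩ := h.cover (γ T : G ⧸ θ.range)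
  beta_reduce at e
  have n1 : (Ob θ (γ T : G ⧸ θ.range)).ncard = (Ob θ (T : G ⧸ θ.range)).ncard := by
    rw [ncard_range, ncard_range, ← index_comap_of_surjective _ (f := τ.toMonoidHom) τ.surjective]
    congr 1
    ext y
    refine QuotientGroup.eq.trans (Iff.trans ?_ ((hr _).trans QuotientGroup.eq.symm))
    simp [hγ]
  have n2 : ∀ x : G ⧸ θ.range, Ob θ (θ g • x) = Ob θ x := fun x => Set.ext fun y =>
    ⟨fun ⟨a, e⟩ => ⟨a * g, by simpa [mul_smul] using e⟩, fun ⟨a, e⟩ => ⟨a * g⁻¹, by simpa [mul_smul] using e⟩⟩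
  have n3 : om E θ T row 1 = (T : G ⧸ θ.range) := by rw [om, h.gel_one]
  rcases List.mem_cons.1 hj with rfl | hj
  · rw [smul_zero', om, gel] at e
    exact absurd (h.gen _ le_rfl ((hr T).1 (by simpa using QuotientGroup.eq.1 e))) (ne_top h hi)
  obtain ⟨c, hc, rfl⟩ := List.mem_map.1 hj
  obtain ⟨d, hd, e1⟩ := h.one_mem
  rw [← e, n2, ← n3, ← e1, h.ncard_eq hi hc, h.ncard_eq hi hd] at n1
  rw [(by decide +kernel : ∀ c ∈ cs, ∀ d ∈ cs, d.i = 1 → c.m = d.m → c.i = 1) c hc d hd e1 n1, n3] at e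
  obtain ⟨b, e2⟩ := QuotientGroup.eq.1 e
  exact ⟨g, b, by rw [e2]; exact (mul_inv_cancel_left _ _).symm⟩

variable (hT : T * T = 1)
include hT

theorem fixp {γ : MulAut G} {τ : MulAut Γ} (hγ : ∀ y, γ (θ y) = θ (τ y)) {l : List Word} {m : Word}
    (hl : ∀ b ∈ l, ∃ k ∈ ks, τ (ev M.gen k) = ev M.gen b)
    (hf : Nat.beq (fxM 17228 nets l O) (bit (apW F m 2048)) = true) : ∃ y, γ T = θ y * T * (θ (ev M.gen m))⁻¹ := by
  obtain ⟨a, b, e⟩ := dc h hi hγ
  have h1 := mem_fxM M (us := l) ((h.orb _).2 ⟨b⁻¹, rfl⟩) fun u hu => by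
    obtain ⟨k, hk, e1⟩ := hl u hu
    obtain ⟨g, e2⟩ := h.stab _ (le_fix (M := M) (band_iff.1 k_K).1 (ev_mem_sub _ hk) _ List.mem_cons_self)
    have e3 := congrArg γ e2
    rw [map_mul, map_mul, hγ, hγ, e1, e] at e3
    rw [eq_inv_smul_iff, ← mul_smul, ← mul_smul]
    refine (h.stab_iff hi (a := 1) (b := 1) (by simpa using hT) (by decide +kernel) _).1 ⟨a⁻¹ * τ g * a, ?_⟩
    simp only [map_mul, map_inv]
    calc _ = (θ a)⁻¹ * (θ (τ g) * (θ a * T * θ b)) * (θ b)⁻¹ * T⁻¹ := by group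
      _ = _ := by rw [← e3]; group
  rw [Nat.eq_of_beq_eq_true hf, M.mem_S_bit (apW_lt M _ (by decide)), ← ev_dec M _ (by decide), inv_smul_eq_iff,
    ← mul_smul] at h1
  obtain ⟨g, e1⟩ := h.stab _ h1.symm
  exact ⟨a * g, by rw [e, map_mul, mul_assoc (θ a) (θ g), ← e1, map_mul]; group⟩

variable (hθ : Function.Injective θ) (hg : ∀ p ∈ gs, T * θ (ev M.gen p.1) = θ (ev M.gen p.2) * T)
include hθ hg

omit h hi hθ [Finite Γ] [Finite G] in
theorem tk (t : Word) : T * θ (ev M.gen (flat ks t)) * T⁻¹ = θ (ev M.gen (flat (sx ks) t)) := by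
  rw [map_ev θ (w := flat (sx ks) t)]
  refine map_flat ((MulAut.conj T).toMonoidHom.comp θ) (l := List.zip ks (sx ks)) (fun p hp => ?_) t
  rw [← map_ev]
  refine mul_inv_eq_iff_eq_mul.2 (((by decide +kernel :
    ∀ p ∈ List.zip ks (sx ks), p ∈ gs ∨ (p.2, p.1) ∈ gs) p hp).elim (hg p) fun a => ?_)
  have e : T * θ (ev M.gen p.2) = θ (ev M.gen p.1) * T := hg _ a
  calc _ = T * (θ (ev M.gen p.1) * T) * T := by rw [mul_assoc, mul_assoc, hT, mul_one]
    _ = _ := by rw [← e, ← mul_assoc T, hT, one_mul]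

theorem last (γ : MulAut G) (hγ : ∀ y, γ (θ y) ∈ θ.range) (hV : ∀ x, γ x ∈ (V M).map θ ↔ x ∈ (V M).map θ) :
    ∃ x, MulAut.conj x * γ = 1 := by
  obtain ⟨σ, h1⟩ := ex_res hθ γ hγ
  obtain ⟨g, h2⟩ := autH (M := M) h.card σ fun v => by
    rw [← mem_map_iff_mem hθ, ← h1, hV, mem_map_iff_mem hθ]
  have h3 : ∀ y, (MulAut.conj (θ g) * γ : MulAut G) (θ y) = θ ((MulAut.conj g * σ : MulAut Γ) y) := fun y => by
    simp [h1]
  refine ⟨θ g, ?_⟩
  generalize MulAut.conj (θ g) * γ = δ at *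
  generalize MulAut.conj g * σ = τ at *
  have h4 : ∀ t, δ T * θ (τ (ev M.gen (flat ks t))) * (δ T)⁻¹ = θ (τ (ev M.gen (flat (sx ks) t))) := fun t => by
    rw [← h3, ← h3, ← tk hT hg, map_mul, map_mul, map_inv]
  rcases h2 with rfl | ⟨h5, h6⟩
  · obtain ⟨y, e⟩ := fixp h hi hT h3 (fun k hk => ⟨k, hk, rfl⟩) (band_iff.1 (band_iff.1 k_K).2).1
    rw [ev_nil, map_one, inv_one, mul_one] at e
    rw [centK (M := M) h.card (h := y) fun k hk => ?_, map_one, one_mul] at e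
    · exact MulEquiv.ext fun x => (h.gen (δ.toMonoidHom.eqLocus (MonoidHom.id G))
        (by rintro _ ⟨y, rfl⟩; exact h3 y) e).ge (mem_top x)
    obtain ⟨t, -, rfl⟩ : ∃ t ∈ [[0], [2], [4], [6]], flat (sx ks) t = k := by revert k; decide +kernel
    have := h4 t
    rw [e, MulAut.one_apply, MulAut.one_apply, mul_inv_rev, mul_assoc (θ y), mul_assoc (θ y), ← mul_assoc _ T⁻¹,
      tk hT hg, ← mul_assoc, mul_inv_eq_iff_eq_mul] at this
    exact hθ (by rw [map_mul, map_mul, this])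
  obtain ⟨y, e⟩ := fixp h hi hT h3 (fun b hb => by
    obtain ⟨p, hp, a, rfl⟩ : ∃ p ∈ List.zip ks kb, p.1 ∈ ks ∧ p.2 = b := by revert b; decide +kernel
    exact ⟨_, a, h6 p hp⟩) (band_iff.1 (band_iff.1 k_K).2).2
  have e1 : δ T = θ (ev M.gen wm) * T * (θ y)⁻¹ := by
    rw [← inv_eq_of_mul_eq_one_right (show δ T * δ T = 1 by rw [← map_mul, hT, map_one]), e, mul_inv_rev, mul_inv_rev,
      inv_inv, inv_eq_of_mul_eq_one_right hT, mul_assoc]
  have w1 : ev M.gen (flat ks t1) ∈ V M :=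
    Set.mem_of_eq_of_mem (R h.card 12 _ List.mem_cons_self) (ev_flat_mem _ qs v1)
  have w2 : ev M.gen (flat ks t2) ∈ V M :=
    Set.mem_of_eq_of_mem (R h.card 12 _ (.tail _ List.mem_cons_self)) (ev_flat_mem _ qs v2)
  have a1 := h4 t1
  rw [h5 _ w1, show τ (ev M.gen (flat (sx ks) t1)) = ev M.gen (flat (sx kb) t1) from
    map_flat τ.toMonoidHom (l := List.zip (sx ks) (sx kb)) (fun p hp => h6 p (by revert p; decide +kernel)) t1] at a1
  have a2 : δ T * θ (y * ev M.gen (flat ks t2) * y⁻¹) * (δ T)⁻¹ = θ (ev M.gen (cjW wm (flat (sx ks) t2))) := by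
    rw [ev_cjW, map_mul, map_mul, map_mul, map_mul, ← tk hT hg, e1, map_inv, map_inv]
    group
  have a3 := comm_of_commR (R h.card 4) w1 ((Vn h.card).conj_mem _ w2 y)
  refine absurd (eq_pt M (u := List.append _ _) (v := List.append _ _) ((ev_append _ _ _).trans
    ((hθ ?_).trans (ev_append _ _ _).symm)) (by decide)) (ne_true_of_eq_false k_n)
  rw [map_mul, map_mul, ← a1, ← a2, conj_mul, conj_mul, ← map_mul, ← map_mul, a3]

theorem inner [IsSimpleGroup G] (hc : ¬ 2 ^ (21 + 1) ∣ Nat.card G) (α : MulAut G) : ∃ x, MulAut.conj x * α = 1 := by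
  have c1 : Nat.card ((S M).map θ) = 2 ^ 21 := (card_map_of_injective hθ).trans (cardS h.card)
  have c2 : Nat.card ((V M).map θ) = 2048 := (card_map_of_injective hθ).trans (cardV h.card)
  have := Fact.mk Nat.prime_two
  obtain ⟨x, -, hx⟩ := syl_conj Nat.prime_two (K := ⊤) le_top c1 (by rwa [card_top]) le_top
    ((IsPGroup.of_card c1).map α.toMonoidHom)
  suffices ∃ z, MulAut.conj z * (MulAut.conj x⁻¹ * α) = 1 from
    let ⟨z, e⟩ := this; ⟨z * x⁻¹, by rw [map_mul, mul_assoc, e]⟩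
  have h1 : ((S M).map θ).map (MulAut.conj x⁻¹ * α : MulAut G).toMonoidHom = (S M).map θ :=
    eq_of_le_of_card_ge (by rintro _ ⟨y, hy, rfl⟩; simpa using hx _ ⟨y, hy, rfl⟩)
      (card_map_of_injective (MulEquiv.injective _)).ge
  generalize MulAut.conj x⁻¹ * α = γ at *
  have h2 : ((V M).map θ).map γ.toMonoidHom ≤ (S M).map θ := (map_mono (map_mono le_sup_right)).trans h1.le
  have h3 := map_comap_eq_self (h2.trans (map_le_range _ _))
  rw [charV h.card (W := (((V M).map θ).map γ.toMonoidHom).comap θ)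
    (fun w hw => (mem_map_iff_mem hθ).1 (h2 hw)) (fun s hs w hw => ?_) (fun a ha b hb => hθ ?_)
    (by rw [← card_map_of_injective hθ, h3, card_map_of_injective γ.injective, c2])] at h3
  · have h4 : ∀ x, γ x ∈ (V M).map θ ↔ x ∈ (V M).map θ := fun x => by
      rw [← mem_map_iff_mem (f := γ.toMonoidHom) γ.injective (x := x), ← h3]; rfl
    have h5 : θ.range ≤ normalizer ((V M).map θ : Set G) := by
      rintro _ ⟨y, rfl⟩
      exact norm_of_le (by rintro _ ⟨v, hv, rfl⟩; exact ⟨_, (Vn h.card).conj_mem v hv y, by simp⟩)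
    have h6 := (h.max _ h5).resolve_right fun e => by
      rcases (normalizer_eq_top_iff.1 e).eq_bot_or_eq_top with e | e
      · rw [e, card_bot] at c2; exact absurd c2 (by decide)
      · exact ne_top h hi (eq_top_iff.2 (e.ge.trans (map_le_range _ _)))
    refine last h hi hT hθ hg γ (fun y => h6.le (norm_of_le fun n hn => ?_)) h4
    obtain ⟨n, rfl⟩ := γ.surjective n
    have := (h4 _).2 ((mem_normalizer_iff.1 (h5 ⟨y, rfl⟩) n).1 ((h4 n).1 hn))
    rwa [map_mul, map_mul, map_inv] at this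
  · obtain ⟨_, ⟨u, hu, rfl⟩, e⟩ := h1.ge (mem_map_of_mem θ hs)
    obtain ⟨_, ⟨v, hv, rfl⟩, e'⟩ := hw
    exact ⟨_, ⟨_, (Vn h.card).conj_mem v hv u, rfl⟩, by simp only [map_mul, map_inv, e, e']⟩
  · obtain ⟨_, ⟨u, hu, rfl⟩, e⟩ := ha
    obtain ⟨_, ⟨v, hv, rfl⟩, e'⟩ := hb
    rw [map_mul, map_mul, ← e, ← e', ← map_mul, ← map_mul, ← map_mul, ← map_mul, comm_of_commR (R h.card 4) hu hv]

omit h hi hT hθ hg in
theorem out : Nat.card (Cfsg.Out Cfsg.Spor.J4) = 1 := by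
  open H15.J4 in
  obtain ⟨a, -, b, c, d⟩ := mainG
  open H15.J4 in
  obtain ⟨E, e⟩ := ex_cl (H15.J4.M hyG) (cardY hyG) (hyp hyG hTG).1 (hyp hyG hTG).2 (hgen hyG top26)
  have := e.fin
  have : Finite Cfsg.Spor.J4 := Nat.finite_of_card_ne_zero (by rw [c]; decide)
  exact out_one_of (inner e (b.trans (by decide +kernel))
    (by simpa [rw14, ra, rb] using (H15.J4.hyp H15.J4.hyG H15.J4.hTG).2 _ List.mem_cons_self) a
    (H15.J4.hyp H15.J4.hyG H15.J4.hTG).1 (by rw [c]; decide))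

end H14.J4O
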