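import Cfsg.Agent.H5.FS
import Cfsg.Agent.H5.Gen

/-! Character-theoretic core for blocks with three irreducible characters. -/
set_option autoImplicit false
namespace H14.K3
open Cfsg H5
open scoped ComplexConjugate

theorem core {G : Type*} [Group G] [Fintype G] (p : ℕ) [hp : Fact p.Prime] (χ ψ : G → ℂ)
    (hχ : IsIrrCharacter G χ) (hψ : IsIrrCharacter G ψ) (χ1 : χ ≠ fun _ => 1) (ψ1 : ψ ≠ fun _ => 1)
    (hne : ψ ≠ χ) (a b : ℤ) (hs : ∀ g, p ∣ orderOf g → χ g = a ∧ ψ g = b)
    (hr : ∀ g, ¬ p ∣ orderOf g → 1 + a * χ g + b * ψ g = 0) (D : Subgroup G) (hD : IsPGroup p D)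
    (h1 : Nat.card D ≠ 1) (h2 : Nat.card D ≠ 2) : Nat.card D = 3 := by
  classical
  haveI := Fintype.ofFinite D
  obtain ⟨m, hm⟩ := hχ.isCharacter.exists_apply_one
  obtain ⟨n, hn⟩ := hψ.isCharacter.exists_apply_one
  have m0 : m ≠ 0 := by rintro rfl; exact hχ.apply_one_ne_zero (by simpa using hm)
  have n0 : n ≠ 0 := by rintro rfl; exact hψ.apply_one_ne_zero (by simpa using hn)
  have o1 : ¬ p ∣ orderOf (1 : G) := by rw [orderOf_one]; exact hp.out.not_dvd_one
  have e1 : 1 + a * m + b * n = 0 := by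
    have := hr 1 o1
    rw [hm, hn] at this
    exact_mod_cast this
  have hf : ∀ g, 1 + a * χ g + b * ψ g = if p ∣ orderOf g then ((1 + a ^ 2 + b ^ 2 : ℤ) : ℂ) else 0 := by
    intro g
    split_ifs with h
    · rw [(hs g h).1, (hs g h).2]; push_cast; ring
    · exact hr g h
  have hdvd : (Nat.card D : ℤ) ∣ 1 + a ^ 2 + b ^ 2 := by
    obtain ⟨r, hr'⟩ := (hχ.isCharacter.restrict D).exists_classInner_nat isCharacter_one
    obtain ⟨s, hs'⟩ := (hψ.isCharacter.restrict D).exists_classInner_nat isCharacter_one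
    rw [classInner_one_right] at hr' hs'
    have c0 : (Nat.card D : ℂ) ≠ 0 := Nat.cast_ne_zero.2 Nat.card_pos.ne'
    have r1 : ∑ x : D, χ x = Nat.card D * r := by rw [← hr']; field_simp
    have s1 : ∑ x : D, ψ x = Nat.card D * s := by rw [← hs']; field_simp
    have t1 : ∑ x : D, (1 + a * χ x + b * ψ x) + ((1 + a ^ 2 + b ^ 2 : ℤ) : ℂ) =
        Nat.card D * ((1 + a ^ 2 + b ^ 2 : ℤ) : ℂ) := by
      have : ∀ x : D, (1 + a * χ x + b * ψ x) + (if x = 1 then ((1 + a ^ 2 + b ^ 2 : ℤ) : ℂ) else 0) =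
          ((1 + a ^ 2 + b ^ 2 : ℤ) : ℂ) := by
        intro x
        rw [hf]
        by_cases hx : x = 1
        · subst hx
          rw [if_neg (by simpa using o1), if_pos rfl, zero_add]
        · obtain ⟨k, hk⟩ := (IsPGroup.iff_orderOf.1 hD) x
          have : p ∣ orderOf (x : G) := by
            rw [Subgroup.orderOf_coe, hk]
            refine dvd_pow_self p fun k0 => hx ?_
            rw [k0, pow_zero, orderOf_eq_one_iff] at hk
            exact hk
          rw [if_pos this, if_neg hx, add_zero]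
      have h3 := Finset.sum_congr (rfl : (Finset.univ : Finset D) = _) fun x _ => this x
      rw [Finset.sum_add_distrib, Finset.sum_ite_eq', if_pos (Finset.mem_univ _), Finset.sum_const,
        Finset.card_univ, ← Nat.card_eq_fintype_card, nsmul_eq_mul] at h3
      exact h3
    rw [Finset.sum_add_distrib, Finset.sum_add_distrib, ← Finset.mul_sum, ← Finset.mul_sum, r1, s1,
      Finset.sum_const, Finset.card_univ, ← Nat.card_eq_fintype_card, nsmul_eq_mul] at t1
    refine ⟨1 + a ^ 2 + b ^ 2 - (1 + a * r + b * s), ?_⟩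
    have : ((1 + a ^ 2 + b ^ 2 : ℤ) : ℂ) =
        (((Nat.card D : ℤ) * (1 + a ^ 2 + b ^ 2 - (1 + a * r + b * s)) : ℤ) : ℂ) := by
      push_cast at t1 ⊢
      linear_combination t1
    exact_mod_cast this
  obtain ⟨k, hk⟩ := IsPGroup.iff_card.1 hD
  have fin : ∀ q : ℕ, q.Prime → 1 + a ^ 2 + b ^ 2 = q → Nat.card D = q := fun q hq e => by
    rw [e] at hdvd
    exact ((Nat.dvd_prime hq).1 (by exact_mod_cast hdvd)).resolve_left h1
  have un : ∀ c t : ℤ, 1 + c * t = 0 → c ^ 2 = 1 := fun c t h => by
    have : c ∣ 1 := ⟨-t, by linear_combination h⟩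
    rcases Int.isUnit_iff.1 (isUnit_of_dvd_one this) with rfl | rfl <;> norm_num
  by_cases p2 : p = 2
  · subst p2
    exfalso
    have k2 : 2 ≤ k := by
      by_contra h
      have : k = 0 ∨ k = 1 := by omega
      rcases this with rfl | rfl
      · exact h1 hk
      · exact h2 hk
    have h4 : (4 : ℤ) ∣ 1 + a ^ 2 + b ^ 2 := by
      refine dvd_trans ?_ hdvd
      rw [hk]
      exact_mod_cast pow_dvd_pow 2 k2
    have : ∀ x y : ZMod 4, 1 + x ^ 2 + y ^ 2 ≠ 0 := by decide
    refine this a b ?_
    have := (ZMod.intCast_zmod_eq_zero_iff_dvd (1 + a ^ 2 + b ^ 2) 4).2 h4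
    push_cast at this
    exact this
  have hsq : ∀ g : G, p ∣ orderOf (g * g) ↔ p ∣ orderOf g := fun g => by
    rw [← sq]
    refine ⟨fun h => h.trans (orderOf_pow_dvd 2), fun h => ?_⟩
    have h3 : orderOf g ∣ 2 * orderOf (g ^ 2) := by
      rw [orderOf_dvd_iff_pow_eq_one, pow_mul, pow_orderOf_eq_one]
    exact ((Nat.coprime_primes hp.out Nat.prime_two).2 p2).dvd_of_dvd_mul_left (h.trans h3)
  have fs : a * fsInd χ + b * fsInd ψ = 0 := by
    have h3 : ∑ g : G, (1 + a * χ (g * g) + b * ψ (g * g)) = ∑ g : G, (1 + a * χ g + b * ψ g) :=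
      Finset.sum_congr rfl fun g _ => by rw [hf, hf]; simp only [hsq]
    simp only [Finset.sum_add_distrib, ← Finset.mul_sum, hχ.sum_eq_zero χ1, hψ.sum_eq_zero ψ1] at h3
    simp only [fsInd]
    linear_combination (Nat.card G : ℂ)⁻¹ * h3
  have two : 1 + a ^ 2 + b ^ 2 = (2 : ℕ) → Nat.card D = 3 := fun h => absurd (fin 2 Nat.prime_two h) h2
  have A0 : a = 0 → Nat.card D = 3 := fun h => two (by
    have := un b n (by rw [h] at e1; linear_combination e1)
    rw [h, this]; norm_num)
  have B0 : b = 0 → Nat.card D = 3 := fun h => two (by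
    have := un a m (by rw [h] at e1; linear_combination e1)
    rw [h, this]; norm_num)
  have AB : b = a → Nat.card D = 3 := fun h => fin 3 Nat.prime_three (by
    have := un a (m + n) (by rw [h] at e1; linear_combination e1)
    rw [h, this]; norm_num)
  have AB' : b = -a → Nat.card D = 3 := fun h => fin 3 Nat.prime_three (by
    have := un a (m - n) (by rw [h] at e1; linear_combination e1)
    rw [h, neg_sq, this]; norm_num)
  rcases hχ.fsInd_spec with ⟨-, h | h⟩ | ⟨c1, h⟩ <;> rcases hψ.fsInd_spec with ⟨-, h' | h'⟩ | ⟨-, h'⟩ <;>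
    rw [h, h'] at fs
  · exact AB' (by exact_mod_cast (by linear_combination fs : (b : ℂ) = -a))
  · exact AB (by exact_mod_cast (by linear_combination -fs : (b : ℂ) = a))
  · exact A0 (by exact_mod_cast (by linear_combination fs : (a : ℂ) = 0))
  · exact AB (by exact_mod_cast (by linear_combination fs : (b : ℂ) = a))
  · exact AB' (by exact_mod_cast (by linear_combination -fs : (b : ℂ) = -a))
  · exact A0 (by exact_mod_cast (by linear_combination -fs : (a : ℂ) = 0))
  · exact B0 (by exact_mod_cast (by linear_combination fs : (b : ℂ) = 0))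
  · exact B0 (by exact_mod_cast (by linear_combination -fs : (b : ℂ) = 0))
  · have hc : ∀ g, (a : ℂ) * conj (χ g) + b * conj (ψ g) = a * χ g + b * ψ g := fun g => by
      have h3 := congrArg conj (hf g)
      have h4 : conj (if p ∣ orderOf g then ((1 + a ^ 2 + b ^ 2 : ℤ) : ℂ) else 0) =
          if p ∣ orderOf g then ((1 + a ^ 2 + b ^ 2 : ℤ) : ℂ) else 0 := by
        split_ifs
        · exact map_intCast _ _
        · exact map_zero _
      rw [h4, ← hf g, map_add, map_add, map_mul, map_mul, map_intCast, map_intCast, map_one] at h3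
      linear_combination h3
    have i1 := hχ.conj.classInner_of_ne hχ c1
    have i2 := hψ.conj.classInner_eq hχ
    have i3 := hχ.classInner_self
    have i4 := hψ.classInner_of_ne hχ hne
    have i5 : a * classInner (fun g => conj (χ g)) χ + b * classInner (fun g => conj (ψ g)) χ =
        a * classInner χ χ + b * classInner ψ χ := by
      simp only [classInner, Finset.mul_sum, ← Finset.sum_add_distrib]
      exact Finset.sum_congr rfl fun g _ => by
        linear_combination (Nat.card G : ℂ)⁻¹ * conj (χ g) * hc g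
    rw [i1, i2, i3, i4] at i5
    split_ifs at i5
    · exact AB (by exact_mod_cast (by linear_combination i5 : (b : ℂ) = a))
    · exact A0 (by exact_mod_cast (by linear_combination -i5 : (a : ℂ) = 0))

end H14.K3
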