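import Cfsg.Agent.H14.KhE64T
import Cfsg.Agent.L.KF

/-! Generated certificate (toolsL/cg.hpp). -/
set_option autoImplicit false
set_option maxRecDepth 200000
set_option Elab.async false
set_option linter.unusedVariables false
set_option linter.unusedSectionVars false

namespace L.KhE64
open H14 L.KhE64T
variable {G Ω : Type*} [Group G] [Finite G] [MulAction G Ω]

noncomputable def w0 : Word := [nat_lit 0]
noncomputable def w1 : Word := [nat_lit 2]
noncomputable def w2 : Word := [nat_lit 4]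
theorem k3 : orbChk (nat_lit 64) H14.StE64.nets F [] (sel [w0, w1, w2] [nat_lit 0, nat_lit 1, nat_lit 2]) [dw (nat_lit 0x05), dw (nat_lit 0x01), dw (nat_lit 0x03), dw (nat_lit 0x03), dw (nat_lit 0x05), dw (nat_lit 0x03), dw (nat_lit 0x0405), dw (nat_lit 0x03)
, dw (nat_lit 0x03), dw (nat_lit 0x05), dw (nat_lit 0x03)] (dn (nat_lit 16) (nat_lit 0x0b0209030b820a41)) (bit (nat_lit 0)) (full (nat_lit 64)) = true := by decide +kernel
theorem o4 (M : PM G Ω 64 H14.StE64.nets) (hN : Nat.card G = 1290240) : Orb M ⊤ [] (nat_lit 0) (full (nat_lit 64)) :=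
  (Orb.ext le_top (orb_bit ⊤ [] (b := (nat_lit 0)) rfl) k3)
noncomputable def w5 : Word := [nat_lit 6]
theorem k6 : orbChk (nat_lit 64) H14.StE64.nets F [nat_lit 0] (sel [w0, w1, w5] [nat_lit 0, nat_lit 1, nat_lit 2]) [dw (nat_lit 0x03), dw (nat_lit 0x01), dw (nat_lit 0x03), dw (nat_lit 0x01), dw (nat_lit 0x05), dw (nat_lit 0x03)] (dn (nat_lit 16) (nat_lit 0x0a8205c1094106c308c30cc30e820d030d020d010b8109810641)) (bit (nat_lit 7)) (nat_lit 0x177e7ee87ee8e880) = true := by decide +kernel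
theorem o7 (M : PM G Ω 64 H14.StE64.nets) (hN : Nat.card G = 1290240) : Orb M ⊤ [nat_lit 0] (nat_lit 7) (nat_lit 0x177e7ee87ee8e880) :=
  (Orb.ext le_top (orb_bit ⊤ [nat_lit 0] (b := (nat_lit 7)) rfl) k6)
theorem k8 : orbChk (nat_lit 64) H14.StE64.nets F [nat_lit 7, nat_lit 0] (sel [w0, w5] [nat_lit 0, nat_lit 1]) [dw (nat_lit 0x01), dw (nat_lit 0x03), dw (nat_lit 0x01)] (dn (nat_lit 16) (nat_lit 0x0d420c410d020d010b8107420d810ac1070207010682)) (bit (nat_lit 25)) (nat_lit 0x7e7e007e000000) = true := by decide +kernel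
theorem o9 (M : PM G Ω 64 H14.StE64.nets) (hN : Nat.card G = 1290240) : Orb M ⊤ [nat_lit 7, nat_lit 0] (nat_lit 25) (nat_lit 0x7e7e007e000000) :=
  (Orb.ext le_top (orb_bit ⊤ [nat_lit 7, nat_lit 0] (b := (nat_lit 25)) rfl) k8)
noncomputable def w10 : Word := [nat_lit 10]
noncomputable def w11 : Word := [nat_lit 16]
theorem k12 : orbChk (nat_lit 64) H14.StE64.nets F [nat_lit 25, nat_lit 7, nat_lit 0] (sel [w10, w11] [nat_lit 0, nat_lit 1]) [] (dn (nat_lit 16) (nat_lit 0x014201410a0100c200c100820081)) (bit (nat_lit 2)) (nat_lit 0x8181000000003c) = true := by decide +kernel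
theorem o13 (M : PM G Ω 64 H14.StE64.nets) (hN : Nat.card G = 1290240) : Orb M ⊤ [nat_lit 25, nat_lit 7, nat_lit 0] (nat_lit 2) (nat_lit 0x8181000000003c) :=
  (Orb.ext le_top (orb_bit ⊤ [nat_lit 25, nat_lit 7, nat_lit 0] (b := (nat_lit 2)) rfl) k12)
noncomputable def w14 : Word := [nat_lit 18]
noncomputable def w15 : Word := [nat_lit 20]
theorem k16 : orbChk (nat_lit 64) H14.StE64.nets F [nat_lit 2, nat_lit 25, nat_lit 7, nat_lit 0] (sel [w14, w15] [nat_lit 0, nat_lit 1]) [] (dn (nat_lit 16) (nat_lit 0x088202020201)) (bit (nat_lit 8)) (nat_lit 0x2000000400010100) = true := by decide +kernel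
theorem o17 (M : PM G Ω 64 H14.StE64.nets) (hN : Nat.card G = 1290240) : Orb M ⊤ [nat_lit 2, nat_lit 25, nat_lit 7, nat_lit 0] (nat_lit 8) (nat_lit 0x2000000400010100) :=
  (Orb.ext le_top (orb_bit ⊤ [nat_lit 2, nat_lit 25, nat_lit 7, nat_lit 0] (b := (nat_lit 8)) rfl) k16)
noncomputable def c18 : Chn := [((nat_lit 0), (full (nat_lit 64))), ((nat_lit 7), (nat_lit 0x177e7ee87ee8e880)), ((nat_lit 25), (nat_lit 0x7e7e007e000000)), ((nat_lit 2), (nat_lit 0x8181000000003c)), ((nat_lit 8), (nat_lit 0x2000000400010100))]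
theorem k19 : Nat.ble 1290240 (cval (nat_lit 64) c18) = true := by decide +kernel
theorem e20 (M : PM G Ω 64 H14.StE64.nets) (hN : Nat.card G = 1290240) : EC M ⊤ [] c18 :=
  ec_top (c := c18) ⟨(o4 M hN), ⟨(o7 M hN), ⟨(o9 M hN), ⟨(o13 M hN), ⟨(o17 M hN), trivial⟩⟩⟩⟩⟩ hN k19
noncomputable def bs0 : List Nat := [nat_lit 0, nat_lit 7, nat_lit 25, nat_lit 2, nat_lit 8]
theorem base0 (M : PM G Ω 64 H14.StE64.nets) (hN : Nat.card G = 1290240) : IsBase M bs0 :=
  base_of_ec (e20 M hN) (by decide +kernel)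
noncomputable def w21 : Word := [nat_lit 8]
noncomputable def w22 : Word := [nat_lit 12]
noncomputable def w23 : Word := [nat_lit 14]
theorem k24 : orbChk (nat_lit 64) H14.StE64.nets F [nat_lit 0] (sel [w0, w1, w5, w21, w10, w22, w23, w11, w14, w15] [nat_lit 0, nat_lit 1, nat_lit 2, nat_lit 3, nat_lit 4, nat_lit 5, nat_lit 6, nat_lit 7, nat_lit 8, nat_lit 9]) [dw (nat_lit 0x01), dw (nat_lit 0x03), dw (nat_lit 0x05), dw (nat_lit 0x03)] (dn (nat_lit 16) (nat_lit 0x02010142044904470f860f850f840f830f81030903060305010200c5)) (bit (nat_lit 1)) (nat_lit 0xe88181178117177e) = true := by decide +kernel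
theorem o25 (M : PM G Ω 64 H14.StE64.nets) (hN : Nat.card G = 1290240) : Orb M ⊤ [nat_lit 0] (nat_lit 1) (nat_lit 0xe88181178117177e) :=
  (Orb.ext le_top (orb_bit ⊤ [nat_lit 0] (b := (nat_lit 1)) rfl) k24)

end L.KhE64
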