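import Cfsg.Agent.H14.Dw2
import Cfsg.Agent.H15.Std3
import Cfsg.Agent.L.KW

/-! Standard machine: the affine group 2^6:A8 on 64 points
Generated certificate (tools14/pkgen) for the permutation group StE64 of degree 64, order 1290240, base 0 7 25 2 8. -/
set_option autoImplicit false
set_option maxRecDepth 100000

namespace H14.StE64
open H14

noncomputable def n0 : Net := (.cons (nat_lit 1) (nat_lit 0x4444444444444444)
(.cons (nat_lit 2) (nat_lit 0x2222222222222222)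
(.cons (nat_lit 1) (nat_lit 0x550500550050550)
.nil)))
theorem n0_ok : Net.ok 64 n0 = true := by decide +kernel
noncomputable def n1 : Net := (.cons (nat_lit 32) (nat_lit 0xffff0000)
(.cons (nat_lit 16) (nat_lit 0xff0000ff00)
(.cons (nat_lit 8) (nat_lit 0xf00f0000f00f0)
(.cons (nat_lit 4) (nat_lit 0x30c030c030c030c)
(.cons (nat_lit 2) (nat_lit 0x1212121212121212)
(.cons (nat_lit 1) (nat_lit 0x4444444444444444)
.nil))))))
theorem n1_ok : Net.ok 64 n1 = true := by decide +kernel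
noncomputable def n2 : Net := (.cons (nat_lit 1) (nat_lit 0x5555555555555555)
.nil)
theorem n2_ok : Net.ok 64 n2 = true := by decide +kernel
noncomputable def n3 : Net := (.cons (nat_lit 1) (nat_lit 0x5555000055550000)
(.cons (nat_lit 2) (nat_lit 0x3333333300000000)
(.cons (nat_lit 8) (nat_lit 0xff00ff00000000)
(.cons (nat_lit 32) (nat_lit 0x3cc3c33c)
(.cons (nat_lit 16) (nat_lit 0xa5a500005a5a)
(.cons (nat_lit 8) (nat_lit 0x5a005a005a005a)
(.cons (nat_lit 4) (nat_lit 0xf0f00000f0f0000)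
(.cons (nat_lit 2) (nat_lit 0x3300330033003300)
(.cons (nat_lit 1) (nat_lit 0x1441411414414114)
.nil)))))))))
theorem n3_ok : Net.ok 64 n3 = true := by decide +kernel
noncomputable def n4 : Net := (.cons (nat_lit 1) (nat_lit 0x4444444444444444)
(.cons (nat_lit 16) (nat_lit 0xffff00000000)
(.cons (nat_lit 8) (nat_lit 0xff00ff00000000)
(.cons (nat_lit 4) (nat_lit 0xf0f0f0f00000000)
(.cons (nat_lit 2) (nat_lit 0x1111111122222222)
(.cons (nat_lit 1) (nat_lit 0x4444444444444444)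
.nil))))))
theorem n4_ok : Net.ok 64 n4 = true := by decide +kernel
noncomputable def n5 : Net := (.cons (nat_lit 1) (nat_lit 0x5050505050505050)
(.cons (nat_lit 8) (nat_lit 0xff00ff00000000)
(.cons (nat_lit 32) (nat_lit 0xffff00)
(.cons (nat_lit 16) (nat_lit 0xffff00000000)
(.cons (nat_lit 4) (nat_lit 0x5050a0a05050a0a)
(.cons (nat_lit 2) (nat_lit 0x2211221111221122)
(.cons (nat_lit 1) (nat_lit 0x1144441144111144)
.nil)))))))
theorem n5_ok : Net.ok 64 n5 = true := by decide +kernel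
noncomputable def n6 : Net := (.cons (nat_lit 1) (nat_lit 0x5050505050505050)
(.cons (nat_lit 2) (nat_lit 0x3030303030303030)
(.cons (nat_lit 8) (nat_lit 0xff00ff00000000)
(.cons (nat_lit 32) (nat_lit 0xffff00)
(.cons (nat_lit 8) (nat_lit 0xff00ff00000000)
(.cons (nat_lit 4) (nat_lit 0x609060909060906)
(.cons (nat_lit 2) (nat_lit 0x330300330030330)
(.cons (nat_lit 1) (nat_lit 0x550500550050550)
.nil))))))))
theorem n6_ok : Net.ok 64 n6 = true := by decide +kernel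
noncomputable def n7 : Net := (.cons (nat_lit 16) (nat_lit 0xffff00000000)
(.cons (nat_lit 8) (nat_lit 0xff00ff00000000)
(.cons (nat_lit 4) (nat_lit 0xf0f0f0f00000000)
(.cons (nat_lit 2) (nat_lit 0x3333333300000000)
(.cons (nat_lit 1) (nat_lit 0x1441411414414114)
.nil)))))
theorem n7_ok : Net.ok 64 n7 = true := by decide +kernel
noncomputable def n8 : Net := (.cons (nat_lit 1) (nat_lit 0x5555000055550000)
(.cons (nat_lit 2) (nat_lit 0x3333333300000000)
(.cons (nat_lit 32) (nat_lit 0x3c3c3c3c)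
(.cons (nat_lit 16) (nat_lit 0x5a5a00005a5a)
(.cons (nat_lit 8) (nat_lit 0x66006600660066)
(.cons (nat_lit 2) (nat_lit 0x3333333300000000)
(.cons (nat_lit 1) (nat_lit 0x5555000055550000)
.nil)))))))
theorem n8_ok : Net.ok 64 n8 = true := by decide +kernel
noncomputable def n9 : Net := (.cons (nat_lit 1) (nat_lit 0x5050505050505050)
(.cons (nat_lit 8) (nat_lit 0xff00ff00000000)
(.cons (nat_lit 32) (nat_lit 0xffff00)
(.cons (nat_lit 8) (nat_lit 0xff00ff00000000)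
(.cons (nat_lit 4) (nat_lit 0x5050a0a05050a0a)
(.cons (nat_lit 2) (nat_lit 0x2211221111221122)
(.cons (nat_lit 1) (nat_lit 0x5050505050505050)
.nil)))))))
theorem n9_ok : Net.ok 64 n9 = true := by decide +kernel
noncomputable def n10 : Net := (.cons (nat_lit 1) (nat_lit 0x5050505050505050)
(.cons (nat_lit 16) (nat_lit 0xffff00000000)
(.cons (nat_lit 32) (nat_lit 0xffff00)
(.cons (nat_lit 16) (nat_lit 0xffff00000000)
(.cons (nat_lit 4) (nat_lit 0x50a050a050a050a)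
(.cons (nat_lit 2) (nat_lit 0x2222111111112222)
(.cons (nat_lit 1) (nat_lit 0x5050505050505050)
.nil)))))))
theorem n10_ok : Net.ok 64 n10 = true := by decide +kernel
noncomputable def nets : List Net := [n0, n1, n2, n3, n4, n5, n6, n7, n8, n9, n10]
theorem nets_ok : netsOk 64 nets = true := List.all_eq_true.2 (fa_cons n0_ok (fa_cons n1_ok (fa_cons n2_ok (fa_cons n3_ok (fa_cons n4_ok (fa_cons n5_ok (fa_cons n6_ok (fa_cons n7_ok (fa_cons n8_ok (fa_cons n9_ok (fa_cons n10_ok (fa_nil))))))))))))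
noncomputable def ws5 : List Word := []
noncomputable def lev4 : Level := ⟨nat_lit 8,
[⟨[nat_lit 18], [], [],
[⟨nat_lit 0, [], nat_lit 1, [], []⟩,
⟨nat_lit 1, [], nat_lit 0, [], []⟩,
⟨nat_lit 2, [], nat_lit 3, [], []⟩,
⟨nat_lit 3, [], nat_lit 2, [], []⟩],
[]⟩,
⟨[nat_lit 20], [], [],
[⟨nat_lit 0, [], nat_lit 2, [], []⟩,
⟨nat_lit 1, [], nat_lit 3, [], []⟩,
⟨nat_lit 2, [], nat_lit 0, [], []⟩,
⟨nat_lit 3, [], nat_lit 1, [], []⟩],
[]⟩],
[⟨dw (nat_lit 0x01), (nat_lit 0x400000000), [], .nil, []⟩,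
⟨dw (nat_lit 0x03), (nat_lit 0x2000000000000000), [], .nil, []⟩,
⟨dw (nat_lit 0x0301), (nat_lit 0x10000), [], .nil, []⟩]⟩
noncomputable def ex4 : List Word := []
noncomputable def ws4 : List Word := List.append ex4 (lev4.gens ws5)
noncomputable def rels4 : List (Word × Word) := List.append (lev4.rels ws5) (memRels (lev4.gens ws5) ex4 [])
noncomputable def lev3 : Level := ⟨nat_lit 2,
[⟨[nat_lit 10], [dw (nat_lit 0x0203)], [dw (nat_lit 0x0301)],
[⟨nat_lit 0, [], nat_lit 1, [], []⟩,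
⟨nat_lit 1, [], nat_lit 3, [], []⟩,
⟨nat_lit 2, [], nat_lit 4, dw (nat_lit 0x01), dw (nat_lit 0x01)⟩,
⟨nat_lit 3, [], nat_lit 1, dw (nat_lit 0x01), dw (nat_lit 0x01)⟩,
⟨nat_lit 4, [], nat_lit 2, [], []⟩,
⟨nat_lit 1, dw (nat_lit 0x01), nat_lit 0, [], dw (nat_lit 0x01)⟩],
[dw (nat_lit 0x01)]⟩,
⟨[nat_lit 16], [dw (nat_lit 0x01)], [dw (nat_lit 0x01)],
[⟨nat_lit 0, [], nat_lit 2, [], []⟩,
⟨nat_lit 1, [], nat_lit 4, [], []⟩,
⟨nat_lit 2, [], nat_lit 0, [], []⟩,
⟨nat_lit 3, [], nat_lit 2, dw (nat_lit 0x03), dw (nat_lit 0x03)⟩,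
⟨nat_lit 4, [], nat_lit 1, [], []⟩,
⟨nat_lit 2, dw (nat_lit 0x03), nat_lit 3, [], dw (nat_lit 0x03)⟩],
[dw (nat_lit 0x01)]⟩],
[⟨dw (nat_lit 0x01), (nat_lit 0x18), [dw (nat_lit 0x01)], (.cons (nat_lit 8) [dw (nat_lit 0x0203)] [dw (nat_lit 0x01)]
.nil), [dw (nat_lit 0x0301)]⟩,
⟨dw (nat_lit 0x03), (nat_lit 0x810000000000), [dw (nat_lit 0x03)], (.cons (nat_lit 8) [dw (nat_lit 0x01)] [dw (nat_lit 0x01)]
.nil), [dw (nat_lit 0x01)]⟩,
⟨dw (nat_lit 0x0101), (nat_lit 0x20), [], (.cons (nat_lit 8) [dw (nat_lit 0x01), dw (nat_lit 0x03)] [dw (nat_lit 0x01), dw (nat_lit 0x03)]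
.nil), [dw (nat_lit 0x01), dw (nat_lit 0x03)]⟩,
⟨dw (nat_lit 0x0301), (nat_lit 0x81000000000000), [dw (nat_lit 0x01)], (.cons (nat_lit 8) [dw (nat_lit 0x03)] [dw (nat_lit 0x01)]
.nil), [dw (nat_lit 0x03)]⟩]⟩
noncomputable def ex3 : List Word := [[nat_lit 12], [nat_lit 14]]
noncomputable def ws3 : List Word := List.append ex3 (lev3.gens ws4)
noncomputable def rels3 : List (Word × Word) := List.append (lev3.rels ws4) (memRels (lev3.gens ws4) ex3 [dw (nat_lit 0x010107), dw (nat_lit 0x0105)])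
noncomputable def lev2 : Level := ⟨nat_lit 25,
[⟨[nat_lit 0], [dw (nat_lit 0x01), dw (nat_lit 0x0a0b)], [dw (nat_lit 0x09), dw (nat_lit 0x0b09)],
[⟨nat_lit 0, [], nat_lit 1, [], []⟩,
⟨nat_lit 1, [], nat_lit 1, dw (nat_lit 0x03), dw (nat_lit 0x03)⟩,
⟨nat_lit 2, [], nat_lit 1, dw (nat_lit 0x01), []⟩,
⟨nat_lit 3, [], nat_lit 4, [], []⟩,
⟨nat_lit 4, [], nat_lit 1, dw (nat_lit 0x07), []⟩,
⟨nat_lit 1, dw (nat_lit 0x03), nat_lit 0, [], dw (nat_lit 0x03)⟩,
⟨nat_lit 1, dw (nat_lit 0x06), nat_lit 2, [], dw (nat_lit 0x03)⟩,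
⟨nat_lit 1, dw (nat_lit 0x07), nat_lit 3, [], []⟩,
⟨nat_lit 3, dw (nat_lit 0x03), nat_lit 1, dw (nat_lit 0x0706), dw (nat_lit 0x01)⟩,
⟨nat_lit 4, dw (nat_lit 0x03), nat_lit 3, dw (nat_lit 0x03), []⟩,
⟨nat_lit 1, dw (nat_lit 0x0703), nat_lit 4, dw (nat_lit 0x05), dw (nat_lit 0x0109)⟩],
[dw (nat_lit 0x01), dw (nat_lit 0x03)]⟩],
[⟨dw (nat_lit 0x01), (nat_lit 0x4242003c000000), [dw (nat_lit 0x01), dw (nat_lit 0x03), dw (nat_lit 0x07)], (.cons (nat_lit 8) [dw (nat_lit 0x09), dw (nat_lit 0x0c)] [dw (nat_lit 0x01), dw (nat_lit 0x03)]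
.nil), [dw (nat_lit 0x01), dw (nat_lit 0x010b09)]⟩,
⟨dw (nat_lit 0x020301), (nat_lit 0x40000000), [], (.cons (nat_lit 2) [dw (nat_lit 0x03), dw (nat_lit 0x07)] [dw (nat_lit 0x01), dw (nat_lit 0x03), dw (nat_lit 0x01), dw (nat_lit 0x03)]
(.cons (nat_lit 8) [dw (nat_lit 0x09), dw (nat_lit 0x0b)] [dw (nat_lit 0x01), dw (nat_lit 0x03)]
.nil)), [dw (nat_lit 0x030b09), dw (nat_lit 0x07010b09), dw (nat_lit 0x09), dw (nat_lit 0x0b)]⟩,
⟨dw (nat_lit 0x010901), (nat_lit 0x18240000000000), [dw (nat_lit 0x01), dw (nat_lit 0x03)], (.cons (nat_lit 2) [dw (nat_lit 0x07), dw (nat_lit 0x040608)] [dw (nat_lit 0x01), dw (nat_lit 0x03)]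
(.cons (nat_lit 8) [dw (nat_lit 0x09)] [dw (nat_lit 0x01)]
.nil)), [dw (nat_lit 0x07), dw (nat_lit 0x07010b), dw (nat_lit 0x010b09)]⟩,
⟨dw (nat_lit 0x020901), (nat_lit 0x24180000000000), [dw (nat_lit 0x03), dw (nat_lit 0x05)], (.cons (nat_lit 2) [dw (nat_lit 0x01), dw (nat_lit 0x01060c0108)] [dw (nat_lit 0x01), dw (nat_lit 0x03)]
(.cons (nat_lit 8) [dw (nat_lit 0x0b)] [dw (nat_lit 0x01)]
.nil)), [dw (nat_lit 0x01), dw (nat_lit 0x07030b09), dw (nat_lit 0x010b)]⟩]⟩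
noncomputable def ex2 : List Word := [[nat_lit 6], [nat_lit 8]]
noncomputable def ws2 : List Word := List.append ex2 (lev2.gens ws3)
noncomputable def rels2 : List (Word × Word) := List.append (lev2.rels ws3) (memRels (lev2.gens ws3) ex2 [dw (nat_lit 0x0203010905), dw (nat_lit 0x0205)])
noncomputable def lev1 : Level := ⟨nat_lit 7,
[⟨[nat_lit 2], [dw (nat_lit 0x05), dw (nat_lit 0x0d), dw (nat_lit 0x08090f)], [dw (nat_lit 0x05070f), dw (nat_lit 0x0d09110f), dw (nat_lit 0x050d030d070f)],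
[⟨nat_lit 0, [], nat_lit 1, [], []⟩,
⟨nat_lit 1, [], nat_lit 2, [], []⟩,
⟨nat_lit 2, [], nat_lit 1, dw (nat_lit 0x0901), dw (nat_lit 0x0302050d09110f)⟩,
⟨nat_lit 1, dw (nat_lit 0x0b), nat_lit 0, [], dw (nat_lit 0x0d030d11)⟩,
⟨nat_lit 1, dw (nat_lit 0x0f), nat_lit 1, dw (nat_lit 0x0b02), dw (nat_lit 0x0107110f)⟩,
⟨nat_lit 2, dw (nat_lit 0x07), nat_lit 2, dw (nat_lit 0x0d), dw (nat_lit 0x03010d09)⟩],
[dw (nat_lit 0x03), dw (nat_lit 0x01), dw (nat_lit 0x01), dw (nat_lit 0x03), dw (nat_lit 0x01)]⟩],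
[⟨dw (nat_lit 0x01), (nat_lit 0x170000e800e8e800), [dw (nat_lit 0x01), dw (nat_lit 0x03), dw (nat_lit 0x0b), dw (nat_lit 0x09), dw (nat_lit 0x01)], (.cons (nat_lit 25) [dw (nat_lit 0x0103)] [dw (nat_lit 0x01), dw (nat_lit 0x0101), dw (nat_lit 0x03), dw (nat_lit 0x01)]
(.cons (nat_lit 2) [dw (nat_lit 0x0c11), dw (nat_lit 0x0c070d)] [dw (nat_lit 0x01), dw (nat_lit 0x03)]
.nil)), [dw (nat_lit 0x0302050c110f), dw (nat_lit 0x0301030d0711), dw (nat_lit 0x0d)]⟩,
⟨dw (nat_lit 0x0101), (nat_lit 0x7e7e007e000000), [dw (nat_lit 0x01), dw (nat_lit 0x05), dw (nat_lit 0x03), dw (nat_lit 0x01), dw (nat_lit 0x0b), dw (nat_lit 0x01)], (.cons (nat_lit 25) [dw (nat_lit 0x03), dw (nat_lit 0x050d06)] [dw (nat_lit 0x01), dw (nat_lit 0x05), dw (nat_lit 0x03), dw (nat_lit 0x01)]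
(.cons (nat_lit 8) [dw (nat_lit 0x0f), dw (nat_lit 0x12)] [dw (nat_lit 0x01), dw (nat_lit 0x03)]
.nil)), [dw (nat_lit 0x110f), dw (nat_lit 0x0d), dw (nat_lit 0x0d0c), dw (nat_lit 0x0d07110f)]⟩]⟩
noncomputable def ex1 : List Word := []
noncomputable def ws1 : List Word := List.append ex1 (lev1.gens ws2)
noncomputable def rels1 : List (Word × Word) := List.append (lev1.rels ws2) (memRels (lev1.gens ws2) ex1 [])
noncomputable def lev0 : Level := ⟨nat_lit 0,
[⟨[nat_lit 4], [dw (nat_lit 0x0205), dw (nat_lit 0x040503), dw (nat_lit 0x0b)], [dw (nat_lit 0x0205), dw (nat_lit 0x0f070f0b1311), dw (nat_lit 0x0b)],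
[⟨nat_lit 0, [], nat_lit 1, [], []⟩,
⟨nat_lit 1, [], nat_lit 0, [], []⟩,
⟨nat_lit 2, [], nat_lit 1, dw (nat_lit 0x03), []⟩,
⟨nat_lit 1, dw (nat_lit 0x01), nat_lit 1, dw (nat_lit 0x07), dw (nat_lit 0x0801)⟩,
⟨nat_lit 1, dw (nat_lit 0x03), nat_lit 2, [], []⟩,
⟨nat_lit 2, dw (nat_lit 0x05), nat_lit 2, dw (nat_lit 0x07), dw (nat_lit 0x0f050f0911)⟩],
[dw (nat_lit 0x01), dw (nat_lit 0x05), dw (nat_lit 0x01), dw (nat_lit 0x05), dw (nat_lit 0x01), dw (nat_lit 0x0206), dw (nat_lit 0x05), dw (nat_lit 0x01)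
, dw (nat_lit 0x0101)]⟩],
[⟨dw (nat_lit 0x01), (nat_lit 0xe88181178117177e), [dw (nat_lit 0x01), dw (nat_lit 0x03), dw (nat_lit 0x09), dw (nat_lit 0x01), dw (nat_lit 0x0d), dw (nat_lit 0x03), dw (nat_lit 0x09)], (.cons (nat_lit 7) [dw (nat_lit 0x0205)] [dw (nat_lit 0x01), dw (nat_lit 0x05), dw (nat_lit 0x01), dw (nat_lit 0x07), dw (nat_lit 0x01), dw (nat_lit 0x03), dw (nat_lit 0x01)]
(.cons (nat_lit 25) [dw (nat_lit 0x040503)] [dw (nat_lit 0x01), dw (nat_lit 0x03), dw (nat_lit 0x07), dw (nat_lit 0x01)]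
(.cons (nat_lit 2) [dw (nat_lit 0x0b), dw (nat_lit 0x0a0e)] [dw (nat_lit 0x01), dw (nat_lit 0x03)]
(.cons (nat_lit 8) [dw (nat_lit 0x1213)] [dw (nat_lit 0x01)]
.nil)))), [dw (nat_lit 0x0205), dw (nat_lit 0x0f070f0b1311), dw (nat_lit 0x0b), dw (nat_lit 0x0e13), dw (nat_lit 0x1311)]⟩,
⟨dw (nat_lit 0x010501), (nat_lit 0x177e7ee87ee8e880), [dw (nat_lit 0x01), dw (nat_lit 0x03), dw (nat_lit 0x01), dw (nat_lit 0x05), dw (nat_lit 0x0d), dw (nat_lit 0x01), dw (nat_lit 0x05)], (.cons (nat_lit 7) [dw (nat_lit 0x020701)] [dw (nat_lit 0x01), dw (nat_lit 0x03), dw (nat_lit 0x07), dw (nat_lit 0x09), dw (nat_lit 0x01), dw (nat_lit 0x05)]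
(.cons (nat_lit 2) [dw (nat_lit 0x0b), dw (nat_lit 0x130f)] [dw (nat_lit 0x01), dw (nat_lit 0x03), dw (nat_lit 0x05), dw (nat_lit 0x01)]
(.cons (nat_lit 8) [dw (nat_lit 0x11), dw (nat_lit 0x14)] [dw (nat_lit 0x01), dw (nat_lit 0x03)]
.nil))), [dw (nat_lit 0x08010504070f0911), dw (nat_lit 0x0b1311), dw (nat_lit 0x0f1311), dw (nat_lit 0x091311), dw (nat_lit 0x13)]⟩]⟩
noncomputable def ex0 : List Word := []
noncomputable def ws0 : List Word := List.append ex0 (lev0.gens ws1)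
noncomputable def rels0 : List (Word × Word) := List.append (lev0.rels ws1) (memRels (lev0.gens ws1) ex0 [])
noncomputable def rels : List (Word × Word) := List.append rels0 (List.append rels1 (List.append rels2 (List.append rels3 (List.append rels4 ([])))))
noncomputable def defs : List Word := [dw (nat_lit 0x04020402030104040203010402020402), dw (nat_lit 0x040402020302030202), dw (nat_lit 0x0808010808020a020808), dw (nat_lit 0x0808), dw (nat_lit 0x0109), dw (nat_lit 0x0802070208080a020907020a), dw (nat_lit 0x0c0f), dw (nat_lit 0x0b110d0c0e0e0f0d120d0f)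
]
noncomputable def relsD : List (Word × Word) := defRels defs 3
noncomputable def relsO : List (Word × Word) := memRels ws0 (lets 3) [dw (nat_lit 0x09), dw (nat_lit 0x03), dw (nat_lit 0x01)]
noncomputable def relsS : List (Word × Word) := []
noncomputable def allRels : List (Word × Word) := List.append rels (List.append relsD (List.append relsO relsS))
theorem chk4 : lev4.chk 64 nets ws5 1 4 = true := by decide +kernel
theorem chk3 : lev3.chk 64 nets ws4 4 32 = true := by decide +kernel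
theorem chk2 : lev2.chk 64 nets ws3 32 576 = true := by decide +kernel
theorem chk1 : lev1.chk 64 nets ws2 576 20160 = true := by decide +kernel
theorem chk0 : lev0.chk 64 nets ws1 20160 1290240 = true := by decide +kernel
theorem rc0 : relsChk 64 nets 6 (idArr 64 6 6 0) allRels = true := by decide +kernel
section
variable {Γ Ω : Type*} [Group Γ] [MulAction Γ Ω] (M : PM Γ Ω 64 nets)

theorem all_ok (hs : M.Sep 6 (idArr 64 6 6 0)) : Rels M.gen allRels := (M.rels_of_chk hs rc0)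
theorem sep [FaithfulSMul Γ Ω] : M.Sep 6 (idArr 64 6 6 0) := M.sep_idArr (by decide)
theorem all_ok' [FaithfulSMul Γ Ω] : Rels M.gen allRels := all_ok M (sep M)
theorem rels_of_all {gen : ℕ → Γ} (h : Rels gen allRels) : Rels gen rels := Rels.left h
theorem relsD_of_all {gen : ℕ → Γ} (h : Rels gen allRels) : Rels gen relsD := Rels.left (Rels.right h)
theorem relsO_of_all {gen : ℕ → Γ} (h : Rels gen allRels) : Rels gen relsO := Rels.left (Rels.right (Rels.right h))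
theorem relsS_of_all {gen : ℕ → Γ} (h : Rels gen allRels) : Rels gen relsS := Rels.right (Rels.right (Rels.right h))
theorem card5 (_hR : Rels M.gen rels) : Nat.card (sub M.gen ws5) = 1 := M.card_nil
theorem fixw5 (_hR : Rels M.gen rels) : M.FixTriv ws5 [] := M.fixTriv_nil
theorem r4 (hR : Rels M.gen rels) : Rels M.gen rels4 := (Rels.left (Rels.right (Rels.right (Rels.right (Rels.right hR)))))
theorem res4 (hR : Rels M.gen rels) : M.LevelRes ws5 lev4 4 := M.level (card5 M hR) chk4 (Rels.left (r4 M hR))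
theorem ext4 (hR : Rels M.gen rels) : sub M.gen ws4 = sub M.gen (lev4.gens ws5) := sub_extend (Rels.right (r4 M hR))
theorem card4 (hR : Rels M.gen rels) : Nat.card (sub M.gen ws4) = 4 := by rw [ext4 M hR]; exact (res4 M hR).card
theorem fix4 (hR : Rels M.gen rels) : M.FixTriv (lev4.gens ws5) [8] := (res4 M hR).fixTriv M (fixw5 M hR)
theorem fixw4 (hR : Rels M.gen rels) : M.FixTriv ws4 [8] := fun g hg => fix4 M hR g (ext4 M hR ▸ hg)
theorem stab4 (hR : Rels M.gen rels) : sub M.gen ws4 ⊓ MulAction.stabilizer Γ (M.dec 8) = sub M.gen ws5 := by rw [ext4 M hR]; exact (res4 M hR).stab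
theorem orb4 (hR : Rels M.gen rels) (y : Ω) : y ∈ M.S lev4.orb ↔ ∃ g ∈ sub M.gen ws4, g • M.dec 8 = y := by rw [ext4 M hR]; exact (res4 M hR).orb y
theorem r3 (hR : Rels M.gen rels) : Rels M.gen rels3 := (Rels.left (Rels.right (Rels.right (Rels.right hR))))
theorem res3 (hR : Rels M.gen rels) : M.LevelRes ws4 lev3 32 := M.level (card4 M hR) chk3 (Rels.left (r3 M hR))
theorem ext3 (hR : Rels M.gen rels) : sub M.gen ws3 = sub M.gen (lev3.gens ws4) := sub_extend (Rels.right (r3 M hR))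
theorem card3 (hR : Rels M.gen rels) : Nat.card (sub M.gen ws3) = 32 := by rw [ext3 M hR]; exact (res3 M hR).card
theorem fix3 (hR : Rels M.gen rels) : M.FixTriv (lev3.gens ws4) [2, 8] := (res3 M hR).fixTriv M (fixw4 M hR)
theorem fixw3 (hR : Rels M.gen rels) : M.FixTriv ws3 [2, 8] := fun g hg => fix3 M hR g (ext3 M hR ▸ hg)
theorem stab3 (hR : Rels M.gen rels) : sub M.gen ws3 ⊓ MulAction.stabilizer Γ (M.dec 2) = sub M.gen ws4 := by rw [ext3 M hR]; exact (res3 M hR).stab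
theorem orb3 (hR : Rels M.gen rels) (y : Ω) : y ∈ M.S lev3.orb ↔ ∃ g ∈ sub M.gen ws3, g • M.dec 2 = y := by rw [ext3 M hR]; exact (res3 M hR).orb y
theorem r2 (hR : Rels M.gen rels) : Rels M.gen rels2 := (Rels.left (Rels.right (Rels.right hR)))
theorem res2 (hR : Rels M.gen rels) : M.LevelRes ws3 lev2 576 := M.level (card3 M hR) chk2 (Rels.left (r2 M hR))
theorem ext2 (hR : Rels M.gen rels) : sub M.gen ws2 = sub M.gen (lev2.gens ws3) := sub_extend (Rels.right (r2 M hR))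
theorem card2 (hR : Rels M.gen rels) : Nat.card (sub M.gen ws2) = 576 := by rw [ext2 M hR]; exact (res2 M hR).card
theorem fix2 (hR : Rels M.gen rels) : M.FixTriv (lev2.gens ws3) [25, 2, 8] := (res2 M hR).fixTriv M (fixw3 M hR)
theorem fixw2 (hR : Rels M.gen rels) : M.FixTriv ws2 [25, 2, 8] := fun g hg => fix2 M hR g (ext2 M hR ▸ hg)
theorem stab2 (hR : Rels M.gen rels) : sub M.gen ws2 ⊓ MulAction.stabilizer Γ (M.dec 25) = sub M.gen ws3 := by rw [ext2 M hR]; exact (res2 M hR).stab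
theorem orb2 (hR : Rels M.gen rels) (y : Ω) : y ∈ M.S lev2.orb ↔ ∃ g ∈ sub M.gen ws2, g • M.dec 25 = y := by rw [ext2 M hR]; exact (res2 M hR).orb y
theorem r1 (hR : Rels M.gen rels) : Rels M.gen rels1 := (Rels.left (Rels.right hR))
theorem res1 (hR : Rels M.gen rels) : M.LevelRes ws2 lev1 20160 := M.level (card2 M hR) chk1 (Rels.left (r1 M hR))
theorem ext1 (hR : Rels M.gen rels) : sub M.gen ws1 = sub M.gen (lev1.gens ws2) := sub_extend (Rels.right (r1 M hR))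
theorem card1 (hR : Rels M.gen rels) : Nat.card (sub M.gen ws1) = 20160 := by rw [ext1 M hR]; exact (res1 M hR).card
theorem fix1 (hR : Rels M.gen rels) : M.FixTriv (lev1.gens ws2) [7, 25, 2, 8] := (res1 M hR).fixTriv M (fixw2 M hR)
theorem fixw1 (hR : Rels M.gen rels) : M.FixTriv ws1 [7, 25, 2, 8] := fun g hg => fix1 M hR g (ext1 M hR ▸ hg)
theorem stab1 (hR : Rels M.gen rels) : sub M.gen ws1 ⊓ MulAction.stabilizer Γ (M.dec 7) = sub M.gen ws2 := by rw [ext1 M hR]; exact (res1 M hR).stab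
theorem orb1 (hR : Rels M.gen rels) (y : Ω) : y ∈ M.S lev1.orb ↔ ∃ g ∈ sub M.gen ws1, g • M.dec 7 = y := by rw [ext1 M hR]; exact (res1 M hR).orb y
theorem r0 (hR : Rels M.gen rels) : Rels M.gen rels0 := (Rels.left hR)
theorem res0 (hR : Rels M.gen rels) : M.LevelRes ws1 lev0 1290240 := M.level (card1 M hR) chk0 (Rels.left (r0 M hR))
theorem ext0 (hR : Rels M.gen rels) : sub M.gen ws0 = sub M.gen (lev0.gens ws1) := sub_extend (Rels.right (r0 M hR))
theorem card0 (hR : Rels M.gen rels) : Nat.card (sub M.gen ws0) = 1290240 := by rw [ext0 M hR]; exact (res0 M hR).card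
theorem fix0 (hR : Rels M.gen rels) : M.FixTriv (lev0.gens ws1) [0, 7, 25, 2, 8] := (res0 M hR).fixTriv M (fixw1 M hR)
theorem fixw0 (hR : Rels M.gen rels) : M.FixTriv ws0 [0, 7, 25, 2, 8] := fun g hg => fix0 M hR g (ext0 M hR ▸ hg)
theorem stab0 (hR : Rels M.gen rels) : sub M.gen ws0 ⊓ MulAction.stabilizer Γ (M.dec 0) = sub M.gen ws1 := by rw [ext0 M hR]; exact (res0 M hR).stab
theorem orb0 (hR : Rels M.gen rels) (y : Ω) : y ∈ M.S lev0.orb ↔ ∃ g ∈ sub M.gen ws0, g • M.dec 0 = y := by rw [ext0 M hR]; exact (res0 M hR).orb y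
theorem orig_eq {gen : ℕ → Γ} (h : Rels gen allRels) : sub gen (lets 3) = sub gen ws0 :=
  sub_lets_eq_of_rels (ds := defs) (by decide +kernel) (relsD_of_all h) (by decide +kernel) (relsO_of_all h)
theorem gen_mem {gen : ℕ → Γ} (h : Rels gen allRels) {X : Subgroup Γ} (h0 : ∀ l < 3, gen l ∈ X) : sub gen ws0 ≤ X :=
  sub_le_of_wsIn (lo := 0) (gen_mem_of_defRels (ds := defs) (fun l _ hl => h0 l hl) (by decide +kernel) (relsD_of_all h)) (by decide +kernel)

end

/-- the permutation group -/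
noncomputable abbrev P := permPM 64 nets (by decide) (by decide) nets_ok
theorem allP : Rels P.gen allRels := all_ok' P
/-- machines of this type -/
abbrev St (X : Type*) [Group X] := H15.Std X 64 nets ws0 1290240 allRels
theorem hom {X : Type*} [Group X] (S : St X) {Δ : Type*} [Group Δ] (y : ℕ → Δ) (hy : Rels y rels) :
    ∃ φ : X →* Δ, φ.range = sub y ws0 ∧ ∀ w ∈ ws0, φ (H14.ev S.M.gen w) = H14.ev y w :=
  S.hom_ws y (card0 _ ((rels_of_all S.rels).prod hy))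
theorem pres {X : Type*} [Group X] (S : St X) : L.Pres X rels ws0 := L.Pres.of fun _ _ y hy => hom S y hy
/-- the group generated by the letters -/
noncomputable abbrev X0 := sub P.gen ws0
theorem std : Nonempty (St X0) :=
  let ⟨S, _⟩ := H15.std_of_hom (sub P.gen ws0).subtype (k := 3)
    (fun _ hl => ⟨⟨_, orig_eq allP ▸ gen_mem_lets hl⟩, rfl⟩) (ds := defs) (by decide +kernel) (by decide +kernel)
    (relsD_of_all allP) (H15.Bd.of_card (card0 P (rels_of_all allP)) (by decide)).top_sub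
    (card0 P (rels_of_all allP)) allP
  ⟨S⟩
theorem pres0 : L.Pres X0 rels ws0 := std.elim pres
theorem cardX : Nat.card X0 = 1290240 := card0 P (rels_of_all allP)

end H14.StE64
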