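import Cfsg.Agent.L.KA
import Cfsg.Agent.H14.StE64

/-! Generated certificate (toolsL/cg.hpp). -/
set_option autoImplicit false
set_option maxRecDepth 200000
set_option Elab.async false
set_option linter.unusedVariables false
set_option linter.unusedSectionVars false

namespace L.KhE64T
open H14 
variable {G Ω : Type*} [Group G] [Finite G] [MulAction G Ω]

noncomputable def t0 : List (List Nat) := [[nat_lit 0xffffffff000000000000000000000000ffff0000ffff00000000000000000000ff00ff00ff00ff000000000000000000f0f0f0f0f0f0f0f00000000000000000aaaaaaaaaaaaaaaa00000000000000006996966996696996, nat_lit 0, nat_lit 0, nat_lit 0, nat_lit 0, nat_lit 0, nat_lit 0, nat_lit 0, nat_lit 0, nat_lit 0, nat_lit 0, nat_lit 0, nat_lit 0, nat_lit 0, nat_lit 0, nat_lit 0]]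
theorem k1 : tchk 128 6 16 1 (letN H14.StE64.nets (Nat.xor 0 1)) t0 = true := by decide +kernel
noncomputable def t2 : List (List Nat) := [[nat_lit 0xffffffff000000000000000000000000ffff0000ffff00000000000000000000ff00ff00ff00ff000000000000000000f0f0f0f0f0f0f0f0000000000000000069969669966969960000000000000000cccccccccccccccc, nat_lit 0, nat_lit 0, nat_lit 0, nat_lit 0, nat_lit 0, nat_lit 0, nat_lit 0, nat_lit 0, nat_lit 0, nat_lit 0, nat_lit 0, nat_lit 0, nat_lit 0, nat_lit 0, nat_lit 0]]
theorem k3 : tchk 128 6 16 1 (letN H14.StE64.nets (Nat.xor 1 1)) t2 = true := by decide +kernel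
noncomputable def t4 : List (List Nat) := [[nat_lit 0xffffffff0000000000000000000000ff00ffff00ff0000000000000000000f0f0f0ff0f0f0f0000000000000000033333333cccccccc000000000000000055555555aaaaaaaa0000000000000000ffffffff00000000, nat_lit 0, nat_lit 0, nat_lit 0, nat_lit 0, nat_lit 0, nat_lit 0, nat_lit 0, nat_lit 0, nat_lit 0, nat_lit 0, nat_lit 0, nat_lit 0, nat_lit 0, nat_lit 0, nat_lit 0]]
theorem k5 : tchk 128 6 16 1 (letN H14.StE64.nets (Nat.xor 2 1)) t4 = true := by decide +kernel
noncomputable def t6 : List (List Nat) := [[nat_lit 0xaaaaaaaaaaaaaaaa000000000000000055555555aaaaaaaa00000000000000005555aaaa5555aaaa000000000000000055aa55aa55aa55aa00000000000000005a5a5a5a5a5a5a5a00000000000000006666666666666666, nat_lit 0, nat_lit 0, nat_lit 0, nat_lit 0, nat_lit 0, nat_lit 0, nat_lit 0, nat_lit 0, nat_lit 0, nat_lit 0, nat_lit 0, nat_lit 0, nat_lit 0, nat_lit 0, nat_lit 0]]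
theorem k7 : tchk 128 6 16 1 (letN H14.StE64.nets (Nat.xor 3 1)) t6 = true := by decide +kernel
noncomputable def t8 : List (List Nat) := [[nat_lit 0xffffffff000000000000000000000000ffff0000ffff00000000000000000000ff00ff00ff00ff000000000000000000f0f0f0f0f0f0f0f00000000000000000cccccccccccccccc00000000000000005555555555555555, nat_lit 0, nat_lit 0, nat_lit 0, nat_lit 0, nat_lit 0, nat_lit 0, nat_lit 0, nat_lit 0, nat_lit 0, nat_lit 0, nat_lit 0, nat_lit 0, nat_lit 0, nat_lit 0, nat_lit 0]]
theorem k9 : tchk 128 6 16 1 (letN H14.StE64.nets (Nat.xor 4 1)) t8 = true := by decide +kernel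
theorem k10 : tchk 128 6 16 1 (letN H14.StE64.nets (Nat.xor 5 1)) t8 = true := by decide +kernel
noncomputable def t11 : List (List Nat) := [[nat_lit 0xc33c3cc33cc3c33c000000000000000099666699669999660000000000000000a55a5aa55aa5a55a000000000000000069969669966969960000000000000000966969969669699600000000000000009696696969699696, nat_lit 0, nat_lit 0, nat_lit 0, nat_lit 0, nat_lit 0, nat_lit 0, nat_lit 0, nat_lit 0, nat_lit 0, nat_lit 0, nat_lit 0, nat_lit 0, nat_lit 0, nat_lit 0, nat_lit 0]]
theorem k12 : tchk 128 6 16 1 (letN H14.StE64.nets (Nat.xor 6 1)) t11 = true := by decide +kernel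
noncomputable def t13 : List (List Nat) := [[nat_lit 0x3c3c3c3c3c3c3c3c0000000000000000996666996699996600000000000000005a5a5a5a5a5a5a5a00000000000000000f0ff0f00f0ff0f000000000000000000ff00ff00ff00ff000000000000000000f0f0f0ff0f0f0f0, nat_lit 0, nat_lit 0, nat_lit 0, nat_lit 0, nat_lit 0, nat_lit 0, nat_lit 0, nat_lit 0, nat_lit 0, nat_lit 0, nat_lit 0, nat_lit 0, nat_lit 0, nat_lit 0, nat_lit 0]]
theorem k14 : tchk 128 6 16 1 (letN H14.StE64.nets (Nat.xor 7 1)) t13 = true := by decide +kernel
noncomputable def t15 : List (List Nat) := [[nat_lit 0xffffffff0000000000000000000000000000ffffffff0000000000000000000000ff00ffff00ff0000000000000000000f0f0f0ff0f0f0f0000000000000000055555555aaaaaaaa000000000000000033333333cccccccc, nat_lit 0, nat_lit 0, nat_lit 0, nat_lit 0, nat_lit 0, nat_lit 0, nat_lit 0, nat_lit 0, nat_lit 0, nat_lit 0, nat_lit 0, nat_lit 0, nat_lit 0, nat_lit 0, nat_lit 0]]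
theorem k16 : tchk 128 6 16 1 (letN H14.StE64.nets (Nat.xor 8 1)) t15 = true := by decide +kernel
theorem k17 : tchk 128 6 16 1 (letN H14.StE64.nets (Nat.xor 9 1)) t15 = true := by decide +kernel
noncomputable def t18 : List (List Nat) := [[nat_lit 0xffff0000ffff000000000000000000ff00ff00ff00ff00000000000000000000ff00ffff00ff00000000000000000055aa55aa55aa55aa00000000000000009696696969699696000000000000000033cc33cc33cc33cc, nat_lit 0, nat_lit 0, nat_lit 0, nat_lit 0, nat_lit 0, nat_lit 0, nat_lit 0, nat_lit 0, nat_lit 0, nat_lit 0, nat_lit 0, nat_lit 0, nat_lit 0, nat_lit 0, nat_lit 0]]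
theorem k19 : tchk 128 6 16 1 (letN H14.StE64.nets (Nat.xor 10 1)) t18 = true := by decide +kernel
noncomputable def t20 : List (List Nat) := [[nat_lit 0xffff0000ffff0000000000000000000000ffffffff00000000000000000000ffff0000ffff00000000000000000000966996696996699600000000000000005555aaaa5555aaaa00000000000000000f0ff0f00f0ff0f0, nat_lit 0, nat_lit 0, nat_lit 0, nat_lit 0, nat_lit 0, nat_lit 0, nat_lit 0, nat_lit 0, nat_lit 0, nat_lit 0, nat_lit 0, nat_lit 0, nat_lit 0, nat_lit 0, nat_lit 0]]
theorem k21 : tchk 128 6 16 1 (letN H14.StE64.nets (Nat.xor 11 1)) t20 = true := by decide +kernel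
noncomputable def t22 : List (List Nat) := [[nat_lit 0xffff0000ffff000000000000000000ffff0000ffff000000000000000000000000ffffffff00000000000000000000966996696996699600000000000000005555aaaa5555aaaa00000000000000003333cccc3333cccc, nat_lit 0, nat_lit 0, nat_lit 0, nat_lit 0, nat_lit 0, nat_lit 0, nat_lit 0, nat_lit 0, nat_lit 0, nat_lit 0, nat_lit 0, nat_lit 0, nat_lit 0, nat_lit 0, nat_lit 0]]
theorem k23 : tchk 128 6 16 1 (letN H14.StE64.nets (Nat.xor 12 1)) t22 = true := by decide +kernel
theorem k24 : tchk 128 6 16 1 (letN H14.StE64.nets (Nat.xor 13 1)) t22 = true := by decide +kernel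
noncomputable def t25 : List (List Nat) := [[nat_lit 0xffffffff0000000000000000000000000000ffffffff0000000000000000000000ff00ffff00ff0000000000000000000f0f0f0ff0f0f0f0000000000000000033333333cccccccc00000000000000009669699696696996, nat_lit 0, nat_lit 0, nat_lit 0, nat_lit 0, nat_lit 0, nat_lit 0, nat_lit 0, nat_lit 0, nat_lit 0, nat_lit 0, nat_lit 0, nat_lit 0, nat_lit 0, nat_lit 0, nat_lit 0]]
theorem k26 : tchk 128 6 16 1 (letN H14.StE64.nets (Nat.xor 14 1)) t25 = true := by decide +kernel
theorem k27 : tchk 128 6 16 1 (letN H14.StE64.nets (Nat.xor 15 1)) t25 = true := by decide +kernel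
noncomputable def t28 : List (List Nat) := [[nat_lit 0x3c3c3c3c3c3c3c3c00000000000000005a5a5a5a5a5a5a5a000000000000000099666699669999660000000000000000f0f0f0f0f0f0f0f000000000000000000f0f0f0ff0f0f0f000000000000000000f0ff0f00f0ff0f0, nat_lit 0, nat_lit 0, nat_lit 0, nat_lit 0, nat_lit 0, nat_lit 0, nat_lit 0, nat_lit 0, nat_lit 0, nat_lit 0, nat_lit 0, nat_lit 0, nat_lit 0, nat_lit 0, nat_lit 0]]
theorem k29 : tchk 128 6 16 1 (letN H14.StE64.nets (Nat.xor 16 1)) t28 = true := by decide +kernel
theorem k30 : tchk 128 6 16 1 (letN H14.StE64.nets (Nat.xor 17 1)) t28 = true := by decide +kernel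
noncomputable def t31 : List (List Nat) := [[nat_lit 0xffff0000ffff000000000000000000ffff0000ffff000000000000000000000000ffffffff000000000000000000005555aaaa5555aaaa0000000000000000966996696996699600000000000000000f0ff0f00f0ff0f0, nat_lit 0, nat_lit 0, nat_lit 0, nat_lit 0, nat_lit 0, nat_lit 0, nat_lit 0, nat_lit 0, nat_lit 0, nat_lit 0, nat_lit 0, nat_lit 0, nat_lit 0, nat_lit 0, nat_lit 0]]
theorem k32 : tchk 128 6 16 1 (letN H14.StE64.nets (Nat.xor 18 1)) t31 = true := by decide +kernel
theorem k33 : tchk 128 6 16 1 (letN H14.StE64.nets (Nat.xor 19 1)) t31 = true := by decide +kernel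
noncomputable def t34 : List (List Nat) := [[nat_lit 0xffff0000ffff00000000000000000000ff00ffff00ff000000000000000000ff00ff00ff00ff00000000000000000055aa55aa55aa55aa0000000000000000969669696969969600000000000000000ff00ff00ff00ff0, nat_lit 0, nat_lit 0, nat_lit 0, nat_lit 0, nat_lit 0, nat_lit 0, nat_lit 0, nat_lit 0, nat_lit 0, nat_lit 0, nat_lit 0, nat_lit 0, nat_lit 0, nat_lit 0, nat_lit 0]]
theorem k35 : tchk 128 6 16 1 (letN H14.StE64.nets (Nat.xor 20 1)) t34 = true := by decide +kernel
theorem k36 : tchk 128 6 16 1 (letN H14.StE64.nets (Nat.xor 21 1)) t34 = true := by decide +kernel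
noncomputable def TT : List (List (List Nat)) := [t0, t2, t4, t6, t8, t8, t11, t13, t15, t15, t18, t20, t22, t22, t25, t25, t28, t28, t31, t31, t34, t34]
noncomputable def TC (a c : Nat) : Nat := tabC 128 6 16 H14.StE64.nets 22 TT a c
noncomputable def on : Nat := nat_lit 0x10000000000000000000000000000000100000000000000000000000000000001000000000000000000000000000000010000000000000000000000000000000100000000000000000000000000000001
noncomputable def F : FK := tabF TC on (nat_lit 0xfffffffffffffffffffffffffffffffe)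
instance instF : PtK 64 H14.StE64.nets F := tabF_ok (R := 1) H14.StE64.nets_ok (by decide +kernel) (fa_lt (k := 21) (fa_lt (k := 20) (fa_lt (k := 19) (fa_lt (k := 18) (fa_lt (k := 17) (fa_lt (k := 16) (fa_lt (k := 15) (fa_lt (k := 14) (fa_lt (k := 13) (fa_lt (k := 12) (fa_lt (k := 11) (fa_lt (k := 10) (fa_lt (k := 9) (fa_lt (k := 8) (fa_lt (k := 7) (fa_lt (k := 6) (fa_lt (k := 5) (fa_lt (k := 4) (fa_lt (k := 3) (fa_lt (k := 2) (fa_lt (k := 1) (fa_lt (k := 0) fa_lt0 k1) k3) k5) k7) k9) k10) k12) k14) k16) k17) k19) k21) k23) k24) k26) k27) k29) k30) k32) k33) k35) k36) fun _ _ => rfl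

end L.KhE64T
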