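import Cfsg.Agent.H14.KhHTT
import Cfsg.Agent.L.KF

/-! Generated certificate (toolsL/cg.hpp). -/
set_option autoImplicit false
set_option maxRecDepth 200000
set_option Elab.async false
set_option linter.unusedVariables false
set_option linter.unusedSectionVars false

namespace L.KhHT
open H14 L.KhHTT
variable {G Ω : Type*} [Group G] [Finite G] [MulAction G Ω]

noncomputable def w0 : Word := [nat_lit 0]
noncomputable def w1 : Word := [nat_lit 2]
noncomputable def w2 : Word := [nat_lit 4]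
theorem k3 : orbChk (nat_lit 352) H14.HTc.nets F [] (sel [w0, w1, w2] [nat_lit 0, nat_lit 1, nat_lit 2]) [dw (nat_lit 0x01), dw (nat_lit 0x03), dw (nat_lit 0x01), dw (nat_lit 0x05), dw (nat_lit 0x03), dw (nat_lit 0x01), dw (nat_lit 0x05), dw (nat_lit 0x03)
, dw (nat_lit 0x01), dw (nat_lit 0x05), dw (nat_lit 0x03), dw (nat_lit 0x01)] (dn (nat_lit 16) (nat_lit 0x4342160319c2514335432603)) (bit (nat_lit 0)) (full (nat_lit 352)) = true := by decide +kernel
theorem o4 (M : PM G Ω 352 H14.HTc.nets) (hN : Nat.card G = 44352000) : Orb M ⊤ [] (nat_lit 0) (full (nat_lit 352)) :=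
  (Orb.ext le_top (orb_bit ⊤ [] (b := (nat_lit 0)) rfl) k3)
noncomputable def s5 : Nat := (nat_lit 0x2c9b4180786a71820bbeca6d0f38a34d72a05f6a3861edc5c69270f2e95de557d5c852a5197cfa675cd45b0e)
noncomputable def w6 : Word := [nat_lit 6]
noncomputable def w7 : Word := [nat_lit 8]
theorem k8 : orbChk (nat_lit 352) H14.HTc.nets F [nat_lit 0] (sel [w2, w6, w7] [nat_lit 0, nat_lit 1, nat_lit 2]) [dw (nat_lit 0x01), dw (nat_lit 0x03), dw (nat_lit 0x01), dw (nat_lit 0x05), dw (nat_lit 0x03), dw (nat_lit 0x01), dw (nat_lit 0x05), dw (nat_lit 0x03)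
, dw (nat_lit 0x01), dw (nat_lit 0x05)] (dn (nat_lit 16) (nat_lit 0x08011a824b8214c23542280244c21b424442)) (bit (nat_lit 1)) s5 = true := by decide +kernel
theorem o9 (M : PM G Ω 352 H14.HTc.nets) (hN : Nat.card G = 44352000) : Orb M ⊤ [nat_lit 0] (nat_lit 1) s5 :=
  (Orb.ext le_top (orb_bit ⊤ [nat_lit 0] (b := (nat_lit 1)) rfl) k8)
noncomputable def s10 : Nat := (nat_lit 0x200000000040000000004010000000006040400000000000000002000000000000000040004200)
noncomputable def w11 : Word := [nat_lit 10]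
theorem k12 : orbChk (nat_lit 352) H14.HTc.nets F [nat_lit 1, nat_lit 0] (sel [w7, w11] [nat_lit 0, nat_lit 1]) [] (dn (nat_lit 16) (nat_lit 0x4382438107822d422d412b82398239814d424d410241)) (bit (nat_lit 9)) s10 = true := by decide +kernel
theorem o13 (M : PM G Ω 352 H14.HTc.nets) (hN : Nat.card G = 44352000) : Orb M ⊤ [nat_lit 1, nat_lit 0] (nat_lit 9) s10 :=
  (Orb.ext le_top (orb_bit ⊤ [nat_lit 1, nat_lit 0] (b := (nat_lit 9)) rfl) k12)
noncomputable def s14 : Nat := (nat_lit 0x8044022500800c10800000103042080285428001818012220004080c008010200804291224030500012120e0)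
noncomputable def w15 : Word := [nat_lit 12]
theorem k16 : orbChk (nat_lit 352) H14.HTc.nets F [nat_lit 9, nat_lit 1, nat_lit 0] (sel [w11, w15] [nat_lit 0, nat_lit 1]) [dw (nat_lit 0x01), dw (nat_lit 0x03), dw (nat_lit 0x01), dw (nat_lit 0x03), dw (nat_lit 0x01)] (dn (nat_lit 16) (nat_lit 0x20c2524257c238413ac1344137c13f020a82034201c20182018114812e01410106013f4105421042284212023d823d813002300116c113412a424a820a02514247c21dc21dc14901040136814ac13c412b024dc2500229420c42)) (bit (nat_lit 5)) s14 = true := by decide +kernel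
theorem o17 (M : PM G Ω 352 H14.HTc.nets) (hN : Nat.card G = 44352000) : Orb M ⊤ [nat_lit 9, nat_lit 1, nat_lit 0] (nat_lit 5) s14 :=
  (Orb.ext le_top (orb_bit ⊤ [nat_lit 9, nat_lit 1, nat_lit 0] (b := (nat_lit 5)) rfl) k16)
noncomputable def c18 : Chn := [((nat_lit 0), (full (nat_lit 352))), ((nat_lit 1), s5), ((nat_lit 9), s10), ((nat_lit 5), s14)]
theorem k19 : Nat.ble 44352000 (cval (nat_lit 352) c18) = true := by decide +kernel
theorem e20 (M : PM G Ω 352 H14.HTc.nets) (hN : Nat.card G = 44352000) : EC M ⊤ [] c18 :=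
  ec_top (c := c18) ⟨(o4 M hN), ⟨(o9 M hN), ⟨(o13 M hN), ⟨(o17 M hN), trivial⟩⟩⟩⟩ hN k19
noncomputable def bs0 : List Nat := [nat_lit 0, nat_lit 1, nat_lit 9, nat_lit 5]
theorem base0 (M : PM G Ω 352 H14.HTc.nets) (hN : Nat.card G = 44352000) : IsBase M bs0 :=
  base_of_ec (e20 M hN) (by decide +kernel)
noncomputable def s21 : Nat := (nat_lit 0xd364be7f87958e7df4413592f0c75cb28d5fa095c79e123a396d8f0d16a212a82a37ad5ae6830598a32ba4f0)
theorem k22 : orbChk (nat_lit 352) H14.HTc.nets F [nat_lit 0] (sel [w2, w6, w7, w11, w15] [nat_lit 0, nat_lit 1, nat_lit 2, nat_lit 3, nat_lit 4]) [dw (nat_lit 0x01), dw (nat_lit 0x03), dw (nat_lit 0x05), dw (nat_lit 0x07), dw (nat_lit 0x03), dw (nat_lit 0x05), dw (nat_lit 0x09), dw (nat_lit 0x01)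
, dw (nat_lit 0x05)] (dn (nat_lit 16) (nat_lit 0x48c541050e4424840f4218c523c44a424e8216c23004)) (bit (nat_lit 4)) s21 = true := by decide +kernel
theorem o23 (M : PM G Ω 352 H14.HTc.nets) (hN : Nat.card G = 44352000) : Orb M ⊤ [nat_lit 0] (nat_lit 4) s21 :=
  (Orb.ext le_top (orb_bit ⊤ [nat_lit 0] (b := (nat_lit 4)) rfl) k22)

end L.KhHT
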