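import Cfsg.Agent.H14.KhHeT
import Cfsg.Agent.L.KF

/-! Generated certificate (toolsL/cg.hpp). -/
set_option autoImplicit false
set_option maxRecDepth 200000
set_option Elab.async false
set_option linter.unusedVariables false
set_option linter.unusedSectionVars false

namespace L.KhHe
open H14 L.KhHeT
variable {G Ω : Type*} [Group G] [Finite G] [MulAction G Ω]

noncomputable def w0 : Word := [nat_lit 2]
noncomputable def w1 : Word := [nat_lit 4]
noncomputable def w2 : Word := [nat_lit 6]
noncomputable def w3 : Word := [nat_lit 10]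
theorem k4 : orbChk (nat_lit 2058) H15.HeP.nets F [] (sel [w0, w1, w2, w3] [nat_lit 0, nat_lit 1, nat_lit 2, nat_lit 3]) [dw (nat_lit 0x01), dw (nat_lit 0x03), dw (nat_lit 0x05), dw (nat_lit 0x03), dw (nat_lit 0x07), dw (nat_lit 0x01), dw (nat_lit 0x05), dw (nat_lit 0x07)
, dw (nat_lit 0x03), dw (nat_lit 0x05), dw (nat_lit 0x01), dw (nat_lit 0x07), dw (nat_lit 0x03), dw (nat_lit 0x05), dw (nat_lit 0x01), dw (nat_lit 0x03)
, dw (nat_lit 0x07), dw (nat_lit 0x01), dw (nat_lit 0x05), dw (nat_lit 0x07), dw (nat_lit 0x03), dw (nat_lit 0x05), dw (nat_lit 0x01), dw (nat_lit 0x03)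
, dw (nat_lit 0x07), dw (nat_lit 0x05), dw (nat_lit 0x01), dw (nat_lit 0x07), dw (nat_lit 0x03), dw (nat_lit 0x01), dw (nat_lit 0x05)] (dn (nat_lit 20) (nat_lit 0x066820a882096c30f0c4067030a0c40974305a44091840918209503058440960405f8305b0405b010560315b0105944059410ab840ab8115cc11a7420404418e0208c84189820110405f42040c4040c2010040100217242031c208384008840e4420530409444094420680417042179420e9840128418dc21a78201484171820ab441e5420688406882013840e5c20de440de421d004)) (bit (nat_lit 0)) (full (nat_lit 2058)) = true := by decide +kernel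
theorem o5 (M : PM G Ω 2058 H15.HeP.nets) (hN : Nat.card G = 4030387200) : Orb M ⊤ [] (nat_lit 0) (full (nat_lit 2058)) :=
  (Orb.ext le_top (orb_bit ⊤ [] (b := (nat_lit 0)) rfl) k4)
noncomputable def s6 : Nat := (nat_lit 0xf0f00300ffffffffffff3c39ffffffff03fff8f7fffffffffffffffee07fffff8701bd3bfffe007fffffbdb0703ffff807fffffffffffffff801ffe3ff0ffffebff83ffa53fe1ffc9ffcffff7cffeff7ffffffdfd1fdfdffbfffffffffd1bfa9fc1b69dffe27d117d1f8bc7fd0f78edd3ffa569ffa3fd1e21df54d331d1fffe9a7fc3fe80fe3ffd627f9fffffffdbbffa3f77ffffffff7fff17407b033c97e2f02f1cf4703d13d383d38c0f8027923ef23fe23e3c52e5ec8783effefff000f7ffffef9080e090ee75448448a0cb4210fe0329edddd618fffe03fffc22234700008ec07fa650ffc92ffc03f03f014703f3901fff07f8f5e4261dadc9246f8140fe)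
noncomputable def w7 : Word := [nat_lit 0]
noncomputable def w8 : Word := [nat_lit 18]
theorem k9 : orbChk (nat_lit 2058) H15.HeP.nets F [nat_lit 0] (sel [w7, w1, w8] [nat_lit 0, nat_lit 1, nat_lit 2]) [dw (nat_lit 0x03), dw (nat_lit 0x05), dw (nat_lit 0x01), dw (nat_lit 0x05), dw (nat_lit 0x01), dw (nat_lit 0x03), dw (nat_lit 0x05), dw (nat_lit 0x01)
, dw (nat_lit 0x03), dw (nat_lit 0x05), dw (nat_lit 0x03), dw (nat_lit 0x05), dw (nat_lit 0x01), dw (nat_lit 0x05), dw (nat_lit 0x03), dw (nat_lit 0x05)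
, dw (nat_lit 0x01), dw (nat_lit 0x05)] (dn (nat_lit 20) (nat_lit 0x08701014821c543035c3199420520119803172831d1421c8c21b6c21f7c21f5c214fc2179c21f1c21c44203ec2)) (bit (nat_lit 1)) s6 = true := by decide +kernel
theorem o10 (M : PM G Ω 2058 H15.HeP.nets) (hN : Nat.card G = 4030387200) : Orb M ⊤ [nat_lit 0] (nat_lit 1) s6 :=
  (Orb.ext le_top (orb_bit ⊤ [nat_lit 0] (b := (nat_lit 1)) rfl) k9)
noncomputable def s11 : Nat := (nat_lit 0x3000000038e003fb87f9e0048064d840013800000000000000000003031d0000000000007ffffffc00017fe0000000c00000d604e0387040cc1e0000000000100900b49e001609410910c3be4000959fc02f888c03000e7206000600000000100000000002000002001002000000111c1c3861838c38000000040202d0178c1e01804202a4080801e0036ff014001003c0240e00e000000000000000000030000002032222222201204200381c410400000e200020790000010021100000000090010c20000cd99c0084000010004000001000004007c80007fc0000000000000000120000f6c00000000000000000000000000)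
noncomputable def w12 : Word := [nat_lit 24]
theorem k13 : orbChk (nat_lit 2058) H15.HeP.nets F [nat_lit 1, nat_lit 0] (sel [w7, w3, w12] [nat_lit 0, nat_lit 1, nat_lit 2]) [dw (nat_lit 0x03), dw (nat_lit 0x05), dw (nat_lit 0x01), dw (nat_lit 0x03), dw (nat_lit 0x05), dw (nat_lit 0x01), dw (nat_lit 0x03), dw (nat_lit 0x05)
, dw (nat_lit 0x01), dw (nat_lit 0x05), dw (nat_lit 0x03), dw (nat_lit 0x05), dw (nat_lit 0x03)] (dn (nat_lit 20) (nat_lit 0x1de410be811ddc1072410c1c115b810c7011dc41)) (bit (nat_lit 106)) s11 = true := by decide +kernel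
theorem o14 (M : PM G Ω 2058 H15.HeP.nets) (hN : Nat.card G = 4030387200) : Orb M ⊤ [nat_lit 1, nat_lit 0] (nat_lit 106) s11 :=
  (Orb.ext le_top (orb_bit ⊤ [nat_lit 1, nat_lit 0] (b := (nat_lit 106)) rfl) k13)
noncomputable def w15 : Word := [nat_lit 28]
theorem k16 : orbChk (nat_lit 2058) H15.HeP.nets F [nat_lit 106, nat_lit 1, nat_lit 0] (sel [w7, w15] [nat_lit 0, nat_lit 1]) [] (dn (nat_lit 20) (nat_lit 0x008020020200201)) (bit (nat_lit 8)) (nat_lit 0x20100000900) = true := by decide +kernel
theorem o17 (M : PM G Ω 2058 H15.HeP.nets) (hN : Nat.card G = 4030387200) : Orb M ⊤ [nat_lit 106, nat_lit 1, nat_lit 0] (nat_lit 8) (nat_lit 0x20100000900) :=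
  (Orb.ext le_top (orb_bit ⊤ [nat_lit 106, nat_lit 1, nat_lit 0] (b := (nat_lit 8)) rfl) k16)
noncomputable def c18 : Chn := [((nat_lit 0), (full (nat_lit 2058))), ((nat_lit 1), s6), ((nat_lit 106), s11), ((nat_lit 8), (nat_lit 0x20100000900))]
theorem k19 : Nat.ble 4030387200 (cval (nat_lit 2058) c18) = true := by decide +kernel
theorem e20 (M : PM G Ω 2058 H15.HeP.nets) (hN : Nat.card G = 4030387200) : EC M ⊤ [] c18 :=
  ec_top (c := c18) ⟨(o5 M hN), ⟨(o10 M hN), ⟨(o14 M hN), ⟨(o17 M hN), trivial⟩⟩⟩⟩ hN k19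
noncomputable def bs0 : List Nat := [nat_lit 0, nat_lit 1, nat_lit 106, nat_lit 8]
theorem base0 (M : PM G Ω 2058 H15.HeP.nets) (hN : Nat.card G = 4030387200) : IsBase M bs0 :=
  base_of_ec (e20 M hN) (by decide +kernel)
noncomputable def s21 : Nat := (nat_lit 0x300000000000000000000c3c000000000fc00000000000000000000011f80000000004200000000000000424f8fc0000018000000000000000300001c00f0000000000004080000006003000083001008000000202202020040000000002e005403e4960001d02ee02e00438000087022c000096000000018e20ab2c00000000000000000f01c0020580600000002440054088000000008000e0bf00fcc3601d0fd0e00b8002e02c002c006069d86dc000000000000d1a13387c1001000eef080000106e7e1e6e118838738705200def009800022028e70001fc0003dddca04a45400f80500300305003fc0fc03c387c000fe000c0070a1b08625236db007ebf00)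
noncomputable def w22 : Word := [nat_lit 8]
noncomputable def w23 : Word := [nat_lit 20]
noncomputable def w24 : Word := [nat_lit 22]
noncomputable def w25 : Word := [nat_lit 26]
noncomputable def w26 : Word := [nat_lit 30]
theorem k27 : orbChk (nat_lit 2058) H15.HeP.nets F [nat_lit 0] (sel [w7, w1, w2, w22, w3, w8, w23, w24, w12, w25, w15, w26] [nat_lit 0, nat_lit 1, nat_lit 2, nat_lit 3, nat_lit 4, nat_lit 5, nat_lit 6, nat_lit 7, nat_lit 8, nat_lit 9, nat_lit 10, nat_lit 11]) [dw (nat_lit 0x01), dw (nat_lit 0x03), dw (nat_lit 0x07), dw (nat_lit 0x09), dw (nat_lit 0x0b), dw (nat_lit 0x11), dw (nat_lit 0x0d), dw (nat_lit 0x07)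
, dw (nat_lit 0x09), dw (nat_lit 0x05), dw (nat_lit 0x0d)] (dn (nat_lit 20) (nat_lit 0x009ca)) (bit (nat_lit 8)) s21 = true := by decide +kernel
theorem o28 (M : PM G Ω 2058 H15.HeP.nets) (hN : Nat.card G = 4030387200) : Orb M ⊤ [nat_lit 0] (nat_lit 8) s21 :=
  (Orb.ext le_top (orb_bit ⊤ [nat_lit 0] (b := (nat_lit 8)) rfl) k27)
noncomputable def s29 : Nat := (nat_lit 0x30030ffcff0000000000000006000000000000000000000000000000000000000078fe00c40001ff800000000000000000600000000000000004fe00000000000000000000000000000000000000000000000000000c000000000000000000400200000020000800080000000003000100000020000000000100000000000000000000000000000001800000000000000008000000000000000080084000008000000010001c00c000c000000140000000000000000a0000040000000000110000000000101010100008108100a140000000000100201000000000000000018948a301000000000068000000000c280800000000038000000d18000000090000000)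
theorem k30 : orbChk (nat_lit 2058) H15.HeP.nets F [nat_lit 0] (sel [w7, w1, w2, w22, w3, w8, w23, w24, w12, w25, w15, w26] [nat_lit 0, nat_lit 1, nat_lit 2, nat_lit 3, nat_lit 4, nat_lit 5, nat_lit 6, nat_lit 7, nat_lit 8, nat_lit 9, nat_lit 10, nat_lit 11]) [dw (nat_lit 0x03), dw (nat_lit 0x09), dw (nat_lit 0x0b), dw (nat_lit 0x15), dw (nat_lit 0x13), dw (nat_lit 0x0b), dw (nat_lit 0x11), dw (nat_lit 0x0d)
] (dn (nat_lit 20) (nat_lit 0x18dc21a08a03282056060974a025ca1bdc2111080668406683066820b78118e841fb841b5081fa0c1fc851fc84)) (bit (nat_lit 28)) s29 = true := by decide +kernel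
theorem o31 (M : PM G Ω 2058 H15.HeP.nets) (hN : Nat.card G = 4030387200) : Orb M ⊤ [nat_lit 0] (nat_lit 28) s29 :=
  (Orb.ext le_top (orb_bit ⊤ [nat_lit 0] (b := (nat_lit 28)) rfl) k30)
noncomputable def s32 : Nat := (nat_lit 0xc0c0000000000000000000000000000000000070800000000000000000000000000000000000000000000000000000007800000000000000000000000000000014007c001a401e0030000000000000000000000000000000000000000000000000000000000000000000700002c0000000005800005c02e040000000ce2e000165803c0170000000800000000000000000000000000000000000000000000000000002000e00000070007390020000010dc01dc1c300000000000000000000000000000000000000020200205000b0000164d6000000000000000000000000213001200009ac000000000000000000000c60000000000000000000000000000000)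
theorem k33 : orbChk (nat_lit 2058) H15.HeP.nets F [nat_lit 0] (sel [w7, w1, w2, w22, w3, w8, w23, w24, w12, w25, w15, w26] [nat_lit 0, nat_lit 1, nat_lit 2, nat_lit 3, nat_lit 4, nat_lit 5, nat_lit 6, nat_lit 7, nat_lit 8, nat_lit 9, nat_lit 10, nat_lit 11]) [dw (nat_lit 0x01), dw (nat_lit 0x03), dw (nat_lit 0x07), dw (nat_lit 0x0b), dw (nat_lit 0x11), dw (nat_lit 0x0d), dw (nat_lit 0x15), dw (nat_lit 0x05)
] (dn (nat_lit 20) (nat_lit 0x178c6036c20fc861a14a1ff861170811707116810fd460fd420ffc6174c206e4105d0a17ccc17cca17cc609b8a09b810410505d8a03748)) (bit (nat_lit 125)) s32 = true := by decide +kernel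
theorem o34 (M : PM G Ω 2058 H15.HeP.nets) (hN : Nat.card G = 4030387200) : Orb M ⊤ [nat_lit 0] (nat_lit 125) s32 :=
  (Orb.ext le_top (orb_bit ⊤ [nat_lit 0] (b := (nat_lit 125)) rfl) k33)

end L.KhHe
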