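import Cfsg.Agent.L.KA
import Cfsg.Agent.H15.StdJ2

/-! Generated certificate (toolsL/cg.hpp). -/
set_option autoImplicit false
set_option maxRecDepth 200000
set_option Elab.async false
set_option linter.unusedVariables false
set_option linter.unusedSectionVars false

namespace L.KhJ2T
open H14 
variable {G Ω : Type*} [Group G] [Finite G] [MulAction G Ω]

noncomputable def t0 : List (List Nat) := [[nat_lit 0xffffffffffffffe76000000000000000ffffffff000000189ffffffaa0000000ffff0000fffc60189ff530055ff9a000ff00ff00ff0399d882becc655a665f00f0f0f0f0f0f396195e8b0f0f559606f0ccccccc33cce17923331ee8c9655c53caaaaaaaaa555554dba28b9dd0b1731a5, nat_lit 0, nat_lit 0, nat_lit 0, nat_lit 0, nat_lit 0, nat_lit 0, nat_lit 0, nat_lit 0, nat_lit 0, nat_lit 0, nat_lit 0, nat_lit 0, nat_lit 0, nat_lit 0, nat_lit 0]]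
theorem k1 : tchk 128 7 16 1 (letN H15.StdJ2.nets (Nat.xor 0 1)) t0 = true := by decide +kernel
theorem k2 : tchk 128 7 16 1 (letN H15.StdJ2.nets (Nat.xor 1 1)) t0 = true := by decide +kernel
noncomputable def t3 : List (List Nat) := [[nat_lit 0xffffffffffffffbc1600000000000000fffffffc60000043e9ffffdf40000000ffff00039ffcc043e9ca7820bfee5000ff00ff039e832f60c9fc83e099f10ee0f0f0f0f28d39175e41a3e32e391eae0ccccccccf8273a497596394e536d9a581aaaaaaab59617a916cbb42837ca5c74a, nat_lit 0, nat_lit 0, nat_lit 0, nat_lit 0, nat_lit 0, nat_lit 0, nat_lit 0, nat_lit 0, nat_lit 0, nat_lit 0, nat_lit 0, nat_lit 0, nat_lit 0, nat_lit 0, nat_lit 0]]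
theorem k4 : tchk 128 7 16 1 (letN H15.StdJ2.nets (Nat.xor 2 1)) t3 = true := by decide +kernel
noncomputable def t5 : List (List Nat) := [[nat_lit 0xfffffffffffffff81048000000000000fffffffc88000007efb7fffd40000000ffff000377f98407ef828382bffc4800ff00ff0376267a27c9377006b18fb0c8f0f0f0f343ce09acb536ce03cf8347c1ccccccce711f425abf214d562d6a96b0aaaaaaa9e5942f192bd3e8306bd435e2, nat_lit 0, nat_lit 0, nat_lit 0, nat_lit 0, nat_lit 0, nat_lit 0, nat_lit 0, nat_lit 0, nat_lit 0, nat_lit 0, nat_lit 0, nat_lit 0, nat_lit 0, nat_lit 0, nat_lit 0]]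
theorem k6 : tchk 128 7 16 1 (letN H15.StdJ2.nets (Nat.xor 3 1)) t5 = true := by decide +kernel
noncomputable def t7 : List (List Nat) := [[nat_lit 0xfffffffc179631046284611d9c229402fffffff1e82acb0905413ce421500929ffff000fbdade0bc089003683d4d68f2ff00ff0c62e82a24eab3d57843f139d0f0f0f0f639f8e0c25ce35c930e274d70cccccccfd6615d921a8edd9559402cb9aaaaaaae8d9b4920334f9a5a2af0ced3, nat_lit 0, nat_lit 0, nat_lit 0, nat_lit 0, nat_lit 0, nat_lit 0, nat_lit 0, nat_lit 0, nat_lit 0, nat_lit 0, nat_lit 0, nat_lit 0, nat_lit 0, nat_lit 0, nat_lit 0]]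
theorem k8 : tchk 128 7 16 1 (letN H15.StdJ2.nets (Nat.xor 4 1)) t7 = true := by decide +kernel
noncomputable def t9 : List (List Nat) := [[nat_lit 0xfffffffab969042470bd0d0102cc4054fffffff5ce00da480304e0f2418299a8ffff000260fd3e397c2a26325119f788ff00ff0914fc5f8794badd9244222d86f0f0f0f17044f3275bda8660af645f90ccccccc4eb99508baab94cf468714f1daaaaaaa37a822e13f17b09c44ec3bb6a, nat_lit 0, nat_lit 0, nat_lit 0, nat_lit 0, nat_lit 0, nat_lit 0, nat_lit 0, nat_lit 0, nat_lit 0, nat_lit 0, nat_lit 0, nat_lit 0, nat_lit 0, nat_lit 0, nat_lit 0]]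
theorem k10 : tchk 128 7 16 1 (letN H15.StdJ2.nets (Nat.xor 5 1)) t9 = true := by decide +kernel
noncomputable def t11 : List (List Nat) := [[nat_lit 0xfffffffd17611c61a0321551b2198002fffffff269963212680d08cc458051acffff000cd2ba8fc80430b29de58a1fc9ff00ff0cecc72c0d04575a3a6e635d03f0f0f0fc34a3e4f0c686738e48bd4ea4ccccccc7a6a1953c059d085347fc8bfaaaaaaaa8e2bf1cd1ebfb00061fd2ee40, nat_lit 0, nat_lit 0, nat_lit 0, nat_lit 0, nat_lit 0, nat_lit 0, nat_lit 0, nat_lit 0, nat_lit 0, nat_lit 0, nat_lit 0, nat_lit 0, nat_lit 0, nat_lit 0, nat_lit 0]]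
theorem k12 : tchk 128 7 16 1 (letN H15.StdJ2.nets (Nat.xor 6 1)) t11 = true := by decide +kernel
noncomputable def t13 : List (List Nat) := [[nat_lit 0xfffffff9e2b8c344a20393850c660410fffffff67c06203510304c2e501193a9ffff000309dbf9a2ea8acb2a4a026ae9ff00ff0b9319483b4f09b522f8d5303bf0f0f0fe1db301eac3d2b0e008795b97ccccccc4e2614129daf4673aec6b3ed0aaaaaaa223cb2c68b0d5954f9ef3e1a2, nat_lit 0, nat_lit 0, nat_lit 0, nat_lit 0, nat_lit 0, nat_lit 0, nat_lit 0, nat_lit 0, nat_lit 0, nat_lit 0, nat_lit 0, nat_lit 0, nat_lit 0, nat_lit 0, nat_lit 0]]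
theorem k14 : tchk 128 7 16 1 (letN H15.StdJ2.nets (Nat.xor 7 1)) t13 = true := by decide +kernel
noncomputable def t15 : List (List Nat) := [[nat_lit 0xfffffff5f88821bd00892422dca61060fffffff0c6575642e761c00520000dcaffff000830ae720bdac4b5154f7d511aff00ff051fba36c492be4fb748198b00f0f0f0f020941e7c0dcc97bf386eea86cccccccce64fa1c61e9cac5d3532ca2caaaaaaa27a95a29d5bb220b121cbad7e, nat_lit 0, nat_lit 0, nat_lit 0, nat_lit 0, nat_lit 0, nat_lit 0, nat_lit 0, nat_lit 0, nat_lit 0, nat_lit 0, nat_lit 0, nat_lit 0, nat_lit 0, nat_lit 0, nat_lit 0]]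
theorem k16 : tchk 128 7 16 1 (letN H15.StdJ2.nets (Nat.xor 8 1)) t15 = true := by decide +kernel
noncomputable def t17 : List (List Nat) := [[nat_lit 0xfffffffc2ea28f3434857c0c0104011afffffff1c0087500c9520361d8943e46ffff000db7d442c30d922eed6fa90b00ff00ff0c5b8d02453b439de318d9d538f0f0f0feabc9287b115363958d72a82ccccccccef534ce0341dbd55660e4a4dcaaaaaaa4bce87a9b2d6c8a912185f67a, nat_lit 0, nat_lit 0, nat_lit 0, nat_lit 0, nat_lit 0, nat_lit 0, nat_lit 0, nat_lit 0, nat_lit 0, nat_lit 0, nat_lit 0, nat_lit 0, nat_lit 0, nat_lit 0, nat_lit 0]]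
theorem k18 : tchk 128 7 16 1 (letN H15.StdJ2.nets (Nat.xor 9 1)) t17 = true := by decide +kernel
noncomputable def t19 : List (List Nat) := [[nat_lit 0xfffffff006600315b0628794ab5d3180fffffff4688958980f04486844023ebcffff0008312867aafcb1582d5f758328ff00ff00ad1d7e69f143b9a27b044654f0f0f0f17325920214c7395af19d8f6eccccccc96d0762753fc96574c273e026aaaaaaaeda4f0c7130b75da6cd8305aa, nat_lit 0, nat_lit 0, nat_lit 0, nat_lit 0, nat_lit 0, nat_lit 0, nat_lit 0, nat_lit 0, nat_lit 0, nat_lit 0, nat_lit 0, nat_lit 0, nat_lit 0, nat_lit 0, nat_lit 0]]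
theorem k20 : tchk 128 7 16 1 (letN H15.StdJ2.nets (Nat.xor 10 1)) t19 = true := by decide +kernel
noncomputable def t21 : List (List Nat) := [[nat_lit 0xfffffff840110c2647019a834e388b5afffffff0890ae349285c0466a18b6046ffff0000bfd674b2c2468cadd1a6832cff00ff05ef2195a9f44e3e9477604610f0f0f0ff895653c2cc8911c13de65f30ccccccc2130c479ea77f6af303c89e34aaaaaaa64f1233b17bb50a1d0cdc62be, nat_lit 0, nat_lit 0, nat_lit 0, nat_lit 0, nat_lit 0, nat_lit 0, nat_lit 0, nat_lit 0, nat_lit 0, nat_lit 0, nat_lit 0, nat_lit 0, nat_lit 0, nat_lit 0, nat_lit 0]]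
theorem k22 : tchk 128 7 16 1 (letN H15.StdJ2.nets (Nat.xor 11 1)) t21 = true := by decide +kernel
noncomputable def t23 : List (List Nat) := [[nat_lit 0xfffffff9241450c68d42981094f4e308fffffff611c002915a9163e250013cf0ffff0000ffbd845097b652412d3dcc30ff00ff09878dc42a73cf2fac061d91a8f0f0f0f1e085be27f2d0097a2fb2dc44ccccccc76812871c3b5c7391a25ef56caaaaaaab990ab2a2a6af50b665567e2a, nat_lit 0, nat_lit 0, nat_lit 0, nat_lit 0, nat_lit 0, nat_lit 0, nat_lit 0, nat_lit 0, nat_lit 0, nat_lit 0, nat_lit 0, nat_lit 0, nat_lit 0, nat_lit 0, nat_lit 0]]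
theorem k24 : tchk 128 7 16 1 (letN H15.StdJ2.nets (Nat.xor 12 1)) t23 = true := by decide +kernel
noncomputable def t25 : List (List Nat) := [[nat_lit 0xfffffff21145a3601206009df349243cfffffff4062ad281e4587e2c08069b00ffff0005bf76401cf34212033ffbc888ff00ff0d65ea1527c6aad482e1f8c134f0f0f0fbc0fd41bd785fbd43a0c3a020ccccccc679a35b5d30b81947ee581f50aaaaaaae42703a17bc202da8a79bfcba, nat_lit 0, nat_lit 0, nat_lit 0, nat_lit 0, nat_lit 0, nat_lit 0, nat_lit 0, nat_lit 0, nat_lit 0, nat_lit 0, nat_lit 0, nat_lit 0, nat_lit 0, nat_lit 0, nat_lit 0]]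
theorem k26 : tchk 128 7 16 1 (letN H15.StdJ2.nets (Nat.xor 13 1)) t25 = true := by decide +kernel
noncomputable def t27 : List (List Nat) := [[nat_lit 0xfffffff1201d042531fc2fa2049c4488fffffff841a16aa00e00d053c36232f0ffff0002eff8a814f50612408ffddd40ff00ff0e1db8b4c8157654bd2d388338f0f0f0f631d2c353a9e8cc71bdf14160ccccccc91384e339f46f40da76d6970caaaaaaac64ccb623d9217a28b8f6b8ba, nat_lit 0, nat_lit 0, nat_lit 0, nat_lit 0, nat_lit 0, nat_lit 0, nat_lit 0, nat_lit 0, nat_lit 0, nat_lit 0, nat_lit 0, nat_lit 0, nat_lit 0, nat_lit 0, nat_lit 0]]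
theorem k28 : tchk 128 7 16 1 (letN H15.StdJ2.nets (Nat.xor 14 1)) t27 = true := by decide +kernel
noncomputable def t29 : List (List Nat) := [[nat_lit 0xfffffff91221028cc90309c093657670fffffff42c42f5770640d83114882908ffff0001ffe8c158f5a6002d27bdc098ff00ff00687612235e2f84f7eb8fc2c0f0f0f0fa98f0e512abfae35688e9d280ccccccc2479d5e7884f38974abab3d04aaaaaaae03e2ac72a9252dbbbd878c32, nat_lit 0, nat_lit 0, nat_lit 0, nat_lit 0, nat_lit 0, nat_lit 0, nat_lit 0, nat_lit 0, nat_lit 0, nat_lit 0, nat_lit 0, nat_lit 0, nat_lit 0, nat_lit 0, nat_lit 0]]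
theorem k30 : tchk 128 7 16 1 (letN H15.StdJ2.nets (Nat.xor 15 1)) t29 = true := by decide +kernel
noncomputable def t31 : List (List Nat) := [[nat_lit 0xfffffff64302cd90b036140c21d59d00fffffff30c6022070fc8a0f8d3080638ffff000c37e9a033698e81776ce6a910ff00ff0596fa3e1e40a78d07e05b52a8f0f0f0f9c9266c013e9b4b0774fe6258ccccccc51a324b62ed7aaa416d83e5eaaaaaaaab9a4dfa33ba6214e6c11663c6, nat_lit 0, nat_lit 0, nat_lit 0, nat_lit 0, nat_lit 0, nat_lit 0, nat_lit 0, nat_lit 0, nat_lit 0, nat_lit 0, nat_lit 0, nat_lit 0, nat_lit 0, nat_lit 0, nat_lit 0]]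
theorem k32 : tchk 128 7 16 1 (letN H15.StdJ2.nets (Nat.xor 16 1)) t31 = true := by decide +kernel
noncomputable def t33 : List (List Nat) := [[nat_lit 0xfffffff20e12d0956b2089800b2b2724fffffff3a5800a6a14cf806e74205050ffff0008d9f06c78d3c412f98f573420ff00ff0c489f93bea5842af51cc5e250f0f0f0f052c629fbf61b061e0d99ae94ccccccc53567929997c853ca0764e9b6aaaaaaa3c8c7c8097cc27ea7a3bd6948, nat_lit 0, nat_lit 0, nat_lit 0, nat_lit 0, nat_lit 0, nat_lit 0, nat_lit 0, nat_lit 0, nat_lit 0, nat_lit 0, nat_lit 0, nat_lit 0, nat_lit 0, nat_lit 0, nat_lit 0]]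
theorem k34 : tchk 128 7 16 1 (letN H15.StdJ2.nets (Nat.xor 17 1)) t33 = true := by decide +kernel
noncomputable def t35 : List (List Nat) := [[nat_lit 0xfffffffff5d520a317cd644808000020fffffff60a2aff4128009816b030a4d0ffff0001fffc4958f5a4812527bcc810ff00ff00cf16922a68e76474547f9f10f0f0f0f81ddcc724a13ac6f88be8bd40ccccccc4a0fcb5d6babb407e0647c0dcaaaaaaacf48e0665ee21e99c24fa63aa, nat_lit 0, nat_lit 0, nat_lit 0, nat_lit 0, nat_lit 0, nat_lit 0, nat_lit 0, nat_lit 0, nat_lit 0, nat_lit 0, nat_lit 0, nat_lit 0, nat_lit 0, nat_lit 0, nat_lit 0]]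
theorem k36 : tchk 128 7 16 1 (letN H15.StdJ2.nets (Nat.xor 18 1)) t35 = true := by decide +kernel
noncomputable def t37 : List (List Nat) := [[nat_lit 0xfffffffffae9242511dd668001040080fffffff90517dbe888208807c2834070ffff0000fffe0959b3860b10aef0cd40ff00ff043a3e9218d1737db31ada3310f0f0f0f44eece306e63ec579c2ac9160ccccccc8afc2d1f458b958da3fa881acaaaaaaa50c8826fef1a76a3ef1e04a3a, nat_lit 0, nat_lit 0, nat_lit 0, nat_lit 0, nat_lit 0, nat_lit 0, nat_lit 0, nat_lit 0, nat_lit 0, nat_lit 0, nat_lit 0, nat_lit 0, nat_lit 0, nat_lit 0, nat_lit 0]]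
theorem k38 : tchk 128 7 16 1 (letN H15.StdJ2.nets (Nat.xor 19 1)) t37 = true := by decide +kernel
noncomputable def t39 : List (List Nat) := [[nat_lit 0xfffffff010c08398400b05e97a4f2d30fffffff00e007c45bc40fa169500e940ffff0002e7f90870ee661001afffc450ff00ff0f62249331ffa776f523059200f0f0f0f632d2e4b2b1f8f470eaf150c0ccccccc103fcd4ec2dff48dd0629658caaaaaaa56469a6cee9212237f9a943ba, nat_lit 0, nat_lit 0, nat_lit 0, nat_lit 0, nat_lit 0, nat_lit 0, nat_lit 0, nat_lit 0, nat_lit 0, nat_lit 0, nat_lit 0, nat_lit 0, nat_lit 0, nat_lit 0, nat_lit 0]]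
theorem k40 : tchk 128 7 16 1 (letN H15.StdJ2.nets (Nat.xor 20 1)) t39 = true := by decide +kernel
theorem k41 : tchk 128 7 16 1 (letN H15.StdJ2.nets (Nat.xor 21 1)) t39 = true := by decide +kernel
noncomputable def t42 : List (List Nat) := [[nat_lit 0xfffffff2c51d33418280108eec2a00f8fffffff41282e02f2435a87d00519b00ffff00057bde4010f38550513efcf490ff00ff0d71b691b67e8ec481e9116268f0f0f0fb54f8d552a27aeb52c8bda400ccccccc691a7e9e0c352f1048fe4fb2caaaaaaaea2dcaeb266826dbbd6a0981a, nat_lit 0, nat_lit 0, nat_lit 0, nat_lit 0, nat_lit 0, nat_lit 0, nat_lit 0, nat_lit 0, nat_lit 0, nat_lit 0, nat_lit 0, nat_lit 0, nat_lit 0, nat_lit 0, nat_lit 0]]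
theorem k43 : tchk 128 7 16 1 (letN H15.StdJ2.nets (Nat.xor 22 1)) t42 = true := by decide +kernel
noncomputable def t44 : List (List Nat) := [[nat_lit 0xfffffff93c2050decc42a90132216828fffffff6824402a02b3142f29904b3d0ffff0000fff8a01df50712500befd540ff00ff08d54cf01a60cac6accf1f07b8f0f0f0f833c7b748f0fcc8d2efa24840ccccccc65a79ab5889d4c3298cf13b6caaaaaaaac3f18eaba482ecbb4289f91a, nat_lit 0, nat_lit 0, nat_lit 0, nat_lit 0, nat_lit 0, nat_lit 0, nat_lit 0, nat_lit 0, nat_lit 0, nat_lit 0, nat_lit 0, nat_lit 0, nat_lit 0, nat_lit 0, nat_lit 0]]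
theorem k45 : tchk 128 7 16 1 (letN H15.StdJ2.nets (Nat.xor 23 1)) t44 = true := by decide +kernel
noncomputable def TT : List (List (List Nat)) := [t0, t0, t3, t5, t7, t9, t11, t13, t15, t17, t19, t21, t23, t25, t27, t29, t31, t33, t35, t37, t39, t39, t42, t44]
noncomputable def TC (a c : Nat) : Nat := tabC 128 7 16 H15.StdJ2.nets 24 TT a c
noncomputable def on : Nat := nat_lit 0x1000000000000000000000000000000010000000000000000000000000000000100000000000000000000000000000001000000000000000000000000000000010000000000000000000000000000000100000000000000000000000000000001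
noncomputable def F : FK := tabF TC on (nat_lit 0xfffffffffffffffffffffffffffffffe)
instance instF : PtK 100 H15.StdJ2.nets F := tabF_ok (R := 1) H15.StdJ2.nets_ok (by decide +kernel) (fa_lt (k := 23) (fa_lt (k := 22) (fa_lt (k := 21) (fa_lt (k := 20) (fa_lt (k := 19) (fa_lt (k := 18) (fa_lt (k := 17) (fa_lt (k := 16) (fa_lt (k := 15) (fa_lt (k := 14) (fa_lt (k := 13) (fa_lt (k := 12) (fa_lt (k := 11) (fa_lt (k := 10) (fa_lt (k := 9) (fa_lt (k := 8) (fa_lt (k := 7) (fa_lt (k := 6) (fa_lt (k := 5) (fa_lt (k := 4) (fa_lt (k := 3) (fa_lt (k := 2) (fa_lt (k := 1) (fa_lt (k := 0) fa_lt0 k1) k2) k4) k6) k8) k10) k12) k14) k16) k18) k20) k22) k24) k26) k28) k30) k32) k34) k36) k38) k40) k41) k43) k45) fun _ _ => rfl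

end L.KhJ2T
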