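import Cfsg.Agent.H14.KhL52T
import Cfsg.Agent.L.KF

/-! Generated certificate (toolsL/cg.hpp). -/
set_option autoImplicit false
set_option maxRecDepth 200000
set_option Elab.async false
set_option linter.unusedVariables false
set_option linter.unusedSectionVars false

namespace L.KhL52
open H14 L.KhL52T
variable {G Ω : Type*} [Group G] [Finite G] [MulAction G Ω]

noncomputable def w0 : Word := [nat_lit 0]
noncomputable def w1 : Word := [nat_lit 2]
noncomputable def w2 : Word := [nat_lit 4]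
noncomputable def w3 : Word := [nat_lit 6]
noncomputable def w4 : Word := [nat_lit 8]
noncomputable def w5 : Word := [nat_lit 10]
noncomputable def w6 : Word := [nat_lit 12]
noncomputable def w7 : Word := [nat_lit 14]
theorem k8 : orbChk (nat_lit 31) H15.StdL52.nets F [] (sel [w0, w1, w2, w3, w4, w5, w6, w7] [nat_lit 0, nat_lit 1, nat_lit 2, nat_lit 3, nat_lit 4, nat_lit 5, nat_lit 6, nat_lit 7]) [dw (nat_lit 0x09), dw (nat_lit 0x01), dw (nat_lit 0x0b), dw (nat_lit 0x03), dw (nat_lit 0x0d), dw (nat_lit 0x05), dw (nat_lit 0x0f), dw (nat_lit 0x07)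
] [] (bit (nat_lit 0)) (full (nat_lit 31)) = true := by decide +kernel
theorem o9 (M : PM G Ω 31 H15.StdL52.nets) (hN : Nat.card G = 9999360) : Orb M ⊤ [] (nat_lit 0) (full (nat_lit 31)) :=
  (Orb.ext le_top (orb_bit ⊤ [] (b := (nat_lit 0)) rfl) k8)
theorem k10 : orbChk (nat_lit 31) H15.StdL52.nets F [nat_lit 0] (sel [w0, w1, w2, w3, w5, w6, w7] [nat_lit 0, nat_lit 1, nat_lit 2, nat_lit 3, nat_lit 4, nat_lit 5, nat_lit 6]) [dw (nat_lit 0x01), dw (nat_lit 0x09), dw (nat_lit 0x03), dw (nat_lit 0x0b), dw (nat_lit 0x05), dw (nat_lit 0x0d), dw (nat_lit 0x07)] [] (bit (nat_lit 1)) (nat_lit 0x7ffffffe) = true := by decide +kernel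
theorem o11 (M : PM G Ω 31 H15.StdL52.nets) (hN : Nat.card G = 9999360) : Orb M ⊤ [nat_lit 0] (nat_lit 1) (nat_lit 0x7ffffffe) :=
  (Orb.ext le_top (orb_bit ⊤ [nat_lit 0] (b := (nat_lit 1)) rfl) k10)
noncomputable def w12 : Word := [nat_lit 16]
theorem k13 : orbChk (nat_lit 31) H15.StdL52.nets F [nat_lit 1, nat_lit 0] (sel [w1, w7, w12] [nat_lit 0, nat_lit 1, nat_lit 2]) [dw (nat_lit 0x01), dw (nat_lit 0x05), dw (nat_lit 0x03), dw (nat_lit 0x05), dw (nat_lit 0x03)] (dn (nat_lit 12) (nat_lit 0x7037835436833433424c34c27436432431835c3443)) (bit (nat_lit 3)) (nat_lit 0x7ffffff8) = true := by decide +kernel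
theorem o14 (M : PM G Ω 31 H15.StdL52.nets) (hN : Nat.card G = 9999360) : Orb M ⊤ [nat_lit 1, nat_lit 0] (nat_lit 3) (nat_lit 0x7ffffff8) :=
  (Orb.ext le_top (orb_bit ⊤ [nat_lit 1, nat_lit 0] (b := (nat_lit 3)) rfl) k13)
noncomputable def w15 : Word := [nat_lit 18]
noncomputable def w16 : Word := [nat_lit 20]
theorem k17 : orbChk (nat_lit 31) H15.StdL52.nets F [nat_lit 3, nat_lit 1, nat_lit 0] (sel [w2, w3, w7, w15, w16] [nat_lit 0, nat_lit 1, nat_lit 2, nat_lit 3, nat_lit 4]) [dw (nat_lit 0x01), dw (nat_lit 0x05), dw (nat_lit 0x03), dw (nat_lit 0x07), dw (nat_lit 0x09), dw (nat_lit 0x03)] [] (bit (nat_lit 6)) (nat_lit 0x7fffff40) = true := by decide +kernel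
theorem o18 (M : PM G Ω 31 H15.StdL52.nets) (hN : Nat.card G = 9999360) : Orb M ⊤ [nat_lit 3, nat_lit 1, nat_lit 0] (nat_lit 6) (nat_lit 0x7fffff40) :=
  (Orb.ext le_top (orb_bit ⊤ [nat_lit 3, nat_lit 1, nat_lit 0] (b := (nat_lit 6)) rfl) k17)
noncomputable def w19 : Word := [nat_lit 22]
noncomputable def w20 : Word := [nat_lit 24]
noncomputable def w21 : Word := [nat_lit 26]
theorem k22 : orbChk (nat_lit 31) H15.StdL52.nets F [nat_lit 6, nat_lit 3, nat_lit 1, nat_lit 0] (sel [w3, w19, w20, w21] [nat_lit 0, nat_lit 1, nat_lit 2, nat_lit 3]) [dw (nat_lit 0x01), dw (nat_lit 0x03), dw (nat_lit 0x05), dw (nat_lit 0x07)] [] (bit (nat_lit 11)) (nat_lit 0x7ff74800) = true := by decide +kernel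
theorem o23 (M : PM G Ω 31 H15.StdL52.nets) (hN : Nat.card G = 9999360) : Orb M ⊤ [nat_lit 6, nat_lit 3, nat_lit 1, nat_lit 0] (nat_lit 11) (nat_lit 0x7ff74800) :=
  (Orb.ext le_top (orb_bit ⊤ [nat_lit 6, nat_lit 3, nat_lit 1, nat_lit 0] (b := (nat_lit 11)) rfl) k22)
noncomputable def c24 : Chn := [((nat_lit 0), (full (nat_lit 31))), ((nat_lit 1), (nat_lit 0x7ffffffe)), ((nat_lit 3), (nat_lit 0x7ffffff8)), ((nat_lit 6), (nat_lit 0x7fffff40)), ((nat_lit 11), (nat_lit 0x7ff74800))]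
theorem k25 : Nat.ble 9999360 (cval (nat_lit 31) c24) = true := by decide +kernel
theorem e26 (M : PM G Ω 31 H15.StdL52.nets) (hN : Nat.card G = 9999360) : EC M ⊤ [] c24 :=
  ec_top (c := c24) ⟨(o9 M hN), ⟨(o11 M hN), ⟨(o14 M hN), ⟨(o18 M hN), ⟨(o23 M hN), trivial⟩⟩⟩⟩⟩ hN k25
noncomputable def bs0 : List Nat := [nat_lit 0, nat_lit 1, nat_lit 3, nat_lit 6, nat_lit 11]
theorem base0 (M : PM G Ω 31 H15.StdL52.nets) (hN : Nat.card G = 9999360) : IsBase M bs0 :=
  base_of_ec (e26 M hN) (by decide +kernel)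

end L.KhL52
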