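import Cfsg.Agent.L.KA
import Cfsg.Agent.H15.StdL52

/-! Generated certificate (toolsL/cg.hpp). -/
set_option autoImplicit false
set_option maxRecDepth 200000
set_option Elab.async false
set_option linter.unusedVariables false
set_option linter.unusedSectionVars false

namespace L.KhL52T
open H14 
variable {G Ω : Type*} [Group G] [Finite G] [MulAction G Ω]

noncomputable def t0 : List (List Nat) := [[nat_lit 0xffff0000000000000000000000000000ff00fe40000000000000000000000000e2969da8000000000000000000000000cccce992000000000000000000000000b8aac6b4, nat_lit 0, nat_lit 0, nat_lit 0, nat_lit 0, nat_lit 0, nat_lit 0, nat_lit 0, nat_lit 0, nat_lit 0, nat_lit 0, nat_lit 0, nat_lit 0, nat_lit 0, nat_lit 0, nat_lit 0]]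
theorem k1 : tchk 128 5 16 1 (letN H15.StdL52.nets (Nat.xor 0 1)) t0 = true := by decide +kernel
theorem k2 : tchk 128 5 16 1 (letN H15.StdL52.nets (Nat.xor 1 1)) t0 = true := by decide +kernel
noncomputable def t3 : List (List Nat) := [[nat_lit 0xffee4800000000000000000000000000f655b540000000000000000000000000f8b0e398000000000000000000000000cdd98634000000000000000000000000a2eba07a, nat_lit 0, nat_lit 0, nat_lit 0, nat_lit 0, nat_lit 0, nat_lit 0, nat_lit 0, nat_lit 0, nat_lit 0, nat_lit 0, nat_lit 0, nat_lit 0, nat_lit 0, nat_lit 0, nat_lit 0]]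
theorem k4 : tchk 128 5 16 1 (letN H15.StdL52.nets (Nat.xor 2 1)) t3 = true := by decide +kernel
theorem k5 : tchk 128 5 16 1 (letN H15.StdL52.nets (Nat.xor 3 1)) t3 = true := by decide +kernel
noncomputable def t6 : List (List Nat) := [[nat_lit 0xffd55800000000000000000000000000fb3aa340000000000000000000000000f46947b0000000000000000000000000c87716cc000000000000000000000000aa03dbaa, nat_lit 0, nat_lit 0, nat_lit 0, nat_lit 0, nat_lit 0, nat_lit 0, nat_lit 0, nat_lit 0, nat_lit 0, nat_lit 0, nat_lit 0, nat_lit 0, nat_lit 0, nat_lit 0, nat_lit 0]]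
theorem k7 : tchk 128 5 16 1 (letN H15.StdL52.nets (Nat.xor 4 1)) t6 = true := by decide +kernel
theorem k8 : tchk 128 5 16 1 (letN H15.StdL52.nets (Nat.xor 5 1)) t6 = true := by decide +kernel
noncomputable def t9 : List (List Nat) := [[nat_lit 0xffbb4800000000000000000000000000c4f7b700000000000000000000000000bce0f0f0000000000000000000000000e45ccccc000000000000000000000000b29ea2aa, nat_lit 0, nat_lit 0, nat_lit 0, nat_lit 0, nat_lit 0, nat_lit 0, nat_lit 0, nat_lit 0, nat_lit 0, nat_lit 0, nat_lit 0, nat_lit 0, nat_lit 0, nat_lit 0, nat_lit 0]]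
theorem k10 : tchk 128 5 16 1 (letN H15.StdL52.nets (Nat.xor 6 1)) t9 = true := by decide +kernel
theorem k11 : tchk 128 5 16 1 (letN H15.StdL52.nets (Nat.xor 7 1)) t9 = true := by decide +kernel
noncomputable def t12 : List (List Nat) := [[nat_lit 0xfffe0800000000000000000000000000fe05f540000000000000000000000000d2727698000000000000000000000000cd4bc6a4000000000000000000000000aaab24e9, nat_lit 0, nat_lit 0, nat_lit 0, nat_lit 0, nat_lit 0, nat_lit 0, nat_lit 0, nat_lit 0, nat_lit 0, nat_lit 0, nat_lit 0, nat_lit 0, nat_lit 0, nat_lit 0, nat_lit 0]]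
theorem k13 : tchk 128 5 16 1 (letN H15.StdL52.nets (Nat.xor 8 1)) t12 = true := by decide +kernel
theorem k14 : tchk 128 5 16 1 (letN H15.StdL52.nets (Nat.xor 9 1)) t12 = true := by decide +kernel
noncomputable def t15 : List (List Nat) := [[nat_lit 0xffdd4800000000000000000000000000ed66b340000000000000000000000000f0f0d5a4000000000000000000000000deaa84d2000000000000000000000000a88ecbaa, nat_lit 0, nat_lit 0, nat_lit 0, nat_lit 0, nat_lit 0, nat_lit 0, nat_lit 0, nat_lit 0, nat_lit 0, nat_lit 0, nat_lit 0, nat_lit 0, nat_lit 0, nat_lit 0, nat_lit 0]]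
theorem k16 : tchk 128 5 16 1 (letN H15.StdL52.nets (Nat.xor 10 1)) t15 = true := by decide +kernel
theorem k17 : tchk 128 5 16 1 (letN H15.StdL52.nets (Nat.xor 11 1)) t15 = true := by decide +kernel
noncomputable def t18 : List (List Nat) := [[nat_lit 0xffbb4800000000000000000000000000f655a4b0000000000000000000000000f8e0f388000000000000000000000000c4dcdc4c000000000000000000000000a2beb262, nat_lit 0, nat_lit 0, nat_lit 0, nat_lit 0, nat_lit 0, nat_lit 0, nat_lit 0, nat_lit 0, nat_lit 0, nat_lit 0, nat_lit 0, nat_lit 0, nat_lit 0, nat_lit 0, nat_lit 0]]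
theorem k19 : tchk 128 5 16 1 (letN H15.StdL52.nets (Nat.xor 12 1)) t18 = true := by decide +kernel
theorem k20 : tchk 128 5 16 1 (letN H15.StdL52.nets (Nat.xor 13 1)) t18 = true := by decide +kernel
noncomputable def t21 : List (List Nat) := [[nat_lit 0xff4cb600000000000000000000000000fbbb4140000000000000000000000000f0f0b9b0000000000000000000000000ccce89cc000000000000000000000000aea1a4ea, nat_lit 0, nat_lit 0, nat_lit 0, nat_lit 0, nat_lit 0, nat_lit 0, nat_lit 0, nat_lit 0, nat_lit 0, nat_lit 0, nat_lit 0, nat_lit 0, nat_lit 0, nat_lit 0, nat_lit 0]]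
theorem k22 : tchk 128 5 16 1 (letN H15.StdL52.nets (Nat.xor 14 1)) t21 = true := by decide +kernel
theorem k23 : tchk 128 5 16 1 (letN H15.StdL52.nets (Nat.xor 15 1)) t21 = true := by decide +kernel
noncomputable def t24 : List (List Nat) := [[nat_lit 0xffe64840000000000000000000000000e4b7133800000000000000000000000095e9ab88000000000000000000000000d65d15c4000000000000000000000000c9da8752, nat_lit 0, nat_lit 0, nat_lit 0, nat_lit 0, nat_lit 0, nat_lit 0, nat_lit 0, nat_lit 0, nat_lit 0, nat_lit 0, nat_lit 0, nat_lit 0, nat_lit 0, nat_lit 0, nat_lit 0]]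
theorem k25 : tchk 128 5 16 1 (letN H15.StdL52.nets (Nat.xor 16 1)) t24 = true := by decide +kernel
noncomputable def t26 : List (List Nat) := [[nat_lit 0xffe64880000000000000000000000000c977a438000000000000000000000000b9c90f70000000000000000000000000ec9b10ec000000000000000000000000b31631f2, nat_lit 0, nat_lit 0, nat_lit 0, nat_lit 0, nat_lit 0, nat_lit 0, nat_lit 0, nat_lit 0, nat_lit 0, nat_lit 0, nat_lit 0, nat_lit 0, nat_lit 0, nat_lit 0, nat_lit 0]]
theorem k27 : tchk 128 5 16 1 (letN H15.StdL52.nets (Nat.xor 17 1)) t26 = true := by decide +kernel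
noncomputable def t28 : List (List Nat) := [[nat_lit 0xfff700400000000000000000000000009f44ff00000000000000000000000000a1fc47b0000000000000000000000000e68c59cc0000000000000000000000008ae22bea, nat_lit 0, nat_lit 0, nat_lit 0, nat_lit 0, nat_lit 0, nat_lit 0, nat_lit 0, nat_lit 0, nat_lit 0, nat_lit 0, nat_lit 0, nat_lit 0, nat_lit 0, nat_lit 0, nat_lit 0]]
theorem k29 : tchk 128 5 16 1 (letN H15.StdL52.nets (Nat.xor 18 1)) t28 = true := by decide +kernel
theorem k30 : tchk 128 5 16 1 (letN H15.StdL52.nets (Nat.xor 19 1)) t28 = true := by decide +kernel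
noncomputable def t31 : List (List Nat) := [[nat_lit 0xfff78000000000000000000000000000ff087e40000000000000000000000000e2bc47b0000000000000000000000000a5cce98c000000000000000000000000d1aa9caa, nat_lit 0, nat_lit 0, nat_lit 0, nat_lit 0, nat_lit 0, nat_lit 0, nat_lit 0, nat_lit 0, nat_lit 0, nat_lit 0, nat_lit 0, nat_lit 0, nat_lit 0, nat_lit 0, nat_lit 0]]
theorem k32 : tchk 128 5 16 1 (letN H15.StdL52.nets (Nat.xor 20 1)) t31 = true := by decide +kernel
theorem k33 : tchk 128 5 16 1 (letN H15.StdL52.nets (Nat.xor 21 1)) t31 = true := by decide +kernel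
noncomputable def t34 : List (List Nat) := [[nat_lit 0xf6ff48000000000000000000000000009da2ff00000000000000000000000000ce72b0f00000000000000000000000009b39c4cc000000000000000000000000e38ae2aa, nat_lit 0, nat_lit 0, nat_lit 0, nat_lit 0, nat_lit 0, nat_lit 0, nat_lit 0, nat_lit 0, nat_lit 0, nat_lit 0, nat_lit 0, nat_lit 0, nat_lit 0, nat_lit 0, nat_lit 0]]
theorem k35 : tchk 128 5 16 1 (letN H15.StdL52.nets (Nat.xor 22 1)) t34 = true := by decide +kernel
theorem k36 : tchk 128 5 16 1 (letN H15.StdL52.nets (Nat.xor 23 1)) t34 = true := by decide +kernel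
noncomputable def t37 : List (List Nat) := [[nat_lit 0xffbb4800000000000000000000000000a4f7b700000000000000000000000000c786b8f0000000000000000000000000e0cdcccc000000000000000000000000d669a2aa, nat_lit 0, nat_lit 0, nat_lit 0, nat_lit 0, nat_lit 0, nat_lit 0, nat_lit 0, nat_lit 0, nat_lit 0, nat_lit 0, nat_lit 0, nat_lit 0, nat_lit 0, nat_lit 0, nat_lit 0]]
theorem k38 : tchk 128 5 16 1 (letN H15.StdL52.nets (Nat.xor 24 1)) t37 = true := by decide +kernel
theorem k39 : tchk 128 5 16 1 (letN H15.StdL52.nets (Nat.xor 25 1)) t37 = true := by decide +kernel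
noncomputable def t40 : List (List Nat) := [[nat_lit 0x9fff4800000000000000000000000000e037ff00000000000000000000000000a3c1f8f0000000000000000000000000e4ce8ccc000000000000000000000000c95ae2aa, nat_lit 0, nat_lit 0, nat_lit 0, nat_lit 0, nat_lit 0, nat_lit 0, nat_lit 0, nat_lit 0, nat_lit 0, nat_lit 0, nat_lit 0, nat_lit 0, nat_lit 0, nat_lit 0, nat_lit 0]]
theorem k41 : tchk 128 5 16 1 (letN H15.StdL52.nets (Nat.xor 26 1)) t40 = true := by decide +kernel
theorem k42 : tchk 128 5 16 1 (letN H15.StdL52.nets (Nat.xor 27 1)) t40 = true := by decide +kernel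
noncomputable def TT : List (List (List Nat)) := [t0, t0, t3, t3, t6, t6, t9, t9, t12, t12, t15, t15, t18, t18, t21, t21, t24, t26, t28, t28, t31, t31, t34, t34, t37, t37, t40, t40]
noncomputable def TC (a c : Nat) : Nat := tabC 128 5 16 H15.StdL52.nets 28 TT a c
noncomputable def on : Nat := nat_lit 0x100000000000000000000000000000001000000000000000000000000000000010000000000000000000000000000000100000000000000000000000000000001
noncomputable def F : FK := tabF TC on (nat_lit 0xfffffffffffffffffffffffffffffffe)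
instance instF : PtK 31 H15.StdL52.nets F := tabF_ok (R := 1) H15.StdL52.nets_ok (by decide +kernel) (fa_lt (k := 27) (fa_lt (k := 26) (fa_lt (k := 25) (fa_lt (k := 24) (fa_lt (k := 23) (fa_lt (k := 22) (fa_lt (k := 21) (fa_lt (k := 20) (fa_lt (k := 19) (fa_lt (k := 18) (fa_lt (k := 17) (fa_lt (k := 16) (fa_lt (k := 15) (fa_lt (k := 14) (fa_lt (k := 13) (fa_lt (k := 12) (fa_lt (k := 11) (fa_lt (k := 10) (fa_lt (k := 9) (fa_lt (k := 8) (fa_lt (k := 7) (fa_lt (k := 6) (fa_lt (k := 5) (fa_lt (k := 4) (fa_lt (k := 3) (fa_lt (k := 2) (fa_lt (k := 1) (fa_lt (k := 0) fa_lt0 k1) k2) k4) k5) k7) k8) k10) k11) k13) k14) k16) k17) k19) k20) k22) k23) k25) k27) k29) k30) k32) k33) k35) k36) k38) k39) k41) k42) fun _ _ => rfl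

end L.KhL52T
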