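import Cfsg.Agent.L.KA
import Cfsg.Agent.H14.M22c

/-! Generated certificate (toolsL/cg.hpp). -/
set_option autoImplicit false
set_option maxRecDepth 200000
set_option Elab.async false
set_option linter.unusedVariables false
set_option linter.unusedSectionVars false

namespace L.KhM22T
open H14 
variable {G Ω : Type*} [Group G] [Finite G] [MulAction G Ω]

noncomputable def t0 : List (List Nat) := [[nat_lit 0xffac0618000000000000000000000000ff421946000000000000000000000000f0e06ea6000000000000000000000000ccc3c47a000000000000000000000000aa98cbd2, nat_lit 0, nat_lit 0, nat_lit 0, nat_lit 0, nat_lit 0, nat_lit 0, nat_lit 0, nat_lit 0, nat_lit 0, nat_lit 0, nat_lit 0, nat_lit 0, nat_lit 0, nat_lit 0, nat_lit 0]]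
theorem k1 : tchk 128 5 16 1 (letN H14.M22c.nets (Nat.xor 0 1)) t0 = true := by decide +kernel
noncomputable def t2 : List (List Nat) := [[nat_lit 0xff934406000000000000000000000000ff602398000000000000000000000000f09849fa000000000000000000000000ccc778a8000000000000000000000000aab6a478, nat_lit 0, nat_lit 0, nat_lit 0, nat_lit 0, nat_lit 0, nat_lit 0, nat_lit 0, nat_lit 0, nat_lit 0, nat_lit 0, nat_lit 0, nat_lit 0, nat_lit 0, nat_lit 0, nat_lit 0]]
theorem k3 : tchk 128 5 16 1 (letN H14.M22c.nets (Nat.xor 1 1)) t2 = true := by decide +kernel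
noncomputable def t4 : List (List Nat) := [[nat_lit 0xff993140000000000000000000000000ff22023e000000000000000000000000f0e1ae64000000000000000000000000cc92f6a2000000000000000000000000aaaeda48, nat_lit 0, nat_lit 0, nat_lit 0, nat_lit 0, nat_lit 0, nat_lit 0, nat_lit 0, nat_lit 0, nat_lit 0, nat_lit 0, nat_lit 0, nat_lit 0, nat_lit 0, nat_lit 0, nat_lit 0]]
theorem k5 : tchk 128 5 16 1 (letN H14.M22c.nets (Nat.xor 2 1)) t4 = true := by decide +kernel
noncomputable def t6 : List (List Nat) := [[nat_lit 0xff962812000000000000000000000000ff4980e8000000000000000000000000f0ec619c000000000000000000000000cca212fe000000000000000000000000aac2eea4, nat_lit 0, nat_lit 0, nat_lit 0, nat_lit 0, nat_lit 0, nat_lit 0, nat_lit 0, nat_lit 0, nat_lit 0, nat_lit 0, nat_lit 0, nat_lit 0, nat_lit 0, nat_lit 0, nat_lit 0]]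
theorem k7 : tchk 128 5 16 1 (letN H14.M22c.nets (Nat.xor 3 1)) t6 = true := by decide +kernel
noncomputable def t8 : List (List Nat) := [[nat_lit 0xff82a318000000000000000000000000ff191464000000000000000000000000f0d34fc0000000000000000000000000ccdea4a2000000000000000000000000aaf07172, nat_lit 0, nat_lit 0, nat_lit 0, nat_lit 0, nat_lit 0, nat_lit 0, nat_lit 0, nat_lit 0, nat_lit 0, nat_lit 0, nat_lit 0, nat_lit 0, nat_lit 0, nat_lit 0, nat_lit 0]]
theorem k9 : tchk 128 5 16 1 (letN H14.M22c.nets (Nat.xor 4 1)) t8 = true := by decide +kernel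
noncomputable def t10 : List (List Nat) := [[nat_lit 0xffc09486000000000000000000000000ff3c4230000000000000000000000000f08eaae2000000000000000000000000cc8565f4000000000000000000000000aadd0c5a, nat_lit 0, nat_lit 0, nat_lit 0, nat_lit 0, nat_lit 0, nat_lit 0, nat_lit 0, nat_lit 0, nat_lit 0, nat_lit 0, nat_lit 0, nat_lit 0, nat_lit 0, nat_lit 0, nat_lit 0]]
theorem k11 : tchk 128 5 16 1 (letN H14.M22c.nets (Nat.xor 5 1)) t10 = true := by decide +kernel
noncomputable def t12 : List (List Nat) := [[nat_lit 0xffc20e48000000000000000000000000ff2de020000000000000000000000000f0be2692000000000000000000000000ccd6a174000000000000000000000000aad93c26, nat_lit 0, nat_lit 0, nat_lit 0, nat_lit 0, nat_lit 0, nat_lit 0, nat_lit 0, nat_lit 0, nat_lit 0, nat_lit 0, nat_lit 0, nat_lit 0, nat_lit 0, nat_lit 0, nat_lit 0]]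
theorem k13 : tchk 128 5 16 1 (letN H14.M22c.nets (Nat.xor 6 1)) t12 = true := by decide +kernel
noncomputable def t14 : List (List Nat) := [[nat_lit 0xffc87280000000000000000000000000ff328506000000000000000000000000f08c9dd2000000000000000000000000ccaf6518000000000000000000000000aad3bc30, nat_lit 0, nat_lit 0, nat_lit 0, nat_lit 0, nat_lit 0, nat_lit 0, nat_lit 0, nat_lit 0, nat_lit 0, nat_lit 0, nat_lit 0, nat_lit 0, nat_lit 0, nat_lit 0, nat_lit 0]]
theorem k15 : tchk 128 5 16 1 (letN H14.M22c.nets (Nat.xor 7 1)) t14 = true := by decide +kernel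
noncomputable def t16 : List (List Nat) := [[nat_lit 0xffe8c410000000000000000000000000ff0630e8000000000000000000000000f08a5f2c000000000000000000000000ccdb92c4000000000000000000000000aaa1b54e, nat_lit 0, nat_lit 0, nat_lit 0, nat_lit 0, nat_lit 0, nat_lit 0, nat_lit 0, nat_lit 0, nat_lit 0, nat_lit 0, nat_lit 0, nat_lit 0, nat_lit 0, nat_lit 0, nat_lit 0]]
theorem k17 : tchk 128 5 16 1 (letN H14.M22c.nets (Nat.xor 8 1)) t16 = true := by decide +kernel
noncomputable def t18 : List (List Nat) := [[nat_lit 0xffc6410c000000000000000000000000ff388270000000000000000000000000f09f9e04000000000000000000000000ccfc2d90000000000000000000000000aaca7652, nat_lit 0, nat_lit 0, nat_lit 0, nat_lit 0, nat_lit 0, nat_lit 0, nat_lit 0, nat_lit 0, nat_lit 0, nat_lit 0, nat_lit 0, nat_lit 0, nat_lit 0, nat_lit 0, nat_lit 0]]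
theorem k19 : tchk 128 5 16 1 (letN H14.M22c.nets (Nat.xor 9 1)) t18 = true := by decide +kernel
noncomputable def t20 : List (List Nat) := [[nat_lit 0xffa28a30000000000000000000000000ff4c3444000000000000000000000000f0f4d1e0000000000000000000000000cc97951c000000000000000000000000aaba12ce, nat_lit 0, nat_lit 0, nat_lit 0, nat_lit 0, nat_lit 0, nat_lit 0, nat_lit 0, nat_lit 0, nat_lit 0, nat_lit 0, nat_lit 0, nat_lit 0, nat_lit 0, nat_lit 0, nat_lit 0]]
theorem k21 : tchk 128 5 16 1 (letN H14.M22c.nets (Nat.xor 10 1)) t20 = true := by decide +kernel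
noncomputable def t22 : List (List Nat) := [[nat_lit 0xffa85284000000000000000000000000ff438550000000000000000000000000f0f4b1b0000000000000000000000000ccc17e38000000000000000000000000aafb032a, nat_lit 0, nat_lit 0, nat_lit 0, nat_lit 0, nat_lit 0, nat_lit 0, nat_lit 0, nat_lit 0, nat_lit 0, nat_lit 0, nat_lit 0, nat_lit 0, nat_lit 0, nat_lit 0, nat_lit 0]]
theorem k23 : tchk 128 5 16 1 (letN H14.M22c.nets (Nat.xor 11 1)) t22 = true := by decide +kernel
noncomputable def t24 : List (List Nat) := [[nat_lit 0xff80b258000000000000000000000000ff0e4d20000000000000000000000000f0f99530000000000000000000000000ccc9e98c000000000000000000000000aaa565d2, nat_lit 0, nat_lit 0, nat_lit 0, nat_lit 0, nat_lit 0, nat_lit 0, nat_lit 0, nat_lit 0, nat_lit 0, nat_lit 0, nat_lit 0, nat_lit 0, nat_lit 0, nat_lit 0, nat_lit 0]]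
theorem k25 : tchk 128 5 16 1 (letN H14.M22c.nets (Nat.xor 12 1)) t24 = true := by decide +kernel
noncomputable def t26 : List (List Nat) := [[nat_lit 0xff8043f0000000000000000000000000ff59ac00000000000000000000000000f0fa1878000000000000000000000000ccc66e4c000000000000000000000000aacd552a, nat_lit 0, nat_lit 0, nat_lit 0, nat_lit 0, nat_lit 0, nat_lit 0, nat_lit 0, nat_lit 0, nat_lit 0, nat_lit 0, nat_lit 0, nat_lit 0, nat_lit 0, nat_lit 0, nat_lit 0]]
theorem k27 : tchk 128 5 16 1 (letN H14.M22c.nets (Nat.xor 13 1)) t26 = true := by decide +kernel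
noncomputable def t28 : List (List Nat) := [[nat_lit 0xffa10a68000000000000000000000000ff50e510000000000000000000000000f0eec388000000000000000000000000cc9991dc000000000000000000000000aaacdc52, nat_lit 0, nat_lit 0, nat_lit 0, nat_lit 0, nat_lit 0, nat_lit 0, nat_lit 0, nat_lit 0, nat_lit 0, nat_lit 0, nat_lit 0, nat_lit 0, nat_lit 0, nat_lit 0, nat_lit 0]]
theorem k29 : tchk 128 5 16 1 (letN H14.M22c.nets (Nat.xor 14 1)) t28 = true := by decide +kernel
noncomputable def t30 : List (List Nat) := [[nat_lit 0xffa414b0000000000000000000000000ff12e308000000000000000000000000f0a9bd48000000000000000000000000cccab2e4000000000000000000000000aaf381d2, nat_lit 0, nat_lit 0, nat_lit 0, nat_lit 0, nat_lit 0, nat_lit 0, nat_lit 0, nat_lit 0, nat_lit 0, nat_lit 0, nat_lit 0, nat_lit 0, nat_lit 0, nat_lit 0, nat_lit 0]]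
theorem k31 : tchk 128 5 16 1 (letN H14.M22c.nets (Nat.xor 15 1)) t30 = true := by decide +kernel
noncomputable def t32 : List (List Nat) := [[nat_lit 0xff8c05b0000000000000000000000000ff53b200000000000000000000000000f0a75ad0000000000000000000000000ccff044c000000000000000000000000aa9970ea, nat_lit 0, nat_lit 0, nat_lit 0, nat_lit 0, nat_lit 0, nat_lit 0, nat_lit 0, nat_lit 0, nat_lit 0, nat_lit 0, nat_lit 0, nat_lit 0, nat_lit 0, nat_lit 0, nat_lit 0]]
theorem k33 : tchk 128 5 16 1 (letN H14.M22c.nets (Nat.xor 16 1)) t32 = true := by decide +kernel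
noncomputable def t34 : List (List Nat) := [[nat_lit 0xffc8cc40000000000000000000000000ff053330000000000000000000000000f0b22fe0000000000000000000000000ccec05bc000000000000000000000000aaaa535a, nat_lit 0, nat_lit 0, nat_lit 0, nat_lit 0, nat_lit 0, nat_lit 0, nat_lit 0, nat_lit 0, nat_lit 0, nat_lit 0, nat_lit 0, nat_lit 0, nat_lit 0, nat_lit 0, nat_lit 0]]
theorem k35 : tchk 128 5 16 1 (letN H14.M22c.nets (Nat.xor 17 1)) t34 = true := by decide +kernel
noncomputable def t36 : List (List Nat) := [[nat_lit 0xffa1c340000000000000000000000000ff4c3830000000000000000000000000f0fb94a0000000000000000000000000ccf4073c000000000000000000000000aacee60a, nat_lit 0, nat_lit 0, nat_lit 0, nat_lit 0, nat_lit 0, nat_lit 0, nat_lit 0, nat_lit 0, nat_lit 0, nat_lit 0, nat_lit 0, nat_lit 0, nat_lit 0, nat_lit 0, nat_lit 0]]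
theorem k37 : tchk 128 5 16 1 (letN H14.M22c.nets (Nat.xor 18 1)) t36 = true := by decide +kernel
noncomputable def t38 : List (List Nat) := [[nat_lit 0xffd0a860000000000000000000000000ff2e1380000000000000000000000000f0e3d650000000000000000000000000cca3a99c000000000000000000000000aae8633a, nat_lit 0, nat_lit 0, nat_lit 0, nat_lit 0, nat_lit 0, nat_lit 0, nat_lit 0, nat_lit 0, nat_lit 0, nat_lit 0, nat_lit 0, nat_lit 0, nat_lit 0, nat_lit 0, nat_lit 0]]
theorem k39 : tchk 128 5 16 1 (letN H14.M22c.nets (Nat.xor 19 1)) t38 = true := by decide +kernel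
noncomputable def t40 : List (List Nat) := [[nat_lit 0xffc8ca80000000000000000000000000ff053170000000000000000000000000f0f706e0000000000000000000000000cc91bcac000000000000000000000000aa93d25a, nat_lit 0, nat_lit 0, nat_lit 0, nat_lit 0, nat_lit 0, nat_lit 0, nat_lit 0, nat_lit 0, nat_lit 0, nat_lit 0, nat_lit 0, nat_lit 0, nat_lit 0, nat_lit 0, nat_lit 0]]
theorem k41 : tchk 128 5 16 1 (letN H14.M22c.nets (Nat.xor 20 1)) t40 = true := by decide +kernel
noncomputable def t42 : List (List Nat) := [[nat_lit 0xff9190b0000000000000000000000000ff2e0d40000000000000000000000000f0da6e90000000000000000000000000ccdf304c000000000000000000000000aaed443a, nat_lit 0, nat_lit 0, nat_lit 0, nat_lit 0, nat_lit 0, nat_lit 0, nat_lit 0, nat_lit 0, nat_lit 0, nat_lit 0, nat_lit 0, nat_lit 0, nat_lit 0, nat_lit 0, nat_lit 0]]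
theorem k43 : tchk 128 5 16 1 (letN H14.M22c.nets (Nat.xor 21 1)) t42 = true := by decide +kernel
noncomputable def t44 : List (List Nat) := [[nat_lit 0xff912a60000000000000000000000000ff6e1180000000000000000000000000f0c7ce90000000000000000000000000cc9f944c000000000000000000000000aadc472a, nat_lit 0, nat_lit 0, nat_lit 0, nat_lit 0, nat_lit 0, nat_lit 0, nat_lit 0, nat_lit 0, nat_lit 0, nat_lit 0, nat_lit 0, nat_lit 0, nat_lit 0, nat_lit 0, nat_lit 0]]
theorem k45 : tchk 128 5 16 1 (letN H14.M22c.nets (Nat.xor 22 1)) t44 = true := by decide +kernel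
noncomputable def t46 : List (List Nat) := [[nat_lit 0xffc8e900000000000000000000000000ff3106e0000000000000000000000000f08f3570000000000000000000000000cc94b8ec000000000000000000000000aab3594a, nat_lit 0, nat_lit 0, nat_lit 0, nat_lit 0, nat_lit 0, nat_lit 0, nat_lit 0, nat_lit 0, nat_lit 0, nat_lit 0, nat_lit 0, nat_lit 0, nat_lit 0, nat_lit 0, nat_lit 0]]
theorem k47 : tchk 128 5 16 1 (letN H14.M22c.nets (Nat.xor 23 1)) t46 = true := by decide +kernel
noncomputable def TT : List (List (List Nat)) := [t0, t2, t4, t6, t8, t10, t12, t14, t16, t18, t20, t22, t24, t26, t28, t30, t32, t34, t36, t38, t40, t42, t44, t46]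
noncomputable def TC (a c : Nat) : Nat := tabC 128 5 16 H14.M22c.nets 24 TT a c
noncomputable def on : Nat := nat_lit 0x100000000000000000000000000000001000000000000000000000000000000010000000000000000000000000000000100000000000000000000000000000001
noncomputable def F : FK := tabF TC on (nat_lit 0xfffffffffffffffffffffffffffffffe)
instance instF : PtK 24 H14.M22c.nets F := tabF_ok (R := 1) H14.M22c.nets_ok (by decide +kernel) (fa_lt (k := 23) (fa_lt (k := 22) (fa_lt (k := 21) (fa_lt (k := 20) (fa_lt (k := 19) (fa_lt (k := 18) (fa_lt (k := 17) (fa_lt (k := 16) (fa_lt (k := 15) (fa_lt (k := 14) (fa_lt (k := 13) (fa_lt (k := 12) (fa_lt (k := 11) (fa_lt (k := 10) (fa_lt (k := 9) (fa_lt (k := 8) (fa_lt (k := 7) (fa_lt (k := 6) (fa_lt (k := 5) (fa_lt (k := 4) (fa_lt (k := 3) (fa_lt (k := 2) (fa_lt (k := 1) (fa_lt (k := 0) fa_lt0 k1) k3) k5) k7) k9) k11) k13) k15) k17) k19) k21) k23) k25) k27) k29) k31) k33) k35) k37) k39) k41) k43) k45) k47) fun _ _ => rfl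

end L.KhM22T
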