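import Cfsg.Agent.L.KA
import Cfsg.Agent.H14.M24c

/-! Generated certificate (toolsL/cg.hpp). -/
set_option autoImplicit false
set_option maxRecDepth 200000
set_option Elab.async false
set_option linter.unusedVariables false
set_option linter.unusedSectionVars false

namespace L.KhM24T
open H14 
variable {G Ω : Type*} [Group G] [Finite G] [MulAction G Ω]

noncomputable def t0 : List (List Nat) := [[nat_lit 0xffbf8000000000000000000000000000ff007f80000000000000000000000000f0b87878000000000000000000000000cca66666000000000000000000000000aa955555, nat_lit 0, nat_lit 0, nat_lit 0, nat_lit 0, nat_lit 0, nat_lit 0, nat_lit 0, nat_lit 0, nat_lit 0, nat_lit 0, nat_lit 0, nat_lit 0, nat_lit 0, nat_lit 0, nat_lit 0]]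
theorem k1 : tchk 128 5 16 1 (letN H14.M24c.nets (Nat.xor 0 1)) t0 = true := by decide +kernel
noncomputable def t2 : List (List Nat) := [[nat_lit 0xfffe0001000000000000000000000000ff01fe00000000000000000000000000f0e1e1e1000000000000000000000000cc999999000000000000000000000000aad55554, nat_lit 0, nat_lit 0, nat_lit 0, nat_lit 0, nat_lit 0, nat_lit 0, nat_lit 0, nat_lit 0, nat_lit 0, nat_lit 0, nat_lit 0, nat_lit 0, nat_lit 0, nat_lit 0, nat_lit 0]]
theorem k3 : tchk 128 5 16 1 (letN H14.M24c.nets (Nat.xor 1 1)) t2 = true := by decide +kernel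
noncomputable def t4 : List (List Nat) := [[nat_lit 0xff005553000000000000000000000000ff3500ac000000000000000000000000f02e338b000000000000000000000000cc0de84f000000000000000000000000aa40b2fd, nat_lit 0, nat_lit 0, nat_lit 0, nat_lit 0, nat_lit 0, nat_lit 0, nat_lit 0, nat_lit 0, nat_lit 0, nat_lit 0, nat_lit 0, nat_lit 0, nat_lit 0, nat_lit 0, nat_lit 0]]
theorem k5 : tchk 128 5 16 1 (letN H14.M24c.nets (Nat.xor 2 1)) t4 = true := by decide +kernel
theorem k6 : tchk 128 5 16 1 (letN H14.M24c.nets (Nat.xor 3 1)) t4 = true := by decide +kernel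
noncomputable def t7 : List (List Nat) := [[nat_lit 0xffa84922000000000000000000000000ff53b200000000000000000000000000f0ed86a4000000000000000000000000ccda8c1e000000000000000000000000aa83ece8, nat_lit 0, nat_lit 0, nat_lit 0, nat_lit 0, nat_lit 0, nat_lit 0, nat_lit 0, nat_lit 0, nat_lit 0, nat_lit 0, nat_lit 0, nat_lit 0, nat_lit 0, nat_lit 0, nat_lit 0]]
theorem k8 : tchk 128 5 16 1 (letN H14.M24c.nets (Nat.xor 4 1)) t7 = true := by decide +kernel
noncomputable def t9 : List (List Nat) := [[nat_lit 0xffd06c10000000000000000000000000ff0b9380000000000000000000000000f0b2c726000000000000000000000000cccac0fa000000000000000000000000aafc9a28, nat_lit 0, nat_lit 0, nat_lit 0, nat_lit 0, nat_lit 0, nat_lit 0, nat_lit 0, nat_lit 0, nat_lit 0, nat_lit 0, nat_lit 0, nat_lit 0, nat_lit 0, nat_lit 0, nat_lit 0]]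
theorem k10 : tchk 128 5 16 1 (letN H14.M24c.nets (Nat.xor 5 1)) t9 = true := by decide +kernel
noncomputable def t11 : List (List Nat) := [[nat_lit 0xff908728000000000000000000000000ff0f7002000000000000000000000000f0b46aa6000000000000000000000000ccd15d16000000000000000000000000aac324ee, nat_lit 0, nat_lit 0, nat_lit 0, nat_lit 0, nat_lit 0, nat_lit 0, nat_lit 0, nat_lit 0, nat_lit 0, nat_lit 0, nat_lit 0, nat_lit 0, nat_lit 0, nat_lit 0, nat_lit 0]]
theorem k12 : tchk 128 5 16 1 (letN H14.M24c.nets (Nat.xor 6 1)) t11 = true := by decide +kernel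
noncomputable def t13 : List (List Nat) := [[nat_lit 0xffc01b18000000000000000000000000ff1d6440000000000000000000000000f0e1643e000000000000000000000000cc8b51ea000000000000000000000000aab3a370, nat_lit 0, nat_lit 0, nat_lit 0, nat_lit 0, nat_lit 0, nat_lit 0, nat_lit 0, nat_lit 0, nat_lit 0, nat_lit 0, nat_lit 0, nat_lit 0, nat_lit 0, nat_lit 0, nat_lit 0]]
theorem k14 : tchk 128 5 16 1 (letN H14.M24c.nets (Nat.xor 7 1)) t13 = true := by decide +kernel
noncomputable def t15 : List (List Nat) := [[nat_lit 0xff8e8608000000000000000000000000ff2161e0000000000000000000000000f0d985b4000000000000000000000000ccb15f18000000000000000000000000aaad10de, nat_lit 0, nat_lit 0, nat_lit 0, nat_lit 0, nat_lit 0, nat_lit 0, nat_lit 0, nat_lit 0, nat_lit 0, nat_lit 0, nat_lit 0, nat_lit 0, nat_lit 0, nat_lit 0, nat_lit 0]]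
theorem k16 : tchk 128 5 16 1 (letN H14.M24c.nets (Nat.xor 8 1)) t15 = true := by decide +kernel
noncomputable def t17 : List (List Nat) := [[nat_lit 0xffa38850000000000000000000000000ff54450c000000000000000000000000f0903fd8000000000000000000000000ccfa2634000000000000000000000000aabd3906, nat_lit 0, nat_lit 0, nat_lit 0, nat_lit 0, nat_lit 0, nat_lit 0, nat_lit 0, nat_lit 0, nat_lit 0, nat_lit 0, nat_lit 0, nat_lit 0, nat_lit 0, nat_lit 0, nat_lit 0]]
theorem k18 : tchk 128 5 16 1 (letN H14.M24c.nets (Nat.xor 9 1)) t17 = true := by decide +kernel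
noncomputable def t19 : List (List Nat) := [[nat_lit 0xffa60350000000000000000000000000ff11b80c000000000000000000000000f09d4e38000000000000000000000000ccede980000000000000000000000000aa9b8786, nat_lit 0, nat_lit 0, nat_lit 0, nat_lit 0, nat_lit 0, nat_lit 0, nat_lit 0, nat_lit 0, nat_lit 0, nat_lit 0, nat_lit 0, nat_lit 0, nat_lit 0, nat_lit 0, nat_lit 0]]
theorem k20 : tchk 128 5 16 1 (letN H14.M24c.nets (Nat.xor 10 1)) t19 = true := by decide +kernel
noncomputable def t21 : List (List Nat) := [[nat_lit 0xffc6a084000000000000000000000000ff284d60000000000000000000000000f0952d5c000000000000000000000000ccc15aec000000000000000000000000aaa65c9a, nat_lit 0, nat_lit 0, nat_lit 0, nat_lit 0, nat_lit 0, nat_lit 0, nat_lit 0, nat_lit 0, nat_lit 0, nat_lit 0, nat_lit 0, nat_lit 0, nat_lit 0, nat_lit 0, nat_lit 0]]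
theorem k22 : tchk 128 5 16 1 (letN H14.M24c.nets (Nat.xor 11 1)) t21 = true := by decide +kernel
noncomputable def t23 : List (List Nat) := [[nat_lit 0xff80ca58000000000000000000000000ff7d2080000000000000000000000000f0de5660000000000000000000000000ccae233c000000000000000000000000aa9879aa, nat_lit 0, nat_lit 0, nat_lit 0, nat_lit 0, nat_lit 0, nat_lit 0, nat_lit 0, nat_lit 0, nat_lit 0, nat_lit 0, nat_lit 0, nat_lit 0, nat_lit 0, nat_lit 0, nat_lit 0]]
theorem k24 : tchk 128 5 16 1 (letN H14.M24c.nets (Nat.xor 12 1)) t23 = true := by decide +kernel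
noncomputable def t25 : List (List Nat) := [[nat_lit 0xff80f540000000000000000000000000ff630838000000000000000000000000f0b53ea0000000000000000000000000ccbbd214000000000000000000000000aacb8ec2, nat_lit 0, nat_lit 0, nat_lit 0, nat_lit 0, nat_lit 0, nat_lit 0, nat_lit 0, nat_lit 0, nat_lit 0, nat_lit 0, nat_lit 0, nat_lit 0, nat_lit 0, nat_lit 0, nat_lit 0]]
theorem k26 : tchk 128 5 16 1 (letN H14.M24c.nets (Nat.xor 13 1)) t25 = true := by decide +kernel
noncomputable def t27 : List (List Nat) := [[nat_lit 0xffc84a30000000000000000000000000ff149588000000000000000000000000f0f722a8000000000000000000000000cc913cf4000000000000000000000000aaf9905a, nat_lit 0, nat_lit 0, nat_lit 0, nat_lit 0, nat_lit 0, nat_lit 0, nat_lit 0, nat_lit 0, nat_lit 0, nat_lit 0, nat_lit 0, nat_lit 0, nat_lit 0, nat_lit 0, nat_lit 0]]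
theorem k28 : tchk 128 5 16 1 (letN H14.M24c.nets (Nat.xor 14 1)) t27 = true := by decide +kernel
noncomputable def t29 : List (List Nat) := [[nat_lit 0xffa290b0000000000000000000000000ff150f40000000000000000000000000f0e9ca68000000000000000000000000cca7760c000000000000000000000000aad66272, nat_lit 0, nat_lit 0, nat_lit 0, nat_lit 0, nat_lit 0, nat_lit 0, nat_lit 0, nat_lit 0, nat_lit 0, nat_lit 0, nat_lit 0, nat_lit 0, nat_lit 0, nat_lit 0, nat_lit 0]]
theorem k30 : tchk 128 5 16 1 (letN H14.M24c.nets (Nat.xor 15 1)) t29 = true := by decide +kernel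
noncomputable def t31 : List (List Nat) := [[nat_lit 0xff912a60000000000000000000000000ff6e1180000000000000000000000000f0c7ce90000000000000000000000000cc9f944c000000000000000000000000aadc472a, nat_lit 0, nat_lit 0, nat_lit 0, nat_lit 0, nat_lit 0, nat_lit 0, nat_lit 0, nat_lit 0, nat_lit 0, nat_lit 0, nat_lit 0, nat_lit 0, nat_lit 0, nat_lit 0, nat_lit 0]]
theorem k32 : tchk 128 5 16 1 (letN H14.M24c.nets (Nat.xor 16 1)) t31 = true := by decide +kernel
noncomputable def t33 : List (List Nat) := [[nat_lit 0xffc8e900000000000000000000000000ff3106e0000000000000000000000000f08f3570000000000000000000000000cc94b8ec000000000000000000000000aab3594a, nat_lit 0, nat_lit 0, nat_lit 0, nat_lit 0, nat_lit 0, nat_lit 0, nat_lit 0, nat_lit 0, nat_lit 0, nat_lit 0, nat_lit 0, nat_lit 0, nat_lit 0, nat_lit 0, nat_lit 0]]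
theorem k34 : tchk 128 5 16 1 (letN H14.M24c.nets (Nat.xor 17 1)) t33 = true := by decide +kernel
noncomputable def t35 : List (List Nat) := [[nat_lit 0xff814b50000000000000000000000000ff7884a0000000000000000000000000f0de3870000000000000000000000000ccac173c000000000000000000000000aace4d8a, nat_lit 0, nat_lit 0, nat_lit 0, nat_lit 0, nat_lit 0, nat_lit 0, nat_lit 0, nat_lit 0, nat_lit 0, nat_lit 0, nat_lit 0, nat_lit 0, nat_lit 0, nat_lit 0, nat_lit 0]]
theorem k36 : tchk 128 5 16 1 (letN H14.M24c.nets (Nat.xor 18 1)) t35 = true := by decide +kernel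
noncomputable def t37 : List (List Nat) := [[nat_lit 0xff81b4a0000000000000000000000000ff2e0950000000000000000000000000f0d27750000000000000000000000000ccb2ab8c000000000000000000000000aaa4c73a, nat_lit 0, nat_lit 0, nat_lit 0, nat_lit 0, nat_lit 0, nat_lit 0, nat_lit 0, nat_lit 0, nat_lit 0, nat_lit 0, nat_lit 0, nat_lit 0, nat_lit 0, nat_lit 0, nat_lit 0]]
theorem k38 : tchk 128 5 16 1 (letN H14.M24c.nets (Nat.xor 19 1)) t37 = true := by decide +kernel
noncomputable def t39 : List (List Nat) := [[nat_lit 0xff9c6480000000000000000000000000ff611930000000000000000000000000f0baaa70000000000000000000000000cccc873c000000000000000000000000aab3471a, nat_lit 0, nat_lit 0, nat_lit 0, nat_lit 0, nat_lit 0, nat_lit 0, nat_lit 0, nat_lit 0, nat_lit 0, nat_lit 0, nat_lit 0, nat_lit 0, nat_lit 0, nat_lit 0, nat_lit 0]]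
theorem k40 : tchk 128 5 16 1 (letN H14.M24c.nets (Nat.xor 20 1)) t39 = true := by decide +kernel
noncomputable def t41 : List (List Nat) := [[nat_lit 0xffe42620000000000000000000000000ff1a19c0000000000000000000000000f0b3e550000000000000000000000000cccf145c000000000000000000000000aad170ea, nat_lit 0, nat_lit 0, nat_lit 0, nat_lit 0, nat_lit 0, nat_lit 0, nat_lit 0, nat_lit 0, nat_lit 0, nat_lit 0, nat_lit 0, nat_lit 0, nat_lit 0, nat_lit 0, nat_lit 0]]
theorem k42 : tchk 128 5 16 1 (letN H14.M24c.nets (Nat.xor 21 1)) t41 = true := by decide +kernel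
noncomputable def TT : List (List (List Nat)) := [t0, t2, t4, t4, t7, t9, t11, t13, t15, t17, t19, t21, t23, t25, t27, t29, t31, t33, t35, t37, t39, t41]
noncomputable def TC (a c : Nat) : Nat := tabC 128 5 16 H14.M24c.nets 22 TT a c
noncomputable def on : Nat := nat_lit 0x100000000000000000000000000000001000000000000000000000000000000010000000000000000000000000000000100000000000000000000000000000001
noncomputable def F : FK := tabF TC on (nat_lit 0xfffffffffffffffffffffffffffffffe)
instance instF : PtK 24 H14.M24c.nets F := tabF_ok (R := 1) H14.M24c.nets_ok (by decide +kernel) (fa_lt (k := 21) (fa_lt (k := 20) (fa_lt (k := 19) (fa_lt (k := 18) (fa_lt (k := 17) (fa_lt (k := 16) (fa_lt (k := 15) (fa_lt (k := 14) (fa_lt (k := 13) (fa_lt (k := 12) (fa_lt (k := 11) (fa_lt (k := 10) (fa_lt (k := 9) (fa_lt (k := 8) (fa_lt (k := 7) (fa_lt (k := 6) (fa_lt (k := 5) (fa_lt (k := 4) (fa_lt (k := 3) (fa_lt (k := 2) (fa_lt (k := 1) (fa_lt (k := 0) fa_lt0 k1) k3) k5) k6) k8) k10) k12) k14) k16) k18) k20) k22) k24) k26) k28)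 k30) k32) k34) k36) k38) k40) k42) fun _ _ => rfl

end L.KhM24T
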