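import Cfsg.Agent.H14.KhS8T
import Cfsg.Agent.L.KF

/-! Generated certificate (toolsL/cg.hpp). -/
set_option autoImplicit false
set_option maxRecDepth 200000
set_option Elab.async false
set_option linter.unusedVariables false
set_option linter.unusedSectionVars false

namespace L.KhS8
open H14 L.KhS8T
variable {G Ω : Type*} [Group G] [Finite G] [MulAction G Ω]

noncomputable def w0 : Word := [nat_lit 0]
noncomputable def w1 : Word := [nat_lit 2]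
noncomputable def w2 : Word := [nat_lit 4]
noncomputable def w3 : Word := [nat_lit 6]
noncomputable def w4 : Word := [nat_lit 8]
noncomputable def w5 : Word := [nat_lit 10]
noncomputable def w6 : Word := [nat_lit 12]
theorem k7 : orbChk (nat_lit 8) H15.StdSym8.nets F [] (sel [w0, w1, w2, w3, w4, w5, w6] [nat_lit 0, nat_lit 1, nat_lit 2, nat_lit 3, nat_lit 4, nat_lit 5, nat_lit 6]) [dw (nat_lit 0x01), dw (nat_lit 0x03)] (dn (nat_lit 12) (nat_lit 0x1871461050c4083)) (bit (nat_lit 0)) (full (nat_lit 8)) = true := by decide +kernel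
theorem o8 (M : PM G Ω 8 H15.StdSym8.nets) (hN : Nat.card G = 40320) : Orb M ⊤ [] (nat_lit 0) (full (nat_lit 8)) :=
  (Orb.ext le_top (orb_bit ⊤ [] (b := (nat_lit 0)) rfl) k7)
theorem k9 : orbChk (nat_lit 8) H15.StdSym8.nets F [nat_lit 0] (sel [w1, w2, w3, w4, w5, w6] [nat_lit 0, nat_lit 1, nat_lit 2, nat_lit 3, nat_lit 4, nat_lit 5]) [dw (nat_lit 0x01), dw (nat_lit 0x03)] (dn (nat_lit 12) (nat_lit 0x1861451040c3)) (bit (nat_lit 1)) (nat_lit 0xfe) = true := by decide +kernel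
theorem o10 (M : PM G Ω 8 H15.StdSym8.nets) (hN : Nat.card G = 40320) : Orb M ⊤ [nat_lit 0] (nat_lit 1) (nat_lit 0xfe) :=
  (Orb.ext le_top (orb_bit ⊤ [nat_lit 0] (b := (nat_lit 1)) rfl) k9)
theorem k11 : orbChk (nat_lit 8) H15.StdSym8.nets F [nat_lit 1, nat_lit 0] (sel [w2, w3, w4, w5, w6] [nat_lit 0, nat_lit 1, nat_lit 2, nat_lit 3, nat_lit 4]) [dw (nat_lit 0x01)] (dn (nat_lit 12) (nat_lit 0x1851441030c2)) (bit (nat_lit 2)) (nat_lit 0xfc) = true := by decide +kernel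
theorem o12 (M : PM G Ω 8 H15.StdSym8.nets) (hN : Nat.card G = 40320) : Orb M ⊤ [nat_lit 1, nat_lit 0] (nat_lit 2) (nat_lit 0xfc) :=
  (Orb.ext le_top (orb_bit ⊤ [nat_lit 1, nat_lit 0] (b := (nat_lit 2)) rfl) k11)
theorem k13 : orbChk (nat_lit 8) H15.StdSym8.nets F [nat_lit 2, nat_lit 1, nat_lit 0] (sel [w3, w4, w5, w6] [nat_lit 0, nat_lit 1, nat_lit 2, nat_lit 3]) [dw (nat_lit 0x01)] (dn (nat_lit 12) (nat_lit 0x184143102)) (bit (nat_lit 3)) (nat_lit 0xf8) = true := by decide +kernel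
theorem o14 (M : PM G Ω 8 H15.StdSym8.nets) (hN : Nat.card G = 40320) : Orb M ⊤ [nat_lit 2, nat_lit 1, nat_lit 0] (nat_lit 3) (nat_lit 0xf8) :=
  (Orb.ext le_top (orb_bit ⊤ [nat_lit 2, nat_lit 1, nat_lit 0] (b := (nat_lit 3)) rfl) k13)
theorem k15 : orbChk (nat_lit 8) H15.StdSym8.nets F [nat_lit 3, nat_lit 2, nat_lit 1, nat_lit 0] (sel [w4, w5, w6] [nat_lit 0, nat_lit 1, nat_lit 2]) [] (dn (nat_lit 12) (nat_lit 0x183142101)) (bit (nat_lit 4)) (nat_lit 0xf0) = true := by decide +kernel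
theorem o16 (M : PM G Ω 8 H15.StdSym8.nets) (hN : Nat.card G = 40320) : Orb M ⊤ [nat_lit 3, nat_lit 2, nat_lit 1, nat_lit 0] (nat_lit 4) (nat_lit 0xf0) :=
  (Orb.ext le_top (orb_bit ⊤ [nat_lit 3, nat_lit 2, nat_lit 1, nat_lit 0] (b := (nat_lit 4)) rfl) k15)
theorem k17 : orbChk (nat_lit 8) H15.StdSym8.nets F [nat_lit 4, nat_lit 3, nat_lit 2, nat_lit 1, nat_lit 0] (sel [w5, w6] [nat_lit 0, nat_lit 1]) [] (dn (nat_lit 12) (nat_lit 0x182141)) (bit (nat_lit 5)) (nat_lit 0xe0) = true := by decide +kernel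
theorem o18 (M : PM G Ω 8 H15.StdSym8.nets) (hN : Nat.card G = 40320) : Orb M ⊤ [nat_lit 4, nat_lit 3, nat_lit 2, nat_lit 1, nat_lit 0] (nat_lit 5) (nat_lit 0xe0) :=
  (Orb.ext le_top (orb_bit ⊤ [nat_lit 4, nat_lit 3, nat_lit 2, nat_lit 1, nat_lit 0] (b := (nat_lit 5)) rfl) k17)
theorem k19 : orbChk (nat_lit 8) H15.StdSym8.nets F [nat_lit 5, nat_lit 4, nat_lit 3, nat_lit 2, nat_lit 1, nat_lit 0] (sel [w6] [nat_lit 0]) [] (dn (nat_lit 12) (nat_lit 0x181)) (bit (nat_lit 6)) (nat_lit 0xc0) = true := by decide +kernel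
theorem o20 (M : PM G Ω 8 H15.StdSym8.nets) (hN : Nat.card G = 40320) : Orb M ⊤ [nat_lit 5, nat_lit 4, nat_lit 3, nat_lit 2, nat_lit 1, nat_lit 0] (nat_lit 6) (nat_lit 0xc0) :=
  (Orb.ext le_top (orb_bit ⊤ [nat_lit 5, nat_lit 4, nat_lit 3, nat_lit 2, nat_lit 1, nat_lit 0] (b := (nat_lit 6)) rfl) k19)
noncomputable def c21 : Chn := [((nat_lit 0), (full (nat_lit 8))), ((nat_lit 1), (nat_lit 0xfe)), ((nat_lit 2), (nat_lit 0xfc)), ((nat_lit 3), (nat_lit 0xf8)), ((nat_lit 4), (nat_lit 0xf0)), ((nat_lit 5), (nat_lit 0xe0)), ((nat_lit 6), (nat_lit 0xc0))]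
theorem k22 : Nat.ble 40320 (cval (nat_lit 8) c21) = true := by decide +kernel
theorem e23 (M : PM G Ω 8 H15.StdSym8.nets) (hN : Nat.card G = 40320) : EC M ⊤ [] c21 :=
  ec_top (c := c21) ⟨(o8 M hN), ⟨(o10 M hN), ⟨(o12 M hN), ⟨(o14 M hN), ⟨(o16 M hN), ⟨(o18 M hN), ⟨(o20 M hN), trivial⟩⟩⟩⟩⟩⟩⟩ hN k22
noncomputable def bs0 : List Nat := [nat_lit 0, nat_lit 1, nat_lit 2, nat_lit 3, nat_lit 4, nat_lit 5, nat_lit 6]
theorem base0 (M : PM G Ω 8 H15.StdSym8.nets) (hN : Nat.card G = 40320) : IsBase M bs0 :=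
  base_of_ec (e23 M hN) (by decide +kernel)

end L.KhS8
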