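import Cfsg.Agent.L.KA
import Cfsg.Agent.H15.StdSym8

/-! Generated certificate (toolsL/cg.hpp). -/
set_option autoImplicit false
set_option maxRecDepth 200000
set_option Elab.async false
set_option linter.unusedVariables false
set_option linter.unusedSectionVars false

namespace L.KhS8T
open H14 
variable {G Ω : Type*} [Group G] [Finite G] [MulAction G Ω]

noncomputable def t0 : List (List Nat) := [[nat_lit 0xf0000000000000000000000000000000cc000000000000000000000000000000a9, nat_lit 0, nat_lit 0, nat_lit 0, nat_lit 0, nat_lit 0, nat_lit 0, nat_lit 0, nat_lit 0, nat_lit 0, nat_lit 0, nat_lit 0, nat_lit 0, nat_lit 0, nat_lit 0, nat_lit 0]]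
theorem k1 : tchk 128 3 16 1 (letN H15.StdSym8.nets (Nat.xor 0 1)) t0 = true := by decide +kernel
theorem k2 : tchk 128 3 16 1 (letN H15.StdSym8.nets (Nat.xor 1 1)) t0 = true := by decide +kernel
noncomputable def t3 : List (List Nat) := [[nat_lit 0xf0000000000000000000000000000000ca000000000000000000000000000000ac, nat_lit 0, nat_lit 0, nat_lit 0, nat_lit 0, nat_lit 0, nat_lit 0, nat_lit 0, nat_lit 0, nat_lit 0, nat_lit 0, nat_lit 0, nat_lit 0, nat_lit 0, nat_lit 0, nat_lit 0]]
theorem k4 : tchk 128 3 16 1 (letN H15.StdSym8.nets (Nat.xor 2 1)) t3 = true := by decide +kernel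
theorem k5 : tchk 128 3 16 1 (letN H15.StdSym8.nets (Nat.xor 3 1)) t3 = true := by decide +kernel
noncomputable def t6 : List (List Nat) := [[nat_lit 0xf0000000000000000000000000000000cc000000000000000000000000000000a6, nat_lit 0, nat_lit 0, nat_lit 0, nat_lit 0, nat_lit 0, nat_lit 0, nat_lit 0, nat_lit 0, nat_lit 0, nat_lit 0, nat_lit 0, nat_lit 0, nat_lit 0, nat_lit 0, nat_lit 0]]
theorem k7 : tchk 128 3 16 1 (letN H15.StdSym8.nets (Nat.xor 4 1)) t6 = true := by decide +kernel
theorem k8 : tchk 128 3 16 1 (letN H15.StdSym8.nets (Nat.xor 5 1)) t6 = true := by decide +kernel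
noncomputable def t9 : List (List Nat) := [[nat_lit 0xe8000000000000000000000000000000d4000000000000000000000000000000b2, nat_lit 0, nat_lit 0, nat_lit 0, nat_lit 0, nat_lit 0, nat_lit 0, nat_lit 0, nat_lit 0, nat_lit 0, nat_lit 0, nat_lit 0, nat_lit 0, nat_lit 0, nat_lit 0, nat_lit 0]]
theorem k10 : tchk 128 3 16 1 (letN H15.StdSym8.nets (Nat.xor 6 1)) t9 = true := by decide +kernel
theorem k11 : tchk 128 3 16 1 (letN H15.StdSym8.nets (Nat.xor 7 1)) t9 = true := by decide +kernel
noncomputable def t12 : List (List Nat) := [[nat_lit 0xf0000000000000000000000000000000cc0000000000000000000000000000009a, nat_lit 0, nat_lit 0, nat_lit 0, nat_lit 0, nat_lit 0, nat_lit 0, nat_lit 0, nat_lit 0, nat_lit 0, nat_lit 0, nat_lit 0, nat_lit 0, nat_lit 0, nat_lit 0, nat_lit 0]]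
theorem k13 : tchk 128 3 16 1 (letN H15.StdSym8.nets (Nat.xor 8 1)) t12 = true := by decide +kernel
theorem k14 : tchk 128 3 16 1 (letN H15.StdSym8.nets (Nat.xor 9 1)) t12 = true := by decide +kernel
noncomputable def t15 : List (List Nat) := [[nat_lit 0xf0000000000000000000000000000000ac000000000000000000000000000000ca, nat_lit 0, nat_lit 0, nat_lit 0, nat_lit 0, nat_lit 0, nat_lit 0, nat_lit 0, nat_lit 0, nat_lit 0, nat_lit 0, nat_lit 0, nat_lit 0, nat_lit 0, nat_lit 0, nat_lit 0]]
theorem k16 : tchk 128 3 16 1 (letN H15.StdSym8.nets (Nat.xor 10 1)) t15 = true := by decide +kernel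
theorem k17 : tchk 128 3 16 1 (letN H15.StdSym8.nets (Nat.xor 11 1)) t15 = true := by decide +kernel
noncomputable def t18 : List (List Nat) := [[nat_lit 0xf0000000000000000000000000000000cc0000000000000000000000000000006a, nat_lit 0, nat_lit 0, nat_lit 0, nat_lit 0, nat_lit 0, nat_lit 0, nat_lit 0, nat_lit 0, nat_lit 0, nat_lit 0, nat_lit 0, nat_lit 0, nat_lit 0, nat_lit 0, nat_lit 0]]
theorem k19 : tchk 128 3 16 1 (letN H15.StdSym8.nets (Nat.xor 12 1)) t18 = true := by decide +kernel
theorem k20 : tchk 128 3 16 1 (letN H15.StdSym8.nets (Nat.xor 13 1)) t18 = true := by decide +kernel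
noncomputable def TT : List (List (List Nat)) := [t0, t0, t3, t3, t6, t6, t9, t9, t12, t12, t15, t15, t18, t18]
noncomputable def TC (a c : Nat) : Nat := tabC 128 3 16 H15.StdSym8.nets 14 TT a c
noncomputable def on : Nat := nat_lit 0x10000000000000000000000000000000100000000000000000000000000000001
noncomputable def F : FK := tabF TC on (nat_lit 0xfffffffffffffffffffffffffffffffe)
instance instF : PtK 8 H15.StdSym8.nets F := tabF_ok (R := 1) H15.StdSym8.nets_ok (by decide +kernel) (fa_lt (k := 13) (fa_lt (k := 12) (fa_lt (k := 11) (fa_lt (k := 10) (fa_lt (k := 9) (fa_lt (k := 8) (fa_lt (k := 7) (fa_lt (k := 6) (fa_lt (k := 5) (fa_lt (k := 4) (fa_lt (k := 3) (fa_lt (k := 2) (fa_lt (k := 1) (fa_lt (k := 0) fa_lt0 k1) k2) k4) k5) k7) k8) k10) k11) k13) k14) k16) k17) k19) k20) fun _ _ => rfl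

end L.KhS8T
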