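import Cfsg.Agent.H14.Amal
import Cfsg.Agent.H15.BM

/-! Labelled coset enumeration with fixed lifts: if the relators `Kn` hold for lifts `x` whose first `k`
letters lie in a section, then all relators `R` hold (`Kill`, `kill_of`). -/

set_option autoImplicit false

namespace H14
open Cfsg L

/-- relators as relations -/
noncomputable def toRels (l : List Word) : List (Word × Word) := List.map (fun w => (w, [])) l

theorem Rels.of_toRels {G : Type*} [Group G] {x : ℕ → G} {l : List Word} (h : Rels x (toRels l)) :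
    ∀ w ∈ l, ev x w = 1 := fun w hw => h (w, []) (List.mem_map_of_mem hw)

theorem rels_app {c : H15.BP} {Ms : List (ℕ × ℕ)} {l l' : List Word} (h : c.rels Ms (toRels l) = true)
    (h' : c.rels Ms (toRels l') = true) : c.rels Ms (toRels (l ++ l')) = true := by
  simp only [H15.BP.rels, toRels, List.map_append, List.all_append, Bool.and_eq_true] at *
  exact ⟨h, h'⟩

/-- the relators `R` hold for lifts satisfying `Kn` -/
def Kill (m k : ℕ) (Kn R : List Word) : Prop :=
  ∀ {Γ G : Type} [Group Γ] [Group G] {σ : Γ →* G}, CE σ m → ∀ (x : ℕ → Γ) (N : Subgroup Γ),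
    (∀ n ∈ N, σ n = 1 → n = 1) → (∀ y < k, x y ∈ N) → (∀ w ∈ Kn, ev x w = 1) →
    (∀ w ∈ R, σ (ev x w) = 1) → ∀ w ∈ R, ev x w = 1

/-- the label checks -/
noncomputable def killChk (T : Tbl) (k : ℕ) (B : Lab) (Kn U : List Word) (Q : List (List ℕ))
    (its : List It) : Bool :=
  band B.wf (band (T.subLab B k) (band (linChk B its Q) (allL (fun it => @Nat.rec (fun _ => Bool)
    (allL (fun l => Nat.ble (Nat.succ l) (Nat.mul 2 k)) it.r)
    (fun i _ => @Nat.rec (fun _ => Bool) (List.elem it.r Kn)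
      (fun j _ => band (Nat.ble (Nat.succ j) B.s) (List.elem it.r [nth [] U j])) i) it.tag) its)))

theorem kill_of {T : Tbl} {B : Lab} {K k : ℕ} {sched : List ℕ} {its : List It} {Kn U : List Word}
    {Q : List (List ℕ)} (hs : T.Skel K k sched (its.map It.sk)) (h1 : allL (T.itChk B) its = true)
    (h2 : killChk T k B Kn U Q its = true) : Kill B.m k Kn (List.map It.r its) := by
  intro Γ G _ _ σ hσ x N hN a2 a3 hR
  obtain ⟨hB, h2⟩ := band_iff.1 h2
  obtain ⟨h2, h3⟩ := band_iff.1 h2
  obtain ⟨h3, h6⟩ := band_iff.1 h3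
  let : CommGroup σ.ker := H21.commGroupOfLeCenter hσ.cent
  classical
  let z : ℕ → σ.ker := fun j => if h : ev x (nth [] U j) ∈ σ.ker then ⟨_, h⟩ else 1
  have hz : ∀ j, z j ^ B.m = 1 := fun j => Subtype.ext (hσ.exp _ (z j).2)
  have hr : ∀ it ∈ its, ev x it.r = σ.ker.subtype (psi B.s z fun j => evec it.tag j) := by
    intro it hi
    have h7 := allL_iff.1 h6 it hi
    have hk : ev x it.r ∈ σ.ker := hR _ (List.mem_map_of_mem hi)
    have h0 : it.tag < 2 → σ.ker.subtype (psi B.s z fun j => evec it.tag j) = 1 := fun hh => by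
      rw [psi_congr' z (w := fun _ => 0) fun j _ => by rw [evec_eq, if_neg (by omega)]; rfl,
        psi_zero, map_one]
    rcases ht : it.tag with _ | _ | j
    · rw [← ht, h0 (by omega)]
      rw [ht] at h7
      exact hN _ (ev_mem a2 fun l hl => Nat.le_of_ble_eq_true (allL_iff.1 h7 l hl)) hk
    · rw [← ht, h0 (by omega)]
      rw [ht] at h7
      exact a3 _ (List.mem_of_elem_eq_true h7)
    · rw [ht] at h7
      obtain ⟨h8, h9⟩ := band_iff.1 h7
      have e1 : it.r = nth [] U j := List.mem_singleton.1 (List.mem_of_elem_eq_true h9)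
      rw [psi_congr' z (w := fun i => if i = j then 1 else 0) fun i _ => by
        rw [evec_eq]
        by_cases hh : i = j
        · rw [if_pos hh, if_pos (by omega)]; rfl
        · rw [if_neg hh, if_neg (by omega)]; rfl, psi_single (Nat.le_of_ble_eq_true h8)]
      rw [e1] at hk ⊢
      show _ = ((z j : σ.ker) : Γ)
      simp only [z, dif_pos hk]
  have hz1 := Tbl.lab_kill hs hB h1 h2 h3 σ.ker.subtype (fun a => hσ.cent a.2) z hz x N a2
    (fun a ha => Subtype.ext (hN _ ha a.2)) hr
  intro w hw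
  obtain ⟨it, hi, rfl⟩ := List.mem_map.1 hw
  refine (hr it hi).trans ?_
  have : (psi B.s z fun j => evec it.tag j) = 1 :=
    Finset.prod_eq_one fun j hj => by rw [hz1 j (Finset.mem_range.1 hj), one_zpow]
  rw [this, map_one]

/-- the same in global letters: `Kg`, `Rg` are relators that hold upstairs, downstairs -/
theorem Kill.glob {m k : ℕ} {Kn R : List Word} (h : Kill m k Kn R) {Γ G : Type} [Group Γ] [Group G]
    {σ : Γ →* G} (hσ : CE σ m) {x : ℕ → Γ} {N : Subgroup Γ} (hN : ∀ n ∈ N, σ n = 1 → n = 1)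
    {ws Kg Rg : List Word} {j : ℕ} (hx : ∀ y < j, x y ∈ N) (hK : ∀ w ∈ Kg, ev x w = 1)
    (hR : ∀ w ∈ Rg, σ (ev x w) = 1)
    (hc : band (allN (fun y => allL (fun l => Nat.ble (Nat.succ l) (Nat.mul 2 j)) (getL [] ws y)) k)
      (band (allL (fun w => List.elem (flat ws w) Kg) Kn)
        (allL (fun w => List.elem (flat ws w) (List.append Kg Rg)) R)) = true) :
    ∀ w ∈ List.map (flat ws) R, ev x w = 1 := by
  obtain ⟨h1, h2⟩ := band_iff.1 hc
  obtain ⟨h2, h3⟩ := band_iff.1 h2
  intro w hw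
  obtain ⟨v, hv, rfl⟩ := List.mem_map.1 hw
  rw [ev_flat]
  refine h hσ (loc x ws) N hN (fun y hy => ev_mem hx fun l hl =>
    Nat.le_of_ble_eq_true (allL_iff.1 (allN_iff.1 h1 y hy) l hl)) (fun w hw => ?_) (fun w hw => ?_) v hv
  · rw [← ev_flat]; exact hK _ (List.mem_of_elem_eq_true (allL_iff.1 h2 w hw))
  · rw [← ev_flat]
    rcases List.mem_append.1 (List.mem_of_elem_eq_true (allL_iff.1 h3 w hw)) with a | a
    · rw [hK _ a, map_one]
    · exact hR _ a

end H14
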