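import Cfsg.Agent.H14.LBD

/-! Generated certificate (tools14/pkgen) for the permutation group LB of degree 196560, order 1, base. -/
set_option Elab.async false
set_option autoImplicit false
set_option maxRecDepth 100000
set_option maxHeartbeats 0

namespace H14.LB
open H14

theorem co2 : coChk R2 = true := by decide +kernel
theorem lf2 : lfChk 196560 n2 R2 X = true := by decide +kernel
theorem co3 : coChk R3 = true := by decide +kernel
theorem lf3 : lfChk 196560 n3 R3 X = true := by decide +kernel
theorem co4 : coChk R4 = true := by decide +kernel

end H14.LB
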