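import Cfsg.Agent.H14.LBD

/-! Generated certificate (tools14/pkgen) for the permutation group LB of degree 196560, order 1, base. -/
set_option Elab.async false
set_option autoImplicit false
set_option maxRecDepth 100000
set_option maxHeartbeats 0

namespace H14.LB
open H14

theorem lf4 : lfChk 196560 n4 R4 X = true := by decide +kernel
theorem seed_ok : seedChk 196560 X ss = true := by decide +kernel
theorem colO : colChk X 58 0x828080808080828080828080808080808080828082828282 = true := by decide +kernel
theorem colT : colChk X 60585 0x7d8181818181818181818181818181818181818181818181 = true := by decide +kernel
theorem rc0 : relsChk 196560 nets 18 (idArr 196560 18 18 0) allRels = true := by decide +kernel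

end H14.LB
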