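import Cfsg.Agent.H14.LBC0
import Cfsg.Agent.H14.LBC1
import Cfsg.Agent.H14.LBC2

/-! Generated certificate (tools14/pkgen) for the permutation group LB of degree 196560, order 1, base. -/
set_option autoImplicit false
set_option maxRecDepth 100000
set_option maxHeartbeats 0

namespace H14.LB
open H14

section
variable {Γ Ω : Type*} [Group Γ] [MulAction Γ Ω] (M : PM Γ Ω 196560 nets)

theorem all_ok (hs : M.Sep 18 (idArr 196560 18 18 0)) : Rels M.gen allRels := (M.rels_of_chk hs rc0)
theorem sep [FaithfulSMul Γ Ω] : M.Sep 18 (idArr 196560 18 18 0) := M.sep_idArr (by decide)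
theorem all_ok' [FaithfulSMul Γ Ω] : Rels M.gen allRels := all_ok M (sep M)
theorem rels_of_all {gen : ℕ → Γ} (h : Rels gen allRels) : Rels gen rels := Rels.left h
theorem relsD_of_all {gen : ℕ → Γ} (h : Rels gen allRels) : Rels gen relsD := Rels.left (Rels.right h)
theorem relsO_of_all {gen : ℕ → Γ} (h : Rels gen allRels) : Rels gen relsO := Rels.left (Rels.right (Rels.right h))
theorem relsS_of_all {gen : ℕ → Γ} (h : Rels gen allRels) : Rels gen relsS := Rels.right (Rels.right (Rels.right h))
theorem card0 (_hR : Rels M.gen rels) : Nat.card (sub M.gen ws0) = 1 := M.card_nil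
theorem fixw0 (_hR : Rels M.gen rels) : M.FixTriv ws0 [] := M.fixTriv_nil

end

end H14.LB
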