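import Cfsg.Agent.H14.LBD

/-! Generated certificate (tools14/pkgen) for the permutation group LB of degree 196560, order 1, base. -/
set_option Elab.async false
set_option autoImplicit false
set_option maxRecDepth 100000
set_option maxHeartbeats 0

namespace H14.LB
open H14

theorem reach_ok : subs (full 196560) (orbRun nets (lets 5) reach (bits (List.map Prod.fst ss))) = true := by decide +kernel
theorem orb16_ok : subs ( clsV 196560 X 0x848080808080808080808080808080808080808080808084 16) (orbRun nets (lets 4) orb16 (bit 1)) = true := by decide +kernel
theorem orb8_ok : subs ( clsV 196560 X 0x848080808080808080808080808080808080808080808084 8) (orbRun nets (lets 4) orb8 (bit 26)) = true := by decide +kernel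
theorem orb0_ok : subs ( clsV 196560 X 0x848080808080808080808080808080808080808080808084 0) (orbRun nets (lets 4) orb0 (bit 8)) = true := by decide +kernel
theorem co0 : coChk R0 = true := by decide +kernel
theorem lf0 : lfChk 196560 n0 R0 X = true := by decide +kernel
theorem co1 : coChk R1 = true := by decide +kernel
theorem lf1 : lfChk 196560 n1 R1 X = true := by decide +kernel

end H14.LB
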