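import Cfsg.Agent.H14.OrbitPM
import Mathlib.Data.ZMod.Basic

/-! Bit-sliced arithmetic modulo 15.  A `Q` holds four bit planes; `x.at i : ZMod 15` is the value
in column `i`.  `Q.add`, `Q.rot` (times 2), `Q.neg`, `Q.mac` (multiply-accumulate), `ipQ` (linear
form of a list of `Q`s), `Q.eqc` (columns with a given value). -/

set_option autoImplicit false

namespace H14

structure Q where
  a : Nat
  b : Nat
  c : Nat
  d : Nat

namespace Q

/-- The value of four bits. -/
def bv (a b c d : Bool) : ℕ := a.toNat + 2 * b.toNat + 4 * c.toNat + 8 * d.toNat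

/-- The value in column `i`. -/
def «at» (x : Q) (i : ℕ) : ZMod 15 :=
  (bv (x.a.testBit i) (x.b.testBit i) (x.c.testBit i) (x.d.testBit i) : ℕ)

def bt (x i : Nat) : Nat := Nat.land (Nat.shiftRight x i) 1

theorem bt_eq (x i : ℕ) : bt x i = (x.testBit i).toNat := by
  have : bt x i = (x >>> i) &&& 1 := rfl
  rw [this, Nat.and_one_is_mod, Nat.toNat_testBit, Nat.shiftRight_eq_div_pow]

/-- The value in column `i`, for the kernel. -/
def val (x : Q) (i : Nat) : Nat :=
  Nat.mod (Nat.add (Nat.add (Nat.add (bt x.a i) (Nat.mul 2 (bt x.b i))) (Nat.mul 4 (bt x.c i)))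
    (Nat.mul 8 (bt x.d i))) 15

theorem val_lt (x : Q) (i : ℕ) : x.val i < 15 := Nat.mod_lt _ (by norm_num)

theorem cast_val (x : Q) (i : ℕ) : (x.val i : ZMod 15) = x.at i := by
  have : x.val i = (bt x.a i + 2 * bt x.b i + 4 * bt x.c i + 8 * bt x.d i) % 15 := rfl
  rw [this, ZMod.natCast_mod, bt_eq, bt_eq, bt_eq, bt_eq]; rfl

def zero : Q := ⟨0, 0, 0, 0⟩
def rot (x : Q) : Q := ⟨x.d, x.a, x.b, x.c⟩
def neg (m : Nat) (x : Q) : Q := ⟨Nat.xor x.a m, Nat.xor x.b m, Nat.xor x.c m, Nat.xor x.d m⟩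

def add (x y : Q) : Q :=
  (fun s0 c0 t1 t2 t3 =>
    (fun c1 => (fun c2 => (fun c3 s1 s2 s3 =>
      (fun k0 => (fun k1 =>
        (⟨Nat.xor s0 c3, Nat.xor s1 k0, Nat.xor s2 k1, Nat.xor s3 (Nat.land s2 k1)⟩ : Q))
        (Nat.land s1 k0)) (Nat.land s0 c3))
      (Nat.lor (Nat.land x.d y.d) (Nat.land t3 c2)) (Nat.xor t1 c0) (Nat.xor t2 c1) (Nat.xor t3 c2))
      (Nat.lor (Nat.land x.c y.c) (Nat.land t2 c1)))
      (Nat.lor (Nat.land x.b y.b) (Nat.land t1 c0)))
    (Nat.xor x.a y.a) (Nat.land x.a y.a) (Nat.xor x.b y.b) (Nat.xor x.c y.c) (Nat.xor x.d y.d)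

/-- Replace the code `15` by `0`. -/
def nrm (x : Q) : Q :=
  (fun t => (⟨Nat.xor x.a t, Nat.xor x.b t, Nat.xor x.c t, Nat.xor x.d t⟩ : Q))
    (Nat.land (Nat.land x.a x.b) (Nat.land x.c x.d))

/-- Evaluate the four planes. -/
noncomputable def frc {α : Type} (x : Q) (k : α) : α :=
  H14.frc x.a (H14.frc x.b (H14.frc x.c (H14.frc x.d k)))

@[simp] theorem frc_eq {α : Type} (x : Q) (k : α) : x.frc k = k := by simp [frc]

theorem tx (x y i : ℕ) : (Nat.xor x y).testBit i = (x.testBit i ^^ y.testBit i) := Nat.testBit_xor ..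
theorem ta (x y i : ℕ) : (Nat.land x y).testBit i = (x.testBit i && y.testBit i) := Nat.testBit_and ..
theorem to' (x y i : ℕ) : (Nat.lor x y).testBit i = (x.testBit i || y.testBit i) := Nat.testBit_or ..

@[simp] theorem at_zero (i : ℕ) : zero.at i = 0 := by simp [«at», zero, bv]

theorem at_rot (x : Q) (i : ℕ) : x.rot.at i = 2 * x.at i := by
  simp only [«at», rot]
  generalize x.a.testBit i = a, x.b.testBit i = b, x.c.testBit i = c, x.d.testBit i = d
  revert a b c d; decide +kernel

theorem at_neg {m i : ℕ} (h : m.testBit i = true) (x : Q) : (x.neg m).at i = -x.at i := by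
  simp only [«at», neg, tx, h]
  generalize x.a.testBit i = a, x.b.testBit i = b, x.c.testBit i = c, x.d.testBit i = d
  revert a b c d; decide +kernel

theorem at_add (x y : Q) (i : ℕ) : (x.add y).at i = x.at i + y.at i := by
  simp only [«at», add, tx, ta, to']
  generalize x.a.testBit i = a, x.b.testBit i = b, x.c.testBit i = c, x.d.testBit i = d,
    y.a.testBit i = a', y.b.testBit i = b', y.c.testBit i = c', y.d.testBit i = d'
  revert a b c d a' b' c' d'; decide +kernel

theorem at_nrm (x : Q) (i : ℕ) : x.nrm.at i = x.at i := by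
  simp only [«at», nrm, tx, ta]
  generalize x.a.testBit i = a, x.b.testBit i = b, x.c.testBit i = c, x.d.testBit i = d
  revert a b c d; decide +kernel

/-- `acc + x` if `t = 1`. -/
noncomputable def cadd (t : Nat) (x acc : Q) : Q :=
  @Bool.rec (fun _ => Q) (acc.add x) acc (Nat.beq t 0)

theorem at_cadd (c j : ℕ) (x acc : Q) (i : ℕ) :
    (cadd (bt c j) x acc).at i = acc.at i + (c.testBit j).toNat * x.at i := by
  rw [bt_eq]
  cases c.testBit j
  · show acc.at i = _; simp
  · show (acc.add x).at i = _; simp [at_add]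

noncomputable def macP (c : Nat) (x acc : Q) : Q :=
  cadd (bt c 3) x.rot.rot.rot (cadd (bt c 2) x.rot.rot (cadd (bt c 1) x.rot (cadd (bt c 0) x acc)))

theorem at_macP {c : ℕ} (hc : c < 16) (x acc : Q) (i : ℕ) :
    (macP c x acc).at i = acc.at i + c * x.at i := by
  have : (c : ZMod 15) = (c.testBit 0).toNat + 2 * (c.testBit 1).toNat + 4 * (c.testBit 2).toNat +
      8 * (c.testBit 3).toNat := by revert c; decide +kernel
  rw [macP, at_cadd, at_cadd, at_cadd, at_cadd, at_rot, at_rot, at_rot, at_rot, at_rot, at_rot, this]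
  ring

/-- `acc + c x` for `c < 15`. -/
noncomputable def mac (m c : Nat) (x acc : Q) : Q :=
  @Bool.rec (fun _ => Q) (macP c x acc) (macP (Nat.sub 15 c) (x.neg m) acc) (tb 0x6880 c)

theorem at_mac {m i : ℕ} (h : m.testBit i = true) {c : ℕ} (hc : c < 15) (x acc : Q) :
    (mac m c x acc).at i = acc.at i + c * x.at i := by
  unfold mac
  cases tb 0x6880 c
  · exact at_macP (by omega) x acc i
  · show (macP (15 - c) (x.neg m) acc).at i = _
    rw [at_macP (by omega), at_neg h, Nat.cast_sub hc.le, show ((15 : ℕ) : ZMod 15) = 0 from rfl]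
    ring

/-- `p` if `t = 1`, else the complement. -/
noncomputable def sel (m t p : Nat) : Nat := @Bool.rec (fun _ => Nat) p (Nat.xor p m) (Nat.beq t 0)

theorem testBit_sel {m i : ℕ} (h : m.testBit i = true) (c j p : ℕ) :
    (sel m (bt c j) p).testBit i = (p.testBit i == c.testBit j) := by
  rw [bt_eq]
  cases c.testBit j
  · show (Nat.xor p m).testBit i = _; rw [tx, h]; cases p.testBit i <;> rfl
  · show p.testBit i = _; simp

/-- The columns with value `c < 15`. -/
noncomputable def eqc (m : Nat) (x : Q) (c : Nat) : Nat :=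
  (fun y : Q => Nat.land (Nat.land (sel m (bt c 0) y.a) (sel m (bt c 1) y.b))
    (Nat.land (sel m (bt c 2) y.c) (sel m (bt c 3) y.d))) x.nrm

theorem testBit_eqc {m i : ℕ} (h : m.testBit i = true) (x : Q) {c : ℕ} (hc : c < 15) :
    (eqc m x c).testBit i = true ↔ x.at i = c := by
  simp only [eqc, ta, testBit_sel h, nrm, tx, «at»]
  generalize x.a.testBit i = a, x.b.testBit i = b, x.c.testBit i = c', x.d.testBit i = d
  revert c a b c' d; decide +kernel

/-- The network maps the columns of `x` to those of `y`. -/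
noncomputable def runEq (T : Net) (x y : Q) : Bool :=
  Nat.beq (T.run x.a) y.a && (Nat.beq (T.run x.b) y.b && (Nat.beq (T.run x.c) y.c &&
    Nat.beq (T.run x.d) y.d))

theorem at_of_runEq {n : ℕ} {T : Net} (hT : T.ok n = true) {x y : Q} (h : runEq T x y = true)
    (i : ℕ) : y.at (T.pt i) = x.at i := by
  simp only [runEq, Bool.and_eq_true] at h
  rw [«at», ← Nat.eq_of_beq_eq_true h.1, ← Nat.eq_of_beq_eq_true h.2.1,
    ← Nat.eq_of_beq_eq_true h.2.2.1, ← Nat.eq_of_beq_eq_true h.2.2.2]
  simp only [Net.testBit_run hT, «at»]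

end Q

/-- `acc + ∑ c (q + j) X[j]`. -/
noncomputable def ipA (m : Nat) (c : Nat → Nat) (X : List Q) : Nat → Q → Q :=
  @List.rec Q (fun _ => Nat → Q → Q) (fun _ acc => acc)
    (fun x _ ih q acc => (fun y : Q => y.frc (ih (Nat.succ q) y)) (Q.mac m (c q) x acc)) X

/-- The linear form with coefficients `c` on the list `X`. -/
noncomputable def ipQ (m : Nat) (c : Nat → Nat) (X : List Q) : Q := ipA m c X 0 Q.zero

theorem at_ipA {m i : ℕ} (h : m.testBit i = true) {c : ℕ → ℕ} (hc : ∀ q, c q < 15) (X : List Q)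
    (q : ℕ) (acc : Q) : (ipA m c X q acc).at i =
      acc.at i + ∑ j ∈ Finset.range X.length, (c (q + j) : ZMod 15) * (getL Q.zero X j).at i := by
  induction X generalizing q acc with
  | nil => simp [ipA]
  | cons x X ih =>
    have e : ipA m c (x :: X) q acc = ipA m c X (q + 1) (Q.mac m (c q) x acc) := Q.frc_eq _ _
    rw [e, ih, Q.at_mac h (hc q), List.length_cons, Finset.sum_range_succ']
    simp only [getL_succ, getL_zero, add_zero, add_assoc, add_comm 1]
    ring

theorem at_ipQ {m i : ℕ} (h : m.testBit i = true) {c : ℕ → ℕ} (hc : ∀ q, c q < 15) (X : List Q) :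
    (ipQ m c X).at i = ∑ j ∈ Finset.range X.length, (c j : ZMod 15) * (getL Q.zero X j).at i := by
  rw [ipQ, at_ipA h hc]; simp

/-- The columns equal to column `s`. -/
noncomputable def clsQ (m : Nat) (X : List Q) (s : Nat) : Nat :=
  @List.rec Q (fun _ => Nat) m (fun x _ ih => Nat.land (x.eqc m (x.val s)) ih) X

theorem testBit_clsQ {m i : ℕ} (h : m.testBit i = true) (X : List Q) (s : ℕ)
    (e : ∀ q < X.length, (getL Q.zero X q).at i = (getL Q.zero X q).at s) :
    (clsQ m X s).testBit i = true := by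
  induction X with
  | nil => exact h
  | cons x X ih =>
    have e1 : clsQ m (x :: X) s = Nat.land (x.eqc m (x.val s)) (clsQ m X s) := rfl
    rw [e1, Q.ta, ih fun q hq => e (q + 1) (by simpa using hq), Bool.and_true,
      Q.testBit_eqc h x (x.val_lt s), Q.cast_val]
    exact e 0 (by simp)

end H14
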