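import Cfsg.Agent.H14.LeechShape
import Cfsg.Agent.H14.Q15
import Cfsg.Agent.H14.Fam0

/-! Kernel computation in the Leech lattice.  Vectors are packed in bytes (`bv m q`, `vecN m : V`,
`lv m h : Λ` with the test `leechB`); `coOf R h : Co0` is the automorphism with the integer matrix
`8 g = R` (test `coChk`); families of short vectors are given by their coordinates modulo 15
(`Rs X x i`, `lfChk`, `leech_fam`); inner products in bulk (`ipV`, `ipC`, `clsV`), counting
(`LF.ncard`), faithfulness (`eq_one_of_span3`). -/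

set_option autoImplicit false

namespace H14
open Cfsg MulAction Finset
open scoped Pointwise Matrix

/-! ### Sums over the 24 coordinates -/

noncomputable def sum24 (f : Nat → Int) : Int :=
  @Nat.rec (fun _ => Int) 0 (fun i ih => Int.add ih (f i)) 24

theorem sum24_eq (f : ℕ → ℤ) : sum24 f = ∑ i ∈ range 24, f i := by
  have : ∀ n, @Nat.rec (fun _ => Int) 0 (fun i ih => Int.add ih (f i)) n = ∑ i ∈ range n, f i := by
    intro n
    induction n with
    | zero => rfl
    | succ n ih => rw [sum_range_succ, ← ih]; rfl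
  exact this 24

theorem sum_gi {M : Type*} [AddCommMonoid M] (f : ℕ → M) :
    ∑ p : GolayPt, f (gi p) = ∑ i ∈ range 24, f i :=
  sum_bij' (fun p _ => gi p) (fun i _ => gp i) (fun p _ => mem_range.2 (gi_lt p))
    (fun _ _ => mem_univ _) (fun p _ => gp_gi p) (fun i hi => gi_gp i (mem_range.1 hi))
    fun _ _ => rfl

theorem sum_gi' (f : ℕ → ℤ) : ∑ p : GolayPt, f (gi p) = sum24 f := by rw [sum_gi, sum24_eq]

noncomputable def eqZ (a b : Int) : Bool := decide (a = b)

theorem all24 {f : ℕ → Bool} (h : allLt f 24 = true) (p : GolayPt) : f (gi p) = true :=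
  allLt_spec h _ (gi_lt p)

/-- The vector with coordinates `y`. -/
def toV (y : ℕ → ℤ) : V := fun p => y (gi p)

noncomputable def mk24 (f : Nat → Bool) : Nat :=
  @Nat.rec (fun _ => Nat) 0 (fun i ih => @Bool.rec (fun _ => Nat) ih (Nat.lor ih (bit i)) (f i)) 24

theorem mem_mk24 (f : ℕ → Bool) (p : GolayPt) : p ∈ bset (mk24 f) ↔ f (gi p) = true := by
  have : ∀ n j, (@Nat.rec (fun _ => Nat) 0 (fun i ih =>
      @Bool.rec (fun _ => Nat) ih (Nat.lor ih (bit i)) (f i)) n).testBit j = true ↔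
      j < n ∧ f j = true := by
    intro n j
    induction n with
    | zero => simp
    | succ n ih =>
      show Nat.testBit (@Bool.rec (fun _ => Nat) _ _ (f n)) j = true ↔ _
      cases h : f n
      · show Nat.testBit _ j = true ↔ _
        rw [ih]
        exact ⟨fun h1 => ⟨by omega, h1.2⟩, fun h1 => ⟨by
          by_contra h2
          rw [show j = n by omega, h] at h1
          exact absurd h1.2 (by simp), h1.2⟩⟩
      · show Nat.testBit (Nat.lor _ _) j = true ↔ _
        rw [Q.to', Bool.or_eq_true, ih, testBit_bit, decide_eq_true_iff]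
        exact ⟨fun h1 => h1.elim (fun h2 => ⟨by omega, h2.2⟩) fun h2 => h2 ▸ ⟨by omega, h⟩,
          fun h1 => if h2 : j < n then Or.inl ⟨h2, h1.2⟩ else Or.inr (by omega)⟩
  rw [mem_bset]; exact (this 24 _).trans (and_iff_right (gi_lt p))

/-- Test for membership in the lattice. -/
noncomputable def leechB (y : Nat → Int) : Bool :=
  allLt (fun q => eqZ (Int.emod (y q) 2) (Int.emod (y 0) 2)) 24 &&
    (eqZ (Int.emod (sum24 y) 8) (Int.mul 4 (Int.emod (y 0) 2)) &&
      cw (mk24 fun q => decide (2 ≤ Int.emod (y q) 4)))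

theorem mem_of_leechB {y : ℕ → ℤ} (h : leechB y = true) : toV y ∈ leechLattice := by
  simp only [leechB, Bool.and_eq_true] at h
  refine IsL.mem (m := y 0 % 2) ⟨fun p => of_decide_eq_true (all24 h.1 p), ?_, ?_⟩
  · rw [show ∑ i, toV y i = _ from sum_gi' y]; exact of_decide_eq_true h.2.1
  · exact GC_congr (bset_mem_GC h.2.2) fun p => by rw [mem_mk24, mem_cs, decide_eq_true_iff]; rfl

noncomputable def dotZ (y z : Nat → Int) : Int := sum24 fun q => Int.mul (y q) (z q)

theorem dot_toV (y z : ℕ → ℤ) : dotInt (toV y) (toV z) = dotZ y z := sum_gi' fun q => y q * z q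
theorem sqNorm_toV (y : ℕ → ℤ) : sqNorm (toV y) = dotZ y y := by rw [← dot_self, dot_toV]

/-- Byte `q` of `m`. -/
def byt (m q : Nat) : Nat := Nat.mod (Nat.shiftRight m (Nat.mul 8 q)) 256
/-- Coordinate `q` of the packed vector `m`. -/
def bv (m q : Nat) : Int := Int.subNatNat (byt m q) 128
/-- ... modulo 15. -/
def br (m q : Nat) : Nat := Nat.mod (Nat.add (byt m q) 7) 15

theorem br_lt (m q : ℕ) : br m q < 15 := Nat.mod_lt _ (by norm_num)

theorem cast_br (m q : ℕ) : (br m q : ZMod 15) = (bv m q : ℤ) := by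
  have : br m q = (byt m q + 7) % 15 := rfl
  rw [this, ZMod.natCast_mod, bv, Int.subNatNat_eq_coe]
  push_cast
  rw [sub_eq_add_neg]; rfl

def vecN (m : ℕ) : V := toV (bv m)

/-- The lattice vector with packed coordinates `m`. -/
def lv (m : ℕ) (h : leechB (bv m) = true) : Λ := ⟨vecN m, mem_of_leechB h⟩

/-! ### Automorphisms from matrices -/

noncomputable def matR (R : List ℕ) : Matrix GolayPt GolayPt ℤ := fun p q => bv (getL 0 R (gi p)) (gi q)

noncomputable def mv (R : List Nat) (y : Nat → Int) (p : Nat) : Int := dotZ (bv (getL 0 R p)) y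

theorem mulVec_toV (R : List ℕ) (y : ℕ → ℤ) : matR R *ᵥ toV y = toV (mv R y) :=
  funext fun p => sum_gi' fun q => bv (getL 0 R (gi p)) q * y q

noncomputable def okV (R : List Nat) (y : Nat → Int) : Bool :=
  allLt (fun p => eqZ (Int.emod (mv R y p) 8) 0) 24 && leechB fun p => Int.ediv (mv R y p) 8

theorem okV_spec {R : List ℕ} {y : ℕ → ℤ} (h : okV R y = true) :
    ∃ z ∈ leechLattice, matR R *ᵥ toV y = (8 : ℤ) • z := by
  rw [okV, Bool.and_eq_true] at h
  refine ⟨_, mem_of_leechB h.2, ?_⟩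
  rw [mulVec_toV]
  funext p
  have : mv R y (gi p) % 8 = 0 := of_decide_eq_true (all24 h.1 p)
  show mv R y (gi p) = 8 * (mv R y (gi p) / 8)
  omega

noncomputable def ite' (c : Bool) (a b : Int) : Int := @Bool.rec (fun _ => Int) b a c

/-- The matrix `R / 8` is orthogonal and preserves the lattice. -/
noncomputable def coChk (R : List Nat) : Bool :=
  allLt (fun q => allLt (fun r => eqZ (sum24 fun p => Int.mul (bv (getL 0 R p) q) (bv (getL 0 R p) r))
    (ite' (Nat.beq q r) 64 0)) 24) 24 &&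
  (okV R (fun q => ite' (Nat.beq q 23) (-3) 1) && (gB.all (fun b => okV R fun q => ite' (tb b q) 2 0) &&
  (allLt (fun p => okV R fun q => Int.sub (ite' (Nat.beq q p) 4 0) (ite' (Nat.beq q 23) 4 0)) 24 &&
    okV R fun q => ite' (Nat.beq q 23) 8 0)))

theorem ite'_beq (p q : GolayPt) (a b : ℤ) :
    ite' (Nat.beq (gi p) (gi q)) a b = if p = q then a else b := by
  split_ifs with h
  · rw [h, Nat.beq_refl]; rfl
  · rw [Bool.eq_false_iff.2 fun e => h (gi_inj (Nat.eq_of_beq_eq_true e))]; rfl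

theorem coChk_mem {R : List ℕ} (h : coChk R = true) (x : Λ) :
    ∃ z ∈ leechLattice, matR R *ᵥ x.1 = (8 : ℤ) • z := by
  simp only [coChk, Bool.and_eq_true] at h
  let K : AddSubgroup V :=
    { carrier := {x | ∃ z ∈ leechLattice, matR R *ᵥ x = (8 : ℤ) • z}
      zero_mem' := ⟨0, zero_mem _, by simp⟩
      add_mem' := by
        rintro x y ⟨z, hz, e⟩ ⟨w, hw, e'⟩
        exact ⟨z + w, add_mem hz hw, by rw [Matrix.mulVec_add, e, e', smul_add]⟩
      neg_mem' := by
        rintro x ⟨z, hz, e⟩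
        exact ⟨-z, neg_mem hz, by rw [Matrix.mulVec_neg, e, smul_neg]⟩ }
  have key : ∀ (y : ℕ → ℤ) (x : V), okV R y = true → (∀ p, x p = toV y p) → x ∈ K :=
    fun y x h1 h2 => (funext h2 : x = toV y) ▸ okV_spec h1
  refine leech_le (K := K) ?_ (fun b hb => ?_) (fun p => ?_) ?_ x.2
  · exact key _ _ h.2.1 fun p => (ite'_beq p none _ _).symm
  · refine key _ _ (List.all_eq_true.1 h.2.2.1 b hb) fun p => ?_
    simp only [ind, toV, mem_bset, tb_eq]
    cases b.testBit (gi p) <;> rfl
  · refine key _ _ (all24 h.2.2.2.1 p) fun q => ?_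
    show _ = ite' _ _ _ - ite' (Nat.beq (gi q) (gi none)) _ _
    rw [ite'_beq, ite'_beq, Pi.sub_apply, Pi.single_apply, Pi.single_apply]
  · refine key _ _ h.2.2.2.2 fun q => ?_
    show _ = ite' (Nat.beq (gi q) (gi none)) _ _
    rw [ite'_beq, Pi.single_apply]

theorem coChk_norm {R : List ℕ} (h : coChk R = true) (x : V) :
    sqNorm (matR R *ᵥ x) = 64 * sqNorm x := by
  simp only [coChk, Bool.and_eq_true] at h
  have h1 : (matR R)ᵀ * matR R = (64 : ℤ) • (1 : Matrix GolayPt GolayPt ℤ) := by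
    ext q r
    have := of_decide_eq_true (all24 (all24 h.1 q) r)
    rw [ite'_beq, ← sum_gi'] at this
    rw [Matrix.mul_apply, Matrix.smul_apply, Matrix.one_apply, smul_eq_mul, mul_ite, mul_one, mul_zero]
    exact this
  have h2 : ∀ y : V, sqNorm y = y ⬝ᵥ y := fun y => (dot_self y).symm
  rw [h2, h2, Matrix.dotProduct_mulVec, Matrix.vecMul_mulVec, h1, Matrix.vecMul_smul,
    Matrix.vecMul_one, smul_dotProduct, smul_eq_mul]

/-- The automorphism with matrix `R / 8`. -/
noncomputable def coOf (R : List ℕ) (h : coChk R = true) : Co0 :=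
  have key : ∀ x : Λ, matR R *ᵥ x.1 = (8 : ℤ) • (coChk_mem h x).choose :=
    fun x => (coChk_mem h x).choose_spec.2
  mkCo (fun x => ⟨(coChk_mem h x).choose, (coChk_mem h x).choose_spec.1⟩)
    (fun x y => Subtype.ext (smul_right_injective V (by norm_num : (8 : ℤ) ≠ 0) (by
      show (8 : ℤ) • _ = (8 : ℤ) • (_ + _)
      rw [smul_add, ← key, ← key, ← key, ← Matrix.mulVec_add]; rfl)))
    fun x => by
      have := coChk_norm h x.1
      rw [key, sqNorm_zsmul] at this
      show sqNorm (coChk_mem h x).choose = _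
      omega

theorem coOf_spec {R : List ℕ} (h : coChk R = true) (x : Λ) :
    matR R *ᵥ x.1 = (8 : ℤ) • (coOf R h • x : Λ).1 := (coChk_mem h x).choose_spec.2

theorem coOf_eq {R : List ℕ} (h : coChk R = true) {g : Co0}
    (e : ∀ q p, matR R p q = (g • fr q : Λ).1 p) : coOf R h = g := eq_of_frame fun q =>
  Subtype.ext (funext fun p => by
    have := congrFun (coOf_spec h (fr q)) p
    simp only [fr, Matrix.mulVec_single, Pi.smul_apply, smul_eq_mul, MulOpposite.smul_eq_mul_unop,
      MulOpposite.unop_op, Matrix.col_apply] at this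
    rw [e q p] at this
    simp only [fr] at this ⊢
    omega)

/-- `R y = 8 z`. -/
noncomputable def mapChk (R : List Nat) (y z : Nat) : Bool :=
  allLt (fun p => eqZ (mv R (bv y) p) (Int.mul 8 (bv z p))) 24

theorem coOf_smul {R : List ℕ} (h : coChk R = true) {y z : ℕ} (e : mapChk R y z = true)
    {x x' : Λ} (hx : x.1 = vecN y) (hx' : x'.1 = vecN z) : coOf R h • x = x' :=
  Subtype.ext (funext fun p => by
    have h1 := congrFun (coOf_spec h x) p
    have h2 : mv R (bv y) (gi p) = 8 * bv z (gi p) := of_decide_eq_true (all24 e p)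
    rw [hx, vecN, mulVec_toV] at h1
    have h3 : mv R (bv y) (gi p) = 8 * (coOf R h • x : Λ).1 p := h1
    rw [hx']
    show _ = bv z (gi p)
    omega)

/-! ### Short vectors are determined modulo 3 -/

theorem eq_of_mod3 {x y : Λ} (hx : sqNorm x.1 ≤ 64) (hy : sqNorm y.1 ≤ 64)
    (h : ∀ p, (3 : ℤ) ∣ x.1 p - y.1 p) : x = y := by
  let z : V := fun p => (x.1 p - y.1 p) / 3
  have e : x.1 - y.1 = (3 : ℤ) • z := funext fun p => by
    have := h p
    show x.1 p - y.1 p = 3 * ((x.1 p - y.1 p) / 3)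
    omega
  have hz : z ∈ leechLattice := by
    have := sub_mem (zsmul_mem (sub_mem x.2 y.2) 3) (eight_smul_mem z)
    rwa [e, smul_smul, ← sub_smul, show (3 * 3 - 8 : ℤ) = 1 by norm_num, one_smul] at this
  by_contra hne
  have h1 := min_norm hz fun h0 => hne (Subtype.ext (by rwa [h0, smul_zero, sub_eq_zero] at e))
  have h2 := sqNorm_sub x.1 y.1
  have h3 := sqNorm_add x.1 y.1
  have h4 := sqNorm_nonneg (x.1 + y.1)
  rw [e, sqNorm_zsmul] at h2
  omega

theorem smul_eq_of_mod3 {g : Co0} {x y : Λ} (hx : sqNorm x.1 ≤ 64) (hy : g • y = y)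
    (h : ∀ p, (3 : ℤ) ∣ x.1 p - y.1 p) : g • x = x := by
  let z : V := fun p => (x.1 p - y.1 p) / 3
  have e : x.1 - y.1 = (3 : ℤ) • z := funext fun p => by
    have := h p
    show x.1 p - y.1 p = 3 * ((x.1 p - y.1 p) / 3)
    omega
  have hz : z ∈ leechLattice := by
    have := sub_mem (zsmul_mem (sub_mem x.2 y.2) 3) (eight_smul_mem z)
    rwa [e, smul_smul, ← sub_smul, show (3 * 3 - 8 : ℤ) = 1 by norm_num, one_smul] at this
  have e' : x - y = (3 : ℤ) • (⟨z, hz⟩ : Λ) := Subtype.ext e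
  have e2 : g • x - y = (3 : ℤ) • (g • (⟨z, hz⟩ : Λ)) := by
    rw [← smul_zsmul, ← e', smul_sub, hy]
  refine eq_of_mod3 ((sqNorm_smul g x).trans_le hx) hx fun p => ?_
  have h1 : (g • x : Λ).1 p - y.1 p = 3 * (g • (⟨z, hz⟩ : Λ) : Λ).1 p :=
    congrFun (congrArg Subtype.val e2) p
  have := h p
  omega

/-- The vectors `xs` span the lattice modulo 3 (`C` holds the coefficients). -/
noncomputable def spanChk (xs C : List Nat) : Bool :=
  allLt (fun p => allLt (fun q => eqZ (Int.emod (Int.sub (ite' (Nat.beq q p) 8 0)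
    (sum24 fun j => Int.mul (bv (getL 0 C p) j) (bv (getL 0 xs j) q))) 3) 0) 24) 24

theorem eq_one_of_span3 {xs C : List ℕ} (h : spanChk xs C = true) {g : Co0}
    (hg : ∀ j < 24, ∃ x : Λ, x.1 = vecN (getL 0 xs j) ∧ g • x = x) : g = 1 := by
  choose! x h1 h2 using hg
  refine eq_one_of_fix_frame fun p => smul_eq_of_mod3
    (y := ∑ j ∈ range 24, bv (getL 0 C (gi p)) j • x j) (by simp [fr, sqNorm, Pi.single_apply])
    ?_ fun q => ?_
  · rw [smul_sum]
    exact sum_congr rfl fun j hj => by rw [smul_zsmul, h2 j (mem_range.1 hj)]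
  · have := of_decide_eq_true (all24 (all24 h p) q)
    rw [ite'_beq, sum24_eq] at this
    rw [AddSubgroup.val_finsetSum, Finset.sum_apply]
    refine Int.dvd_of_emod_eq_zero (Eq.trans ?_ this)
    refine congrArg (· % 3) (congrArg₂ (· - ·) ?_ ?_)
    · exact Pi.single_apply _ _ _
    · refine sum_congr rfl fun j hj => ?_
      rw [AddSubgroup.coe_zsmul, h1 j (mem_range.1 hj)]; rfl

/-! ### Families of short vectors -/

/-- `x` is short and has the residues of column `i`. -/
def Rs (X : List Q) (x : Λ) (i : ℕ) : Prop :=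
  sqNorm x.1 ≤ 64 ∧ ∀ p, (x.1 p : ZMod 15) = (getL Q.zero X (gi p)).at i

theorem Rs.unique {X : List Q} {x y : Λ} {i : ℕ} (hx : Rs X x i) (hy : Rs X y i) : x = y :=
  eq_of_mod3 hx.1 hy.1 fun p => (show (3 : ℤ) ∣ (15 : ℕ) by norm_num).trans
    ((ZMod.intCast_eq_intCast_iff_dvd_sub _ _ _).1 ((hy.2 p).trans (hx.2 p).symm))

/-- The packed vector `y` has the residues of column `i`. -/
noncomputable def colChk (X : List Q) (i y : Nat) : Bool :=
  allLt (fun q => Nat.beq ((getL Q.zero X q).val i) (br y q)) 24 &&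
    (leechB (bv y) && decide (dotZ (bv y) (bv y) ≤ 64))

theorem rs_of_colChk {X : List Q} {i y : ℕ} (h : colChk X i y = true) {x : Λ} (hx : x.1 = vecN y) :
    Rs X x i := by
  simp only [colChk, Bool.and_eq_true] at h
  refine ⟨?_, fun p => ?_⟩
  · rw [hx, vecN, sqNorm_toV]; exact of_decide_eq_true h.2.2
  · rw [← Q.cast_val, Nat.eq_of_beq_eq_true (all24 h.1 p), cast_br, hx]; rfl

theorem exists_rs_of_colChk {X : List Q} {i y : ℕ} (h : colChk X i y = true) : ∃ x, Rs X x i :=
  ⟨lv y (by simp only [colChk, Bool.and_eq_true] at h; exact h.2.1), rs_of_colChk h rfl⟩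

/-- Inner products with the packed vector `y`. -/
noncomputable def ipV (N : Nat) (X : List Q) (y : Nat) : Q := ipQ (full N) (br y) X
/-- Inner products with column `b`. -/
noncomputable def ipC (N : Nat) (X : List Q) (b : Nat) : Q :=
  ipQ (full N) (fun q => (getL Q.zero X q).val b) X

theorem testBit_full_of_lt {N i : ℕ} (h : i < N) : (full N).testBit i = true := by
  rw [testBit_full, decide_eq_true h]

theorem cast_dot (x y : V) : ((dotInt x y : ℤ) : ZMod 15) = ∑ p, (x p : ZMod 15) * y p := by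
  simp only [dotInt, Int.cast_sum, Int.cast_mul]

theorem Rs.at_ipV {N : ℕ} {X : List Q} (hX : X.length = 24) {x : Λ} {i : ℕ} (hi : i < N)
    (h : Rs X x i) (y : ℕ) : (ipV N X y).at i = (dotInt (vecN y) x.1 : ℤ) := by
  rw [ipV, at_ipQ (testBit_full_of_lt hi) (br_lt y), hX, ← sum_gi, cast_dot]
  exact sum_congr rfl fun p _ => by rw [cast_br, h.2]; rfl

theorem Rs.at_ipC {N : ℕ} {X : List Q} (hX : X.length = 24) {x y : Λ} {i b : ℕ} (hi : i < N)
    (h : Rs X x i) (h' : Rs X y b) : (ipC N X b).at i = (dotInt y.1 x.1 : ℤ) := by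
  rw [ipC, at_ipQ (testBit_full_of_lt hi) (fun q => Q.val_lt _ _), hX, ← sum_gi, cast_dot]
  exact sum_congr rfl fun p _ => by rw [Q.cast_val, h.2, h'.2]

/-- The matrix `R / 8` permutes the columns of `X` as the network `T`. -/
noncomputable def lfChk (N : Nat) (T : Net) (R : List Nat) (X : List Q) : Bool :=
  allLt (fun p => Q.runEq T (ipV N X (getL 0 R p)).rot.nrm (getL Q.zero X p)) 24

theorem Rs.smul {N : ℕ} {X : List Q} (hX : X.length = 24) {T : Net} (hT : T.ok N = true)
    {R : List ℕ} (hR : coChk R = true) (h : lfChk N T R X = true) {x : Λ} {i : ℕ} (hi : i < N)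
    (hx : Rs X x i) : Rs X (coOf R hR • x) (T.pt i) := by
  refine ⟨(sqNorm_smul _ x).trans_le hx.1, fun p => ?_⟩
  rw [Q.at_of_runEq hT (all24 h p), Q.at_nrm, Q.at_rot, hx.at_ipV hX hi]
  have h1 : dotInt (vecN (getL 0 R (gi p))) x.1 = 8 * (coOf R hR • x : Λ).1 p :=
    congrFun (coOf_spec hR x) p
  rw [h1]; push_cast
  rw [← mul_assoc, show (2 * 8 : ZMod 15) = 1 from rfl, one_mul]

/-- A family of short vectors permuted by a group acting through `Co0`. -/
structure LF {Γ : Type*} [Group Γ] [MulAction Γ Λ] (gen : ℕ → Γ) (k N : ℕ) (L : List Net)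
    (ss : List ℕ) (X : List Q) (f : ℕ → Λ) : Prop where
  fam : Fam0 gen k N L ss f
  len : X.length = 24
  rs : ∀ i < N, Rs X (f i) i

/-- The seeds `ss` are the packed vectors `ys` and occur once. -/
noncomputable def seedChk (N : Nat) (X : List Q) (ss : List (Nat × Nat)) : Bool :=
  ss.all fun s => colChk X s.1 s.2 && Nat.beq (clsQ (full N) X s.1) (bit s.1)

theorem leech_fam {Γ : Type*} [Group Γ] [MulAction Γ Λ] {gen : ℕ → Γ} {k N : ℕ} {L : List Net}
    {X : List Q} (h0 : 0 < N) (hs : N < 2 ^ 31) (hok : netsOk N L = true) (hX : X.length = 24)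
    {ss : List (ℕ × ℕ)} {sched : List Word}
    (hr : subs (full N) (orbRun L (lets k) sched (bits (ss.map Prod.fst))) = true)
    (hss : seedChk N X ss = true)
    (hg : ∀ l < k, ∃ R, ∃ hR : coChk R = true, lfChk N (getL Net.nil L l) R X = true ∧
      ∀ x : Λ, gen l • x = coOf R hR • x) : ∃ f, LF gen k N L (ss.map Prod.fst) X f := by
  let _ : Inhabited Λ := ⟨0⟩
  obtain ⟨f, h1, h2⟩ := Fam0.of_raw (gen := gen) h0 hs hok hr (Rs X) (fun _ _ _ => Rs.unique) id
    (fun l hl i hi x hx => by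
      obtain ⟨R, hR, h1, h2⟩ := hg l hl
      rw [h2]; exact hx.smul hX (ok_getL hok l) hR h1 hi)
    (fun s hs => by
      obtain ⟨t, ht, rfl⟩ := List.mem_map.1 hs
      have := List.all_eq_true.1 hss t ht
      rw [Bool.and_eq_true] at this
      exact exists_rs_of_colChk this.1)
    (fun s hs i hi x h1 h2 => by
      obtain ⟨t, ht, rfl⟩ := List.mem_map.1 hs
      have := List.all_eq_true.1 hss t ht
      rw [Bool.and_eq_true] at this
      have h3 := testBit_clsQ (testBit_full_of_lt hi) X t.1 fun q hq => by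
        have e1 := h1.2 (gp q)
        have e2 := h2.2 (gp q)
        rw [gi_gp q (hX ▸ hq)] at e1 e2
        exact e1.symm.trans e2
      rw [Nat.eq_of_beq_eq_true this.2, testBit_bit, decide_eq_true_iff] at h3
      exact h3.symm)
  exact ⟨f, h1, hX, h2⟩

/-- The columns whose inner product with the packed vector `y` is `c` modulo 15. -/
noncomputable def clsV (N : Nat) (X : List Q) (y : Nat) (c : Int) : Nat :=
  (ipV N X y).eqc (full N) (Int.toNat (Int.emod c 15))

theorem eq_of_mod15 {a c : ℤ} (h8 : 8 ∣ a - c) (h : (a : ZMod 15) = c) (h1 : -120 < a - c)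
    (h2 : a - c < 120) : a = c := by
  have := (ZMod.intCast_eq_intCast_iff_dvd_sub _ _ _).1 h
  push_cast at this
  omega

theorem abs_dot_le {x y : V} {a b : ℤ} (hx : sqNorm x ≤ a) (hy : sqNorm y ≤ b) :
    -(a + b) ≤ 2 * dotInt x y ∧ 2 * dotInt x y ≤ a + b := by
  have h2 := sqNorm_sub x y
  have h3 := sqNorm_add x y
  have h4 := sqNorm_nonneg (x + y)
  have h5 := sqNorm_nonneg (x - y)
  omega

namespace LF
variable {Γ : Type*} [Group Γ] [MulAction Γ Λ] {gen : ℕ → Γ} {k N : ℕ} {L : List Net}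
  {ss : List ℕ} {X : List Q} {f : ℕ → Λ} (F : LF gen k N L ss X f)
include F

theorem eq_of_colChk {i y : ℕ} (hi : i < N) (h : colChk X i y = true) {x : Λ} (hx : x.1 = vecN y) :
    f i = x := (F.rs i hi).unique (rs_of_colChk h hx)

theorem testBit_clsV {i : ℕ} (hi : i < N) (y : ℕ) (c : ℤ) :
    (clsV N X y c).testBit i = true ↔ ((dotInt (vecN y) (f i).1 : ℤ) : ZMod 15) = c := by
  have h1 : ((c % 15).toNat : ℤ) = c % 15 := Int.toNat_of_nonneg (by omega)
  rw [show clsV N X y c = (ipV N X y).eqc (full N) (c % 15).toNat from rfl, Q.testBit_eqc (testBit_full_of_lt hi) _ (show (c % 15).toNat < 15 by omega),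
    (F.rs i hi).at_ipV F.len hi, ← Int.cast_natCast, h1]
  exact Eq.congr_right (ZMod.intCast_mod c 15)

/-- Exact inner products: `u` of norm at most 64, `f i` of norm 32, `8 ∣ c`, `|c| ≤ 64`. -/
theorem testBit_clsV' {i : ℕ} (hi : i < N) {y : ℕ} {u : Λ} (hu : u.1 = vecN y) {c : ℤ}
    (hn : sqNorm u.1 ≤ 64) (hf : sqNorm (f i).1 = 32) (hc : 8 ∣ c ∧ -64 ≤ c ∧ c ≤ 64) :
    (clsV N X y c).testBit i = true ↔ dotInt u.1 (f i).1 = c := by
  rw [F.testBit_clsV hi, ← hu]
  have := abs_dot_le hn hf.le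
  exact ⟨fun h => eq_of_mod15 (dvd_sub (eight_dvd_dot u.2 (f i).2) hc.1) h (by omega) (by omega),
    fun h => by rw [h]⟩

end LF

end H14
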