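import Cfsg.Prelude.Def_Spor_Conway
import Cfsg.Agent.H14.Leech

/-! Shapes of short vectors of the Leech lattice: the monomial group `Mon`, its three orbits on
minimal vectors (`min_cases`), every vector of norm 48 (64) has inner product 24 (32) with a
minimal vector (`split48`, `split64`); code words with a prescribed even trace on an octad
(`exists_GC_inter`). -/

set_option autoImplicit false

namespace H14
open Cfsg MulAction Finset
open scoped Pointwise

/-- The standard octad `{∞, 0, 1, 2, 3, 5, 14, 17}`. -/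
def o0 : Finset GolayPt := bset 0x82402f

theorem o0_mem : o0 ∈ octads := bset_mem_octads (by decide +kernel)

theorem exists_GC_inter_o0 (E : Finset GolayPt) (hE : E ⊆ o0) :
    ∃ c ∈ GC, ∀ i ∈ o0, i ∈ c ↔ (i ∈ E ↔ ¬ (i = none ∧ E.card % 2 = 1)) := by
  induction E using Finset.induction_on with
  | empty => exact ⟨∅, empty_mem_GC, by simp⟩
  | insert p E hp ih =>
    obtain ⟨c, hc, h⟩ := ih ((subset_insert _ _).trans hE)
    have key : ∀ p ∈ o0, ∃ w ∈ [0, 0x81b301, 0x80bc12, 0x8031d4, 0x812a58, 0x818ea0, 0x80c750, 0x831d40],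
        cw w = true ∧ ∀ i ∈ o0, i ∈ bset w ↔ (i = p ↔ ¬ i = none) := by decide +kernel
    obtain ⟨w, -, hw, h'⟩ := key p (hE (mem_insert_self _ _))
    refine ⟨_, symmDiff_mem_GC hc (bset_mem_GC hw), fun i hi => ?_⟩
    rw [mem_symmDiff, h i hi, h' i hi, card_insert_of_notMem hp, mem_insert,
      show (E.card + 1) % 2 = 1 ↔ ¬ E.card % 2 = 1 by omega]
    have : i = p → i ∉ E := fun e => e ▸ hp
    tauto

theorem exists_GC_inter {o E : Finset GolayPt} (ho : o ∈ octads) (hE : E ⊆ o) (h : 2 ∣ E.card) :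
    ∃ c ∈ GC, ∀ i ∈ o, i ∈ c ↔ i ∈ E := by
  obtain ⟨g, rfl⟩ := octad_trans o0_mem ho
  obtain ⟨c, hc, h'⟩ := exists_GC_inter_o0 (g⁻¹ • E) (by
    have := smul_finset_subset_smul_finset (a := g⁻¹) hE
    rwa [inv_smul_smul] at this)
  refine ⟨_, smul_mem_GC g hc, fun i hi => ?_⟩
  rw [← inv_smul_mem_iff] at hi ⊢
  rw [h' _ hi, card_smul_finset, smul_mem_smul_finset_iff, show E.card % 2 = 1 ↔ False from iff_false_intro (by omega)]
  simp

theorem exists_octad_supset {s : Finset GolayPt} (h : s.card ≤ 5) : ∃ o ∈ octads, s ⊆ o := by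
  obtain ⟨t, h1, -, h2⟩ := exists_subsuperset_card_eq (subset_univ s) h
    (by rw [card_univ, card_golayPt]; norm_num)
  obtain ⟨o, ho, -⟩ := octads_steiner.2 t h2
  exact ⟨o, ho.1, h1.trans ho.2⟩

theorem exists_octad_six {d : Finset GolayPt} (hd : d ∈ dodecads) {q : GolayPt} (hq : q ∉ d) :
    ∃ o ∈ octads, q ∈ o ∧ (o ∩ d).card = 6 := by
  obtain ⟨g, rfl⟩ := dodecad_std hd
  have key : ∀ q ∉ d0, ∃ w ∈ [0x10132b, 0x149f, 0x202656, 0x22387, 0x293e, 0x400a4f, 0x527c, 0x80254b, 0x803da, 0x9959],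
      oct w = true ∧ q ∈ bset w ∧ Nat.beq (p24 (w &&& 0x5335f)) 6 = true := by decide +kernel
  obtain ⟨w, -, h1, h2, h3⟩ := key (g⁻¹ • q) (by rwa [inv_smul_mem_iff])
  refine ⟨_, smul_mem_octads g (bset_mem_octads h1), inv_smul_mem_iff.1 h2, ?_⟩
  rw [← smul_finset_inter, card_smul_finset, d0, ← bset_and]
  exact (card_bset_eq_iff _ _).2 h3

theorem exists_octads_compl {o : Finset GolayPt} (ho : o ∈ octads) :
    ∃ a ∈ octads, ∃ b ∈ octads, symmDiff a b ∈ octads ∧ a ⊆ oᶜ ∧ b ⊆ oᶜ := by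
  obtain ⟨g, rfl⟩ := octad_trans o0_mem ho
  refine ⟨_, smul_mem_octads g (bset_mem_octads (m := 0x6c0710) (by decide +kernel)),
    _, smul_mem_octads g (bset_mem_octads (m := 0x710d80) (by decide +kernel)), ?_, ?_, ?_⟩
  · rw [← smul_symmDiff, ← bset_xor]
    exact smul_mem_octads g (bset_mem_octads (by decide +kernel))
  all_goals
    rw [← smul_compl_finset]
    exact smul_finset_subset_smul_finset (by decide +kernel)

/-! ### The monomial group -/

/-- The monomial group `2^12 : M24`. -/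
def Mon : Subgroup Co0 where
  carrier := {g | ∃ (σ : M24) (c : Finset GolayPt) (hc : c ∈ GC), g = sgn c hc * permH σ}
  one_mem' := ⟨1, ∅, empty_mem_GC, by rw [sgn_empty, map_one, one_mul]⟩
  mul_mem' := by
    rintro _ _ ⟨σ, c, hc, rfl⟩ ⟨τ, d, hd, rfl⟩
    exact ⟨σ * τ, _, symmDiff_mem_GC hc (smul_mem_GC σ hd), by
      rw [sgn_symmDiff hc (smul_mem_GC σ hd), sgn_smul σ hd, map_mul]; group⟩
  inv_mem' := by
    rintro _ ⟨σ, c, hc, rfl⟩
    have : (sgn c hc)⁻¹ = sgn c hc := by
      rw [inv_eq_iff_mul_eq_one, ← sgn_symmDiff hc hc, ← sgn_empty]; congr 1; simp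
    exact ⟨σ⁻¹, _, smul_mem_GC σ⁻¹ hc, by rw [sgn_smul σ⁻¹ hc, mul_inv_rev, this, map_inv]; group⟩

theorem permH_mem (σ : M24) : permH σ ∈ Mon := ⟨σ, ∅, empty_mem_GC, by rw [sgn_empty, one_mul]⟩
theorem sgn_mem {c : Finset GolayPt} (hc : c ∈ GC) : sgn c hc ∈ Mon :=
  ⟨1, c, hc, by rw [map_one, mul_one]⟩

theorem Mon_le {K : Subgroup Co0} (h1 : ∀ l < 3, permH (M0.gen l) ∈ K)
    (h2 : ∀ b (hb : b ∈ gB), sgn (bset b) (isCW_basis b hb).bset_mem ∈ K) : Mon ≤ K := by
  rintro _ ⟨σ, c, hc, rfl⟩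
  refine mul_mem ?_ ?_
  · obtain ⟨m, hm, rfl⟩ := mem_GC.1 hc
    obtain ⟨_, h⟩ := hm.induction (P := fun m => ∃ h : bset m ∈ GC, sgn (bset m) h ∈ K)
      ⟨bset_zero ▸ empty_mem_GC, by
        convert one_mem K; rw [← sgn_empty]; congr 1⟩
      (fun a b ⟨ha, ha'⟩ ⟨hb, hb'⟩ => ⟨bset_xor a b ▸ symmDiff_mem_GC ha hb, by
        convert mul_mem ha' hb'; rw [← sgn_symmDiff]; congr 1; exact bset_xor a b⟩)
      (fun b hb => ⟨_, h2 b hb⟩)
    exact h
  · have : (⊤ : Subgroup M24) ≤ K.comap permH := M0_lets ▸ sub_lets_le h1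
    exact this (Subgroup.mem_top σ)

/-! ### Minimal vectors -/

theorem sum_sq_erase (x : V) {c : Finset GolayPt} {p : GolayPt} (hp : p ∈ c) :
    ∑ i ∈ c, x i ^ 2 = x p ^ 2 + ∑ i ∈ c.erase p, x i ^ 2 :=
  (add_sum_erase c (fun i => x i ^ 2) hp).symm

theorem eq_of_sum_sq {x : V} {c : Finset GolayPt} {a : ℤ} (h : ∀ i ∈ c, a ≤ x i ^ 2)
    (h2 : ∑ i ∈ c, x i ^ 2 ≤ a * c.card) : ∀ i ∈ c, x i ^ 2 = a := fun i hi => by
  have h3 := le_sum_sq fun j (hj : j ∈ c.erase i) => h j (mem_of_mem_erase hj)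
  have h4 := h i hi
  have h5 : (c.card : ℤ) = (c.erase i).card + 1 := by rw [← card_erase_add_one hi]; push_cast; rfl
  rw [sum_sq_erase x hi, h5] at h2
  linarith

theorem exists_lt_sq {x : V} {c : Finset GolayPt} {a : ℤ} (h : a * c.card < ∑ i ∈ c, x i ^ 2) :
    ∃ i ∈ c, a < x i ^ 2 := by
  by_contra h2
  push Not at h2
  have := sum_le_sum h2
  rw [sum_const, nsmul_eq_mul, mul_comm] at this
  omega

theorem abs_of_sq {a : ℤ} {k : ℕ} (h : a ^ 2 = (k : ℤ) ^ 2) : |a| = k := by
  rw [← abs_of_nonneg (Int.natCast_nonneg k)]; exact sq_eq_sq_iff_abs_eq_abs _ _ |>.1 h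

theorem pm_of_sq {a : ℤ} (k : ℤ) (h : a ^ 2 = k ^ 2) : a = k ∨ a = -k :=
  sq_eq_sq_iff_eq_or_eq_neg.1 h

theorem smul_surj {G α : Type*} [Group G] [MulAction G α] (g : G) (i : α) : ∃ j, g • j = i :=
  ⟨g⁻¹ • i, smul_inv_smul g i⟩

theorem sq_step {a m r k : ℤ} (hk : 0 ≤ k) (h1 : a % m = r) (h2 : k ^ 2 < a ^ 2) (j : ℤ) (hj : 0 ≤ j)
    (h3 : ∀ b, b % m = r → (b ≤ -j ∨ j ≤ b) ∨ (-k ≤ b ∧ b ≤ k)) : j ^ 2 ≤ a ^ 2 := by
  rcases h3 a h1 with (h | h) | h <;> nlinarith

theorem nine_le_sq {a : ℤ} (h : a % 2 = 1) (h2 : 1 < a ^ 2) : 9 ≤ a ^ 2 :=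
  sq_step (k := 1) (by norm_num) h h2 3 (by norm_num) (by omega)
theorem tf_le_sq {a : ℤ} (h : a % 2 = 1) (h2 : 9 < a ^ 2) : 25 ≤ a ^ 2 :=
  sq_step (k := 3) (by norm_num) h h2 5 (by norm_num) (by omega)
theorem fn_le_sq {a : ℤ} (h : a % 2 = 1) (h2 : 25 < a ^ 2) : 49 ≤ a ^ 2 :=
  sq_step (k := 5) (by norm_num) h h2 7 (by norm_num) (by omega)
theorem ts_le_sq {a : ℤ} (h : a % 4 = 2) (h2 : 4 < a ^ 2) : 36 ≤ a ^ 2 :=
  sq_step (k := 2) (by norm_num) h h2 6 (by norm_num) (by omega)
theorem hu_le_sq {a : ℤ} (h : a % 4 = 2) (h2 : 36 < a ^ 2) : 100 ≤ a ^ 2 :=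
  sq_step (k := 6) (by norm_num) h h2 10 (by norm_num) (by omega)
theorem st_le_sq {a : ℤ} (h : a % 4 = 0) (h2 : 0 < a ^ 2) : 16 ≤ a ^ 2 :=
  sq_step (k := 0) (by norm_num) h h2 4 (by norm_num) (by omega)
theorem sf_le_sq {a : ℤ} (h : a % 4 = 0) (h2 : 16 < a ^ 2) : 64 ≤ a ^ 2 :=
  sq_step (k := 4) (by norm_num) h h2 8 (by norm_num) (by omega)

theorem card_erase_univ (p : GolayPt) : ((univ.erase p).card : ℤ) = 23 := by
  rw [card_erase_of_mem (mem_univ p), card_univ, card_golayPt]; rfl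

theorem sqNorm_erase (x : V) (p : GolayPt) : sqNorm x = x p ^ 2 + ∑ i ∈ univ.erase p, x i ^ 2 :=
  sum_sq_erase x (mem_univ p)

/-- Among coordinates divisible by 4 with sum of squares 16, 32 or 48 one is `±4`. -/
theorem exists_four {x : V} {c : Finset GolayPt} (h : ∀ i ∈ c, x i % 4 = 0)
    (h1 : 0 < ∑ i ∈ c, x i ^ 2) (h2 : ∑ i ∈ c, x i ^ 2 < 64) : ∃ q ∈ c, x q ^ 2 = 16 := by
  obtain ⟨q, hq, h3⟩ := exists_lt_sq (a := 0) (by simpa using h1)
  have h4 := st_le_sq (h q hq) h3
  have h5 := sum_sq_nonneg x (c.erase q)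
  rw [sum_sq_erase x hq] at h2
  refine ⟨q, hq, le_antisymm (not_lt.1 fun h6 => ?_) h4⟩
  have := sf_le_sq (h q hq) h6
  omega

/-- An odd vector can be normalised to have all coordinates `1` modulo `4`. -/
theorem odd_normal {x : Λ} (h : IsL 1 x.1) (i : GolayPt) : (sgn _ h.code • x : Λ).1 i % 4 = 1 := by
  have := h.par i
  rw [sgn_apply]; simp only [mem_cs]; split_ifs <;> omega

def lO : Λ := ⟨ind 2 o0, (isL_ind o0_mem.1).mem⟩
def lT : Λ := ⟨tv none, (isL_tv none).mem⟩

theorem min_cases {x : Λ} (hx : sqNorm x.1 = 32) :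
    ∃ g ∈ Mon, g • x = Spor.leechU ∨ g • x = lO ∨ g • x = lT := by
  obtain ⟨m, h⟩ := mem_leech.1 x.2
  rcases h.cases with rfl | rfl
  · have h1 := h.card_le
    have h2 := sqNorm_split x.1 (cs x.1)
    rcases card_mem_GC h.code with h3 | h3 | h3
    · have h4 : ∀ i, x.1 i % 4 = 0 := fun i => h.zero (by rw [card_eq_zero.1 h3]; simp)
      obtain ⟨p, -, hp⟩ := exists_four (c := univ) (fun i _ => h4 i) (hx.symm ▸ by norm_num : 0 < sqNorm x.1)
        (hx.symm ▸ by norm_num : sqNorm x.1 < 64)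
      have h5 := sqNorm_erase x.1 p
      obtain ⟨q, hq, hq'⟩ := exists_four (c := univ.erase p) (fun i _ => h4 i) (by omega) (by omega)
      have h6 := eq_of_sum_sq (x := x.1) (c := (univ.erase p).erase q) (a := 0)
        (fun _ _ => sq_nonneg _) (by have := sum_sq_erase x.1 hq; omega)
      obtain ⟨σ, e1, e2⟩ := M24_exists_smul2 (ne_of_mem_erase hq).symm
        (show (none : GolayPt) ≠ some 0 by decide)
      have key : ∀ a b : Prop, ∃ c ∈ GC, (none ∈ c ↔ a) ∧ (some 0 ∈ c ↔ b) := fun a b => by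
        have f1 : none ∉ d0 := by decide +kernel
        have f2 : some 0 ∈ d0 := by decide +kernel
        by_cases a <;> by_cases b
        · exact ⟨univ, univ_mem_GC, by simp [*]⟩
        · exact ⟨_, compl_mem_GC d0_mem.1, by simp [*]⟩
        · exact ⟨_, d0_mem.1, by simp [*]⟩
        · exact ⟨∅, empty_mem_GC, by simp [*]⟩
      obtain ⟨c, hc, c1, c2⟩ := key (x.1 p < 0) (x.1 q < 0)
      refine ⟨_, mul_mem (sgn_mem hc) (permH_mem σ), Or.inl (Subtype.ext (funext fun i => ?_))⟩
      obtain ⟨j, rfl⟩ := smul_surj σ i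
      rw [mul_smul, sgn_apply, permH_apply']
      show _ = if _ ∨ _ then 4 else 0
      have a1 := pm_of_sq 4 hp
      have a2 := pm_of_sq 4 hq'
      by_cases hj : j = p
      · rw [hj, e1, if_pos (Or.inl rfl)]; simp only [c1]; split_ifs <;> omega
      by_cases hj' : j = q
      · rw [hj', e2, if_pos (Or.inr rfl)]; simp only [c2]; split_ifs <;> omega
      have : x.1 j = 0 := pow_eq_zero_iff two_ne_zero |>.1 (h6 j (by simp [hj, hj']))
      rw [this, if_neg (c := _ ∨ _) (by rw [← e1, ← e2]; simp [hj, hj'])]; simp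
    · have h4 := le_sum_sq fun i (hi : i ∈ cs x.1) => four_le_sq (h.two hi)
      have h5 := sum_sq_nonneg x.1 (cs x.1)ᶜ
      have h6 := eq_of_sum_sq (fun i (hi : i ∈ cs x.1) => four_le_sq (h.two hi)) (by omega)
      have h7 := eq_of_sum_sq (x := x.1) (c := (cs x.1)ᶜ) (a := 0) (fun _ _ => sq_nonneg _) (by omega)
      have h8 : ∀ i, x.1 i = ind 2 (cs x.1) i - ind 4 ((cs x.1).filter fun i => x.1 i < 0) i := by
        intro i
        simp only [ind, mem_filter]
        by_cases hi : i ∈ cs x.1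
        · have := pm_of_sq 2 (h6 i hi)
          simp only [hi, if_true, true_and]; split_ifs <;> omega
        · simp only [hi, if_false, false_and, sub_zero]
          exact pow_eq_zero_iff two_ne_zero |>.1 (h7 i (mem_compl.2 hi))
      have h9 := h.sum
      rw [sum_congr rfl fun i _ => h8 i, sum_sub_distrib, show ∑ i, ind 2 _ i = _ from sum_ind _ 2,
        show ∑ i, ind 4 _ i = _ from sum_ind _ 4] at h9
      obtain ⟨c, hc, hc'⟩ := exists_GC_inter ⟨h.code, h3⟩ (filter_subset (fun i => x.1 i < 0) _)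
        (by omega)
      obtain ⟨σ, e⟩ := octad_trans ⟨h.code, h3⟩ o0_mem
      refine ⟨_, mul_mem (permH_mem σ) (sgn_mem hc), Or.inr (Or.inl (Subtype.ext (funext fun i => ?_)))⟩
      obtain ⟨j, rfl⟩ := smul_surj σ i
      rw [mul_smul, permH_apply', sgn_apply]
      show _ = if σ • j ∈ o0 then 2 else 0
      simp only [← e, smul_mem_smul_finset_iff]
      have := h8 j
      simp only [ind] at this
      by_cases hj : j ∈ cs x.1
      · simp only [hc' j hj, hj, if_true] at this ⊢; split_ifs at this ⊢ <;> omega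
      · simp only [hj, mem_filter, if_false, false_and] at this ⊢; split_ifs <;> omega
    · omega
  · have h1 := odd_normal h
    have h2 := (sqNorm_smul (sgn _ h.code) x).trans hx
    set y := sgn _ h.code • x with hy
    have h3 : ∀ i, y.1 i % 2 = 1 := fun i => by have := h1 i; omega
    obtain ⟨p, -, hp⟩ := exists_lt_sq (x := y.1) (c := univ) (a := 1) (by
      rw [card_univ, card_golayPt, show ∑ i, y.1 i ^ 2 = 32 from h2]; norm_num)
    have h4 := nine_le_sq (h3 p) hp
    have h5 := sqNorm_erase y.1 p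
    have h6 := le_sum_sq fun i (_ : i ∈ univ.erase p) => one_le_sq (h3 i)
    have h7 := eq_of_sum_sq (fun i (_ : i ∈ univ.erase p) => one_le_sq (h3 i))
      (by rw [card_erase_univ]; omega)
    rw [card_erase_univ] at h6
    obtain ⟨σ, e⟩ := M24_exists_smul1 p none
    refine ⟨_, mul_mem (permH_mem σ) (sgn_mem h.code), Or.inr (Or.inr (Subtype.ext (funext fun i => ?_)))⟩
    obtain ⟨j, rfl⟩ := smul_surj σ i
    rw [mul_smul, permH_apply', ← hy]
    show _ = if _ then -3 else 1
    simp only [← e, smul_left_cancel_iff]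
    have := h1 j
    split_ifs with hj
    · have := pm_of_sq (a := y.1 p) 3 (by omega)
      subst hj; omega
    · have := pm_of_sq 1 (h7 j (by simp [hj]))
      omega

/-! ### Vectors of norm 48 and 64 -/

/-- `x` has inner product `k` with some minimal vector. -/
def Near (k : ℤ) (x : V) : Prop := ∃ a ∈ leechLattice, sqNorm a = 32 ∧ dotInt a x = k

theorem Near.of_smul {k : ℤ} {x : Λ} (g : Co0) (h : Near k (g • x : Λ).1) : Near k x.1 := by
  obtain ⟨a, ha, h1, h2⟩ := h
  refine ⟨_, (g⁻¹ • (⟨a, ha⟩ : Λ)).2, (sqNorm_smul _ _).trans h1, ?_⟩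
  rw [← dot_smul g, smul_inv_smul]; exact h2

theorem near_pair (x : V) {p q : GolayPt} (h : p ≠ q) : Near (4 * (|x p| + |x q|)) x := by
  have key : ∀ s t : ℤ, s ^ 2 = 16 → t ^ 2 = 16 → Near (s * x p + t * x q) x := fun s t hs ht => by
    have h1 := pm_of_sq 4 hs
    have h2 := pm_of_sq 4 ht
    refine ⟨Pi.single p s + Pi.single q t, (isL_of_four (fun i => ?_) ?_).mem, ?_, ?_⟩
    · simp only [Pi.add_apply, Pi.single_apply]; split_ifs <;> omega
    · simp only [Pi.add_apply, sum_add_distrib, sum_pi_single', mem_univ, if_true]; omega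
    · rw [sqNorm_add]
      simp only [sqNorm, dotInt, Pi.single_apply, ite_pow, ite_mul, mul_ite, sum_ite_eq', mem_univ]
      simp [hs, ht, h.symm]
    · rw [add_dot]
      simp only [dotInt, Pi.single_apply, ite_mul, zero_mul, sum_ite_eq', mem_univ, if_true]
  rcases abs_cases (x p) with ⟨h1, -⟩ | ⟨h1, -⟩ <;> rcases abs_cases (x q) with ⟨h2, -⟩ | ⟨h2, -⟩ <;>
    rw [h1, h2]
  · convert key 4 4 rfl rfl using 1; ring
  · convert key 4 (-4) rfl rfl using 1; ring
  · convert key (-4) 4 rfl rfl using 1; ring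
  · convert key (-4) (-4) rfl rfl using 1; ring

theorem near_pair' {x : V} {p q : GolayPt} (h : p ≠ q) (a b : ℕ) (ha : x p ^ 2 = (a : ℤ) ^ 2)
    (hb : x q ^ 2 = (b : ℤ) ^ 2) : Near (4 * (a + b)) x := by
  have := near_pair x h
  rwa [abs_of_sq ha, abs_of_sq hb] at this

theorem near_oct (x : V) {o E : Finset GolayPt} (ho : o ∈ octads) (hE : E ⊆ o) (h : 2 ∣ E.card) :
    Near (2 * ∑ i ∈ o, if i ∈ E then -x i else x i) x := by
  obtain ⟨c, hc, hc'⟩ := exists_GC_inter ho hE h
  refine ⟨_, ((isL_ind ho.1).sgn hc).mem, ?_, ?_⟩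
  · have : ∀ i, (if i ∈ c then -ind 2 o i else ind 2 o i) ^ 2 = if i ∈ o then 4 else 0 := fun i => by
      unfold ind; split_ifs <;> rfl
    rw [sqNorm, sum_congr rfl fun i _ => this i, sum_ind, ho.2]; rfl
  · rw [dotInt, mul_sum, ← sum_subset (subset_univ o) fun i _ hi => by simp [ind, hi]]
    refine sum_congr rfl fun i hi => ?_
    simp only [ind, hi, if_true, hc' i hi]; split_ifs <;> ring

theorem near_oct_abs (x : V) {o : Finset GolayPt} (ho : o ∈ octads)
    (h : 2 ∣ (o.filter fun i => x i < 0).card ∨ ∃ r ∈ o, x r = 0) : Near (2 * ∑ i ∈ o, |x i|) x := by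
  by_cases h1 : 2 ∣ (o.filter fun i => x i < 0).card
  · convert near_oct x ho (filter_subset _ _) h1 using 3 with i hi
    have := abs_cases (x i)
    simp only [mem_filter, hi, true_and]; split_ifs <;> omega
  · obtain ⟨r, hr, h2⟩ := h.resolve_left h1
    convert near_oct x ho (insert_subset hr (filter_subset (fun i => x i < 0) _))
      (by rw [card_insert_of_notMem (by simp [h2])]; omega) using 3 with i hi
    have := abs_cases (x i)
    simp only [mem_insert, mem_filter, hi, true_and]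
    split_ifs with h3
    · rcases h3 with rfl | h3 <;> omega
    · omega

theorem sum_abs_eq {x : V} {s : Finset GolayPt} (k : ℕ) (h : ∀ i ∈ s, x i ^ 2 = (k : ℤ) ^ 2) :
    ∑ i ∈ s, |x i| = k * s.card := by
  rw [sum_congr rfl fun i hi => abs_of_sq (h i hi), sum_const, nsmul_eq_mul, mul_comm]

theorem odd_three {y : V} (h : ∀ i, y i % 2 = 1) (h2 : ∀ i, y i ^ 2 ≤ 9) :
    sqNorm y = 24 + 8 * (univ.filter fun i => y i ^ 2 = 9).card := by
  have : ∀ i, y i ^ 2 = 1 + if i ∈ univ.filter (fun i => y i ^ 2 = 9) then 8 else 0 := fun i => by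
    simp only [mem_filter, mem_univ, true_and]
    split_ifs with h3
    · omega
    · have := one_le_sq (h i)
      have := h2 i
      have := nine_le_sq (h i)
      omega
  rw [sqNorm, sum_congr rfl fun i _ => this i, sum_add_distrib, sum_ind, sum_const, card_univ,
    card_golayPt]
  rfl

theorem split48 {x : V} (hx : x ∈ leechLattice) (hn : sqNorm x = 48) : Near 24 x := by
  obtain ⟨m, h⟩ := mem_leech.1 hx
  rcases h.cases with rfl | rfl
  · have h1 := h.card_le
    have h2 := sqNorm_split x (cs x)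
    have h4 := le_sum_sq fun i (hi : i ∈ cs x) => four_le_sq (h.two hi)
    have h5 := sum_sq_nonneg x (cs x)ᶜ
    rcases card_mem_GC h.code with h3 | h3 | h3 | h3
    · have := h.dvd_of_empty h3; omega
    · have h6 : ∀ p ∈ cs x, x p ^ 2 = 4 := fun p hp => by
        have := le_sum_sq fun i (hi : i ∈ (cs x).erase p) => four_le_sq (h.two (mem_of_mem_erase hi))
        have := sum_sq_erase x hp
        have := card_erase_add_one hp
        have := four_le_sq (h.two hp)
        have := ts_le_sq (h.two hp)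
        omega
      rw [sum_congr rfl h6, sum_const, h3] at h2
      obtain ⟨q, hq, hq'⟩ := exists_four (c := (cs x)ᶜ) (fun i hi => h.zero (mem_compl.1 hi))
        (by simp only [smul_eq_mul, nsmul_eq_mul] at h2; omega)
        (by simp only [smul_eq_mul, nsmul_eq_mul] at h2; omega)
      obtain ⟨p, hp⟩ := card_pos.1 (show 0 < (cs x).card by omega)
      exact near_pair' (fun e : p = q => mem_compl.1 hq (e ▸ hp)) 2 4 (h6 p hp) hq'
    · have h6 := eq_of_sum_sq (fun i (hi : i ∈ cs x) => four_le_sq (h.two hi)) (by omega)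
      have h7 := eq_of_sum_sq (x := x) (c := (cs x)ᶜ) (a := 0) (fun _ _ => sq_nonneg _) (by omega)
      obtain ⟨q, hq⟩ := card_pos.1 (show 0 < (cs x)ᶜ.card by rw [card_compl, card_golayPt]; omega)
      obtain ⟨o, ho, hqo, h8⟩ := exists_octad_six ⟨h.code, h3⟩ (mem_compl.1 hq)
      convert near_oct_abs x ho (Or.inr ⟨q, hqo, pow_eq_zero_iff two_ne_zero |>.1 (h7 q hq)⟩)
      rw [← sum_inter_add_sum_sdiff o (cs x), sum_abs_eq 2 fun i hi => h6 i (mem_inter.1 hi).2,
        sum_abs_eq 0 fun i hi => h7 i (mem_compl.2 (mem_sdiff.1 hi).2), h8]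
      simp
    · omega
  · by_cases h1 : ∃ p, 9 < x p ^ 2
    · obtain ⟨p, hp⟩ := h1
      have h4 := tf_le_sq (h.par p) hp
      have h5 := sqNorm_erase x p
      have h6 := le_sum_sq fun i (_ : i ∈ univ.erase p) => one_le_sq (h.par i)
      have h7 := eq_of_sum_sq (fun i (_ : i ∈ univ.erase p) => one_le_sq (h.par i))
        (by rw [card_erase_univ]; omega)
      rw [card_erase_univ] at h6
      obtain ⟨q, hq⟩ := exists_ne p
      exact near_pair' hq.symm 5 1 (by push_cast; omega) (h7 q (by simp [hq]))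
    · push Not at h1
      have h2 := odd_three h.par h1
      obtain ⟨p, hp, q, hq, hpq⟩ := one_lt_card.1
        (show 1 < (univ.filter fun i => x i ^ 2 = 9).card by omega)
      exact near_pair' hpq 3 3 (mem_filter.1 hp).2 (mem_filter.1 hq).2

theorem split64 {x : V} (hx : x ∈ leechLattice) (hn : sqNorm x = 64) : Near 32 x := by
  obtain ⟨m, h⟩ := mem_leech.1 hx
  rcases h.cases with rfl | rfl
  · have h1 := h.card_le
    have h2 := sqNorm_split x (cs x)
    have h4 := le_sum_sq fun i (hi : i ∈ cs x) => four_le_sq (h.two hi)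
    have h5 := sum_sq_nonneg x (cs x)ᶜ
    have hz := fun i (hi : i ∈ (cs x)ᶜ) => h.zero (mem_compl.1 hi)
    rcases card_mem_GC h.code with h3 | h3 | h3 | h3 | h3
    · have h4 : ∀ i, x i % 4 = 0 := fun i => h.zero (by rw [card_eq_zero.1 h3]; simp)
      obtain ⟨p, -, hp⟩ := exists_lt_sq (x := x) (c := univ) (a := 0)
        (by rw [zero_mul]; exact (hn.symm ▸ by norm_num : 0 < sqNorm x))
      have h6 := sqNorm_erase x p
      have h7 := st_le_sq (h4 p) hp
      have h8 := sf_le_sq (h4 p)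
      have h9 := sum_sq_nonneg x (univ.erase p)
      by_cases h10 : x p ^ 2 = 16
      · obtain ⟨q, hq, hq'⟩ := exists_four (c := univ.erase p) (fun i _ => h4 i) (by omega) (by omega)
        exact near_pair' (ne_of_mem_erase hq).symm 4 4 h10 hq'
      · obtain ⟨q, hq⟩ := exists_ne p
        exact near_pair' hq.symm 8 0 (by push_cast; omega)
          (eq_of_sum_sq (a := 0) (fun _ _ => sq_nonneg _) (by omega) q (mem_erase.2 ⟨hq, mem_univ q⟩))
    · by_cases h6 : ∃ p ∈ cs x, 4 < x p ^ 2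
      · obtain ⟨p, hp, hp'⟩ := h6
        have h7 := le_sum_sq fun i (hi : i ∈ (cs x).erase p) =>
          four_le_sq (h.two (mem_of_mem_erase hi))
        have h8 := sum_sq_erase x hp
        have h9 := card_erase_add_one hp
        have h10 := ts_le_sq (h.two hp) hp'
        obtain ⟨q, hq⟩ := card_pos.1 (show 0 < ((cs x).erase p).card by omega)
        exact near_pair' (ne_of_mem_erase hq).symm 6 2 (by push_cast; omega)
          (eq_of_sum_sq (fun i (hi : i ∈ (cs x).erase p) =>
            four_le_sq (h.two (mem_of_mem_erase hi))) (by omega) q hq)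
      · push Not at h6
        have h7 := sum_le_sum h6
        rw [sum_const, h3, nsmul_eq_mul] at h7
        obtain ⟨p, hp, hp'⟩ := exists_four hz (by omega) (by omega)
        have h8 := sum_sq_erase x hp
        obtain ⟨q, hq, hq'⟩ := exists_four (c := (cs x)ᶜ.erase p)
          (fun i hi => hz i (mem_of_mem_erase hi)) (by omega) (by omega)
        exact near_pair' (ne_of_mem_erase hq).symm 4 4 hp' hq'
    · have h6 : ∀ p ∈ cs x, x p ^ 2 = 4 := fun p hp => by
        have := le_sum_sq fun i (hi : i ∈ (cs x).erase p) => four_le_sq (h.two (mem_of_mem_erase hi))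
        have := sum_sq_erase x hp
        have := card_erase_add_one hp
        have := four_le_sq (h.two hp)
        have := ts_le_sq (h.two hp)
        omega
      rw [sum_congr rfl h6, sum_const, h3, nsmul_eq_mul] at h2
      obtain ⟨q, hq, hq'⟩ := exists_four hz (by omega) (by omega)
      have h7 := eq_of_sum_sq (x := x) (c := (cs x)ᶜ.erase q) (a := 0) (fun _ _ => sq_nonneg _)
        (by have := sum_sq_erase x hq; omega)
      obtain ⟨o, ho, hqo, h8⟩ := exists_octad_six ⟨h.code, h3⟩ (mem_compl.1 hq)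
      have hq2 : q ∈ o \ cs x := mem_sdiff.2 ⟨hqo, mem_compl.1 hq⟩
      have h9 := card_sdiff_add_card_inter o (cs x)
      have h10 := card_erase_add_one hq2
      have h11 : ∀ i ∈ (o \ cs x).erase q, x i ^ 2 = 0 := fun i hi => h7 i (mem_erase.2
        ⟨ne_of_mem_erase hi, mem_compl.2 (mem_sdiff.1 (mem_of_mem_erase hi)).2⟩)
      obtain ⟨r, hr⟩ := card_pos.1 (show 0 < ((o \ cs x).erase q).card by have := ho.2; omega)
      convert near_oct_abs x ho (Or.inr ⟨r, (mem_sdiff.1 (mem_of_mem_erase hr)).1,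
        pow_eq_zero_iff two_ne_zero |>.1 (h11 r hr)⟩)
      rw [← sum_inter_add_sum_sdiff o (cs x), sum_abs_eq 2 fun i hi => h6 i (mem_inter.1 hi).2,
        ← add_sum_erase _ _ hq2, sum_abs_eq 0 h11, abs_of_sq (k := 4) hq', h8]
      simp
    · have h6 := eq_of_sum_sq (fun i (hi : i ∈ cs x) => four_le_sq (h.two hi)) (by omega)
      obtain ⟨a, ha, b, hb, hab, h7, h8⟩ := exists_octads_compl
        (o := (cs x)ᶜ) ⟨compl_mem_GC h.code, by rw [card_compl, card_golayPt, h3]⟩
      rw [compl_compl] at h7 h8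
      have key : ∀ o ∈ octads, o ⊆ cs x → 2 ∣ (o.filter fun i => x i < 0).card → Near 32 x := by
        intro o ho h1 h2
        convert near_oct_abs x ho (Or.inl h2)
        rw [sum_abs_eq 2 fun i hi => h6 i (h1 hi), ho.2]; rfl
      have h9 := card_symmDiff_add (a.filter fun i => x i < 0) (b.filter fun i => x i < 0)
      rw [show symmDiff (a.filter fun i => x i < 0) (b.filter fun i => x i < 0) =
        (symmDiff a b).filter fun i => x i < 0 by
          ext i; simp only [mem_symmDiff, mem_filter]; tauto] at h9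
      by_cases h10 : 2 ∣ (a.filter fun i => x i < 0).card
      · exact key a ha h7 h10
      by_cases h11 : 2 ∣ (b.filter fun i => x i < 0).card
      · exact key b hb h8 h11
      exact key _ hab (symmDiff_subset_union.trans (union_subset h7 h8)) (by omega)
    · omega
  · refine Near.of_smul (x := ⟨x, hx⟩) (sgn _ h.code) ?_
    have h1 := odd_normal (x := ⟨x, hx⟩) h
    have h2 := (sqNorm_smul (sgn _ h.code) ⟨x, hx⟩).trans hn
    generalize (sgn _ h.code • (⟨x, hx⟩ : Λ) : Λ).1 = y at h1 h2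
    have h3 : ∀ i, y i % 2 = 1 := fun i => by have := h1 i; omega
    by_cases h4 : ∃ p, 9 < y p ^ 2
    · obtain ⟨p, hp⟩ := h4
      have h4 := tf_le_sq (h3 p) hp
      have h5 := sqNorm_erase y p
      have h6 := le_sum_sq fun i (_ : i ∈ univ.erase p) => one_le_sq (h3 i)
      have h7 := fn_le_sq (h3 p)
      rw [card_erase_univ] at h6
      obtain ⟨q, hq, hq'⟩ := exists_lt_sq (x := y) (c := univ.erase p) (a := 1)
        (by rw [card_erase_univ]; omega)
      have h8 := nine_le_sq (h3 q) hq'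
      have h9 := tf_le_sq (h3 q)
      have h10 := sum_sq_erase y hq
      have h11 := le_sum_sq fun i (_ : i ∈ (univ.erase p).erase q) => one_le_sq (h3 i)
      have h12 := card_erase_add_one hq
      have h13 := card_erase_univ p
      exact near_pair' (ne_of_mem_erase hq).symm 5 3 (by push_cast; omega) (by push_cast; omega)
    · push Not at h4
      have h5 := odd_three h3 h4
      set T := univ.filter fun i => y i ^ 2 = 9
      obtain ⟨o, ho, hT⟩ := exists_octad_supset (s := T) (by omega)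
      have h6 := card_sdiff_add_card_eq_card hT
      obtain ⟨r, hr⟩ := card_pos.1 (show 0 < (o \ T).card by have := ho.2; omega)
      have hr' := mem_sdiff.1 hr
      convert near_oct y ho (insert_subset hr'.1 hT) (by rw [card_insert_of_notMem hr'.2]; omega)
      have h7 : ∀ i, (if i ∈ insert r T then -y i else y i) =
          1 + (if i ∈ T then 2 else 0) - if i = r then 2 else 0 := fun i => by
        have h8 := h1 i
        by_cases hi : i ∈ T
        · have := pm_of_sq 3 (mem_filter.1 hi).2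
          rw [if_pos (mem_insert_of_mem hi), if_pos hi, if_neg (fun e : i = r => hr'.2 (e ▸ hi))]; omega
        · have h9 : y i ^ 2 ≠ 9 := fun e => hi (mem_filter.2 ⟨mem_univ i, e⟩)
          have := one_le_sq (h3 i)
          have := nine_le_sq (h3 i)
          have := h4 i
          have := pm_of_sq (a := y i) 1 (by omega)
          simp only [mem_insert, hi, or_false, if_false]; split_ifs <;> omega
      rw [sum_congr rfl fun i _ => h7 i, sum_sub_distrib, sum_add_distrib, sum_ite_eq' o r,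
        if_pos hr'.1, Finset.sum_ite_mem, inter_eq_right.2 hT, sum_const, sum_const, ho.2,
        show T.card = 5 by omega]
      rfl

end H14
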