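import Cfsg.Agent.H14.Conway0

/-! Machines on sets of short vectors (`LM`): classes of points with prescribed inner products
(`clsL`, `LM.mem_top`), bases (`LM.eq_one`), construction (`lm_of_lf`); invariant sets `Cls1`,
`Cls2`; the simplicity test `PM.LevelRes.simple'` for actions with blocks of size two. -/

set_option autoImplicit false

namespace H14
open Cfsg MulAction Finset
open scoped Pointwise

namespace PM
variable {Γ Ω : Type*} [Group Γ] [MulAction Γ Ω] {n : ℕ} {L : List Net} {M : PM Γ Ω n L}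

theorem LevelRes.eq_top_of_mem {wsH : List Word} {lev : Level} {N' : ℕ} (h : M.LevelRes wsH lev N')
    {s : SO} {c : List Word}
    (hc : subs lev.orb (orbRun L (lev.soU wsH s :: wsH) c (bit lev.a)) = true) {X : Subgroup Γ}
    (h1 : sub M.gen wsH ≤ X) (h2 : X ≤ sub M.gen (lev.gens wsH))
    (hu : ev M.gen (lev.soU wsH s) ∈ X) : X = sub M.gen (lev.gens wsH) := by
  have h4 : sub M.gen (lev.soU wsH s :: wsH) ≤ X :=
    (sub_le _).2 (fa_cons hu fun w hw => h1 (ev_mem_sub _ hw))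
  refine le_antisymm h2 fun g hg => ?_
  obtain ⟨g', hg', e⟩ := M.orb_sound_bit _ _ h.lt (M.S_mono hc ((h.orb _).2 ⟨g, hg, rfl⟩))
  have h5 : g'⁻¹ * g ∈ sub M.gen wsH := by
    rw [← h.stab]
    refine Subgroup.mem_inf.2 ⟨mul_mem (inv_mem (h2 (h4 hg'))) hg, ?_⟩
    show (g'⁻¹ * g) • _ = _
    rw [mul_smul, ← e, inv_smul_smul]
  simpa using mul_mem (h4 hg') (h1 h5)

/-- The suborbits other than `{b}`. -/
noncomputable def sosBut (lev : Level) (b : Nat) : List SO :=
  lev.sos.filter fun s => !Nat.beq s.O (bit b)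

/-- A subgroup containing the point stabiliser is everything or maps `a` into `{a, b}`. -/
theorem LevelRes.max' {wsH : List Word} {lev : Level} {N' : ℕ} (h : M.LevelRes wsH lev N')
    {b : ℕ} (hb : b < n) {cs : List (List Word)} (hp : primChk L wsH lev (sosBut lev b) cs = true)
    (X : Subgroup Γ) (h1 : sub M.gen wsH ≤ X) (h2 : X ≤ sub M.gen (lev.gens wsH)) :
    (∀ x ∈ X, x • M.dec lev.a = M.dec lev.a ∨ x • M.dec lev.a = M.dec b) ∨
      X = sub M.gen (lev.gens wsH) := by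
  refine or_iff_not_imp_left.2 fun hX => ?_
  push Not at hX
  obtain ⟨x, hx, hx1, hx2⟩ := hX
  have hf : ∀ k ∈ sub M.gen wsH, k • M.dec lev.a = M.dec lev.a := fun k hk => (h.stab.ge hk).2
  rcases h.dc x (h2 hx) with h3 | ⟨s, hs, k, hk, k', hk', rfl⟩
  · exact absurd (hf x h3) hx1
  have h3 : s ∈ sosBut lev b := List.mem_filter.2 ⟨hs, by
    rw [Bool.not_eq_true', Bool.eq_false_iff]
    intro e
    have := ((h.subOrb s hs).1 _).2 ⟨k, hk, rfl⟩
    rw [Nat.eq_of_beq_eq_true e, M.mem_S_bit hb] at this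
    exact hx2 (by rw [mul_smul, mul_smul, hf k' hk', this])⟩
  obtain ⟨c, hc⟩ := primChk_spec hp s h3
  refine h.eq_top_of_mem hc h1 h2 ?_
  simpa [mul_assoc] using mul_mem (mul_mem (inv_mem (h1 hk)) hx) (inv_mem (h1 hk'))

theorem LevelRes.simple' {wsH ws : List Word} {lev : Level} {N N' : ℕ}
    (h : M.LevelRes wsH lev N') (hws : sub M.gen ws = sub M.gen (lev.gens wsH))
    (hN : Nat.card (sub M.gen wsH) = N) (h1 : N' ≠ 1) {b : ℕ} (hb : b < n)
    {cs : List (List Word)} (hp : primChk L wsH lev (sosBut lev b) cs = true)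
    (hpair : ∀ x ∈ sub M.gen ws, (∀ g ∈ sub M.gen ws, x • g • M.dec lev.a = g • M.dec lev.a ∨
      x • g • M.dec lev.a = g • M.dec b) → x = 1)
    {z : Γ} (hz : z ∈ sub M.gen ws) {m : ℕ} (hm : z ^ m = 1) (hco : Nat.Coprime m N)
    (hncl : ∀ X, Nml (sub M.gen ws) X → z ∈ X → sub M.gen ws ≤ X) :
    IsSimpleGroup (sub M.gen ws) := by
  rw [hws] at hz hncl hpair ⊢
  refine simple_of_nml (fun e => h1 (by rw [← h.card, e]; simp)) fun X hX hn => ?_
  rcases h.max' hb hp (X ⊔ sub M.gen wsH) le_sup_right (sup_le hX h.le) with h2 | h2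
  · refine Or.inl (eq_bot_iff.2 fun x hx => hpair x (hX hx) fun g hg => ?_)
    have := h2 _ (Subgroup.mem_sup_left (hn _ (inv_mem hg) x hx))
    rwa [inv_inv, mul_smul, mul_smul, inv_smul_eq_iff, inv_smul_eq_iff] at this
  · exact Or.inr (hncl X hn (mem_of_coprime h.le hn h2 hz hm (hN ▸ hco)))

end PM

/-- A primitive group with simple point stabiliser is simple if a group of order the degree
`p ^ k * m` has a normal Sylow `p`-subgroup. -/
theorem simple_of_sylow {Γ : Type*} [Group Γ] {G H : Subgroup Γ} [Finite G] (hH : H ≤ G)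
    [IsSimpleGroup H] (hmax : ∀ X, H ≤ X → X ≤ G → X = H ∨ X = G)
    (hcore : ∀ X, X ≤ H → Nml G X → X = ⊥) {p k m : ℕ} (hn : Nat.card G = Nat.card H * (p ^ k * m))
    (hp : p.Prime) (hk : k ≠ 0) (hpm : ¬ p ∣ m) (hm : m ≠ 1)
    (hd : ∀ d ∈ m.divisors, d % p = 1 % p → d = 1) : IsSimpleGroup G := by
  have hHb : H ≠ ⊥ := (Subgroup.nontrivial_iff_ne_bot H).1 inferInstance
  have := Fact.mk hp
  have hf : Finite H := Finite.of_injective _ (Subgroup.inclusion_injective hH)
  have key : ∀ X, X ≤ G → Nml G X → X ≠ ⊥ → X ⊓ H = ⊥ → Nat.card X = p ^ k * m := by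
    intro X hX hn' h0 h1
    have h2 : X ⊔ H = G := (hmax _ le_sup_right (sup_le hX hH)).resolve_left
      fun h => h0 (hcore X (le_sup_left.trans h.le) hn')
    refine Nat.eq_of_mul_eq_mul_left (Nat.card_pos (α := H)) ?_
    rw [← hn, mul_comm, ← Nat.card_prod]
    refine Nat.card_eq_of_bijective (fun x => ⟨x.1.1 * x.2.1, mul_mem (hX x.1.2) (hH x.2.2)⟩)
      ⟨fun x y e => ?_, fun g => ?_⟩
    · have e1 : x.1.1 * x.2.1 = y.1.1 * y.2.1 := congrArg Subtype.val e
      have e2 : y.1.1⁻¹ * x.1.1 = y.2.1 * x.2.1⁻¹ := by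
        rw [inv_mul_eq_iff_eq_mul, ← mul_assoc, ← e1, mul_inv_cancel_right]
      have e3 : y.1.1⁻¹ * x.1.1 = 1 := h1.le
        ⟨X.mul_mem (X.inv_mem y.1.2) x.1.2, e2 ▸ H.mul_mem y.2.2 (H.inv_mem x.2.2)⟩
      exact Prod.ext (Subtype.ext (inv_mul_eq_one.1 e3).symm)
        (Subtype.ext (mul_inv_eq_one.1 (e2 ▸ e3)).symm)
    · obtain ⟨x, hx, h, hh, e⟩ := exists_mul_of_mem_sup hH hn' (h2.ge g.2)
      exact ⟨(⟨x, hx⟩, ⟨h, hh⟩), Subtype.ext e.symm⟩
  refine simple_of_nml (fun h => hHb (eq_bot_iff.2 (h ▸ hH))) fun X hX hn' => ?_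
  refine or_iff_not_imp_left.2 fun h0 => ?_
  rcases nml_of_simple (X ⊓ H) inf_le_right (fun g hg x hx =>
    ⟨hn' g (hH hg) x hx.1, H.mul_mem (H.mul_mem hg hx.2) (H.inv_mem hg)⟩) with h1 | h1
  · exfalso
    have hc := key X hX hn' h0 h1
    have : Finite X := Finite.of_injective _ (Subgroup.inclusion_injective hX)
    obtain ⟨P⟩ : Nonempty (Sylow p X) := inferInstance
    have hP : Nat.card P = p ^ k := by
      rw [P.card_eq_multiplicity, hc, Nat.factorization_mul (pow_ne_zero _ hp.ne_zero)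
        (show m ≠ 0 from fun h => hpm (h ▸ dvd_zero p)), Finsupp.add_apply, hp.factorization_pow,
        Finsupp.single_eq_same, Nat.factorization_eq_zero_of_not_dvd hpm, add_zero]
    have hi : P.index = m := Nat.eq_of_mul_eq_mul_left (pow_pos hp.pos k) (by
      rw [← hc, ← hP, Subgroup.card_mul_index])
    have h3 : Nat.card (Sylow p X) = 1 := hd _ (Nat.mem_divisors.2 ⟨hi ▸ P.card_dvd_index,
      fun h => hpm (h ▸ dvd_zero p)⟩) (card_sylow_modEq_one p X)
    have : Subsingleton (Sylow p X) := (Nat.card_eq_one_iff_unique.1 h3).1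
    have hch := P.characteristic_of_subsingleton
    have h4 : Nml G ((P : Subgroup X).map X.subtype) := by
      rintro g hg _ ⟨x, hx, rfl⟩
      let f : X ≃* X := conjEquiv g fun x => ⟨fun h => by
        simpa [mul_assoc] using hn' _ (inv_mem hg) _ h, hn' g hg x⟩
      exact ⟨f x, (Subgroup.characteristic_iff_map_eq.1 hch f).le ⟨x, hx, rfl⟩, rfl⟩
    have h5 := key _ ((Subgroup.map_subtype_le _).trans hX) h4 (fun h => by
      have := congrArg (fun K : Subgroup Γ => Nat.card K) h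
      simp only [Subgroup.card_map_of_injective X.subtype_injective, hP, Subgroup.card_bot] at this
      exact hk ((Nat.pow_eq_one.1 this).resolve_left hp.ne_one))
      (eq_bot_iff.2 ((inf_le_inf_right _ (Subgroup.map_subtype_le _)).trans h1.le))
    rw [Subgroup.card_map_of_injective X.subtype_injective, hP] at h5
    exact hm (Nat.eq_of_mul_eq_mul_left (pow_pos hp.pos k) (by rw [← h5, mul_one]))
  · rcases hmax X (h1.trans inf_le_left) hX with h2 | h2
    · exact absurd (hcore X h2.le hn') h0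
    · exact h2.ge

instance (priority := high) instActSub (H : Subgroup Co0) : MulAction H Λ := Subgroup.instMulAction
instance (priority := high) instSMulSub (H : Subgroup Co0) : SMul H Λ := (instActSub H).toSMul
instance (priority := high) instActT (H : Subgroup Co0) (T : SubMulAction H Λ) : MulAction H T :=
  SubMulAction.mulAction T
instance (priority := high) instSMulT (H : Subgroup Co0) (T : SubMulAction H Λ) : SMul H T :=
  (instActT H T).toSMul

theorem exists_div5 {x : V} (hx : x ∈ leechLattice) (h : ∀ p, (5 : ℤ) ∣ x p) :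
    ∃ z ∈ leechLattice, x = (5 : ℤ) • z := by
  have e : x = (5 : ℤ) • fun p => x p / 5 := funext fun p => by
    have := h p
    show x p = 5 * (x p / 5)
    omega
  refine ⟨_, ?_, e⟩
  have := sub_mem (zsmul_mem hx 5) (zsmul_mem (eight_smul_mem fun p => x p / 5) 3)
  generalize (fun p => x p / 5) = z at e this
  rwa [e, smul_smul, smul_smul, ← sub_smul, show (5 * 5 - 3 * 8 : ℤ) = 1 by norm_num, one_smul] at this

theorem eq_of_mod5 {x y : Λ} (hx : sqNorm x.1 ≤ 64) (hy : sqNorm y.1 ≤ 64)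
    (h : ∀ p, (5 : ℤ) ∣ x.1 p - y.1 p) : x = y := by
  obtain ⟨z, hz, e⟩ := exists_div5 (sub_mem x.2 y.2) h
  by_contra hne
  have h1 := min_norm hz fun h0 => hne (Subtype.ext (by rwa [h0, smul_zero, sub_eq_zero] at e))
  have h2 := sqNorm_sub x.1 y.1
  have h3 := sqNorm_add x.1 y.1
  have h4 := sqNorm_nonneg (x.1 + y.1)
  rw [e, sqNorm_zsmul] at h2
  omega

/-- The vectors `xs` span the lattice modulo 5 (`C` holds the coefficients). -/
noncomputable def spanChk5 (xs C : List Nat) : Bool :=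
  allLt (fun p => allLt (fun q => eqZ (Int.emod (Int.sub (ite' (Nat.beq q p) 8 0)
    (sum24 fun j => Int.mul (bv (getL 0 C p) j) (bv (getL 0 xs j) q))) 5) 0) 24) 24

theorem eq_one_of_span5 {xs C : List ℕ} (h : spanChk5 xs C = true) {g : Co0}
    (hg : ∀ j < 24, ∃ x : Λ, x.1 = vecN (getL 0 xs j) ∧ g • x = x) : g = 1 := by
  choose! x h1 h2 using hg
  refine eq_one_of_fix_frame fun p => ?_
  let y : Λ := ∑ j ∈ range 24, bv (getL 0 C (gi p)) j • x j
  have hy : g • y = y := by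
    rw [smul_sum]
    exact sum_congr rfl fun j hj => by rw [smul_zsmul, h2 j (mem_range.1 hj)]
  have h3 : ∀ q, (5 : ℤ) ∣ (fr p).1 q - y.1 q := fun q => by
    have := of_decide_eq_true (all24 (all24 h p) q)
    rw [ite'_beq, sum24_eq] at this
    rw [AddSubgroup.val_finsetSum, Finset.sum_apply]
    refine Int.dvd_of_emod_eq_zero (Eq.trans ?_ this)
    refine congrArg (· % 5) (congrArg₂ (· - ·) (Pi.single_apply _ _ _) ?_)
    refine sum_congr rfl fun j hj => ?_
    rw [AddSubgroup.coe_zsmul, h1 j (mem_range.1 hj)]; rfl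
  obtain ⟨z, hz, e⟩ := exists_div5 (sub_mem (fr p).2 y.2) h3
  have e' : fr p - y = (5 : ℤ) • (⟨z, hz⟩ : Λ) := Subtype.ext e
  have e2 : g • fr p - y = (5 : ℤ) • (g • (⟨z, hz⟩ : Λ)) := by rw [← smul_zsmul, ← e', smul_sub, hy]
  have hn : sqNorm (fr p).1 ≤ 64 := by simp [fr, sqNorm, Pi.single_apply]
  refine eq_of_mod5 ((sqNorm_smul g _).trans_le hn) hn fun q => ?_
  have h1 : (g • fr p : Λ).1 q - y.1 q = 5 * (g • (⟨z, hz⟩ : Λ) : Λ).1 q :=
    congrFun (congrArg Subtype.val e2) q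
  have := h3 q
  omega

/-- The columns with the same inner products (modulo 15) with the columns `bs` as column `a`. -/
noncomputable def clsL (N : Nat) (X : List Q) (bs : List Nat) (a : Nat) : Nat :=
  @List.rec Nat (fun _ => Nat) (full N) (fun b _ ih =>
    (fun q : Q => q.frc (Nat.land (q.eqc (full N) (q.val a)) ih)) (ipC N X b)) bs

/-- Each point of `es` is determined by its inner products with `bs` and the earlier ones. -/
noncomputable def extChk (N : Nat) (X : List Q) (es : List Nat) : List Nat → Bool :=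
  @List.rec Nat (fun _ => List Nat → Bool) (fun _ => true) (fun e _ ih bs =>
    Nat.ble (Nat.succ e) N && (Nat.beq (clsL N X bs e) (bit e) && ih (e :: bs))) es

noncomputable def ltAll (N : Nat) (bs : List Nat) : Bool := bs.all fun b => Nat.ble (Nat.succ b) N

noncomputable def topChk (N : Nat) (X : List Q) (bs es : List Nat) (a Δ : Nat) : Bool :=
  ltAll N (a :: bs) && (extChk N X es bs && subs (clsL N X (List.append es bs) a) Δ)

/-- The points `bs`, the points they determine and the vectors `us` span the lattice modulo 3 or 5. -/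
noncomputable def finChk (N : Nat) (X : List Q) (bs es us idx xs C : List Nat) : Bool :=
  ltAll N bs && (extChk N X es bs && ((spanChk xs C || spanChk5 xs C) && allLt (fun j =>
    us.any (Nat.beq (getL 0 xs j)) || ((List.append es bs).any (Nat.beq (getL 0 idx j)) &&
      colChk X (getL 0 idx j) (getL 0 xs j))) 24))

/-- A machine on a set of short vectors with residues `X`. -/
structure LM {H : Subgroup Co0} {T : SubMulAction H Λ} {N : ℕ} {L : List Net} (X : List Q)
    (M : PM H T N L) : Prop where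
  len : X.length = 24
  rs : ∀ x : T, Rs X x (M.enc x)

namespace LM
variable {H : Subgroup Co0} {T : SubMulAction H Λ} {N : ℕ} {L : List Net} {X : List Q}
  {M : PM H T N L} (h : LM X M)
include h

theorem rs_dec {i : ℕ} (hi : i < N) : Rs X (M.dec i) i := by
  have := h.rs (M.dec i); rwa [M.enc_dec i hi] at this

theorem dec_eq {i y : ℕ} (hi : i < N) (hc : colChk X i y = true) {x : Λ} (hx : x.1 = vecN y) :
    (M.dec i : Λ) = x := (h.rs_dec hi).unique (rs_of_colChk hc hx)

theorem mem_clsL {bs : List ℕ} (hb : ∀ b ∈ bs, b < N) {a : ℕ} (ha : a < N) {x : T}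
    (hx : ∀ b ∈ bs, dotInt (M.dec b : Λ).1 x.1.1 = dotInt (M.dec b : Λ).1 (M.dec a : Λ).1) :
    x ∈ M.S (clsL N X bs a) := by
  induction bs with
  | nil => exact M.mem_S_full' x
  | cons b bs ih =>
    have e : clsL N X (b :: bs) a = Nat.land ((ipC N X b).eqc (full N) ((ipC N X b).val a))
      (clsL N X bs a) := Q.frc_eq _ _
    have hb' := h.rs_dec (hb b (List.mem_cons_self ..))
    rw [PM.mem_S, e, Q.ta, Bool.and_eq_true]
    refine ⟨?_, ih (fun c hc => hb c (List.mem_cons_of_mem _ hc))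
      fun c hc => hx c (List.mem_cons_of_mem _ hc)⟩
    rw [Q.testBit_eqc (testBit_full_of_lt (M.enc_lt x)) _ (Q.val_lt _ _), Q.cast_val,
      (h.rs x).at_ipC h.len (M.enc_lt x) hb', (h.rs_dec ha).at_ipC h.len ha hb',
      hx b (List.mem_cons_self ..)]

theorem smul_mem_clsL {bs : List ℕ} (hb : ∀ b ∈ bs, b < N) {a : ℕ} (ha : a < N) {g : H}
    (hg : M.FixL bs g) : g • M.dec a ∈ M.S (clsL N X bs a) := h.mem_clsL hb ha fun b hb' => by
  conv_lhs => rw [← hg b hb']
  exact dot_smul g.1 _ _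

theorem fix_ext {es bs : List ℕ} (hc : extChk N X es bs = true) (hb : ∀ b ∈ bs, b < N) {g : H}
    (hg : M.FixL bs g) : (∀ b ∈ es ++ bs, b < N) ∧ M.FixL (es ++ bs) g := by
  induction es generalizing bs with
  | nil => exact ⟨hb, hg⟩
  | cons e es ih =>
    have e1 : extChk N X (e :: es) bs = (Nat.ble (e + 1) N && (Nat.beq (clsL N X bs e) (bit e) &&
      extChk N X es (e :: bs))) := rfl
    rw [e1, Bool.and_eq_true, Bool.and_eq_true] at hc
    have he : e < N := Nat.le_of_ble_eq_true hc.1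
    have h1 := h.smul_mem_clsL hb he hg
    rw [Nat.eq_of_beq_eq_true hc.2.1, M.mem_S_bit he] at h1
    obtain ⟨i1, i2⟩ := ih hc.2.2 (fa_cons he hb) (fa_cons h1 hg)
    have p : ∀ b ∈ e :: es ++ bs, b ∈ es ++ e :: bs := fun b hb => List.perm_middle.symm.subset hb
    exact ⟨fun b hb => i1 b (p b hb), fun b hb => i2 b (p b hb)⟩

omit h in
theorem lt_of_ltAll {bs : List ℕ} (hc : ltAll N bs = true) : ∀ b ∈ bs, b < N :=
  fun b hb => Nat.le_of_ble_eq_true (List.all_eq_true.1 hc b hb)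

theorem mem_top {bs es : List ℕ} {a Δ : ℕ} (hc : topChk N X bs es a Δ = true) {g : H}
    (hg : M.FixL bs g) : g • M.dec a ∈ M.S Δ := by
  simp only [topChk, Bool.and_eq_true] at hc
  have h1 := lt_of_ltAll hc.1
  obtain ⟨i1, i2⟩ := h.fix_ext hc.2.1 (fun b hb => h1 b (List.mem_cons_of_mem _ hb)) hg
  exact M.S_mono hc.2.2 (h.smul_mem_clsL i1 (h1 a (List.mem_cons_self ..)) i2)

theorem eq_one {bs es us idx xs C : List ℕ} (hc : finChk N X bs es us idx xs C = true) {g : H}
    (hu : ∀ u ∈ us, ∃ x : Λ, x.1 = vecN u ∧ g • x = x) (hg : M.FixL bs g) : g = 1 := by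
  simp only [finChk, Bool.and_eq_true] at hc
  obtain ⟨i1, i2⟩ := h.fix_ext hc.2.1 (lt_of_ltAll hc.1) hg
  suffices h : ∀ j < 24, ∃ x : Λ, x.1 = vecN (getL 0 xs j) ∧ g.1 • x = x from
    Subtype.ext (((Bool.or_eq_true _ _).mp hc.2.2.1).elim (eq_one_of_span3 · h) (eq_one_of_span5 · h))
  intro j hj
  have := allLt_spec hc.2.2.2 j hj
  simp only [Bool.or_eq_true, Bool.and_eq_true, List.any_eq_true] at this
  rcases this with ⟨u, hu', e⟩ | ⟨⟨i, hi, e⟩, h2⟩
  · rw [Nat.eq_of_beq_eq_true e]; exact hu u hu'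
  · rw [Nat.eq_of_beq_eq_true e] at h2
    have h3 : leechB (bv (getL 0 xs j)) = true := by
      simp only [colChk, Bool.and_eq_true] at h2; exact h2.2.1
    refine ⟨lv _ h3, rfl, ?_⟩
    rw [← h.dec_eq (i1 i hi) h2 (x := lv _ h3) rfl]
    exact congrArg Subtype.val (i2 i hi)

theorem faithful {bs es us idx xs C : List ℕ} (hc : finChk N X bs es us idx xs C = true)
    (hu : ∀ u ∈ us, ∃ x : Λ, x.1 = vecN u ∧ ∀ g : H, g • x = x) : FaithfulSMul H T :=
  ⟨fun {a b} e => inv_mul_eq_one.1 (h.eq_one hc (fun u hu' => (hu u hu').imp fun _ h => ⟨h.1, h.2 _⟩)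
    fun _ _ => by rw [mul_smul, ← e, inv_smul_smul])⟩

theorem mem_S_clsV {y : ℕ} {u : Λ} (hu : u.1 = vecN y) (hn : sqNorm u.1 ≤ 64) {c : ℤ}
    (hc : 8 ∣ c ∧ -56 ≤ c ∧ c ≤ 56) {x : T} (hx : sqNorm x.1.1 ≤ 48) :
    x ∈ M.S (clsV N X y c) ↔ dotInt u.1 x.1.1 = c := by
  have h1 : ((c % 15).toNat : ℤ) = c % 15 := Int.toNat_of_nonneg (by omega)
  rw [PM.mem_S, show clsV N X y c = (ipV N X y).eqc (full N) (c % 15).toNat from rfl,
    Q.testBit_eqc (testBit_full_of_lt (M.enc_lt x)) _ (show (c % 15).toNat < 15 by omega),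
    (h.rs x).at_ipV h.len (M.enc_lt x), ← Int.cast_natCast, h1, ← hu,
    show ((c % 15 : ℤ) : ZMod 15) = c from ZMod.intCast_mod c 15]
  have := abs_dot_le hn hx
  exact ⟨fun h => eq_of_mod15 (dvd_sub (eight_dvd_dot u.2 x.1.2) hc.1) h (by omega) (by omega),
    fun h => by rw [h]⟩

end LM

/-- The machine of a family of short vectors that numbers an invariant set. -/
theorem lm_of_lf {H : Subgroup Co0} {T : SubMulAction H Λ} {gen : ℕ → H} {k N : ℕ} {L : List Net}
    {X : List Q} (h0 : 0 < N) (hs : N < 2 ^ 31) (hok : netsOk N L = true) (hX : X.length = 24)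
    {ss : List (ℕ × ℕ)} {sched : List Word}
    (hr : subs (full N) (orbRun L (lets k) sched (bits (ss.map Prod.fst))) = true)
    (hss : seedChk N X ss = true)
    (hg : ∀ l < k, ∃ R, ∃ hR : coChk R = true, lfChk N (getL Net.nil L l) R X = true ∧
      (gen l).1 = coOf R hR)
    (hT : ∀ s ∈ ss, s.1 < N ∧ ∀ x : Λ, x.1 = vecN s.2 → x ∈ T) (hc : (T : Set Λ).ncard = N)
    {ds : List Word} (hd : defOk ds k = true) (hlen : L.length ≤ k + ds.length)
    (hR : Rels (permPM N L h0 hs hok).gen (defRels ds k)) :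
    ∃ M : PM H T N L, LM X M ∧ (FaithfulSMul H T → ∀ l < k, M.gen l = gen l) := by
  obtain ⟨f, F⟩ := leech_fam (gen := gen) h0 hs hok hX hr hss fun l hl =>
    let ⟨R, hR, h1, h2⟩ := hg l hl
    ⟨R, hR, h1, fun x => congrArg (· • x) h2⟩
  have h1 : ∀ i < N, f i ∈ T := fun i => F.fam.mem_of_seeds fun s hs => by
    obtain ⟨t, ht, rfl⟩ := List.mem_map.1 hs
    have := List.all_eq_true.1 hss t ht
    rw [Bool.and_eq_true] at this
    have h3 : leechB (bv t.2) = true := by
      have := this.1; simp only [colChk, Bool.and_eq_true] at this; exact this.2.1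
    rw [F.eq_of_colChk (hT t ht).1 this.1 (x := lv _ h3) rfl]
    exact (hT t ht).2 _ rfl
  have h2 := F.fam.surj_of_ncard h1 hc
  refine ⟨F.fam.pm h1 h2 hd hlen hR, ⟨hX, fun x => ?_⟩, fun _ l hl => F.fam.pm_gen _ _ _ _ _ hl⟩
  have := F.rs _ ((F.fam.pm h1 h2 hd hlen hR).enc_lt x)
  rwa [F.fam.pm_enc] at this

theorem dot_smul_of_fix {g : Co0} {u : Λ} (h : g • u = u) (x : Λ) :
    dotInt u.1 (g • x : Λ).1 = dotInt u.1 x.1 := by
  conv_lhs => rw [← h]
  exact dot_smul g _ _

/-- Minimal vectors with a given inner product with `u`. -/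
def Cls1 (u : Λ) (c : ℤ) : SubMulAction (stabilizer Co0 u) Λ where
  carrier := {x | sqNorm x.1 = 32 ∧ dotInt u.1 x.1 = c}
  smul_mem' g x h := ⟨(sqNorm_smul g.1 x).trans h.1, (dot_smul_of_fix g.2 x).trans h.2⟩

/-- Minimal vectors with given inner products with `u` and `w`. -/
def Cls2 (u w : Λ) (c d : ℤ) : SubMulAction (stabilizer Co0 u ⊓ stabilizer Co0 w : Subgroup Co0) Λ where
  carrier := {x | sqNorm x.1 = 32 ∧ dotInt u.1 x.1 = c ∧ dotInt w.1 x.1 = d}
  smul_mem' g x h := ⟨(sqNorm_smul g.1 x).trans h.1, (dot_smul_of_fix g.2.1 x).trans h.2.1,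
    (dot_smul_of_fix g.2.2 x).trans h.2.2⟩

theorem ncard_Cls1 {u : Λ} {y : ℕ} (hu : u.1 = vecN y) (hn : sqNorm u.1 ≤ 64) {c : ℤ}
    (hc : 8 ∣ c ∧ -64 ≤ c ∧ c ≤ 64) :
    (Cls1 u c : Set Λ).ncard = pop 196560 (clsV 196560 LB.X y c) :=
  ncard_min (P := fun x => dotInt u.1 x.1 = c) fun _ hi =>
    (bF.testBit_clsV' hi hu hn (norm_bf hi) hc).symm

theorem ncard_Cls2 {u w : Λ} {y z : ℕ} (hu : u.1 = vecN y) (hn : sqNorm u.1 ≤ 64) (hw : w.1 = vecN z)
    (hn' : sqNorm w.1 ≤ 64) {c d : ℤ} (hc : 8 ∣ c ∧ -64 ≤ c ∧ c ≤ 64) (hd : 8 ∣ d ∧ -64 ≤ d ∧ d ≤ 64) :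
    (Cls2 u w c d : Set Λ).ncard =
      pop 196560 (Nat.land (clsV 196560 LB.X y c) (clsV 196560 LB.X z d)) :=
  ncard_min (P := fun x => dotInt u.1 x.1 = c ∧ dotInt w.1 x.1 = d) fun _ hi => by
    rw [Q.ta, Bool.and_eq_true, bF.testBit_clsV' hi hu hn (norm_bf hi) hc,
      bF.testBit_clsV' hi hw hn' (norm_bf hi) hd]

end H14
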