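import Cfsg.Agent.H14.LyL
import Cfsg.Agent.H14.LyS
import Cfsg.Agent.H15.Ly2
import Cfsg.Agent.L.Out2
import Cfsg.Agent.L.Br2

/-! Relations of the presented group `Ly` checked in the faithful representation (`rels_rho`) or on 3906 points
(`rels_pm`), and the Schur multiplier (`schur_Ly`). -/

set_option autoImplicit false
set_option maxRecDepth 100000

namespace H14.Ly
open Cfsg L Cfsg.Spor H15.Ly LyL

instance : Finite Spor.Ly := fin_of_card main.2.2.2.1 (by decide)
instance : Finite Y' := fin_of_card cardY' (by decide)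

theorem hom_ext {Γ : Type*} [Group Γ] {φ ψ : Spor.Ly →* Γ} (h : ∀ l < 5, φ (g l) = ψ (g l)) : φ = ψ :=
  MonoidHom.ext fun a => (show ⊤ ≤ φ.eqLocus ψ from top5 ▸ H15.lts_le h) trivial

theorem rels_rho {l : List (Word × Word)} (h : H15.LyM.c.rels H15.LyM.ms l = true)
    (h' : l.all (fun p => (p.1 ++ p.2).all (Nat.blt · 10)) = true) : Rels g l := fun p hp => by
  have h1 : ∀ a ∈ p.1 ++ p.2, a < 2 * 5 := fun a ha => by
    simpa using List.all_eq_true.1 (List.all_eq_true.1 h' p hp) a ha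
  refine main.2.1 ?_
  rw [map_ev, map_ev, ev_congr rho_g fun a ha => h1 a (List.mem_append_left _ ha),
    ev_congr rho_g fun a ha => h1 a (List.mem_append_right _ ha)]
  exact H15.BP.rels_of_chk H15.LyM.c_ok H15.LyM.hgen h p hp

/-- words in `a, b, c, d` -/
def allH (l : List (Word × Word)) : Bool := l.all fun p => (p.1 ++ p.2).all (Nat.blt · 8)

theorem rels_pm {l : List (Word × Word)} (h : relsChk 3906 H15.LyG.nets 12 (idArr 3906 12 12 0) l = true)
    (h' : allH l = true) : Rels g l := fun p hp => by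
  have h1 : ∀ a ∈ p.1 ++ p.2, a < 2 * 4 := fun a ha => by
    simpa using List.all_eq_true.1 (List.all_eq_true.1 h' p hp) a ha
  rw [← ev_congr theta_gen' fun a ha => h1 a (List.mem_append_left _ ha),
    ← ev_congr theta_gen' fun a ha => h1 a (List.mem_append_right _ ha), ← map_ev, ← map_ev,
    M'.rels_of_idArr (by decide) h p hp]

/-- all relators used -/
noncomputable def RA : List Word := R.map List.reverse ++ RY

theorem ra : ∀ w ∈ RA, ev g w = 1 := fun w hw => by
  rcases List.mem_append.1 hw with h | h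
  · obtain ⟨v, hv, rfl⟩ := List.mem_map.1 h
    rw [H15.ev14]; exact rel v hv
  · exact (rels_rho ry (by decide +kernel)).of_toRels w h

theorem tri_alg {Γ : Type*} [Group Γ] {z u α h y g1 g2 g3 k1 k1' k2 k2' k3 k3' : Γ} (hz : z * z = u)
    (e : α * z * (h * z) = h * z * y) (a1 : k1 * z = z * k1') (a2 : k2 * z = z * k2') (a3 : k3 * z = z * k3')
    (b1 : α * k2 = h * u * k1' * g1) (b2 : h * k3 = k2' * g2) (b3 : k1 = y * k3' * g3) :
    g3 * z * g1 * z * g2 * z = 1 := by
  rw [← inv_mul_eq_iff_eq_mul] at e a1 a2 a3 b1 b2 b3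
  subst hz e a1 a2 a3 b1 b2 b3
  group

/-- conjugation by `z` -/
noncomputable def cw (i : ℕ) : Word := invW (getL [] KP i) ++ ([8] ++ (getL [] KW i ++ [9]))
/-- `z h z` -/
def gW (h : Word) : Word := [8] ++ (h ++ [8])
/-- first shape of the quadrangle relators -/
noncomputable def qA (h s r : Word) : Word := r ++ (gW h ++ (s ++ invW (gW h)))
/-- second shape of the quadrangle relators -/
noncomputable def qB (h s r : Word) : Word := r ++ (invW (gW h) ++ (s ++ gW h))
/-- the triangle relator -/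
noncomputable def w83 : Word := [8] ++ (x368 ++ ([8] ++ (x364 ++ ([8] ++ x47))))
/-- the relations for a quadrangle -/
noncomputable def qR (h s v w : Word) (n : ℕ) : List (Word × Word) :=
  [(h ++ flat KP v, flat KW w ++ h), (powW (flat KW v ++ s) n, [])]
/-- the relations for the triangle -/
noncomputable def tR : List (Word × Word) := [(flat KW v2 ++ al, x364 ++ (flat KP v1 ++ ([0, 0] ++ hh))),
  (flat KW v3 ++ hh, x368 ++ flat KP v2), (flat KW v1, x47 ++ (flat KP v3 ++ yy))]

theorem qA_iff {Γ : Type*} [Group Γ] (f : ℕ → Γ) (h s r : Word) :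
    ev f (qA h s r) = 1 ↔ ev f s * ev f (gW h) = ev f (gW h) * ev f (invW r) := by
  simp only [qA, ev_append, ev_invW]
  rw [mul_eq_one_iff_eq_inv, mul_assoc, inv_mul_eq_iff_eq_mul]

theorem qB_iff {Γ : Type*} [Group Γ] (f : ℕ → Γ) (h s r : Word) :
    ev f (qB h s r) = 1 ↔ ev f (invW r) * ev f (gW h) = ev f (gW h) * ev f s := by
  simp only [qB, ev_append, ev_invW]
  rw [mul_eq_one_iff_eq_inv, mul_inv_eq_iff_eq_mul, eq_comm]

theorem cw_iff {Γ : Type*} [Group Γ] (f : ℕ → Γ) (i : ℕ) :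
    ev f (cw i) = 1 ↔ (f 4)⁻¹ * loc f KW i * (f 4)⁻¹⁻¹ = loc f KP i := by
  rw [← mul_inv_eq_one (b := loc f KP i)]
  simp [cw, ev_append, letter, loc, mul_assoc]

theorem hq1 : relsChk 3906 H15.LyG.nets 12 (idArr 3906 12 12 0) (tR ++ qR x23 x369 qa1 qa2 7) = true := by
  decide +kernel
theorem hq2 : relsChk 3906 H15.LyG.nets 12 (idArr 3906 12 12 0)
    (qR x366 (invW x370) qb1 qb2 3 ++ qR x96 (invW x371) qc1 qc2 3) = true := by decide +kernel
theorem hq3 : relsChk 3906 H15.LyG.nets 12 (idArr 3906 12 12 0)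
    (qR x366 (invW x370) [] [] 8 ++ qR x96 (invW x371) [] [] 4) = true := by decide +kernel
theorem hq5 : relsChk 3906 H15.LyG.nets 12 (idArr 3906 12 12 0)
    ((List.range 5).map fun i => (powW (getL [] KW i) 5, [])) = true := by decide +kernel

section
variable {Γ : Type} [Group Γ] {σ : Γ →* Spor.Ly} {p : ℕ} (h : CE σ p) {x : ℕ → Γ} (hx : ∀ l, σ (x l) = g l)
  {N : Subgroup Γ} (hN : ∀ n ∈ N, σ n = 1 → n = 1) (hk : ∀ l < 4, x l ∈ N)
include hx

theorem sev (w : Word) : σ (ev x w) = ev g w := by rw [map_ev, funext hx]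

omit hx in
include hk in
theorem evN {w : Word} (hw : w.all (Nat.blt · 8) = true) : ev x w ∈ N :=
  ev_mem hk fun a ha => by simpa using List.all_eq_true.1 hw a ha

include hN hk

theorem inN {l : List (Word × Word)} (hl : Rels g l) (h' : allH l = true) : Rels x l := fun q hq => by
  have a := List.all_eq_true.1 h' q hq
  rw [List.all_append, Bool.and_eq_true] at a
  refine (inv_mul_eq_one.1 (hN _ (mul_mem (inv_mem (evN hk a.2)) (evN hk a.1)) ?_)).symm
  rw [map_mul, map_inv, sev hx, sev hx, hl q hq, inv_mul_cancel]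

include h

theorem conj_eq {n : ℕ} (hn : Nat.Coprime p n) {t G : Γ} {y : Word} (hy : y.all (Nat.blt · 8) = true)
    (ht : t ^ n = 1) (e : σ t * σ G = σ G * ev g y) : t * G = G * ev x y := by
  have a : σ (G⁻¹ * t * G⁻¹⁻¹) = σ (ev x y) := by
    rw [inv_inv, map_mul, map_mul, mul_assoc, e, map_inv, inv_mul_cancel_left, sev hx]
  have b : (G⁻¹ * t * G⁻¹⁻¹) ^ n = 1 := by rw [conj_pow, ht]; group
  rw [← eq_of_pow h hn a b (hN _ (pow_mem (evN hk hy) n) (by rw [map_pow, ← a, ← map_pow, b, map_one]))]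
  group

omit hx hN hk h in
theorem kmove (hK : ∀ i < 8, ev x (cw i) = 1) (v : Word) :
    ev x (flat KW v) * x 4 = x 4 * ev x (flat KP v) := by
  have a : ∀ i, (MulAut.conj (x 4)⁻¹).toMonoidHom (loc x KW i) = loc x KP i := fun i => by
    by_cases hi : i < 8
    · exact (cw_iff x i).1 (hK i hi)
    · obtain ⟨j, rfl⟩ : ∃ j, i = j + 8 := ⟨i - 8, by omega⟩
      exact map_one _
  rw [ev_flat, ev_flat, ← funext a, ← map_ev]
  simp [mul_assoc]

theorem quad (hK : ∀ i < 8, ev x (cw i) = 1) {k s s' v w : Word} {n : ℕ} (hn : Nat.Coprime p n)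
    (hR : Rels x (qR k s v w n)) (hy : (flat KP w ++ s').all (Nat.blt · 8) = true)
    (e : ev g s * ev g (gW k) = ev g (gW k) * ev g s') : ev x s * ev x (gW k) = ev x (gW k) * ev x s' := by
  have a : ev x (k ++ flat KP v) = ev x (flat KW w ++ k) := hR _ List.mem_cons_self
  have b : ev x (powW (flat KW v ++ s) n) = 1 := hR _ (List.mem_cons_of_mem _ List.mem_cons_self)
  rw [ev_append, ev_append] at a
  rw [ev_powW] at b
  have c : ev x (flat KW v) * ev x (gW k) = ev x (gW k) * ev x (flat KP w) := by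
    simp only [gW, ev_append, ev_single x 4]
    rw [← mul_assoc, ← mul_assoc, kmove hK, mul_assoc (x 4), a, ← mul_assoc, mul_assoc _ _ (x 4), kmove hK,
      ← mul_assoc]
  have d := conj_eq h hx hN hk hn (G := ev x (gW k)) hy b (by
    have := congrArg σ c
    simp only [map_mul, sev hx, ev_append] at this ⊢
    rw [mul_assoc, this, ← mul_assoc, e, mul_assoc])
  rw [ev_append, ev_append, mul_assoc, c, ← mul_assoc, ← mul_assoc] at d
  exact mul_right_cancel d

theorem fin (h5 : Nat.Coprime p 5) (h7 : Nat.Coprime p 7) {K : List Word} (hK : ∀ w ∈ K, ev x w = 1)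
    (hc : allL (fun w => List.elem w K) [cw 5, cw 6, cw 7, [1, 1, 8, 8], powW ([8] ++ al) 5,
      (R.getD 81 []).reverse] = true) {v w v' w' : Word} {n n' : ℕ} (hn : Nat.Coprime p n) (hn' : Nat.Coprime p n')
    (hq : Rels x (qR x366 (invW x370) v w n ++ qR x96 (invW x371) v' w' n'))
    (hw : (flat KP w ++ x365).all (Nat.blt · 8) = true) (hw' : (flat KP w' ++ x25).all (Nat.blt · 8) = true) :
    Sec σ ⊤ := by
  have c := fun w hw => hK w (List.mem_of_elem_eq_true (allL_iff.1 hc w hw))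
  simp only [List.forall_mem_cons] at c
  obtain ⟨c5, c6, c7, c81, cr, c82, -⟩ := c
  have hK : ∀ i < 8, ev x (cw i) = 1 := fun i hi => by
    by_cases h' : i < 5
    · have a := (cw_iff g i).1 (ra _ (by revert i; decide +kernel))
      have b : ev x (powW (getL [] KW i) 5) = 1 := inN hx hN hk (rels_pm hq5 (by decide +kernel))
        (by decide +kernel) _ (List.mem_map_of_mem (List.mem_range.2 h'))
      rw [ev_powW] at b
      rw [cw_iff, inv_inv, mul_assoc, inv_mul_eq_iff_eq_mul, loc, loc]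
      refine conj_eq h hx hN hk h5 (by clear a b; revert i; decide +kernel) b ?_
      rw [sev hx, hx, ← inv_mul_eq_iff_eq_mul, ← mul_assoc]
      rwa [inv_inv] at a
    · obtain rfl | rfl | rfl : i = 5 ∨ i = 6 ∨ i = 7 := by omega
      exacts [c5, c6, c7]
  have r1 := inN hx hN hk (rels_pm hq1 (by decide +kernel)) (by decide +kernel)
  have q4 := (qA_iff x _ _ _).2 (quad h hx hN hk hK h7 r1.right (by decide +kernel)
    ((qA_iff g x23 x369 x29).1 (ra _ (by decide +kernel))))
  have q5 := (qB_iff x _ _ _).2 (quad h hx hN hk hK hn hq.left hw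
    ((qB_iff g x366 x365 x370).1 (ra _ (by decide +kernel))))
  have q6 := (qB_iff x _ _ _).2 (quad h hx hN hk hK hn' hq.right hw'
    ((qB_iff g x96 x25 x371).1 (ra _ (by decide +kernel))))
  have q3 : ev x w83 = 1 := by
    have t := r1.left
    simp only [Rels, tR, List.forall_mem_cons, ev_append] at t
    obtain ⟨t1, t2, t3, -⟩ := t
    rw [ev_powW, ev_append, ev_single x 4] at cr
    have e := conj_eq h hx hN hk h5 (G := ev x hh * x 4) (y := yy) (by decide +kernel) cr (by
      have := rels_rho rt (by decide +kernel) _ List.mem_cons_self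
      simp only [ev_append, ev_single g 4] at this
      simp only [map_mul, sev hx, hx]
      rw [← this, mul_assoc _ (ev g hh)])
    simp only [w83, ev_append, ev_single x 4]
    refine tri_alg (u := ev x [0, 0]) ?_ e (kmove hK v1) (kmove hK v2) (kmove hK v3) t1 t2 t3
    rw [← mul_inv_eq_one, ← c81]; simp [letter, mul_assoc]
  have hZ : ∀ w ∈ (List.range 8).map cw ++ [[1, 1, 8, 8], (R.getD 81 []).reverse, w83, qA x23 x369 x29,
      qB x366 x365 x370, qB x96 x25 x371], ev x w = 1 := fun w hw => by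
    rcases List.mem_append.1 hw with a | a
    · obtain ⟨i, hi, rfl⟩ := List.mem_map.1 a
      exact hK i (List.mem_range.1 hi)
    · exact (fa_cons c81 (fa_cons c82 (fa_cons q3 (fa_cons q4 (fa_cons q5 (fa_cons q6 fa_nil))))) :
        ∀ w ∈ [_, _, _, _, _, _], ev x w = 1) w a
  obtain ⟨φ, hφ⟩ := H15.exists_hom_sb (extra := Ly.extra) ix x D fun r hr => by
    rw [← H15.ev14]
    rcases (by decide +kernel : ∀ r ∈ Ly.extra.map fun r => H15.fr (H15.sb2 D (H15.wordOf (H15.enc14 ix) r)),
      r.reverse ∈ RA ∧ (r.reverse.all (Nat.blt · 8) = true ∨ r.reverse ∈ (List.range 8).map cw ++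
        [[1, 1, 8, 8], (R.getD 81 []).reverse, w83, qA x23 x369 x29, qB x366 x365 x370, qB x96 x25 x371])) r hr
      with ⟨a, b | b⟩
    · exact hN _ (evN hk b) ((sev hx _).trans (ra _ a))
    · exact hZ _ b
  refine sec_of_hom φ fun a => DFunLike.congr_fun (hom_ext (φ := σ.comp φ) (ψ := MonoidHom.id _)
    fun l hl => ?_) a
  refine (congrArg σ (hφ _)).trans ?_
  rw [show D.getD (ix (gl.getD l .a)) [] = [2 * l] by revert l; decide, ← H15.ev14]
  exact (congrArg σ (ev_single x l)).trans (hx l)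

end

/-- the machine with the letters of the certificate -/
noncomputable def MS : PM Y' (H15.Pt pi') 3906 H14LyS.nets := H14LyS.mach (encPM M') (real_take _ rfl)

theorem sec_elim {Γ : Type} [Group Γ] {σ : Γ →* Spor.Ly} (h : Sec σ ((⊤ : Subgroup Y').map theta')) :
    ∃ N : Subgroup Γ, (∀ n ∈ N, σ n = 1 → n = 1) ∧ ∀ l < 4, g l ∈ N.map σ := by
  obtain ⟨N, h1, h2⟩ := h
  refine ⟨N, fun n hn e => ?_, fun l hl => h2 ▸ ⟨_, trivial, theta_gen' l hl⟩⟩
  have : n ∈ N ⊓ σ.ker := ⟨hn, e⟩
  rwa [h1] at this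

theorem sec2 : SecTop g 2 [] := fun Γ _ _ σ h _ => by
  obtain ⟨N, hN, h1⟩ := sec_elim (sec_of_inj inj' (K := ⊤) (fun Γ _ _ σ h => secTop_gas cardY'
    (H14LyS.UC MS) (H14LyS.LC MS) (by decide +kernel) (H14LyS.T2 MS) Γ σ h fa_nil) h)
  obtain ⟨x, hx, hk, h2⟩ := exists_gauge h h1 (Gs := [(4, (R.getD 81 []).reverse, 1)])
    (by decide +kernel) (fa_cons (ra _ (by decide +kernel)) fa_nil)
  exact fin h hx hN hk (by decide) (by decide) (killJ2.glob h hN hk (ws := [[0], [2], [8]])
    (Kg := [(R.getD 81 []).reverse]) (fa_cons (h2 _ List.mem_cons_self) fa_nil)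
    (fun w hw => (sev hx w).trans (ra w hw)) (by decide +kernel)) (by decide +kernel) (by decide) (by decide)
    (inN hx hN hk (rels_pm hq2 (by decide +kernel)) (by decide +kernel)) (by decide +kernel) (by decide +kernel)

theorem sec3 : SecTop g 3 [] := fun Γ _ _ σ h _ => by
  obtain ⟨N, hN, h1⟩ := sec_elim (sec_of_inj inj' (K := ⊤) (fun Γ _ _ σ h => secTop_gas cardY'
    (H14LyS.UP MS) (H14LyS.LP MS) (by decide +kernel) (H14LyS.T3 MS) Γ σ h fa_nil) h)
  obtain ⟨x, hx, hk, h2⟩ := exists_gauge h h1 (Gs := [(4, [1, 1, 8, 8], 2)])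
    (by decide +kernel) (fa_cons (ra _ (by decide +kernel)) fa_nil)
  exact fin h hx hN hk (by decide) (by decide) (killJ3.glob h hN hk (ws := [[0], [2], [8]])
    (Kg := [[1, 1, 8, 8]]) (fa_cons (h2 _ List.mem_cons_self) fa_nil)
    (fun w hw => (sev hx w).trans (ra w hw)) (by decide +kernel)) (by decide +kernel) (by decide) (by decide)
    (inN hx hN hk (rels_pm hq3 (by decide +kernel)) (by decide +kernel)) (by decide +kernel) (by decide +kernel)

theorem sec5 : SecTop g 5 [] := fun Γ _ _ σ h _ => by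
  have e : Nat.card ((sub MS.gen H14LyS.wsQ2).map theta') = 250000 := by
    rw [Subgroup.card_map_of_injective inj']; exact le_antisymm (H14LyS.UQ2 MS).2 (H14LyS.LQ2 MS)
  exact sec_gas h le_top (cop_relIndex le_top ⟨inferInstance, e.le⟩ e.ge
    (Subgroup.card_top.trans main.2.2.2.1) (by decide +kernel))
    (sec_of_inj inj' (fun Γ _ _ σ h => H14LyS.T5 MS Γ σ h fa_nil) h)

theorem schur_Ly : HasCyclicSchurMultiplier Spor.Ly 1 :=
  schur_triv' (gen := g) main.2.2.2.1 (ms := [2, 3, 5]) (a := 8748000000) (b := 5917373) (k := 8) (B := 2433)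
    (by decide +kernel) (fa_cons sec2 (fa_cons sec3 (fa_cons sec5 fa_nil)))

end H14.Ly
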