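import Cfsg.Agent.H14.LyA
import Cfsg.Agent.H14.LyO

/-! The 5-local subgroups of the presented group `Ly` inside `G2(5)`, used for the outer automorphism group. -/

set_option autoImplicit false
set_option maxRecDepth 100000

namespace H14.Ly
open Cfsg L Cfsg.Spor H15.Ly H15.DC MulAction H14LyO Subgroup
open scoped commutatorElement

/-- the subgroup `G2(5)` -/
noncomputable abbrev HH : Subgroup Spor.Ly := theta.range
theorem HH_eq : theta'.range = HH := range_theta'.trans range_theta.symm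

/-- the machine with the letters of the certificate -/
noncomputable def MO : PM Y' (H15.Pt pi') 3906 nets := mach (encPM M') (real_take _ rfl)
/-- the letters of the certificate in `Ly` -/
noncomputable def gG (l : ℕ) : Spor.Ly := theta' (MO.gen l)
local notation "el" => ev gG

theorem el_th (w : Word) : theta' (ev MO.gen w) = el w := map_ev _ _
theorem el_mem (w : Word) : el w ∈ HH := HH_eq ▸ ⟨_, el_th w⟩
theorem rg {l : List (Word × Word)} (h : Rels MO.gen l) : Rels gG l := rels_map theta' h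
theorem sub_th (ws : List Word) : (sub MO.gen ws).map theta' = sub gG ws := map_sub _ _
theorem sub_HH (ws : List Word) : sub gG ws ≤ HH := (sub_le _).2 fun w _ => el_mem w

theorem el_eq {w : Word} (h : w.all (Nat.blt · 8) = true) : el w = ev g w :=
  ev_congr (k := 4) (fun l hl => by rw [gG, gen_eq_take M' MO rfl (k := 4) rfl hl, theta_gen' l hl])
    fun a ha => by simpa using List.all_eq_true.1 h a ha

theorem el_M : ∀ p ∈ XD, el p.1 = theta (ev M.gen p.2) := fun p hp => by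
  have h := (by decide +kernel : ∀ p ∈ XD, p.2.all (Nat.blt · 8) = true) p hp
  rw [rg (RD MO cardY') p hp, el_eq h, map_ev]
  exact (ev_congr theta_gen fun a ha => by simpa using List.all_eq_true.1 h a ha).symm

theorem el_apW {v w : Word} (h : el v = el w) {x : ℕ} (hx : x < 3906) : apW F v x = apW F w x := by
  rw [← enc_ev_dec MO _ hx, ← enc_ev_dec MO _ hx, inj' ((el_th v).trans (h.trans (el_th w).symm))]

theorem fx : (el va ^ 5 = 1 ∧ el vb ^ 5 = 1 ∧ el c1 ^ 5 = 1 ∧ el c2 ^ 5 = 1 ∧ el c3 ^ 5 = 1 ∧ el c4 ^ 5 = 1) ∧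
    (el c1 = ⁅el va, el vb⁆ ∧ el c2 = ⁅el va, el c1⁆ ∧ el c3 = ⁅el va, el c2⁆ ∧ el c4 = ⁅el vb, el c3⁆) ∧
    (el t1 ^ 4 = 1 ∧ el t2 ^ 4 = 1 ∧ el t1 * el t2 = el t2 * el t1) ∧
    ((el t1)⁻¹ * el va * el t1 = el va ^ 2 ∧ (el t1)⁻¹ * el vb * el t1 = el vb ∧
      (el t2)⁻¹ * el va * el t2 = el va ∧ (el t2)⁻¹ * el vb * el t2 = el vb ^ 2) ∧
    (el n1)⁻¹ * el t1 * el n1 = el t1 ^ 3 * el t2 ^ 3 ∧ (el n1)⁻¹ * (el t1 ^ 3 * el t2 ^ 3) * el n1 = el t1 ∧
    el wx = el vb * el t1 := by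
  have := rg (RX MO cardY')
  simp only [Rels, XR, List.forall_mem_cons, ev_append, ev_powW, ev_invW, ev_nil, ev_cmW, ← mul_assoc] at this ⊢
  tauto

/-- the Sylow 5-subgroup -/
noncomputable abbrev PP : Subgroup Spor.Ly := sub gG wsP
/-- `5^(1+4)` -/
noncomputable abbrev QQ : Subgroup Spor.Ly := sub gG wsQ
/-- `5^(2+1+2)` -/
noncomputable abbrev RR : Subgroup Spor.Ly := sub gG wsR
/-- the derived group of `PP` -/
noncomputable abbrev DD : Subgroup Spor.Ly := sub gG wsD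

theorem aD : el va ∈ normalizer (DD : Set Spor.Ly) := norm_of_mem (rg (NvaD MO cardY'))
theorem bD : el vb ∈ normalizer (DD : Set Spor.Ly) := norm_of_mem (rg (NvbD MO cardY'))
theorem aQ : el va ∈ normalizer (QQ : Set Spor.Ly) := norm_of_mem (rg (NvaQ MO cardY'))
theorem nQ : el n1 ∈ normalizer (QQ : Set Spor.Ly) := norm_of_mem (rg (Nn1Q MO cardY'))
theorem nR : el n2 ∈ normalizer (RR : Set Spor.Ly) := norm_of_mem (rg (Nn2R MO cardY'))

theorem pD : IsPGroup 5 DD :=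
  pg_cons fx.1.2.2.1 (norm_of_mem (rg (Nc12 MO cardY'))) (pg_cons fx.1.2.2.2.1 (norm_of_mem (rg (Nc23 MO cardY')))
    (pg_cons fx.1.2.2.2.2.1 (norm_of_mem (rg (Nc3Z MO cardY'))) (pg_cons fx.1.2.2.2.2.2
      (by rw [sub_nil, mem_normalizer_iff]; simp) (by rw [sub_nil]; exact IsPGroup.of_bot))))
theorem pQ : IsPGroup 5 QQ := pg_cons fx.1.2.1 bD pD
theorem pR : IsPGroup 5 RR := pg_cons fx.1.1 aD pD
theorem pP : IsPGroup 5 PP := pg_cons fx.1.1 aQ pQ

theorem DQ : DD ≤ QQ := sub_mono _ fun _ => List.mem_cons_of_mem _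
theorem DR : DD ≤ RR := sub_mono _ fun _ => List.mem_cons_of_mem _
theorem QP : QQ ≤ PP := sub_mono _ fun _ => List.mem_cons_of_mem _
theorem aP : el va ∈ PP := ev_mem_sub _ List.mem_cons_self
theorem bQ : el vb ∈ QQ := ev_mem_sub _ List.mem_cons_self
theorem RP : RR ≤ PP := (sub_le _).2 (fa_cons aP ((sub_le _).1 (DQ.trans QP)))
theorem PQ : PP ≤ normalizer (QQ : Set Spor.Ly) := (sub_le _).2 (fa_cons aQ ((sub_le _).1 le_normalizer))

theorem low {c : Lv} {N : ℕ} {ws : List Word} (h : band (Nat.ble 1 N) (Nat.ble N (c.val 3906 nets)) = true)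
    (h' : ∀ w ∈ c.gens, w ∈ ws) : N ≤ Nat.card (sub gG ws) := by
  rw [← sub_th, card_map_of_injective inj']
  exact (Nat.le_of_ble_eq_true (band_iff.1 h).2).trans ((MO.low c inferInstance).trans
    (card_le_of_le (sub_mono _ h')))

theorem n57 (K : Subgroup Spor.Ly) : ¬ 5 ^ (6 + 1) ∣ Nat.card K := fun h =>
  absurd (h.trans (main.2.2.2.1 ▸ K.card_subgroup_dvd_card)) (by decide)

theorem cardP : Nat.card PP = 5 ^ 6 := card_pg (by norm_num) pP (low lPc (by decide +kernel)) (n57 _)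
theorem dvdD : 5 ^ 2 ∣ Nat.card DD :=
  (by decide : 5 ^ 2 ∣ 5 ^ 4).trans (dvd_pg (by norm_num) pD (low lDc (by decide +kernel)))

theorem DD_eq : ⁅PP, PP⁆ = DD := by
  have c : ∀ w ∈ wsD, el w ∈ PP := (sub_le _).1 (DQ.trans QP)
  refine le_antisymm (comm_le ((sub_le _).2 (fa_cons aD (fa_cons bD ((sub_le _).1 le_normalizer))))
    (rg (KP MO cardY'))) ((sub_le _).2 (fa_cons ?_ (fa_cons ?_ (fa_cons ?_ (fa_cons ?_ fa_nil)))))
  · exact fx.2.1.1 ▸ commutator_mem_commutator aP (QP bQ)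
  · exact fx.2.1.2.1 ▸ commutator_mem_commutator aP (c _ (by decide +kernel))
  · exact fx.2.1.2.2.1 ▸ commutator_mem_commutator aP (c _ (by decide +kernel))
  · exact fx.2.1.2.2.2 ▸ commutator_mem_commutator (QP bQ) (c _ (by decide +kernel))

theorem nD {x : Spor.Ly} (h : x ∈ normalizer (PP : Set Spor.Ly)) : x ∈ normalizer (DD : Set Spor.Ly) :=
  DD_eq ▸ norm_comm h

theorem cls2 {x y w : Spor.Ly} (hx : x ∈ QQ) (hy : y ∈ QQ) (hw : w ∈ QQ) : ⁅x, y⁆ * w = w * ⁅x, y⁆ := by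
  have c : ∀ q ∈ QQ, q * el c4 = el c4 * q := fun q hq => by
    obtain ⟨y, hy, rfl⟩ := (sub_th _).ge hq
    rw [← el_th, ← map_mul, comm_of_rels (KZ MO cardY') hy, map_mul]
  have h1 := comm_le (fun q hq => norm_of_le ((sub_le _).2 (fa_cons (by
    simpa [c q hq] using ev_mem_sub gG (List.mem_cons_self (a := c4) (l := []))) fa_nil))) (rg (KQ MO cardY'))
    (commutator_mem_commutator hx hy)
  have h2 : sub gG wsZ ≤ centralizer {w} := (sub_le _).2
    (fa_cons (mem_centralizer_singleton_iff.2 (c w hw).symm) fa_nil)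
  exact mem_centralizer_singleton_iff.1 (h2 h1)

/-- the generator outside `G2(5)` -/
noncomputable def zz : Spor.Ly := (g 4)⁻¹
/-- the subgroup `5^(1+4):4S4` -/
noncomputable abbrev KK : Subgroup Spor.Ly := St HH zz

theorem cl : (∀ y : Y, theta y ∈ KK ↔ y • M.dec 3908 = M.dec 3908) ∧ (∀ y : Y, y • M.dec 3908 ∈ M.S H15.LyX.O) ∧
    ∀ x, x ∈ HH ∨ (¬ 5 ^ (5 + 1) ∣ Nat.card (St HH x) ∧
      (5 ^ 2 ∣ Nat.card (St HH x) → ∃ a ∈ HH, ∃ b ∈ HH, x = a * zz * b)) := by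
  have := H15.LyX.hF
  obtain ⟨E, h⟩ := H15.LyX.ex_cl M cardY hyp.1 hyp.2 hgen
  have hi : theta.range.index = 1 + (H15.LyX.cs.map CI.m).sum := main.2.2.1.trans (by decide +kernel)
  obtain ⟨m, m1, -, h2⟩ := cl_st h main.1 hi
  have h3 : ∀ c ∈ H15.LyX.cs, 5 ∣ c.m ∧ (5 ^ 5 ∣ c.m ∨ c.i = 1) ∧ (c.i = 1 → pop 23438 H15.LyX.O ≤ c.m) := by
    decide +kernel
  have h4 : g 4 * theta (ev M.gen H15.LyX.ra) * (g 4 * theta (ev M.gen H15.LyX.rb)) = 1 := by
    simpa [rw14] using hyp.2 _ List.mem_cons_self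
  refine ⟨fun y => ?_, fun y => (h.orb _).2 ⟨y, rfl⟩, fun x => (h2 x).imp_right ?_⟩
  · rw [← h.stab_iff hi h4 fun c hc => (h3 c hc).2.2, mem_St, zz, inv_inv]
    exact and_iff_right ⟨y, rfl⟩
  rintro ⟨c, hc, a0, a, ha, b, hb, e⟩
  refine ⟨fun d => absurd (a0 ▸ mul_dvd_mul d (h3 c hc).1) (by decide), fun d => ?_⟩
  rcases (h3 c hc).2.1 with d' | d'
  · exact absurd (a0 ▸ mul_dvd_mul d d') (by decide)
  · rw [d', m1] at e
    refine ⟨a * (theta (ev M.gen H15.LyX.ra))⁻¹, mul_mem ha (inv_mem ⟨_, rfl⟩),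
      (theta (ev M.gen H15.LyX.rb))⁻¹ * b, mul_mem (inv_mem ⟨_, rfl⟩) hb, ?_⟩
    rw [← mul_assoc, mul_eq_one_iff_eq_inv, mul_assoc, ← eq_inv_mul_iff_mul_eq, ← eq_inv_mul_iff_mul_eq] at h4
    rw [e, zz]
    nth_rewrite 1 [h4]
    group

theorem z_not : zz ∉ HH := fun h => by
  have := main.2.2.1
  rw [hgen _ le_rfl (inv_mem_iff.1 h), index_top] at this
  exact absurd this (by decide)

theorem n56 : ¬ 5 ^ (5 + 1) ∣ Nat.card KK := ((cl.2.2 zz).resolve_left z_not).1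

theorem memK : ∀ p ∈ XD, el p.1 ∈ KK ↔ apW H15.LyX.F p.2 3908 = 3908 := fun p hp => by
  have := H15.LyX.hF
  rw [el_M p hp, cl.1, ← enc_ev_dec M _ (by decide)]
  exact ⟨fun h => by rw [h, M.enc_dec _ (by decide)], fun h => M.enc_inj (by rw [h, M.enc_dec _ (by decide)])⟩

theorem QK : QQ ≤ KK := (sub_le _).2 fun w hw => by
  obtain ⟨p, hp, rfl, e⟩ := (by decide +kernel : ∀ w ∈ wsQ, ∃ p ∈ XD, p.1 = w ∧ apW H15.LyX.F p.2 3908 = 3908) w hw
  exact (memK p hp).2 e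

theorem t1K : el t1 ∈ KK := (memK (t1, dt1) (by decide +kernel)).2 (by decide +kernel)
theorem t2K : el t2 ∈ KK := (memK (t2, dt2) (by decide +kernel)).2 (by decide +kernel)
theorem a_not : el va ∉ QQ := fun h => absurd ((memK (va, dva) (by decide +kernel)).1 (QK h)) (by decide +kernel)

theorem cardQ : Nat.card QQ = 5 ^ 5 := card_pg (by norm_num) pQ (low lQc (by decide +kernel))
  fun h => n56 (h.trans (card_dvd_of_le QK))

theorem fq : subs H15.LyX.O (Nat.lor (mvRun 23438 H15.LyH.nets dvb) (Nat.lor (mvRun 23438 H15.LyH.nets dc1)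
    (Nat.lor (mvRun 23438 H15.LyH.nets dc2) (Nat.lor (mvRun 23438 H15.LyH.nets dc3)
      (bits (List.map (fun j => apW H15.LyX.F (powW dva j) 3908) (List.range 5))))))) = true := by decide +kernel

theorem fixQ {h : Spor.Ly} (hh : h ∈ HH) (hQ : ∀ q ∈ QQ, h⁻¹ * q * h ∈ KK) : ∃ j < 5, (el va ^ j)⁻¹ * h ∈ KK := by
  have := H15.LyX.hF
  obtain ⟨y, rfl⟩ := hh
  have a : ∀ p ∈ XD, p.1 ∈ wsQ → y • M.dec 3908 ∉ M.S (mvRun 23438 H15.LyH.nets p.2) := fun p hp hw => by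
    have := hQ _ (ev_mem_sub _ hw)
    rw [el_M p hp, ← map_inv, ← map_mul, ← map_mul, cl.1, mul_smul, mul_smul, inv_smul_eq_iff] at this
    exact not_mem_mvRun this
  have b := M.S_mono fq (cl.2.1 y)
  simp only [PM.mem_S_lor] at b
  obtain ⟨j, hj, e⟩ := List.mem_map.1 (testBit_bits' _ _
    ((((b.resolve_left (a (vb, _) (by decide +kernel) (by decide +kernel))).resolve_left
    (a (c1, _) (by decide +kernel) (by decide +kernel))).resolve_left
    (a (c2, _) (by decide +kernel) (by decide +kernel))).resolve_left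
    (a (c3, _) (by decide +kernel) (by decide +kernel))))
  refine ⟨j, List.mem_range.1 hj, ?_⟩
  rw [el_M (va, dva) (by decide +kernel), ← map_pow, ← map_inv, ← map_mul, cl.1, mul_smul, inv_smul_eq_iff,
    ← ev_powW]
  exact M.enc_inj (by rw [← e, enc_ev_dec M _ (by decide)])

theorem normH {W : Subgroup Spor.Ly} {x : Spor.Ly} (h1 : W ≤ HH) (h2 : 5 ^ 6 ∣ Nat.card W)
    (h3 : x ∈ normalizer (W : Set Spor.Ly)) : x ∈ HH :=
  (cl.2.2 x).resolve_right fun h => h.1 (h2.trans (card_dvd_of_le fun w hw =>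
    mem_St.2 ⟨h1 hw, h1 ((mem_normalizer_iff''.1 h3 w).1 hw)⟩))

/-- the number of fixed points -/
noncomputable def Ty (x : Spor.Ly) : ℕ := {ω : H15.Pt pi' | ∃ y : Y', theta' y = x ∧ y • ω = ω}.ncard

theorem Ty_conj {x h : Spor.Ly} (hh : h ∈ HH) : Ty (h⁻¹ * x * h) = Ty x := by
  obtain ⟨k, rfl⟩ := HH_eq.ge hh
  rw [Ty, Ty, ← Set.ncard_image_of_injective _ (MulAction.injective k)]
  congr 1
  ext ω
  constructor
  · rintro ⟨ω, ⟨y, e, a⟩, rfl⟩
    exact ⟨k * y * k⁻¹, by simp [e, mul_assoc], by simp [mul_smul, a]⟩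
  · rintro ⟨y, rfl, a⟩
    exact ⟨k⁻¹ • ω, ⟨k⁻¹ * y * k, by simp, by simp [mul_smul, a]⟩, by simp⟩

/-- the fixed points of `w` are listed -/
noncomputable def tyChk (w : Word) (l : List ℕ) : Bool :=
  allN (fun x => Bool.rec (bnot (tb (bits l) x)) (tb (bits l) x) (Nat.beq (apW F w x) x)) 3906

theorem Ty_el {w : Word} {l : List ℕ} (h : tyChk w l = true) : Ty (el w) = pop 3906 (bits l) := by
  rw [← MO.ncard_S, Ty]
  congr 1
  ext ω
  have a := allN_iff.1 h _ (MO.enc_lt ω)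
  rw [PM.mem_S, ← tb_eq]
  rw [← enc_ev MO] at a
  cases b : Nat.beq (MO.enc (ev MO.gen w • ω)) (MO.enc ω) <;> rw [b] at a
  · refine iff_of_false (fun ⟨y, e, c⟩ => Nat.ne_of_beq_eq_false b ?_) (by rw [bnot_iff.1 a]; decide)
    rw [← inj' (e.trans (el_th w).symm), c]
  · exact iff_of_true ⟨_, el_th w, MO.enc_inj (Nat.eq_of_beq_eq_true b)⟩ a

theorem zc : H15.LyM.c.rels H15.LyM.ms [(dt1 ++ [8], [8] ++ dtz)] = true := by decide +kernel

theorem Ty_ne : Ty (zz⁻¹ * el t1 * zz) ≠ Ty (el t1) := by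
  have a := rels_rho zc (by decide +kernel) _ List.mem_cons_self
  rw [ev_append, ev_append, ev_single g 4, ← el_eq (w := dt1) (by decide +kernel),
    ← el_eq (w := dtz) (by decide +kernel), ← rg (RD MO cardY') (t1, dt1) (by decide +kernel),
    ← rg (RD MO cardY') (tz, dtz) (by decide +kernel)] at a
  rw [zz, inv_inv, a, mul_inv_cancel_right, Ty_el (l := fz) (by decide +kernel),
    Ty_el (l := f1) (by decide +kernel)]
  decide +kernel

end H14.Ly
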