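import Cfsg.Agent.H14.LyB

/-! The outer automorphism group of the presented group `Ly` is trivial (`out_Ly`). -/

set_option autoImplicit false
set_option maxRecDepth 100000

namespace H14.Ly
open Cfsg L Cfsg.Spor H15.Ly H15.DC MulAction H14LyO Subgroup
open scoped commutatorElement

local notation "el" => ev gG

theorem fixN {ws : List Word} {y : Y'} (hy : theta' y ∈ normalizer (sub gG ws : Set Spor.Ly)) {x : ℕ}
    (hx : x < 3906) (h : ∀ w ∈ ws, apW F w x = x) {l : List ℕ}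
    (hl : allN (fun x => bor (List.elem x l) (anyL (fun w => bnot (Nat.beq (apW F w x) x)) ws)) 3906 = true) :
    MO.enc (y • MO.dec x) ∈ l := by
  have h1 : sub MO.gen ws ≤ stabilizer Y' (MO.dec x) := (sub_le _).2 fun w hw => by
    rw [mem_stabilizer_iff, ev_dec MO _ hx, h w hw]
  rcases bor_iff.1 (allN_iff.1 hl _ (MO.enc_lt (y • MO.dec x))) with a | a
  · exact List.mem_of_elem_eq_true a
  obtain ⟨w, hw, a⟩ := anyL_iff.1 a
  refine absurd ?_ (Nat.ne_of_beq_eq_false (bnot_iff.1 a))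
  have b := (mem_normalizer_iff''.1 hy _).1 (ev_mem_sub _ hw)
  rw [← el_th, ← map_inv, ← map_mul, ← map_mul, ← sub_th, mem_map_iff_mem inj'] at b
  have c := h1 b
  rw [mem_stabilizer_iff, mul_smul, mul_smul, inv_smul_eq_iff] at c
  rw [← enc_ev MO, c]

theorem fP : allN (fun x => bor (List.elem x [0]) (anyL (fun w => bnot (Nat.beq (apW F w x) x)) wsP)) 3906 = true := by
  decide +kernel
theorem fD : allN (fun x => bor (List.elem x (0 :: ell)) (anyL (fun w => bnot (Nat.beq (apW F w x) x)) wsD)) 3906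
    = true := by decide +kernel

/-- the group `5^(1+4):(4 × 4)` -/
noncomputable abbrev K2 : Subgroup Spor.Ly := KK ⊓ (normalizer (PP : Set Spor.Ly) ⊓ normalizer (QQ : Set Spor.Ly))

theorem ex0 : Ex MO lH0 [] := ex_top cardY' lHc

theorem n32 : ¬ 2 ^ (4 + 1) ∣ Nat.card K2 := by
  have e2 : Ex MO lH2 [2, 0] := ex0.step.2.1.step.2.1
  have h0 : ∀ y : K2.comap theta', (y : Y') • MO.dec 0 = MO.dec 0 := fun y => MO.enc_inj (by
    rw [List.mem_singleton.1 (fixN y.2.2.1 (by decide) (by decide +kernel) fP), MO.enc_dec _ (by decide)])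
  have h1 : orbit (K2.comap theta') (MO.dec 2) = MO.S (bits ell) := by
    ext ω
    constructor
    · rintro ⟨y, rfl⟩
      rcases List.mem_cons.1 (fixN (nD y.2.2.1) (by decide : 2 < 3906) (by decide +kernel) fD) with a | a
      · rw [← MO.enc_dec 0 (by decide), ← h0 y] at a
        have := congrArg MO.enc (MulAction.injective _ (MO.enc_inj a))
        rw [MO.enc_dec _ (by decide), MO.enc_dec _ (by decide)] at this
        exact absurd this (by decide)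
      · exact (by decide +kernel : ∀ x ∈ ell, (bits ell).testBit x = true) _ a
    · intro h
      obtain ⟨j, -, e⟩ := (by decide +kernel : ∀ x ∈ ell, ∃ j < 5, apW F (powW vb j) 2 = x) _ (testBit_bits' _ _ h)
      refine ⟨⟨ev MO.gen (powW vb j), ?_⟩, MO.enc_inj ((enc_ev_dec MO _ (by decide)).trans e)⟩
      rw [mem_comap, el_th, ev_powW]
      exact pow_mem (show _ ∈ K2 from ⟨QK bQ, le_normalizer (QP bQ), le_normalizer bQ⟩) j
  have h2 : (stabilizer (K2.comap theta') (MO.dec 2)).map (K2.comap theta').subtype ≤ sub MO.gen lH2.gens := by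
    rintro _ ⟨y, hy, rfl⟩
    exact e2.mem _ (fa_cons hy (fa_cons (h0 y) fa_nil))
  have h3 := card_dvd_of_le h2
  rw [card_map_of_injective (subtype_injective _), e2.card, show lH2.val 3906 nets = 50000 by decide +kernel] at h3
  have h4 := (stabilizer (K2.comap theta') (MO.dec 2)).index_mul_card
  rw [index_stabilizer, h1, MO.ncard_S, show pop 3906 (bits ell) = 5 by decide +kernel,
    ← card_map_of_injective inj', map_comap_eq, HH_eq,
    inf_eq_right.2 (show K2 ≤ HH from inf_le_left.trans (St_le _ _))] at h4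
  exact fun h => absurd ((h4 ▸ h).trans (Nat.mul_dvd_mul_left 5 h3)) (by decide)

/-- the torus -/
noncomputable abbrev TT : Subgroup Spor.Ly := ab2 (n := 3) fx.2.2.1.2.2 fx.2.2.1.1 fx.2.2.1.2.1

theorem tc : allN (fun i => allN (fun j => allN (fun k => allN (fun l => bor (band (Nat.beq i k) (Nat.beq j l))
    (bnot (Nat.beq (apW F (powW t2 j ++ powW t1 i) 5) (apW F (powW t2 l ++ powW t1 k) 5)))) 4) 4) 4) 4 = true := by
  decide +kernel

theorem cardT : Nat.card TT = 2 ^ 4 := card_ab2 fun i hi j hj k hk l hl e =>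
  (bor_iff.1 (allN_iff.1 (allN_iff.1 (allN_iff.1 (allN_iff.1 tc i hi) j hj) k hk) l hl)).elim
    (fun a => (band_iff.1 a).imp Nat.eq_of_beq_eq_true Nat.eq_of_beq_eq_true)
    fun a => absurd (el_apW (by simpa using e) (by decide)) (Nat.ne_of_beq_eq_false (bnot_iff.1 a))

theorem TK : TT ≤ K2 := ab2_le
  ⟨t1K, norm_of_mem (rg (Nt1P MO cardY')), norm_of_mem (rg (Nt1Q MO cardY'))⟩
  ⟨t2K, norm_of_mem (rg (Nt2P MO cardY')), norm_of_mem (rg (Nt2Q MO cardY'))⟩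

theorem cj_pow {x a : Spor.Ly} {r : ℕ} (h : x⁻¹ * a * x = a ^ r) (i : ℕ) : (x ^ i)⁻¹ * a * x ^ i = a ^ r ^ i := by
  induction i with
  | zero => simp
  | succ i ih =>
    rw [pow_succ x, pow_succ r, show (x ^ i * x)⁻¹ * a * (x ^ i * x) = x⁻¹ * ((x ^ i)⁻¹ * a * x ^ i) * x by group,
      ih, cjp, h, ← pow_mul, mul_comm]

theorem ta (i j : ℕ) : (el t1 ^ i * el t2 ^ j)⁻¹ * el va * (el t1 ^ i * el t2 ^ j) = el va ^ 2 ^ i := by
  rw [show ∀ x y a : Spor.Ly, (x * y)⁻¹ * a * (x * y) = y⁻¹ * (x⁻¹ * a * x) * y from fun _ _ _ => by group,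
    cj_pow fx.2.2.2.1.1, cjp, cj_pow (fx.2.2.2.1.2.2.1.trans (pow_one _).symm), one_pow, pow_one]

theorem tb (i j : ℕ) : (el t1 ^ i * el t2 ^ j)⁻¹ * el vb * (el t1 ^ i * el t2 ^ j) = el vb ^ 2 ^ j := by
  rw [show ∀ x y a : Spor.Ly, (x * y)⁻¹ * a * (x * y) = y⁻¹ * (x⁻¹ * a * x) * y from fun _ _ _ => by group,
    cj_pow (fx.2.2.2.1.2.1.trans (pow_one _).symm), one_pow, pow_one, cj_pow fx.2.2.2.1.2.2.2]

theorem chi' {N : Subgroup Spor.Ly} {ws : List Word} {w : Word} (hN : N = sub gG ws) {k y p : Spor.Ly} {i i0 : ℕ}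
    (hi : i < 4) (hi0 : i0 < 4) (hw : el w ∈ normalizer (N : Set Spor.Ly)) (h5 : el w ^ 5 = 1)
    (hk : k ∈ normalizer (N : Set Spor.Ly)) (hk' : k ∈ normalizer (sub gG (w :: ws) : Set Spor.Ly))
    (hy : y ∈ normalizer (N : Set Spor.Ly)) (h1 : (k⁻¹ * y * k)⁻¹ * el w * (k⁻¹ * y * k) = el w ^ 2 ^ i)
    (hp : p ∈ sub gG (w :: ws)) (hp' : p ∉ N) (h2 : y⁻¹ * p * y = p ^ 2 ^ i0) : i = i0 := by
  subst hN
  obtain ⟨m, d, hd, e⟩ := mem_cons hw ((mem_normalizer_iff''.1 hk' p).1 hp)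
  have := chi (a := 2 ^ i0) (j := m) (by norm_num) hw (mul_mem (mul_mem (inv_mem hk) hy) hk) h5 h1 hd
    (e ▸ fun a => hp' ((mem_normalizer_iff''.1 hk p).2 a)) (by
      rw [e, ← cjp, ← h2]
      convert (sub gG ws).one_mem using 1
      group)
  exact (by decide : ∀ i < 4, ∀ j < 4, 2 ^ i ≡ 2 ^ j [MOD 5] → i = j) i hi i0 hi0 this

theorem T_id {y p q : Spor.Ly} (hy : y ∈ K2) (y4 : y ^ 2 ^ 2 = 1) {i0 j0 : ℕ} (hi : i0 < 4) (hj : j0 < 4)
    (hp : p ∈ PP) (hp' : p ∉ QQ) (h1 : y⁻¹ * p * y = p ^ 2 ^ i0) (hq : q ∈ QQ) (hq' : q ∉ DD)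
    (h2 : y⁻¹ * q * y = q ^ 2 ^ j0) : ∃ k ∈ KK, k⁻¹ * y * k = el t1 ^ i0 * el t2 ^ j0 := by
  obtain ⟨k, hk, e⟩ := syl_conj (by norm_num) TK cardT n32 ((zpowers_le).2 hy) (pg_zp y4)
  obtain ⟨i, hi', j, hj', e⟩ := mem_ab2 (e y (mem_zpowers y))
  obtain rfl := chi' rfl hi' hi aQ fx.1.1 hk.2.2 hk.2.1 hy.2.2 (e ▸ ta i j) hp hp' h1
  obtain rfl := chi' rfl hj' hj bD fx.1.2.1 (nD hk.2.1) hk.2.2 (nD hy.2.1) (e ▸ tb i j) hq hq' h2
  exact ⟨k, hk.1, e.symm⟩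

theorem b_not : el vb ∉ DD := fun h => by
  have h1 : sub MO.gen wsD ≤ stabilizer Y' (MO.dec 2) := (sub_le _).2 fun w hw => by
    rw [mem_stabilizer_iff, ev_dec MO _ (by decide), (by decide +kernel : ∀ w ∈ wsD, apW F w 2 = 2) w hw]
  rw [← el_th, DD, ← sub_th, mem_map_iff_mem inj'] at h
  have := congrArg MO.enc (h1 h)
  rw [enc_ev_dec MO _ (by decide), MO.enc_dec _ (by decide)] at this
  exact absurd this (by decide +kernel)

theorem mp {φ : MulAut Spor.Ly} {X : Subgroup Spor.Ly} (h : X.map φ.toMonoidHom = X) (y : Spor.Ly) :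
    φ y ∈ X ↔ y ∈ X := by
  nth_rewrite 1 [← h]
  exact mem_map_iff_mem (f := φ.toMonoidHom) φ.injective

theorem normP {φ : MulAut Spor.Ly} (h : PP.map φ.toMonoidHom ≤ HH) {x : Spor.Ly}
    (hx : x ∈ normalizer (PP : Set Spor.Ly)) : φ x ∈ HH :=
  normH h (by rw [card_map_of_injective φ.injective, cardP]) (le_normalizer_map φ.toMonoidHom ⟨x, hx, rfl⟩)

theorem Ty_K {k s : Spor.Ly} (hk : k ∈ KK) : Ty (zz⁻¹ * (k⁻¹ * s * k) * zz) = Ty (zz⁻¹ * s * zz) := by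
  rw [← Ty_conj (x := zz⁻¹ * s * zz) (mem_St.1 hk).2]
  exact congrArg Ty (by group)

theorem Ty_z {x s : Spor.Ly} (hx : zz⁻¹ * x ∈ HH) : Ty (x⁻¹ * s * x) = Ty (zz⁻¹ * s * zz) := by
  rw [← Ty_conj (x := zz⁻¹ * s * zz) hx]
  exact congrArg Ty (by group)

theorem bad {φ : MulAut Spor.Ly} (hP : PP.map φ.toMonoidHom = PP) (hQ : QQ.map φ.toMonoidHom = QQ)
    (hx : zz⁻¹ * φ (el n1) ∈ HH) : False := by
  have hD : DD.map φ.toMonoidHom = DD := by rw [← DD_eq, map_commutator, hP]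
  have hH : ∀ s ∈ TT, φ s ∈ HH := fun s hs => normP (hP.le.trans (sub_HH _)) (TK hs).2.1
  have tt : ∀ i < 4, ∀ j < 4, (el n1)⁻¹ * (el t1 ^ i * el t2 ^ j) * el n1 ∈ TT →
      ∃ k ∈ KK, k⁻¹ * φ (el t1 ^ i * el t2 ^ j) * k = el t1 ^ i * el t2 ^ j := fun i hi j hj h => by
    have m : el t1 ^ i * el t2 ^ j ∈ TT := ⟨i, j, rfl⟩
    refine T_id ⟨mem_St.2 ⟨hH _ m, ?_⟩, hP ▸ le_normalizer_map φ.toMonoidHom ⟨_, (TK m).2.1, rfl⟩,
      hQ ▸ le_normalizer_map φ.toMonoidHom ⟨_, (TK m).2.2, rfl⟩⟩ ?_ hi hj ((mp hP _).2 aP)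
      (mt (mp hQ _).1 a_not) (by rw [← map_inv, ← map_mul, ← map_mul, ta, map_pow]) ((mp hQ _).2 bQ)
      (mt (mp hD _).1 b_not) (by rw [← map_inv, ← map_mul, ← map_mul, tb, map_pow])
    · have := mul_mem (mul_mem hx (hH _ h)) (inv_mem hx)
      simpa [mul_assoc] using this
    · rw [← map_pow, (Commute.pow_pow fx.2.2.1.2.2 i j).mul_pow, pow_right_comm (el t1), pow_right_comm (el t2),
        show 2 ^ 2 = 4 from rfl, fx.2.2.1.1, fx.2.2.1.2.1]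
      simp
  obtain ⟨k, hk, e⟩ := tt 1 (by decide) 0 (by decide) ⟨3, 3, by simpa using fx.2.2.2.2.1.symm⟩
  obtain ⟨k', hk', e'⟩ := tt 3 (by decide) 3 (by decide) ⟨1, 0, by simpa using fx.2.2.2.2.2.1.symm⟩
  rw [pow_one, pow_zero, mul_one] at e
  refine Ty_ne ?_
  rw [← Ty_conj (x := el t1) (el_mem n1), fx.2.2.2.2.1, ← e', Ty_conj (St_le _ _ hk'), ← fx.2.2.2.2.1,
    map_mul, map_mul, map_inv, Ty_z hx, ← Ty_K (s := φ _) hk, e]

theorem toQ {φ : MulAut Spor.Ly} {X : Subgroup Spor.Ly} (hX : IsPGroup 5 X) (hD : DD ≤ X)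
    (h : X.map φ.toMonoidHom ≤ HH) {x : Spor.Ly} (hx : x ∈ normalizer (X : Set Spor.Ly)) (hx' : φ x ∉ HH) :
    ∃ a ∈ HH, zz⁻¹ * (MulAut.conj a * φ : MulAut Spor.Ly) x ∈ HH ∧
      X.map (MulAut.conj a * φ : MulAut Spor.Ly).toMonoidHom ≤ QQ := by
  have h1 : X.map φ.toMonoidHom ≤ St HH (φ x) := fun w hw => mem_St.2 ⟨h hw,
    h ((mem_normalizer_iff''.1 (le_normalizer_map φ.toMonoidHom ⟨x, hx, rfl⟩) w).1 hw)⟩
  obtain ⟨a, ha, b, hb, e⟩ := ((cl.2.2 _).resolve_left hx').2 ((dvdD.trans (card_dvd_of_le hD)).trans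
    (card_map_of_injective (f := φ.toMonoidHom) φ.injective ▸ card_dvd_of_le h1))
  obtain ⟨k, hk, e1⟩ := syl_conj (by norm_num) QK cardQ n56
    (Q := X.map (MulAut.conj a⁻¹ * φ : MulAut Spor.Ly).toMonoidHom) (by
      rintro _ ⟨y, hy, rfl⟩
      simpa using (mem_St_mul ha hb).1 (e ▸ h1 ⟨y, hy, rfl⟩)) (hX.map _)
  refine ⟨k⁻¹ * a⁻¹, mul_mem (inv_mem (St_le _ _ hk)) (inv_mem ha), ?_, ?_⟩
  · have := mul_mem (mul_mem (mul_mem (inv_mem (mem_St.1 hk).2) hb) ha) (St_le _ _ hk)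
    simpa [e, mul_assoc] using this
  · rintro _ ⟨y, hy, rfl⟩
    simpa [mul_assoc] using e1 _ ⟨y, hy, rfl⟩

theorem n2_mem {φ : MulAut Spor.Ly} (hP : PP.map φ.toMonoidHom ≤ HH) : φ (el n2) ∈ HH := by
  by_contra h
  obtain ⟨a, -, -, h1⟩ := toQ pR DR ((map_mono RP).trans hP) nR h
  generalize MulAut.conj a * φ = ψ at h1
  have h2 : ψ (el va) ∈ QQ := h1 ⟨_, ev_mem_sub _ List.mem_cons_self, rfl⟩
  have h3 := cls2 h2 (h1 ⟨el c1, ev_mem_sub _ (by decide +kernel), rfl⟩) h2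
  rw [MulEquiv.coe_toMonoidHom, ← map_commutatorElement, ← fx.2.1.2.1, ← map_mul, ← map_mul, ← ev_append,
    ← ev_append] at h3
  exact absurd (el_apW (ψ.injective h3) (by decide : 1 < 3906)) (by decide +kernel)

theorem map_eq {φ : MulAut Spor.Ly} {X : Subgroup Spor.Ly} (h : X.map φ.toMonoidHom ≤ X) :
    X.map φ.toMonoidHom = X := eq_of_le_of_card_ge h (card_map_of_injective φ.injective).ge

theorem n1_mem {φ : MulAut Spor.Ly} (hP : PP.map φ.toMonoidHom ≤ HH) : φ (el n1) ∈ HH := by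
  by_contra h
  obtain ⟨a, ha, h0, h1⟩ := toQ pQ DQ ((map_mono QP).trans hP) nQ h
  have h2 : PP.map (MulAut.conj a * φ : MulAut Spor.Ly).toMonoidHom ≤ HH := by
    rintro _ ⟨y, hy, rfl⟩
    exact mul_mem (mul_mem ha (hP ⟨y, hy, rfl⟩)) (inv_mem ha)
  generalize MulAut.conj a * φ = ψ at h0 h1 h2
  replace h1 := map_eq h1
  obtain ⟨u, hu, e⟩ := syl_conj (K := HH ⊓ normalizer (QQ : Set Spor.Ly)) (by norm_num) (le_inf (sub_HH _) PQ)
    cardP (n57 _) (le_inf h2 (h1 ▸ (map_mono PQ).trans (le_normalizer_map _))) (pP.map _)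
  obtain ⟨j, -, hj⟩ := fixQ (inv_mem hu.1) fun q hq => QK ((mem_normalizer_iff''.1 (inv_mem hu.2) q).1 hq)
  have v1 := pow_mem aP j
  have v2 : (el va ^ j)⁻¹ * u⁻¹ ∈ normalizer (QQ : Set Spor.Ly) := mul_mem (inv_mem (PQ v1)) (inv_mem hu.2)
  generalize el va ^ j = v at hj v1 v2
  refine bad (φ := MulAut.conj (v⁻¹ * u⁻¹) * ψ) (map_eq ?_) (map_eq ?_) ?_
  · rintro _ ⟨y, hy, rfl⟩
    simpa [mul_assoc] using mul_mem (mul_mem (inv_mem v1) (e _ ⟨y, hy, rfl⟩)) v1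
  · rintro _ ⟨y, hy, rfl⟩
    exact (mem_normalizer_iff.1 v2 _).1 (h1.le ⟨y, hy, rfl⟩)
  · have := mul_mem (mul_mem (mem_St.1 hj).2 h0) (inv_mem (St_le _ _ hj))
    simpa [mul_assoc] using this

theorem jc : ∀ j < 5, apW H15.LyX.F (powW dva j ++ dt1 ++ invW (powW dva j)) 3908 = 3908 → j = 0 := by
  decide +kernel

theorem cent {c : Spor.Ly} (h : ∀ y ∈ KK, c⁻¹ * y * c = y) : c ∈ HH := by
  have := H15.LyX.hF
  by_contra hc
  have h1 : KK ≤ St HH c := fun y hy => mem_St.2 ⟨St_le _ _ hy, (h y hy).symm ▸ St_le _ _ hy⟩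
  obtain ⟨a, ha, b, hb, e⟩ := ((cl.2.2 _).resolve_left hc).2 (dvdD.trans (card_dvd_of_le ((DQ.trans QK).trans h1)))
  have h2 : ∀ y ∈ KK, a⁻¹ * y * a ∈ KK := fun y hy => (mem_St_mul ha hb).1 (e ▸ h1 hy)
  obtain ⟨j, hj, h3⟩ := fixQ ha fun q hq => h2 q (QK hq)
  have h4 : (el va ^ j)⁻¹ * el t1 * el va ^ j ∈ KK := by
    simpa [mul_assoc] using mul_mem (mul_mem h3 (h2 _ t1K)) (inv_mem h3)
  rw [el_M (va, dva) (by decide +kernel), el_M (t1, dt1) (by decide +kernel), ← map_pow, ← map_inv, ← map_mul,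
    ← map_mul, cl.1, ← ev_powW, ← ev_invW, mul_assoc, ← ev_append, ← ev_append] at h4
  obtain rfl := jc j hj (by rw [← enc_ev_dec M _ (by decide), h4, M.enc_dec _ (by decide)])
  rw [pow_zero, inv_one, one_mul] at h3
  refine Ty_ne ?_
  rw [← Ty_z (x := c) (by simpa [e, mul_assoc] using mul_mem (mem_St.1 h3).2 hb), h _ t1K]

theorem xc : ∀ i < 20, apW F (powW wx i ++ c1) 1 = apW F (c1 ++ powW wx i) 1 → i = 0 := by decide +kernel

theorem key {φ : MulAut Spor.Ly} (hP : PP.map φ.toMonoidHom ≤ HH) : ∃ x, MulAut.conj x * φ = 1 := by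
  have hp : ∀ w ∈ wsP, φ (el w) ∈ HH := fun w hw => hP ⟨_, ev_mem_sub _ hw, rfl⟩
  have ht : sub MO.gen lH0.gens ≤ (HH.comap φ.toMonoidHom).comap theta' := (sub_le _).2 fun w hw => by
    rw [mem_comap, el_th]
    rcases (by decide +kernel : ∀ w ∈ lH0.gens, w ∈ wsP ∨ w = n1 ∨ w = n2 ∨ w = t1 ∨ w = t2) w hw with
      a | rfl | rfl | rfl | rfl
    exacts [hp w a, n1_mem hP, n2_mem hP, normP hP (TK ⟨1, 0, by simp⟩).2.1, normP hP (TK ⟨0, 1, by simp⟩).2.1]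
  obtain ⟨x, hx⟩ := inner_on inj' (fun α => by
    obtain ⟨y, q, hq, e⟩ := upper MO cardY' α
    rw [List.mem_singleton] at hq
    subst hq
    exact ⟨y, e.eq (maps_one _ _ _ _) (top MO cardY')⟩) φ fun y => HH_eq.ge (ht (ex0.mem y fa_nil))
  refine ⟨x, ?_⟩
  generalize MulAut.conj x * φ = γ at hx
  have hle : HH ≤ γ.toMonoidHom.eqLocus (MonoidHom.id _) := fun y hy => by
    obtain ⟨z, rfl⟩ := HH_eq.ge hy
    exact hx z
  have a : ∀ y ∈ KK, (γ zz * zz⁻¹)⁻¹ * y * (γ zz * zz⁻¹) = y := fun y hy => by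
    have e : γ (zz⁻¹ * y * zz) = zz⁻¹ * y * zz := hle (mem_St.1 hy).2
    rw [map_mul, map_mul, map_inv, show γ y = y from hle (St_le _ _ hy)] at e
    calc _ = zz * ((γ zz)⁻¹ * y * γ zz) * zz⁻¹ := by group
      _ = y := by rw [e]; group
  obtain ⟨c, e⟩ := HH_eq.ge (cent a)
  have b : ∀ v, el v ∈ KK → c * ev MO.gen v = ev MO.gen v * c := fun v h => inj' (by
    rw [map_mul, map_mul, e, el_th, eq_comm, ← inv_mul_eq_iff_eq_mul, ← mul_assoc, a _ h])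
  obtain ⟨t, ht, rfl⟩ := cenx MO cardY' c (b _ (fx.2.2.2.2.2.2 ▸ mul_mem (QK bQ) t1K))
  obtain ⟨i, hi, rfl⟩ := List.mem_map.1 (List.mem_of_elem_eq_true (allL_iff.1 pwx t ht))
  obtain rfl := xc i (List.mem_range.1 hi) (el_apW (by
    rw [← el_th, ← el_th, ev_append, ev_append, b c1 (QK (ev_mem_sub _ (by decide +kernel)))]) (by decide))
  rw [ev_powW, pow_zero, map_one, eq_comm, mul_inv_eq_one] at e
  exact MulEquiv.ext fun y => (hgen _ hle (inv_mem_iff.1 (show zz ∈ _ from e))).ge (mem_top y)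

theorem out_Ly : Nat.card (Out Spor.Ly) = 1 := out_one_of fun α => by
  obtain ⟨k, -, e⟩ := syl_conj (K := ⊤) (by norm_num) le_top cardP (n57 _) le_top (pP.map α.toMonoidHom)
  obtain ⟨x, hx⟩ := key (φ := MulAut.conj k⁻¹ * α) (by
    rintro _ ⟨y, hy, rfl⟩
    exact sub_HH _ (by simpa using e _ ⟨y, hy, rfl⟩))
  exact ⟨x * k⁻¹, by rw [map_mul, mul_assoc, hx]⟩

end H14.Ly
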