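import Cfsg.Agent.H14.Kill
import Cfsg.Agent.H15.LyM

/-! Generated certificate: a labelled coset enumeration and words for the multiplier of the Lyons group. -/
set_option Elab.async false
set_option autoImplicit false
set_option maxRecDepth 100000
set_option maxHeartbeats 0

namespace H14.LyL
open L Cfsg

noncomputable def TJn0 : Net := (.cons (nat_lit 2) (nat_lit 0x1)
(.cons (nat_lit 4) (nat_lit 0x1)
(.cons (nat_lit 2) (nat_lit 0x1)
.nil)))
noncomputable def rkJ_0 : Nat := (nat_lit 0x284b8)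
noncomputable def TJn1 : Net := (.cons (nat_lit 1) (nat_lit 0x10)
(.cons (nat_lit 2) (nat_lit 0x1)
(.cons (nat_lit 4) (nat_lit 0x1)
(.cons (nat_lit 2) (nat_lit 0x3)
(.cons (nat_lit 1) (nat_lit 0x4)
.nil)))))
noncomputable def rkJ_1 : Nat := (nat_lit 0x510)
noncomputable def TJn2 : Net := (.cons (nat_lit 1) (nat_lit 0x1)
.nil)
noncomputable def rkJ_2 : Nat := (nat_lit 0x1092e)
noncomputable def TJ : Tbl := ⟨nat_lit 6, nat_lit 3, [TJn0, TJn1, TJn2], nat_lit 3, [rkJ_0, rkJ_1, rkJ_2]⟩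
noncomputable def scJ : List Nat := dw (nat_lit 0x0404010305)
noncomputable def rJ_0 : Word := dw (nat_lit 0x06060101)
noncomputable def MJ_0 : Nat := (nat_lit 0x1)
noncomputable def rJ_1 : Word := dw (nat_lit 0x05010501)
noncomputable def MJ_1 : Nat := (nat_lit 0x10080)
noncomputable def rJ_2 : Word := dw (nat_lit 0x03050401030305040401)
noncomputable def MJ_2 : Nat := (nat_lit 0x1c3)
noncomputable def rJ_3 : Word := dw (nat_lit 0x0303030303)
noncomputable def MJ_3 : Nat := (nat_lit 0x104)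
noncomputable def rJ_4 : Word := dw (nat_lit 0x0306030604050401)
noncomputable def MJ_4 : Nat := (nat_lit 0x2812d)
noncomputable def skJ : List (List Nat × Nat) := [(rJ_0, MJ_0), (rJ_1, MJ_1), (rJ_2, MJ_2), (rJ_3, MJ_3), (rJ_4, MJ_4)]
noncomputable def lbJ2_0 : Nat := (nat_lit 0x28282)
noncomputable def lbJ2_1 : Nat := (nat_lit 0x14014)
noncomputable def lbJ2_2 : Nat := (nat_lit 0xf34402)
noncomputable def BJ2 : Lab := ⟨nat_lit 2, nat_lit 9, nat_lit 1, [lbJ2_0, lbJ2_1, lbJ2_2]⟩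
noncomputable def xJ2_5 : Word := dw (nat_lit 0x0404010303050404010303050404010303050101)
noncomputable def xJ2_6 : Word := dw (nat_lit 0x060105010101)
noncomputable def xJ2_7 : Word := dw (nat_lit 0x06030104050101030104)
noncomputable def xJ2_8 : Word := dw (nat_lit 0x0603030104040501030302040402)
noncomputable def xJ2_9 : Word := dw (nat_lit 0x05050202)
noncomputable def xJ2_10 : Word := dw (nat_lit 0x040205040205040205040205040205)
noncomputable def itsJ2 : List It := [⟨rJ_0, MJ_0, nat_lit 2, [(nat_lit 2, [nat_lit 0, nat_lit 0, nat_lit 0, nat_lit 0, nat_lit 0, nat_lit 0, nat_lit 0, nat_lit 0, nat_lit 0])]⟩,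
  ⟨rJ_1, MJ_1, nat_lit 3, [(nat_lit 3, [nat_lit 0, nat_lit 0, nat_lit 0, nat_lit 0, nat_lit 0, nat_lit 0, nat_lit 0, nat_lit 0, nat_lit 0])]⟩,
  ⟨rJ_2, MJ_2, nat_lit 4, [(nat_lit 3, [nat_lit 0, nat_lit 1, nat_lit 0, nat_lit 0, nat_lit 0, nat_lit 0, nat_lit 0, nat_lit 0, nat_lit 0])]⟩,
  ⟨rJ_3, MJ_3, nat_lit 0, []⟩,
  ⟨rJ_4, MJ_4, nat_lit 5, []⟩,
  ⟨xJ2_5, 0, nat_lit 1, [(nat_lit 0, [nat_lit 1, nat_lit 0, nat_lit 0, nat_lit 1, nat_lit 0, nat_lit 0, nat_lit 0, nat_lit 0, nat_lit 0])]⟩,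
  ⟨xJ2_6, 0, nat_lit 6, [(nat_lit 0, [nat_lit 1, nat_lit 1, nat_lit 0, nat_lit 0, nat_lit 0, nat_lit 0, nat_lit 0, nat_lit 0, nat_lit 0])]⟩,
  ⟨xJ2_7, 0, nat_lit 7, [(nat_lit 0, [nat_lit 0, nat_lit 1, nat_lit 1, nat_lit 0, nat_lit 0, nat_lit 0, nat_lit 0, nat_lit 0, nat_lit 0])]⟩,
  ⟨xJ2_8, 0, nat_lit 8, [(nat_lit 0, [nat_lit 0, nat_lit 0, nat_lit 1, nat_lit 0, nat_lit 0, nat_lit 0, nat_lit 0, nat_lit 0, nat_lit 0])]⟩,
  ⟨xJ2_9, 0, nat_lit 9, [(nat_lit 0, [nat_lit 1, nat_lit 0, nat_lit 0, nat_lit 0, nat_lit 0, nat_lit 0, nat_lit 0, nat_lit 0, nat_lit 0])]⟩,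
  ⟨xJ2_10, 0, nat_lit 10, [(nat_lit 0, [nat_lit 1, nat_lit 1, nat_lit 1, nat_lit 1, nat_lit 0, nat_lit 0, nat_lit 0, nat_lit 0, nat_lit 0])]⟩]
noncomputable def UJ2 : List Word := [rJ_0, rJ_1, rJ_2, rJ_4, xJ2_6, xJ2_7, xJ2_8, xJ2_9, xJ2_10]
noncomputable def KnJ2 : List Word := [xJ2_5]
noncomputable def QJ2 : List (List Nat) := [[nat_lit 1, nat_lit 0, nat_lit 0, nat_lit 0, nat_lit 0, nat_lit 0, nat_lit 0, nat_lit 0, nat_lit 0], [nat_lit 0, nat_lit 1, nat_lit 0, nat_lit 0, nat_lit 0, nat_lit 0, nat_lit 0, nat_lit 0, nat_lit 0], [nat_lit 0, nat_lit 1, nat_lit 1, nat_lit 0, nat_lit 0, nat_lit 0, nat_lit 0, nat_lit 0, nat_lit 0], [nat_lit 1, nat_lit 0, nat_lit 0, nat_lit 1, nat_lit 0, nat_lit 0, nat_lit 0, nat_lit 0, nat_lit 0], [nat_lit 1, nat_lit 1, nat_lit 0, nat_lit 0, nat_lit 1, nat_lit 0, nat_lit 0, nat_lit 0, nat_lit 0], [nat_lit 0, nat_lit 0, nat_lit 1, nat_lit 0, nat_lit 0, nat_lit 1, nat_lit 0, nat_lit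 0, nat_lit 0], [nat_lit 0, nat_lit 1, nat_lit 1, nat_lit 0, nat_lit 0, nat_lit 0, nat_lit 1, nat_lit 0, nat_lit 0], [nat_lit 1, nat_lit 0, nat_lit 0, nat_lit 0, nat_lit 0, nat_lit 0, nat_lit 0, nat_lit 1, nat_lit 0], [nat_lit 0, nat_lit 0, nat_lit 1, nat_lit 1, nat_lit 0, nat_lit 0, nat_lit 0, nat_lit 0, nat_lit 1]]
noncomputable def skJ2 : List (List Nat × Nat) := [(xJ2_5, 0), (xJ2_6, 0), (xJ2_7, 0), (xJ2_8, 0), (xJ2_9, 0), (xJ2_10, 0)]
noncomputable def lbJ3_0 : Nat := (nat_lit 0x20e004000000000002a2)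
noncomputable def lbJ3_1 : Nat := (nat_lit 0x100100000000010010)
noncomputable def lbJ3_2 : Nat := (nat_lit 0x18500080000000920c24)
noncomputable def BJ3 : Lab := ⟨nat_lit 3, nat_lit 9, nat_lit 2, [lbJ3_0, lbJ3_1, lbJ3_2]⟩
noncomputable def xJ3_5 : Word := dw (nat_lit 0x05050202)
noncomputable def xJ3_6 : Word := dw (nat_lit 0x060105010101)
noncomputable def xJ3_7 : Word := dw (nat_lit 0x06030104050101030104)
noncomputable def xJ3_8 : Word := dw (nat_lit 0x0603030104040501030302040402)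
noncomputable def xJ3_9 : Word := dw (nat_lit 0x0404010303050404010303050404010303050101)
noncomputable def xJ3_10 : Word := dw (nat_lit 0x040205040205040205040205040205)
noncomputable def itsJ3 : List It := [⟨rJ_0, MJ_0, nat_lit 2, [(nat_lit 1, [nat_lit 0, nat_lit 2, nat_lit 0, nat_lit 0, nat_lit 0, nat_lit 0, nat_lit 0, nat_lit 0, nat_lit 0]), (nat_lit 2, [nat_lit 0, nat_lit 0, nat_lit 1, nat_lit 1, nat_lit 0, nat_lit 0, nat_lit 0, nat_lit 0, nat_lit 0]), (nat_lit 3, [nat_lit 0, nat_lit 2, nat_lit 1, nat_lit 2, nat_lit 0, nat_lit 0, nat_lit 0, nat_lit 0, nat_lit 0])]⟩,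
  ⟨rJ_1, MJ_1, nat_lit 3, []⟩,
  ⟨rJ_2, MJ_2, nat_lit 4, []⟩,
  ⟨rJ_3, MJ_3, nat_lit 0, []⟩,
  ⟨rJ_4, MJ_4, nat_lit 5, []⟩,
  ⟨xJ3_5, 0, nat_lit 1, [(nat_lit 0, [nat_lit 2, nat_lit 0, nat_lit 0, nat_lit 0, nat_lit 0, nat_lit 0, nat_lit 0, nat_lit 0, nat_lit 0])]⟩,
  ⟨xJ3_6, 0, nat_lit 6, [(nat_lit 0, [nat_lit 1, nat_lit 1, nat_lit 0, nat_lit 0, nat_lit 0, nat_lit 0, nat_lit 0, nat_lit 0, nat_lit 0])]⟩,
  ⟨xJ3_7, 0, nat_lit 7, [(nat_lit 0, [nat_lit 0, nat_lit 1, nat_lit 2, nat_lit 0, nat_lit 0, nat_lit 0, nat_lit 0, nat_lit 0, nat_lit 0])]⟩,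
  ⟨xJ3_8, 0, nat_lit 8, [(nat_lit 0, [nat_lit 1, nat_lit 0, nat_lit 2, nat_lit 2, nat_lit 0, nat_lit 0, nat_lit 0, nat_lit 0, nat_lit 0])]⟩,
  ⟨xJ3_9, 0, nat_lit 9, [(nat_lit 0, [nat_lit 1, nat_lit 0, nat_lit 2, nat_lit 2, nat_lit 0, nat_lit 0, nat_lit 0, nat_lit 0, nat_lit 0])]⟩,
  ⟨xJ3_10, 0, nat_lit 10, [(nat_lit 0, [nat_lit 0, nat_lit 0, nat_lit 1, nat_lit 0, nat_lit 0, nat_lit 0, nat_lit 0, nat_lit 0, nat_lit 0])]⟩]
noncomputable def UJ3 : List Word := [rJ_0, rJ_1, rJ_2, rJ_4, xJ3_6, xJ3_7, xJ3_8, xJ3_9, xJ3_10]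
noncomputable def KnJ3 : List Word := [xJ3_5]
noncomputable def QJ3 : List (List Nat) := [[nat_lit 0, nat_lit 0, nat_lit 0, nat_lit 2, nat_lit 0, nat_lit 0, nat_lit 0, nat_lit 0, nat_lit 0], [nat_lit 2, nat_lit 0, nat_lit 0, nat_lit 1, nat_lit 0, nat_lit 0, nat_lit 0, nat_lit 0, nat_lit 0], [nat_lit 1, nat_lit 2, nat_lit 2, nat_lit 1, nat_lit 0, nat_lit 0, nat_lit 0, nat_lit 0, nat_lit 0], [nat_lit 2, nat_lit 2, nat_lit 1, nat_lit 1, nat_lit 0, nat_lit 0, nat_lit 0, nat_lit 0, nat_lit 0], [nat_lit 2, nat_lit 0, nat_lit 0, nat_lit 0, nat_lit 2, nat_lit 0, nat_lit 0, nat_lit 0, nat_lit 0], [nat_lit 1, nat_lit 1, nat_lit 1, nat_lit 0, nat_lit 0, nat_lit 2, nat_lit 0, nat_lit 0, nat_lit 0], [nat_lit 0, nat_lit 2, nat_lit 0, nat_lit 0, nat_lit 0, nat_lit 0, nat_lit 2, nat_lit 0, nat_lit 0], [nat_lit 0, nat_lit 2, nat_lit 0, nat_lit 0, nat_lit 0, nat_lit 0, nat_lit 0, nat_lit 2, nat_lit 0], [nat_lit 1, nat_lit 2, nat_lit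 2, nat_lit 1, nat_lit 0, nat_lit 0, nat_lit 0, nat_lit 0, nat_lit 2]]
noncomputable def skJ3 : List (List Nat × Nat) := [(xJ3_5, 0), (xJ3_6, 0), (xJ3_7, 0), (xJ3_8, 0), (xJ3_9, 0), (xJ3_10, 0)]
noncomputable def KW : List Word := [dw (nat_lit 0x05), dw (nat_lit 0x020501), dw (nat_lit 0x040503), dw (nat_lit 0x030504), dw (nat_lit 0x0602060105020501), dw (nat_lit 0x01), dw (nat_lit 0x030104), dw (nat_lit 0x0303010404)
]
noncomputable def KP : List Word := [dw (nat_lit 0x02040203060401060301), dw (nat_lit 0x0404010502030503), dw (nat_lit 0x02040205010301), dw (nat_lit 0x04020305040103), dw (nat_lit 0x0303020405030105040406), dw (nat_lit 0x020202), dw (nat_lit 0x0302040202), dw (nat_lit 0x01030301040402)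
]
noncomputable def al : Word := dw (nat_lit 0x0402)
noncomputable def hh : Word := dw (nat_lit 0x08040502030507)
noncomputable def yy : Word := dw (nat_lit 0x050703010405070507050302070406)
noncomputable def x47 : Word := dw (nat_lit 0x0608020602030608)
noncomputable def x364 : Word := dw (nat_lit 0x02070406020306080306040206010401030104)
noncomputable def x368 : Word := dw (nat_lit 0x0206080106040106080206010504040604020404)
noncomputable def x23 : Word := dw (nat_lit 0x07)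
noncomputable def x369 : Word := dw (nat_lit 0x020608030204060803020406040104040104)
noncomputable def x29 : Word := dw (nat_lit 0x01030203030203030601050305040705040407050305)
noncomputable def x366 : Word := dw (nat_lit 0x030104020404020405030305030705040407050305)
noncomputable def x365 : Word := dw (nat_lit 0x01040402050306030206060705010502050408)
noncomputable def x370 : Word := dw (nat_lit 0x080105030502060801040205020404020302)
noncomputable def x96 : Word := dw (nat_lit 0x0307)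
noncomputable def x25 : Word := dw (nat_lit 0x03030204020303060105020607060303020503)
noncomputable def x371 : Word := dw (nat_lit 0x06020503060805020501050402040203)
noncomputable def v1 : Word := dw (nat_lit 0x0d)
noncomputable def v2 : Word := dw (nat_lit 0x0b07100c)
noncomputable def v3 : Word := dw (nat_lit 0x0603100401)
noncomputable def qa1 : Word := dw (nat_lit 0x0c)
noncomputable def qa2 : Word := dw (nat_lit 0x0b)
noncomputable def qb1 : Word := dw (nat_lit 0x0d010c0710)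
noncomputable def qb2 : Word := dw (nat_lit 0x0c0c)
noncomputable def qc1 : Word := dw (nat_lit 0x0c0c)
noncomputable def qc2 : Word := dw (nat_lit 0x0b0b)
noncomputable def RY : List Word := [dw (nat_lit 0x0a0109010101), dw (nat_lit 0x0404010303090404010303090404010303090101), dw (nat_lit 0x0a0a0101), dw (nat_lit 0x03090401030309040401), dw (nat_lit 0x030a030a04090401), dw (nat_lit 0x09010901), dw (nat_lit 0x09090202), dw (nat_lit 0x0a03030104040901030302040402)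
, dw (nat_lit 0x0303030303), dw (nat_lit 0x0a030104090101030104), dw (nat_lit 0x040209040209040209040209040209)]
theorem skelJ : TJ.Skel 3 2 scJ skJ := Tbl.skel_of_chk (by decide +kernel)
theorem killJ2 : Kill 2 2 KnJ2 (List.map It.r itsJ2) :=
  kill_of (T := TJ) (B := BJ2) (U := UJ2) (Q := QJ2) (skelJ.append (sk' := skJ2) (by decide +kernel))
    (by decide +kernel) (by decide +kernel)
theorem killJ3 : Kill 3 2 KnJ3 (List.map It.r itsJ3) :=
  kill_of (T := TJ) (B := BJ3) (U := UJ3) (Q := QJ3) (skelJ.append (sk' := skJ3) (by decide +kernel))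
    (by decide +kernel) (by decide +kernel)
theorem ry : H15.LyM.c.rels H15.LyM.ms (toRels RY) = true := by decide +kernel
theorem rt : H15.LyM.c.rels H15.LyM.ms [([8] ++ (hh ++ ([8] ++ al)), yy ++ ([8] ++ hh))] = true := by decide +kernel

end H14.LyL
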