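import Cfsg.Agent.H14.M24Cls
import Cfsg.Agent.H14.FixK

set_option autoImplicit false
set_option maxRecDepth 100000

namespace H14
open Cfsg MulAction
open scoped Pointwise

noncomputable def y5 : Word := dw (nat_lit 0x0e0f1612)
theorem ord_y5 : orderOf (ev M0.gen y5) = 5 := M0.orderOf_prime (D := 5) (by norm_num) (by norm_num) (by norm_num) (by decide +kernel)
noncomputable def y7 : Word := dw (nat_lit 0x030214080a1610)
theorem ord_y7 : orderOf (ev M0.gen y7) = 7 := M0.orderOf_prime (D := 5) (by norm_num) (by norm_num) (by norm_num) (by decide +kernel)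
abbrev TxA : ℕ := 0x1703070f13160805090b0e100d0a140406150c1112020100
theorem tab_xA : IsTab (ev M0.gen xA) TxA := isTab_of (by decide +kernel)
abbrev ACxA := Subgroup.centralizer {ev M0.gen xA}
theorem iCxA1 : M0.Inv (ACxA ⊓ M0.fixL []) (nat_lit 0xffffff) :=
  (PM.Inv.full).of_eq (by decide +kernel)
theorem iCxA2 : M0.Inv (ACxA ⊓ M0.fixL []) (nat_lit 0x880407) :=
  (PM.Inv.fix (D := 5) (by norm_num) (z := xA) (M0.comm_of_le le_rfl)).of_eq (by decide +kernel)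
theorem iCxA3 : M0.Inv (ACxA ⊓ M0.fixL []) (nat_lit 0x77fbf8) :=
  (iCxA1.sdf iCxA2).of_eq (by decide +kernel)
theorem iCxA4 : M0.Inv (ACxA ⊓ M0.fixL [3]) (nat_lit 0x8) :=
  (PM.Inv.pt (b := 3) (by decide +kernel)).of_eq (by decide +kernel)
theorem iCxA5 : M0.Inv (ACxA ⊓ M0.fixL [3]) (nat_lit 0x77fbf0) :=
  ((iCxA3.lift (by decide +kernel)).sdf iCxA4).of_eq (by decide +kernel)
theorem iCxA6 : M0.Inv (ACxA ⊓ M0.fixL [3]) (nat_lit 0x40000) :=
  (iCxA4.img (z := xA) (M0.comm_of_le le_rfl)).of_eq (by decide +kernel)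
theorem iCxA7 : M0.Inv (ACxA ⊓ M0.fixL [3]) (nat_lit 0x73fbf0) :=
  (iCxA5.sdf iCxA6).of_eq (by decide +kernel)
theorem iCxA8 : M0.Inv (ACxA ⊓ M0.fixL [3]) (nat_lit 0x400000) :=
  (iCxA6.img (z := xA) (M0.comm_of_le le_rfl)).of_eq (by decide +kernel)
theorem iCxA9 : M0.Inv (ACxA ⊓ M0.fixL [3]) (nat_lit 0x33fbf0) :=
  (iCxA7.sdf iCxA8).of_eq (by decide +kernel)
theorem iCxA10 : M0.Inv (ACxA ⊓ M0.fixL [4, 3]) (nat_lit 0x10) :=
  (PM.Inv.pt (b := 4) (by decide +kernel)).of_eq (by decide +kernel)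
theorem iCxA12 : M0.Inv (ACxA ⊓ M0.fixL [4, 3]) (nat_lit 0x20000) :=
  (iCxA10.img (z := xA) (M0.comm_of_le le_rfl)).of_eq (by decide +kernel)
theorem iCxA14 : M0.Inv (ACxA ⊓ M0.fixL [4, 3]) (nat_lit 0x100) :=
  (iCxA12.img (z := xA) (M0.comm_of_le le_rfl)).of_eq (by decide +kernel)
theorem ubCxA6 : Nat.card (ACxA ⊓ M0.fixL [8, 22, 18, 17, 4, 3] : Subgroup _) ≤ 4 :=
  PM.card_le_cent (D := 5) (by norm_num) M0_eq5 m24cov5 (dw (nat_lit 0x05010305020c16070d0c0f110f)) le_rfl (by decide +kernel)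
theorem ubCxA5 : Nat.card (ACxA ⊓ M0.fixL [22, 18, 17, 4, 3] : Subgroup _) ≤ 4 :=
  M0.card_le_step (p := 1) (iCxA14.lift (by decide +kernel)) (by decide +kernel) ubCxA6
theorem ubCxA4 : Nat.card (ACxA ⊓ M0.fixL [18, 17, 4, 3] : Subgroup _) ≤ 4 :=
  M0.card_le_step (p := 1) (iCxA8.lift (by decide +kernel)) (by decide +kernel) ubCxA5
theorem ubCxA3 : Nat.card (ACxA ⊓ M0.fixL [17, 4, 3] : Subgroup _) ≤ 4 :=
  M0.card_le_step (p := 1) (iCxA6.lift (by decide +kernel)) (by decide +kernel) ubCxA4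
theorem ubCxA2 : Nat.card (ACxA ⊓ M0.fixL [4, 3] : Subgroup _) ≤ 4 :=
  M0.card_le_step (p := 1) iCxA12 (by decide +kernel) ubCxA3
theorem ubCxA1 : Nat.card (ACxA ⊓ M0.fixL [3] : Subgroup _) ≤ 60 :=
  M0.card_le_step (p := 15) iCxA9 (by decide +kernel) ubCxA2
theorem ubCxA0 : Nat.card (ACxA ⊓ M0.fixL [] : Subgroup _) ≤ 1080 :=
  M0.card_le_step (p := 18) iCxA3 (by decide +kernel) ubCxA1
theorem ubCxA : Nat.card (ACxA) ≤ 1080 := M0.card_le_of_nil ubCxA0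
noncomputable def cCxA : Lv := (.cons (nat_lit 0) [dw (nat_lit 0x0a02080e0b0e101315)] [dw (nat_lit 0x01), dw (nat_lit 0x09), dw (nat_lit 0x03), dw (nat_lit 0x01), dw (nat_lit 0x07)]
(.cons (nat_lit 1) [dw (nat_lit 0x0e070a0b130f151312)] [dw (nat_lit 0x01), dw (nat_lit 0x01), dw (nat_lit 0x05), dw (nat_lit 0x07)]
(.cons (nat_lit 4) [dw (nat_lit 0x111013)] [dw (nat_lit 0x01), dw (nat_lit 0x01)]
(.cons (nat_lit 2) [dw (nat_lit 0x0602030213050a0b131513)] [dw (nat_lit 0x01), dw (nat_lit 0x01), dw (nat_lit 0x03)]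
(.cons (nat_lit 3) [dw (nat_lit 0x0a02030214080a0c0e101213)] [dw (nat_lit 0x01), dw (nat_lit 0x01)]
.nil)))))
noncomputable def wCxA : List Word := cCxA.gens
theorem leCxA : sub M0.gen wCxA ≤ ACxA := (M0.le_cent (D := 5) (by norm_num) (by norm_num) (by decide +kernel))
theorem eqCxA : sub M0.gen wCxA = ACxA := (M0.eq_sub_of_low (c := cCxA) leCxA ubCxA (by decide +kernel)).1
theorem cardCxA : Nat.card (ACxA) = 1080 := (M0.eq_sub_of_low (c := cCxA) leCxA ubCxA (by decide +kernel)).2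
abbrev TxB : ℕ := 0x001002120f07080c0406051611150e0b140903130d0a1701
theorem tab_xB : IsTab (ev M0.gen xB) TxB := isTab_of (by decide +kernel)
abbrev ACxB := Subgroup.centralizer {ev M0.gen xB}
theorem iCxB1 : M0.Inv (ACxB ⊓ M0.fixL []) (nat_lit 0xffffff) :=
  (PM.Inv.full).of_eq (by decide +kernel)
theorem iCxB2 : M0.Inv (ACxB ⊓ M0.fixL [0]) (nat_lit 0x1) :=
  (PM.Inv.pt (b := 0) (by decide +kernel)).of_eq (by decide +kernel)
theorem iCxB4 : M0.Inv (ACxB ⊓ M0.fixL [0]) (nat_lit 0x2) :=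
  (iCxB2.img (z := xB) (M0.comm_of_le le_rfl)).of_eq (by decide +kernel)
theorem iCxB6 : M0.Inv (ACxB ⊓ M0.fixL [0]) (nat_lit 0x800000) :=
  (iCxB4.img (z := xB) (M0.comm_of_le le_rfl)).of_eq (by decide +kernel)
theorem ubCxB3 : Nat.card (ACxB ⊓ M0.fixL [1, 23, 0] : Subgroup _) ≤ 21 :=
  PM.card_le_cent (D := 5) (by norm_num) M0_eq3 m24cov3 [] le_rfl (by decide +kernel)
theorem ubCxB2 : Nat.card (ACxB ⊓ M0.fixL [23, 0] : Subgroup _) ≤ 21 :=
  M0.card_le_step (p := 1) (iCxB4.lift (by decide +kernel)) (by decide +kernel) ubCxB3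
theorem ubCxB1 : Nat.card (ACxB ⊓ M0.fixL [0] : Subgroup _) ≤ 21 :=
  M0.card_le_step (p := 1) iCxB6 (by decide +kernel) ubCxB2
theorem ubCxB0 : Nat.card (ACxB ⊓ M0.fixL [] : Subgroup _) ≤ 504 :=
  M0.card_le_step (p := 24) iCxB1 (by decide +kernel) ubCxB1
theorem ubCxB : Nat.card (ACxB) ≤ 504 := M0.card_le_of_nil ubCxB0
noncomputable def cCxB : Lv := (.cons (nat_lit 0) [dw (nat_lit 0x0d02031202130713091410)] [dw (nat_lit 0x01), dw (nat_lit 0x03), dw (nat_lit 0x05), dw (nat_lit 0x03), dw (nat_lit 0x01), dw (nat_lit 0x03), dw (nat_lit 0x01), dw (nat_lit 0x03)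
, dw (nat_lit 0x01)]
(.cons (nat_lit 2) [dw (nat_lit 0x0d0c14)] [dw (nat_lit 0x01), dw (nat_lit 0x01), dw (nat_lit 0x03), dw (nat_lit 0x03)]
(.cons (nat_lit 3) [dw (nat_lit 0x110f1411)] [dw (nat_lit 0x01), dw (nat_lit 0x01)]
.nil)))
noncomputable def wCxB : List Word := cCxB.gens
theorem leCxB : sub M0.gen wCxB ≤ ACxB := (M0.le_cent (D := 5) (by norm_num) (by norm_num) (by decide +kernel))
theorem eqCxB : sub M0.gen wCxB = ACxB := (M0.eq_sub_of_low (c := cCxB) leCxB ubCxB (by decide +kernel)).1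
theorem cardCxB : Nat.card (ACxB) = 504 := (M0.eq_sub_of_low (c := cCxB) leCxB ubCxB (by decide +kernel)).2
abbrev Ty5 : ℕ := 0x1712051011070a0c160f0b0615040d130e03090814020100
theorem tab_y5 : IsTab (ev M0.gen y5) Ty5 := isTab_of (by decide +kernel)
abbrev ACy5 := Subgroup.centralizer {ev M0.gen y5}
theorem iCy51 : M0.Inv (ACy5 ⊓ M0.fixL []) (nat_lit 0xffffff) :=
  (PM.Inv.full).of_eq (by decide +kernel)
theorem iCy52 : M0.Inv (ACy5 ⊓ M0.fixL []) (nat_lit 0x800007) :=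
  (PM.Inv.fix (D := 5) (by norm_num) (z := y5) (M0.comm_of_le le_rfl)).of_eq (by decide +kernel)
theorem iCy53 : M0.Inv (ACy5 ⊓ M0.fixL []) (nat_lit 0x7ffff8) :=
  (iCy51.sdf iCy52).of_eq (by decide +kernel)
theorem iCy54 : M0.Inv (ACy5 ⊓ M0.fixL [3]) (nat_lit 0x8) :=
  (PM.Inv.pt (b := 3) (by decide +kernel)).of_eq (by decide +kernel)
theorem iCy56 : M0.Inv (ACy5 ⊓ M0.fixL [3]) (nat_lit 0x100000) :=
  (iCy54.img (z := y5) (M0.comm_of_le le_rfl)).of_eq (by decide +kernel)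
theorem iCy58 : M0.Inv (ACy5 ⊓ M0.fixL [3]) (nat_lit 0x10000) :=
  (iCy56.img (z := y5) (M0.comm_of_le le_rfl)).of_eq (by decide +kernel)
theorem iCy510 : M0.Inv (ACy5 ⊓ M0.fixL [3]) (nat_lit 0x1000) :=
  (iCy58.img (z := y5) (M0.comm_of_le le_rfl)).of_eq (by decide +kernel)
theorem iCy512 : M0.Inv (ACy5 ⊓ M0.fixL [3]) (nat_lit 0x40) :=
  (iCy510.img (z := y5) (M0.comm_of_le le_rfl)).of_eq (by decide +kernel)
theorem iCy514 : M0.Inv (ACy5 ⊓ M0.fixL [12, 6, 16, 20, 3]) (nat_lit 0x6eefb2) :=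
  (PM.Inv.conjL M0_eq5 (dw (nat_lit 0x070203120213070d)) (Y := (nat_lit 0x7dbfd0)) (by decide +kernel)).of_eq (by decide +kernel)
theorem iCy515 : M0.Inv (ACy5 ⊓ M0.fixL [12, 6, 16, 20, 3]) (nat_lit 0x2) :=
  ((iCy52.lift (by decide +kernel)).land iCy514).of_eq (by decide +kernel)
theorem ubCy56 : Nat.card (ACy5 ⊓ M0.fixL [1, 12, 6, 16, 20, 3] : Subgroup _) ≤ 3 :=
  PM.card_le_cent (D := 5) (by norm_num) M0_eq5 m24cov5 (dw (nat_lit 0x0802030502080d0c10)) le_rfl (by decide +kernel)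
theorem ubCy55 : Nat.card (ACy5 ⊓ M0.fixL [12, 6, 16, 20, 3] : Subgroup _) ≤ 3 :=
  M0.card_le_step (p := 1) iCy515 (by decide +kernel) ubCy56
theorem ubCy54 : Nat.card (ACy5 ⊓ M0.fixL [6, 16, 20, 3] : Subgroup _) ≤ 3 :=
  M0.card_le_step (p := 1) (iCy510.lift (by decide +kernel)) (by decide +kernel) ubCy55
theorem ubCy53 : Nat.card (ACy5 ⊓ M0.fixL [16, 20, 3] : Subgroup _) ≤ 3 :=
  M0.card_le_step (p := 1) (iCy512.lift (by decide +kernel)) (by decide +kernel) ubCy54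
theorem ubCy52 : Nat.card (ACy5 ⊓ M0.fixL [20, 3] : Subgroup _) ≤ 3 :=
  M0.card_le_step (p := 1) (iCy58.lift (by decide +kernel)) (by decide +kernel) ubCy53
theorem ubCy51 : Nat.card (ACy5 ⊓ M0.fixL [3] : Subgroup _) ≤ 3 :=
  M0.card_le_step (p := 1) iCy56 (by decide +kernel) ubCy52
theorem ubCy50 : Nat.card (ACy5 ⊓ M0.fixL [] : Subgroup _) ≤ 60 :=
  M0.card_le_step (p := 20) iCy53 (by decide +kernel) ubCy51
theorem ubCy5 : Nat.card (ACy5) ≤ 60 := M0.card_le_of_nil ubCy50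
noncomputable def cCy5 : Lv := (.cons (nat_lit 1) [dw (nat_lit 0x010c0e121512)] [dw (nat_lit 0x01), dw (nat_lit 0x01), dw (nat_lit 0x03)]
(.cons (nat_lit 0) [dw (nat_lit 0x0101030d0c0e0f11)] [dw (nat_lit 0x01), dw (nat_lit 0x01)]
(.cons (nat_lit 3) [dw (nat_lit 0x10151312)] [dw (nat_lit 0x01), dw (nat_lit 0x01), dw (nat_lit 0x01), dw (nat_lit 0x01)]
.nil)))
noncomputable def wCy5 : List Word := cCy5.gens
theorem leCy5 : sub M0.gen wCy5 ≤ ACy5 := (M0.le_cent (D := 5) (by norm_num) (by norm_num) (by decide +kernel))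
theorem eqCy5 : sub M0.gen wCy5 = ACy5 := (M0.eq_sub_of_low (c := cCy5) leCy5 ubCy5 (by decide +kernel)).1
theorem cardCy5 : Nat.card (ACy5) = 60 := (M0.eq_sub_of_low (c := cCy5) leCy5 ubCy5 (by decide +kernel)).2
abbrev Ty7 : ℕ := 0x00120f0b130c1115160514070a0609041008170d0e030201
theorem tab_y7 : IsTab (ev M0.gen y7) Ty7 := isTab_of (by decide +kernel)
abbrev ACy7 := Subgroup.centralizer {ev M0.gen y7}
theorem iCy71 : M0.Inv (ACy7 ⊓ M0.fixL []) (nat_lit 0xffffff) :=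
  (PM.Inv.full).of_eq (by decide +kernel)
theorem iCy72 : M0.Inv (ACy7 ⊓ M0.fixL []) (nat_lit 0xa0200) :=
  (PM.Inv.fix (D := 5) (by norm_num) (z := y7) (M0.comm_of_le le_rfl)).of_eq (by decide +kernel)
theorem iCy73 : M0.Inv (ACy7 ⊓ M0.fixL []) (nat_lit 0xf5fdff) :=
  (iCy71.sdf iCy72).of_eq (by decide +kernel)
theorem iCy74 : M0.Inv (ACy7 ⊓ M0.fixL [0]) (nat_lit 0x1) :=
  (PM.Inv.pt (b := 0) (by decide +kernel)).of_eq (by decide +kernel)
theorem iCy76 : M0.Inv (ACy7 ⊓ M0.fixL [0]) (nat_lit 0x2) :=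
  (iCy74.img (z := y7) (M0.comm_of_le le_rfl)).of_eq (by decide +kernel)
theorem iCy78 : M0.Inv (ACy7 ⊓ M0.fixL [0]) (nat_lit 0x4) :=
  (iCy76.img (z := y7) (M0.comm_of_le le_rfl)).of_eq (by decide +kernel)
theorem iCy710 : M0.Inv (ACy7 ⊓ M0.fixL [0]) (nat_lit 0x8) :=
  (iCy78.img (z := y7) (M0.comm_of_le le_rfl)).of_eq (by decide +kernel)
theorem iCy712 : M0.Inv (ACy7 ⊓ M0.fixL [0]) (nat_lit 0x4000) :=
  (iCy710.img (z := y7) (M0.comm_of_le le_rfl)).of_eq (by decide +kernel)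
theorem iCy714 : M0.Inv (ACy7 ⊓ M0.fixL [0]) (nat_lit 0x20) :=
  (iCy712.img (z := y7) (M0.comm_of_le le_rfl)).of_eq (by decide +kernel)
theorem iCy718 : M0.Inv (ACy7 ⊓ M0.fixL [5, 1, 3, 2, 0]) (nat_lit 0x7dbfd0) :=
  (PM.Inv.conjL M0_eq5 (dw (nat_lit 0x0101030210080e0b0d)) (Y := (nat_lit 0x7dbfd0)) (by decide +kernel)).of_eq (by decide +kernel)
theorem iCy720 : M0.Inv (ACy7 ⊓ M0.fixL [5, 1, 3, 2, 0]) (nat_lit 0x20000) :=
  ((iCy72.lift (by decide +kernel)).sdf iCy718).of_eq (by decide +kernel)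
theorem ubCy77 : Nat.card (ACy7 ⊓ M0.fixL [17, 14, 5, 1, 3, 2, 0] : Subgroup _) ≤ 2 :=
  PM.card_le_cent (D := 5) (by norm_num) M0_eq5 m24cov5 (dw (nat_lit 0x0702030702050f0b1610)) le_rfl (by decide +kernel)
theorem ubCy76 : Nat.card (ACy7 ⊓ M0.fixL [14, 5, 1, 3, 2, 0] : Subgroup _) ≤ 2 :=
  M0.card_le_step (p := 1) (iCy720.lift (by decide +kernel)) (by decide +kernel) ubCy77
theorem ubCy75 : Nat.card (ACy7 ⊓ M0.fixL [5, 1, 3, 2, 0] : Subgroup _) ≤ 2 :=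
  M0.card_le_step (p := 1) (iCy712.lift (by decide +kernel)) (by decide +kernel) ubCy76
theorem ubCy74 : Nat.card (ACy7 ⊓ M0.fixL [1, 3, 2, 0] : Subgroup _) ≤ 2 :=
  M0.card_le_step (p := 1) (iCy714.lift (by decide +kernel)) (by decide +kernel) ubCy75
theorem ubCy73 : Nat.card (ACy7 ⊓ M0.fixL [3, 2, 0] : Subgroup _) ≤ 2 :=
  M0.card_le_step (p := 1) (iCy76.lift (by decide +kernel)) (by decide +kernel) ubCy74
theorem ubCy72 : Nat.card (ACy7 ⊓ M0.fixL [2, 0] : Subgroup _) ≤ 2 :=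
  M0.card_le_step (p := 1) (iCy710.lift (by decide +kernel)) (by decide +kernel) ubCy73
theorem ubCy71 : Nat.card (ACy7 ⊓ M0.fixL [0] : Subgroup _) ≤ 2 :=
  M0.card_le_step (p := 1) iCy78 (by decide +kernel) ubCy72
theorem ubCy70 : Nat.card (ACy7 ⊓ M0.fixL [] : Subgroup _) ≤ 42 :=
  M0.card_le_step (p := 21) iCy73 (by decide +kernel) ubCy71
theorem ubCy7 : Nat.card (ACy7) ≤ 42 := M0.card_le_of_nil ubCy70
noncomputable def cCy7 : Lv := (.cons (nat_lit 0) [dw (nat_lit 0x08020313020707100b0e160f1311)] [dw (nat_lit 0x01), dw (nat_lit 0x03), dw (nat_lit 0x01), dw (nat_lit 0x03), dw (nat_lit 0x01), dw (nat_lit 0x01), dw (nat_lit 0x01), dw (nat_lit 0x01)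
, dw (nat_lit 0x01), dw (nat_lit 0x01)]
(.cons (nat_lit 4) [dw (nat_lit 0x121512)] [dw (nat_lit 0x01)]
.nil))
noncomputable def wCy7 : List Word := cCy7.gens
theorem leCy7 : sub M0.gen wCy7 ≤ ACy7 := (M0.le_cent (D := 5) (by norm_num) (by norm_num) (by decide +kernel))
theorem eqCy7 : sub M0.gen wCy7 = ACy7 := (M0.eq_sub_of_low (c := cCy7) leCy7 ubCy7 (by decide +kernel)).1
theorem cardCy7 : Nat.card (ACy7) = 42 := (M0.eq_sub_of_low (c := cCy7) leCy7 ubCy7 (by decide +kernel)).2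
theorem tab_y7' : IsTab (ev M0.gen (powW y7 6)) 0x050f100d1316110715030412140b09060c0a0e0802010017 := isTab_of (by decide +kernel)
noncomputable def mu7 : Word := dw (nat_lit 0x1002030207070d0f)
theorem mu7_conj : ev M0.gen mu7 * ev M0.gen y7 * (ev M0.gen mu7)⁻¹ = ev M0.gen y7 ^ 2 := by
  rw [← ev_conjW, ← ev_powW]
  exact M0.ev_eq (D := 5) (by norm_num) (by norm_num) (by decide +kernel)
/-- Elements of order 7 are not real. -/
theorem nonreal7 (τ : M24) : ev M0.gen y7 * τ ≠ τ * ev M0.gen y7 ^ 6 := fun h => by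
  obtain ⟨c, hc, e⟩ : ∃ c ∈ sub M0.gen wCy7, c • M0.dec 23 = τ • M0.dec 23 := by
    refine M0.orb_sound_bit _ [dw (nat_lit 0x01), dw (nat_lit 0x0204), dw (nat_lit 0x03), dw (nat_lit 0x01), dw (nat_lit 0x0101), dw (nat_lit 0x01), dw (nat_lit 0x01)] (by norm_num) (((M0.mem_S_lor _ (agr 24 5 (arW 24 M24c.nets 5 y7) (arI 24 5)) _).1 (M0.S_mono (a := full 24)
      (by decide +kernel) (M0.mem_S_full' _))).resolve_right fun h1 => ?_)
    rw [M0.mem_S_fix (D := 5) (by norm_num) y7, ← mul_smul, h, mul_smul, smul_left_cancel_iff] at h1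
    exact absurd ((tab_y7.pow 6 _).symm.trans (congrArg gi h1)) (by decide +kernel)
  have h1 : SemiconjBy (c⁻¹ * τ) (ev M0.gen y7 ^ 6) (ev M0.gen y7) := by
    rw [SemiconjBy, mul_assoc, ← h, ← mul_assoc, ← mul_assoc,
      Subgroup.mem_centralizer_singleton_iff.1 (inv_mem (leCy7 hc))]
  have hu : IsTab (ev M0.gen (dw (nat_lit 0x0e08010f080a0e14))) 0x1708090b120d05161401150c0f1007061304000a02030e11 := isTab_of (by decide +kernel)
  refine m24cov5.all_coset (F := arF 24 M24c.nets 5) (A := 0) (f := fun w _ => !Nat.beq (arW 24 M24c.nets 5 (w ++ y7))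
    (arW 24 M24c.nets 5 (powW y7 6 ++ w))) (dw (nat_lit 0x0e08010f080a0e14)) (by decide +kernel)
    (P := fun g => ev M0.gen y7 * g ≠ g * ev M0.gen y7 ^ 6)
    (fun w hw => by
      rw [← ev_powW, ← ev_append, ← ev_append]
      exact M0.ev_ne (D := 5) (by norm_num) (by simpa using hw))
    (c⁻¹ * τ * (ev M0.gen _)⁻¹) (M0_eq5.le ⟨trivial, fun b hb => ?_⟩) (by rw [inv_mul_cancel_right]; exact h1.symm)
  obtain ⟨i, h2, h3⟩ := (by decide +kernel : ∀ b ∈ [3, 2, 1, 0, 23], ∃ i : Fin 5, itT Ty7 i 23 = gi (gp b) ∧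
    byt 0x1708090b120d05161401150c0f1007061304000a02030e11 (itT Ty7 (6 * i) 23) = gi (gp b)) b hb
  have h4 : ev M0.gen y7 ^ i.1 • M0.dec 23 = M0.dec b := gi_inj ((tab_y7.pow _ _).trans h2)
  have h5 : ev M0.gen (dw (nat_lit 0x0e08010f080a0e14)) • ev M0.gen y7 ^ (6 * i.1) • M0.dec 23 = M0.dec b :=
    gi_inj ((hu _).trans ((congrArg _ (tab_y7.pow _ _)).trans h3))
  rw [mul_smul, ← h5, inv_smul_smul, h5, ← mul_smul, pow_mul, (h1.pow_right _).eq, mul_smul, mul_smul, ← e,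
    inv_smul_smul, h4]

end H14
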