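import Cfsg.Agent.H14.Obj3

/-! Divisibility from a chain with closed orbits; centralisers inside subgroups. -/

set_option autoImplicit false

namespace H14
open MulAction
open scoped Pointwise

noncomputable def Lv.clChk (L : List Net) (c : Lv) : Bool :=
  @Lv.rec (fun _ => Bool) true (fun b ws s r ih =>
    invChk L (List.append ws r.gens) (orbRun L (List.append ws r.gens) s (bit b)) && ih) c

theorem subs_orbRun (L : List Net) (ws s : List Word) (S i : ℕ) (h : S.testBit i = true) :
    (orbRun L ws s S).testBit i = true := by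
  induction s generalizing S with
  | nil => exact h
  | cons v s ih =>
    have : orbRun L ws (v :: s) S = orbRun L ws s (Nat.lor S (runW (letN L) (flat ws v) S)) :=
      frc_eq _ _
    rw [this]
    exact ih _ (by rw [show Nat.lor S _ = S ||| _ from rfl, Nat.testBit_or, h, Bool.true_or])

namespace PM
variable {Γ Ω : Type*} [Group Γ] [MulAction Γ Ω] {n D : ℕ} {L : List Net} (M : PM Γ Ω n L)

theorem val_dvd (c : Lv) (h0 : c.val n L ≠ 0) (hc : c.clChk L = true) :
    c.val n L ∣ Nat.card (sub M.gen c.gens) := by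
  induction c with
  | nil => exact one_dvd _
  | cons b ws s r ih =>
    have e : (Lv.cons b ws s r).val n L = @Bool.rec (fun _ => Nat) 0
      (@Bool.rec (fun _ => Nat) 0
        (pop n (orbRun L (ws ++ r.gens) s (bit b)) * r.val n L)
        (invChk L r.gens (bit b))) (Nat.ble (b + 1) n) := rfl
    have eg : (Lv.cons b ws s r).gens = ws ++ r.gens := rfl
    have hc' := Bool.and_eq_true_iff.1 hc
    rw [e] at h0 ⊢
    rw [eg]
    revert h0
    cases h1 : Nat.ble (b + 1) n
    · exact fun h => absurd rfl h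
    cases h2 : invChk L r.gens (bit b)
    · exact fun h => absurd rfl h
    intro h0
    replace h0 : pop n _ * _ ≠ 0 := h0
    have hb : b < n := Nat.le_of_ble_eq_true h1
    have hle : sub M.gen r.gens ≤ sub M.gen (ws ++ r.gens) :=
      sub_mono _ fun w h => List.mem_append_right _ h
    show pop n _ * _ ∣ _
    rw [card_eq_mul (sub M.gen (ws ++ r.gens)) (M.dec b), mul_comm, ← M.ncard_S]
    refine Nat.mul_dvd_mul ((ih (right_ne_zero_of_mul h0) hc'.2).trans
      (Subgroup.card_dvd_of_le (le_inf hle (M.fix_sound hb h2)))) (dvd_of_eq (congrArg _ ?_))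
    refine Set.ext fun x => ⟨fun hx => M.orb_sound_bit _ _ hb hx, fun ⟨g, hg, e⟩ => ?_⟩
    exact e ▸ (M.inv_sound hc'.1 hg _).2 (subs_orbRun _ _ _ _ _ ((M.mem_S_bit hb).2 rfl))

/-- An upper bound below twice the order of a subgroup is sharpened. -/
theorem card_le_of_dvd {A : Subgroup Γ} (c : Lv) {N N' : ℕ} (h1 : sub M.gen c.gens ≤ A)
    (h2 : Nat.card A ≤ N') (h3 : (c.clChk L && (Nat.beq (c.val n L) N &&
      Nat.ble (Nat.succ N') (Nat.mul 2 N))) = true) : Nat.card A ≤ N := by
  simp only [Bool.and_eq_true, beq_iff, Nat.ble_eq, Nat.mul_eq, Nat.succ_eq_add_one] at h3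
  obtain ⟨h3, h4, h5⟩ := h3
  obtain ⟨k, hk⟩ := (M.val_dvd c (by omega) h3).trans (Subgroup.card_dvd_of_le h1)
  rw [h4] at hk
  rw [hk] at h2 ⊢
  have : k < 2 := Nat.lt_of_mul_lt_mul_left (a := N) (by omega)
  interval_cases k <;> omega

theorem card_le_cent' {M : PM Γ Ω n L} {z : Word} (h0 : 0 < n) {ws : List Word} {bs cs : List ℕ}
    {Ts : List (List Word)} (hG : ⊤ ⊓ M.fixL cs = sub M.gen ws) (hX : Cover M.gen (sub M.gen ws) Ts)
    (u : Word) {A : Subgroup Γ} {Ys : List ℕ} (hY : ∀ Y ∈ Ys, M.Inv (A ⊓ M.fixL bs) Y)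
    (hA : A ≤ Subgroup.centralizer {ev M.gen z}) {c : ℕ}
    (h : (mapsTo n L u cs bs && Nat.ble (cntA (arF n L D) (fun w B =>
      presAll L (Ys.map (runW (letN L) (invW u))) w B &&
        commAll n L D [conjW z (invW u)] w B) Ts [] (arI n D)) c) = true) :
    Nat.card (A ⊓ M.fixL bs : Subgroup Γ) ≤ c := by
  rw [Bool.and_eq_true] at h
  refine M.card_le_enum' hX (ev M.gen u)
    (fun g hg => hG ▸ ⟨trivial, M.conj_mem_fixL h.1 (Subgroup.mem_inf.1 hg).2⟩) (fun w hw => ?_) h.2
  rw [Bool.and_eq_true]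
  refine ⟨List.all_eq_true.2 fun Y hY' => ?_, M.commAll_of h0 fun s hs => ?_⟩
  · obtain ⟨Z, hZ, rfl⟩ := List.mem_map.1 hY'
    refine beq_iff.2 (M.runW_eq_of_inv (A := Subgroup.zpowers (ev M.gen w))
      (Inv.conj (hY Z hZ) fun g hg => ?_) (Subgroup.mem_zpowers _))
    obtain ⟨k, rfl⟩ := hg
    rw [ev_invW, inv_inv, ← conj_zpow]
    exact zpow_mem hw k
  · rw [List.mem_singleton.1 hs, ev_conjW, ev_invW, inv_inv]
    have := Subgroup.mem_centralizer_singleton_iff.1 (hA hw.1)
    calc _ = (ev M.gen u)⁻¹ * (ev M.gen z * (ev M.gen u * ev M.gen w * (ev M.gen u)⁻¹)) *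
        ev M.gen u := by group
      _ = _ := by rw [← this]; group

end PM
end H14
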