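import Cfsg.Agent.H14.M24Obj
import Cfsg.Agent.H14.Obj4
import Cfsg.Agent.H14.F24

set_option autoImplicit false
set_option maxRecDepth 100000

namespace H14
open Cfsg MulAction
open scoped Pointwise

noncomputable def zA : Word := dw (nat_lit 0x131512)
noncomputable def zB : Word := dw (nat_lit 0x030907160f)
noncomputable def xA : Word := dw (nat_lit 0x111013)
noncomputable def xB : Word := dw (nat_lit 0x0302140916)
theorem ord_zA : orderOf (ev M0.gen zA) = 2 := M0.orderOf_prime (D := 5) (by norm_num) (by norm_num) (by norm_num) (by decide +kernel)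
theorem nfix_zA : nfix GolayPt (ev M0.gen zA) = 8 := M0.nfix_ev (D := 5) (by norm_num) _ (by decide +kernel)
theorem ord_zB : orderOf (ev M0.gen zB) = 2 := M0.orderOf_prime (D := 5) (by norm_num) (by norm_num) (by norm_num) (by decide +kernel)
theorem nfix_zB : nfix GolayPt (ev M0.gen zB) = 0 := M0.nfix_ev (D := 5) (by norm_num) _ (by decide +kernel)
theorem ord_xA : orderOf (ev M0.gen xA) = 3 := M0.orderOf_prime (D := 5) (by norm_num) (by norm_num) (by norm_num) (by decide +kernel)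
theorem nfix_xA : nfix GolayPt (ev M0.gen xA) = 6 := M0.nfix_ev (D := 5) (by norm_num) _ (by decide +kernel)
theorem ord_xB : orderOf (ev M0.gen xB) = 3 := M0.orderOf_prime (D := 5) (by norm_num) (by norm_num) (by norm_num) (by decide +kernel)
theorem nfix_xB : nfix GolayPt (ev M0.gen xB) = 0 := M0.nfix_ev (D := 5) (by norm_num) _ (by decide +kernel)
noncomputable def tab2 : List (Nat × Word × Nat) := [((nat_lit 0x50507409a988fda250c39e6804bed6), dw (nat_lit 0x0902030213070d0c140f141612), 0),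
((nat_lit 0x2261c8519a20b9a7508d89ec3e9cc2), dw (nat_lit 0x0a02030a010114080e0b0e151311), 0),
((nat_lit 0x6f204080dd20b1a7581db98ca6aaaa), dw (nat_lit 0x05010307140910140f121311), 0),
((nat_lit 0xb24188418e60f4f0705cea8c3e9c4a), dw (nat_lit 0x130203070f0b0f110f121312), 0),
((nat_lit 0x8127145cc880b0f1d886df60989a3e), dw (nat_lit 0x03050114081610), 0),
((nat_lit 0x9207112ce808d0e1f884de748a7ba2), dw (nat_lit 0x030502160b0e160f1412), 0),
((nat_lit 0xec200510ce30f0f168aeccc8d85a8e), dw (nat_lit 0x100203070101070f121311), 0),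
((nat_lit 0xb39020442899dde250c09e7ccb2ea2), dw (nat_lit 0x1002030701010c050a0c110f151312), 0),
((nat_lit 0x1cc054602e21f1f0e0ee8cc8447ace), dw (nat_lit 0x020309020f07120b110f1315), 0),
((nat_lit 0xd30098005f41b931711d2d8d1e0af3), dw (nat_lit 0x02030106080e1013), 0),
((nat_lit 0x311164446889bc6551825fe1282e6f), dw (nat_lit 0x130701031307010f070a110f141612), 0),
((nat_lit 0xe066041d0909f120f9cb1e61b41ca7), dw (nat_lit 0x02020707160c10140f1611), 0),
((nat_lit 0xe6150c11a21f066d15c68ad8a3c9b), dw (nat_lit 0x0701010312020c050911101514), 0),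
((nat_lit 0x4320d8105d21f46651cc58cd1e0a7b), dw (nat_lit 0x0701010312020c080b0b0e0f161411), 0),
((nat_lit 0x9e4110412e21b131798d0bcd863c9b), dw (nat_lit 0x0a020a0d0f13151311), 0),
((nat_lit 0x92503128a988bd6541a01fe5867f0a), dw (nat_lit 0x0103060213070a0b160d13), 0),
((nat_lit 0x3d004500bf109171798e0bd9092dee), dw (nat_lit 0x0d0203010c05130c0e1512), 0),
((nat_lit 0xee140711e00f0f069ec4ccc368aea), dw (nat_lit 0x080103020f110f1512), 0),
((nat_lit 0xd38088207b20b5a741ad09ecaebc0a), dw (nat_lit 0x0313020c16070a0b160d131512), 0),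
((nat_lit 0x9ec100611c60b1a7c13d398c3a8aea), dw (nat_lit 0x02030a020b07140916101611), 0),
((nat_lit 0x43a0c8a04f20f8f0617c6a8caebc82), dw (nat_lit 0x05010305010707090b0e1611), 0),
((nat_lit 0x8ca114311e01d131f18f0ad9950dae), dw (nat_lit 0x08010b05160b140f161412), 0),
((nat_lit 0xf286000d2891f131c9a91e65c73c2a), dw (nat_lit 0x0502030d020c050e0b1412), 0),
((nat_lit 0x924189413c30d8e651cc58dc8e2ab3), dw (nat_lit 0x03130209111013151312), 0),
((nat_lit 0x4f2041104f3091b1f18d0bdc1a1cdb), dw (nat_lit 0x020302020c051309160d1213), 0),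
((nat_lit 0x261c9c11e1095b1711d2d9c8e2a3b), dw (nat_lit 0x07010309020809111013151311), 0),
((nat_lit 0xdf0001005b70d0e6595c68bc161cdb), dw (nat_lit 0x020203060214080a0b110e151311), 0),
((nat_lit 0x18e580670026ecc88bf262e8b49ce4), dw (nat_lit 0x0701010306020f071309160f151312), 1),
((nat_lit 0x8845c143003e1d899b9f2370983c3d), dw (nat_lit 0x10020307020c08100b160f11151312), 1),
((nat_lit 0x18a3182700274d09db9124fd971b68), dw (nat_lit 0x0801030a02070709110f1512), 1),
((nat_lit 0x7524080ac1266cc8dad2e2e8a8bc6c), dw (nat_lit 0x02020307070b110e121311), 0),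
((nat_lit 0x3522810a81368d499b9025fd8b3be0), dw (nat_lit 0x0602030e020c080d0f121312), 1),
((nat_lit 0xc504580241a72d299b9f2361143cf5), dw (nat_lit 0x07010e070b0b0e111513), 1),
((nat_lit 0xc902d002590d3d099b9d35459a323b), dw (nat_lit 0x0701010307021607091613), 1),
((nat_lit 0x3924090699140d49db9233d995156e), dw (nat_lit 0x0802030a01011307130c0e111513), 1),
((nat_lit 0x79228006d904ecc89ad0f4ccb692e2), dw (nat_lit 0x0d0203020c080c130f1614), 0),
((nat_lit 0x14e3086b18046cc8cbf074ccaab26a), dw (nat_lit 0x0701010316070f0a0b140f151412), 1),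
((nat_lit 0x14a5902b1805cd099b9332d98935e6), dw (nat_lit 0x0801140b070b0b161011151312), 1),
((nat_lit 0x8443494318940da99b9d35541632f3), dw (nat_lit 0x0e02030e080113050a11101312), 1),
((nat_lit 0x5d92d52201e2567156582f0e32d7), dw (nat_lit 0x130701031202050a0c10140f151411), 1),
((nat_lit 0x601a0b94c07070f72426cec6ce622e), dw (nat_lit 0x0501031302050f0a0b110f121511), 1),
((nat_lit 0x210c2b84b150117735860f971f154e), dw (nat_lit 0x0e02030a0213070a1410151311), 1),
((nat_lit 0x610aa284f14072f63046ce4ebe9286), dw (nat_lit 0x080203070213070f0a0b140f13), 0),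
((nat_lit 0xcba2752440a3976127392ebe84a6), dw (nat_lit 0x06020306020f0a0b160d11), 1),
((nat_lit 0x411c8394417013b731870f1e0e24f7), dw (nat_lit 0x0e020c050a110f1512), 1),
((nat_lit 0x4b140590631881977317193e0a3adb), dw (nat_lit 0x0a02030d020b05100b141013151311), 1),
((nat_lit 0x68534312249c117731b183f852bae), dw (nat_lit 0x0701010c16070d0c160d1312), 1),
((nat_lit 0xac324e1304831b723270f4eba9a8a), dw (nat_lit 0x0e08010313020b05120b0d11151311), 1),
((nat_lit 0x6d214f02409e1d6626ab82e545cce), dw (nat_lit 0x1307010305011307090b0e1514), 1),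
((nat_lit 0xa5514d10069707633c64e0f0a2cfb), dw (nat_lit 0x0e020302130514090f110f1613), 1),
((nat_lit 0x6b022410e548e0d67246f82eba8caa), dw (nat_lit 0x0a020307100b101614), 0),
((nat_lit 0x410a2b88715011b7350b0fd69e1a1d), dw (nat_lit 0x0701030e020e070b0e160f1315), 1),
((nat_lit 0x211a839881701377310a0f5f8f2ba4), dw (nat_lit 0x07020306021408090c121512), 1),
((nat_lit 0xdd0af92200a197653b19a62eba4c), dw (nat_lit 0x0301010f080a0b0e0f13151311), 1),
((nat_lit 0x4b3a592441e056754a78a79e0c3d), dw (nat_lit 0x0602030a0101140b070b0d131511), 1),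
((nat_lit 0x600ca388f05072f720aace0e5e5cc4), dw (nat_lit 0x01010313070116070d0c0d0f1513), 1),
((nat_lit 0x611c0a98c16070f634cace862eac6c), dw (nat_lit 0x12020307070a110f1416), 0),
((nat_lit 0x418e443c410a2389afb7172438b2e6), dw (nat_lit 0x01010313050a0c161011), 1),
((nat_lit 0xa3182118819a0f4b1712177d973782), dw (nat_lit 0x0e08010e0714101315), 1),
((nat_lit 0xc48553097022359a7be058d1863ee), dw (nat_lit 0x0902030e021408090b0e0f13), 0),
((nat_lit 0x9dd30d22246cf169ec0bc1c754e), dw (nat_lit 0x020313020e080c0e0f151213), 1),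
((nat_lit 0x4f455d009242d89fda563414347f), dw (nat_lit 0x0d0207070a0e10121312), 1),
((nat_lit 0x6088cc1114336b0f07bf108d5d22e6), dw (nat_lit 0x06020310020f070c1410111513), 1),
((nat_lit 0xaf09005046232259b71e45cdb6328b), dw (nat_lit 0x02030e02070c0f151312), 0),
((nat_lit 0x597455008b2f0b1793172d1826f7), dw (nat_lit 0x12020c16070a0b160d1312), 1),
((nat_lit 0x2d884450063343d83ede829c5534ce), dw (nat_lit 0x08021008100b10121511), 1),
((nat_lit 0x82d83074008b6fcc067296e4da662a), dw (nat_lit 0x0501031307010608090b160d121312), 1),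
((nat_lit 0xce481011970263983e5f82cc9aa4ba), dw (nat_lit 0x0501030707160c10140f1611), 0),
((nat_lit 0x61186418c18a6ecc16d2d6a434b64e), dw (nat_lit 0x0701010306080d0c0f1513), 0),
((nat_lit 0xce144e11222b1a7493f21aaa4bc8e), dw (nat_lit 0x0d0203130701070d0c0d0f161411), 1),
((nat_lit 0xd1808c205742f4f0617e648a3c8a6e), dw (nat_lit 0x07010305021307160b1110131511), 0),
((nat_lit 0x9cc104612622f0f0e1ee42caa8bc8e), dw (nat_lit 0x0702030d020e070a0c110f11), 0),
((nat_lit 0x41a0cc305522b9a741af11ca3c8ae6), dw (nat_lit 0x080103070107070f0a0b111513), 1),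
((nat_lit 0xaf20011087329171f18c05df971b8a), dw (nat_lit 0x12020e08100b0d0f15), 0),
((nat_lit 0x707534818abd6341a2176b184fe6), dw (nat_lit 0x020313020c080b10140f151312), 1),
((nat_lit 0x7e004100f612f0f1e0acc2ce466cea), dw (nat_lit 0x02030d0207070d0c16101514), 0),
((nat_lit 0x27553cc082d0f1d88ad672145d6e), dw (nat_lit 0x0e0203021307120b110f151312), 1),
((nat_lit 0xdd000500771291b1798f05da842abf), dw (nat_lit 0x030101080e1013), 0),
((nat_lit 0x61cd511232d4e651ce40fa1c1c5f), dw (nat_lit 0x060203070116070c0f14), 1),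
((nat_lit 0x4d2045805532d0e6d15e709a882abf), dw (nat_lit 0x120203090206080f110f1213), 0),
((nat_lit 0x90418d41067299b1711f239a1c1cd7), dw (nat_lit 0x0a02031002140b070e0b121511), 1),
((nat_lit 0x1e8150212623d131798d04df0b3bca), dw (nat_lit 0x0a020312020707130f161312), 0),
((nat_lit 0x60a6441d001bf121e9a71663591ae6), dw (nat_lit 0x03050207070e0b160d14), 1),
((nat_lit 0xa3312058408bbc635180576fb61e83), dw (nat_lit 0x05010e080e0b0e160f13151311), 0),
((nat_lit 0x9c4114411463f066595e708b140aff), dw (nat_lit 0x0801031302100813090e0f14), 1),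
((nat_lit 0x4120dc804723b531711f238b8c3c1f), dw (nat_lit 0x01030d020c08100b0f15121311), 1),
((nat_lit 0xc6154511603b131f18f05cb180aff), dw (nat_lit 0x12020302020c08090b0f110f), 0),
((nat_lit 0x7246400d2183f130d9c516672a3a6b), dw (nat_lit 0x03010103020216070a0c0d0f151213), 0),
((nat_lit 0xd1009c007323f86651ce40eb8c3c97), dw (nat_lit 0x07020301010f07130c130f131512), 0),
((nat_lit 0x21b06458009bdde450c296f2551e4e), dw (nat_lit 0x02030e020f08160b140f1611), 1),
((nat_lit 0x8ee010701603f1f068ec82ceda4caa), dw (nat_lit 0x05020301010b05130c0d15121312), 0),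
((nat_lit 0xfd000400d362b1a7d01fa1aa389cce), dw (nat_lit 0x0e0203080208090c0e160f161311), 0),
((nat_lit 0x1307504ce00ab0e1f888d76606bcf2), dw (nat_lit 0x030101031307010e08160b16101612), 0),
((nat_lit 0xc2703015818afda450c196e69a8e3a), dw (nat_lit 0x0101030e08160c0f161412), 0),
((nat_lit 0x2061ccc19602f8f0705ee48aacaaa6), dw (nat_lit 0x030101031607140910141611), 0),
((nat_lit 0x6d204410c722f0f078cec2ca349cce), dw (nat_lit 0x070101031305090c0e101511), 0),
((nat_lit 0xb0418c41b422b5a7508f91caacaa2e), dw (nat_lit 0x10021307100b10140f11), 0),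
((nat_lit 0x7e480081072563183fcd2c8bb81acd), dw (nat_lit 0x0e02030d021008090b140f11), 0),
((nat_lit 0x6f14cf00092309bf951f238a3af1), dw (nat_lit 0x13070103010f080c1512), 1),
((nat_lit 0x689da295202b4f07bc198b8e6be0), dw (nat_lit 0x0602070d0c14101614), 1),
((nat_lit 0x128f10ad008543199f853e33991b6c), dw (nat_lit 0x0202030210080a110e13151311), 1),
((nat_lit 0x6ca8048316116319a7bd0c8bcb2ae8), dw (nat_lit 0x0a02030e020c051309160f131513), 0),
((nat_lit 0x612e048ec18062d89ed8de22a6bc68), dw (nat_lit 0x0501030c160709130f1412), 0),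
((nat_lit 0x1f0910c0d60422d9b68ceb8a948cfc), dw (nat_lit 0x050103011305120b0e101215), 0),
((nat_lit 0x720e018cc01c62c9aea8fe22d45ce4), dw (nat_lit 0x050103130701140b070b0e160f121312), 1),
((nat_lit 0xc2915a2c62042d93e9cca9a867dc8), dw (nat_lit 0x1202030d0210080a0b0f151213), 1),
((nat_lit 0x7925cb00984ecc17d05eb2863e59), dw (nat_lit 0x1202031307010e07090c0f13151312), 1),
((nat_lit 0x21a88cc2123147ce16dc88bacf3c48), dw (nat_lit 0x030702080d0c0e1013151312), 1),
((nat_lit 0x41b824a641882f8b07b11f2aaaaee0), dw (nat_lit 0x02020301010c080f0a0b0e160f141612), 1),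
((nat_lit 0x2d0146407e0122593f8e638d382ced), dw (nat_lit 0x0d020305010c050a0c0f110f161411), 0),
((nat_lit 0x8251324928892f0d170337e5963e19), dw (nat_lit 0x13070103010c08160b110e161412), 1),
((nat_lit 0x21106704a9980f4d178237b5192f6c), dw (nat_lit 0x0902030a010108120b110f13), 1),
((nat_lit 0x8e401320af2023592f2e23cd967d88), dw (nat_lit 0x1202030e0208090b110f1514), 1),
((nat_lit 0xe2808a013a31670f072f20eddf3c08), dw (nat_lit 0x0202030802090b0f1312), 1),
((nat_lit 0xe3102204e9886eca1642f66cbaaea0), dw (nat_lit 0x020307010b070d0c140f11151311), 0),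
((nat_lit 0x4c405601af206398b6cfa48c14badc), dw (nat_lit 0x0a02030205090c0f110f121512), 0),
((nat_lit 0x82019b20fc204acf160ef0dc9e6ba0), dw (nat_lit 0x0301010306080e1013), 1),
((nat_lit 0x8247034d281842c8bf4676749a3ab1), dw (nat_lit 0x030101030c160709130f1412), 1),
((nat_lit 0xaf8002403e1143d8b64ea4dcdb2aa8), dw (nat_lit 0x0301010306020c081409140f1312), 0),
((nat_lit 0xd0766828896fca06e2b62c547ec4), dw (nat_lit 0x0a02030801070d0c0d121311), 1),
((nat_lit 0xc386022c698023998f2b3764b6bc28), dw (nat_lit 0x080103070210081309110e1412), 1),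
((nat_lit 0x4702251065d0819f710b39b6940cbf), dw (nat_lit 0x0a020305010f070b130f1416), 1),
((nat_lit 0x6d504f100e031bf21ab0f8624acee), dw (nat_lit 0x01010313020c080e0b0f161311), 1),
((nat_lit 0xac4347022c1e1de607698a6ca6aaa), dw (nat_lit 0x010e08160b141016), 1),
((nat_lit 0x67140490e380e0de705ad8a624bace), dw (nat_lit 0x130203140813091410151311), 0),
((nat_lit 0xa9314b12481c11f710738b71b1dca), dw (nat_lit 0x0202030e080105160b0d), 1),
((nat_lit 0x64334c130c1707e314a4ec7941a9f), dw (nat_lit 0x08020301140b07160b110f1613), 1),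
((nat_lit 0x5390222841cc2f8d07213fe2b4964e), dw (nat_lit 0x020203140b070f0a0b110f1315), 1),
((nat_lit 0x7e800201067563192f2d2acbd514ce), dw (nat_lit 0x0a020301010c080b0b110f11), 1),
((nat_lit 0xa7162f00494309bf191e738735e2), dw (nat_lit 0x05010301010e08160c0d0f15), 1),
((nat_lit 0x33808a4014754bce164cb8dadd02e6), dw (nat_lit 0x030d02160b0e160f1315), 1),
((nat_lit 0x1251234500dc4eca17407e7a9806f7), dw (nat_lit 0x0801030a01011307160b101513), 1),
((nat_lit 0x12409b209364274f072c29eb9c554e), dw (nat_lit 0x05010b05160c140f1612), 1),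
((nat_lit 0x1247124d00c523199f093f6394147f), dw (nat_lit 0x02030e020b050a141013), 1),
((nat_lit 0x6c60060317416318b75d0acba624eb), dw (nat_lit 0x0202030d020f0813091610121312), 0),
((nat_lit 0x6026070ec0d062d98e34de62ca726a), dw (nat_lit 0x030d02090c0d1613), 1),
((nat_lit 0x1e011320d64442d9b60cecda9843ee), dw (nat_lit 0x020309020c0514090f110f111513), 0),
((nat_lit 0xd211642c66022d93e1ccdca8ab2da), dw (nat_lit 0x090203020e07130c10140f151412), 0),
((nat_lit 0x7306020cc14c62c8be44fe62b892e6), dw (nat_lit 0x0e020313020f08130c14101612), 0),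
((nat_lit 0xdd8002204764b1b1693d2b8c3694ce), dw (nat_lit 0x0313020c080f0a0b0f110f1315), 1),
((nat_lit 0xe1cae11424f4e6417c788caea22e), dw (nat_lit 0x060203080213071409140f1611), 1),
((nat_lit 0x4da042305324f0e6c1ec48ec3a94ce), dw (nat_lit 0x0e02030d0207070d0c10151411), 0),
((nat_lit 0x90c18a613604b9b161ad0dccaea2a6), dw (nat_lit 0x0702030a01011307160f1614), 0),
((nat_lit 0xf090220900ddfd2541313ea557164e), dw (nat_lit 0x0e08010307011408090b160d151311), 1),
((nat_lit 0xb186024c005dd1e0f854be345b12e6), dw (nat_lit 0x05020308020c16071309101315), 1),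
((nat_lit 0xc614351143491a7598d19dc1602ff), dw (nat_lit 0x060203020c050f0a0b0e160f1412), 1),
((nat_lit 0xd1008b006734d4f071cc4adc8e341f), dw (nat_lit 0x1202100810140f1215), 0),
((nat_lit 0x9c4103411654d0f0f15c6c9c1a02ff), dw (nat_lit 0x0202030602080b0b141011), 0),
((nat_lit 0x4120cb80533499a7511d29bc8e3497), dw (nat_lit 0x02020309020608120b130f1513), 1),
((nat_lit 0x9046132c81c4b171c9383f2516556e), dw (nat_lit 0x0501030a020c08120b0e0f1514), 1),
((nat_lit 0x4d2052805705f070795c6c8d8622bf), dw (nat_lit 0x02020302020f08100b0e0f131512), 0),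
((nat_lit 0x90419a411265b527511d29ad1e145f), dw (nat_lit 0x0101030e08010514090d0f161412), 1),
((nat_lit 0xdd0012007525b127d18d19cd8a22bf), dw (nat_lit 0x13020c16070b0b110e161311), 0),
((nat_lit 0x61da510625f87071cc4acd1e14d7), dw (nat_lit 0x0312021607130c160d141612), 1),
((nat_lit 0x90113324c0ccdce35010fe3c1a47e6), dw (nat_lit 0x01031307010608140916101411), 1),
((nat_lit 0x2c6142c18624b1b1f01dab8caab48e), dw (nat_lit 0x0a02030a01010c080f0a0b1110111513), 0),
((nat_lit 0xf1008a00d564f8e6505cf88c3e82e6), dw (nat_lit 0x0e02030110080910140f1614), 0),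
((nat_lit 0xbc410241b224f0e658ccc8eca6b48e), dw (nat_lit 0x0307010c1607130c0e161311), 0),
((nat_lit 0x6120ca10d704b5b1708d8dcc3e826e), dw (nat_lit 0x080203011408140916), 0),
((nat_lit 0x5530180a4b032f01dd9123eb883e5d), dw (nat_lit 0x02020308020b050b0b110e131513), 1),
((nat_lit 0x88c078600a876fe08cfcb242da6ea0), dw (nat_lit 0x01030902090c0f110f111513), 1),
((nat_lit 0xe400e100ca1e7ec18cbcf242566e68), dw (nat_lit 0x0d020b050d0f1411), 1),
((nat_lit 0xe5104802cb826ee09cdce26234bec4), dw (nat_lit 0x02020316070a0b10140f13151311), 0),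
((nat_lit 0x187181470a128f819d9123fa941ed5), dw (nat_lit 0x0a020310), 1),
((nat_lit 0x88d1c0630a0a7ec08dfc6262b8be0c), dw (nat_lit 0x0e08010313070105120b130f13151312), 1),
((nat_lit 0xd1088902557095a7511f319a1e0a7d), dw (nat_lit 0x0802030e021008100b130f11), 1),
((nat_lit 0xc6941c30630d0f0795e629a863c9d), dw (nat_lit 0x1002030e021408090b0d1514), 1),
((nat_lit 0x4128c9125710d8f071ce44da1e0af5), dw (nat_lit 0x08010307020608090b1410141612), 0),
((nat_lit 0x9c490143323091a7d18f01fa8a3c9d), dw (nat_lit 0x13020c051309160d15121311), 0),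
((nat_lit 0x60b860870099fd234133362bcb2ea4), dw (nat_lit 0x0a0203050209070a0b0e101416), 1),
((nat_lit 0x21ae40ce0091d1f0d85ab632c73c2c), dw (nat_lit 0x0e0801030d0209070c141013151312), 1),
((nat_lit 0xe9c8730620b5b161af03ca3e9c4c), dw (nat_lit 0x0e021607090c0e160f1611), 1),
((nat_lit 0xdd8800227520f0e649ee50caa6aaac), dw (nat_lit 0x070113050d0c160d141611), 0),
((nat_lit 0x90c988631260f8e6417e60aa3e9cc4), dw (nat_lit 0x02020301160714091015121311), 1),
((nat_lit 0x4da840a25700b1b1e13f258aaaaaac), dw (nat_lit 0x0902030a020b07120b140f16), 0),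
((nat_lit 0x6e51ae8108b161e93637238a7ba4), dw (nat_lit 0x1307010307010608160c0d0f151311), 1),
((nat_lit 0x6128c882d320f4e6505ee0aaaebc0c), dw (nat_lit 0x07010305090b0e1015121311), 0),
((nat_lit 0xbc4900439640b1b1781fa58a368aec), dw (nat_lit 0x0a0203090209070a0c10140f11151312), 0),
((nat_lit 0xf1088802e720b9b1708f83caaebc84), dw (nat_lit 0x010f080a101611), 0),
((nat_lit 0x2c6940539420f0e6d0ced0ca3a8aec), dw (nat_lit 0x0203020b0714090f151412), 0),
((nat_lit 0x3971aac088dce55012f6b2867f0c), dw (nat_lit 0x0902031307010c08090c0f110f14), 1),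
((nat_lit 0x69d8c31421b927511f318b8e2ab5), dw (nat_lit 0x13070103010116070a0c0e1416), 1),
((nat_lit 0xdd0810024761f070f15e628b1a1cdd), dw (nat_lit 0x080103021607120b11101513), 0),
((nat_lit 0x904998433601f47071ce44cb8e2a3d), dw (nat_lit 0x0e020e080d0f13151312), 0),
((nat_lit 0x4d2850125321b127598f01eb161cdd), dw (nat_lit 0x0a02030a0210080f0b10140f11), 1),
((nat_lit 0x84c168610c866ee08dfc7c4036a6e2), dw (nat_lit 0x070101030e080107070e0b110f1514), 1),
((nat_lit 0xe8104902cc926ee18cbcec60d87686), dw (nat_lit 0x0a0207070c1610151412), 1),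
((nat_lit 0x146129490c160f81dd913dd88a267b), dw (nat_lit 0x1002080d0c0f110f121312), 1),
((nat_lit 0x84d0d0620c0b7fc08cfcac6054764e), dw (nat_lit 0x01010301010c08100b0f110f121511), 1),
((nat_lit 0x5920b0044d07af019d913dc99606f3), dw (nat_lit 0x07010308020c05120b110f151213), 1),
((nat_lit 0xe900e000cd0e7ec09cdcfc40baa62a), dw (nat_lit 0x0701010302020b0511101514), 0)]
theorem cls2 {t : M24} (h : orderOf t = 2) :
    (nfix GolayPt t = 8 ∧ ∃ g, g * t * g⁻¹ = ev M0.gen zA) ∨
      (nfix GolayPt t = 0 ∧ ∃ g, g * t * g⁻¹ = ev M0.gen zB) := by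
  obtain ⟨r, hr, g, -, e⟩ := cls_trans (k := 10) (m := 239085) (H := ⊤) le_top (F24.card0 F24.M F24.hR)
    (Subgroup.card_top.trans card_M24) (by norm_num) le_top
    (F24.M.cls_of_enum (D := 5) (by norm_num) (by norm_num) F24.scov0 (by norm_num) (hs := lets 11)
      (rs := [zA, zB]) (tab := tab2) (by decide +kernel)) trivial h
  simp only [List.mem_cons, List.not_mem_nil, or_false] at hr
  rcases hr with rfl | rfl
  · rw [F24.hE.ev (by decide +kernel)] at e
    exact .inl ⟨(nfix_conj e).trans nfix_zA, g, e⟩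
  · rw [F24.hE.ev (by decide +kernel)] at e
    exact .inr ⟨(nfix_conj e).trans nfix_zB, g, e⟩
noncomputable def wS3 : List Word := [dw (nat_lit 0x0e02030701080d0c1610161411), dw (nat_lit 0x1002030214080a16101312)]
noncomputable def ES3 : List Word := [[], dw (nat_lit 0x0e02030701080d0c1610161411), dw (nat_lit 0x0902030701010e0713090d1312), dw (nat_lit 0x1002030214080a16101312), dw (nat_lit 0x050203020c080b0b0d11), dw (nat_lit 0x03010103100208160b0e160f1614), dw (nat_lit 0x020307010f080e0b140f11), dw (nat_lit 0x0602030e0801080f0b11101412)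
, dw (nat_lit 0x1302030e08010c0509130f13151311), dw (nat_lit 0x10020307011307120b1610121511), dw (nat_lit 0x10020305011305130c140f151213), dw (nat_lit 0x13020307010907160b0f1213), dw (nat_lit 0x02030e08010b0f), dw (nat_lit 0x0301010307010106080c0e0f151412), dw (nat_lit 0x0301010316071309), dw (nat_lit 0x0502030e08010c08090c0d0f1612)
, dw (nat_lit 0x1302030216071409161411), dw (nat_lit 0x060203020b0514090e12), dw (nat_lit 0x060203130213050a160d13151311), dw (nat_lit 0x0203020c08160b0f110f16), dw (nat_lit 0x0502030e02050a0c0d0f121311), dw (nat_lit 0x010113070a0b110f151213), dw (nat_lit 0x07020f08100b0e), dw (nat_lit 0x090203020205130c0e151213)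
, dw (nat_lit 0x0e0203130701070714091410141612), dw (nat_lit 0x0e020302100809160d11151312), dw (nat_lit 0x090203021305090b101312)]
theorem covS3 : Cover M0.gen (sub M0.gen wS3) [ES3] :=
  M0.cover_of_closed (D := 5) (by norm_num) (by norm_num) ES3 (by decide +kernel)
theorem cardS3 : Nat.card (sub M0.gen wS3) = 27 :=
  M0.card_of_cover covS3 (.cons (nat_lit 0) [dw (nat_lit 0x01)] [dw (nat_lit 0x01), dw (nat_lit 0x01)]
(.cons (nat_lit 4) [dw (nat_lit 0x03), dw (nat_lit 0x010402)] [dw (nat_lit 0x01), dw (nat_lit 0x01), dw (nat_lit 0x03), dw (nat_lit 0x03)]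
.nil)) (by decide +kernel)
noncomputable def tab3 : List (Nat × Word × Nat) := [((nat_lit 0x2ac680503912e672621c6acb690e73), dw (nat_lit 0x02030d020f070e0b110e151213), 0),
((nat_lit 0x382452c359006576b04f28d5bdc834), dw (nat_lit 0x0e020301010e070b0b0f1215), 0),
((nat_lit 0x636a0f1091098d3f0d1a66c52f83a), dw (nat_lit 0x0902030e08010b050b1610161411), 0),
((nat_lit 0x3cd106c12a0b8e9e0154afcda439a), dw (nat_lit 0x0e0801030501140b070a0c110f1215), 0),
((nat_lit 0x93b800680392825f72c0acdb4d7a43), dw (nat_lit 0x10020301010f08120b0d0f1614), 1),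
((nat_lit 0x5601b028ba02eb496259827bc42f53), dw (nat_lit 0x0702070713090d131512), 1),
((nat_lit 0x930d2e603208ddf104ea655dc74a4), dw (nat_lit 0x05010309020c160713091610161412), 1),
((nat_lit 0xca152225e20fd2d201b2e5581e7b4), dw (nat_lit 0x0501030e070f0b0e0f13151311), 1),
((nat_lit 0x5014f0a2cb008e337256c23bc37c23), dw (nat_lit 0x0e08010312020f070a0d151412), 1),
((nat_lit 0x965060202f12cd17b08364b751fe24), dw (nat_lit 0x0d020305010907120b0e121312), 1),
((nat_lit 0x90ad022850f06e2b6286a8f98b6751), dw (nat_lit 0x1307010316070a0b160d151411), 1),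
((nat_lit 0x530b02ac30606d4db0c40ee7dca714), dw (nat_lit 0x050103070107070b0b110e11151311), 1),
((nat_lit 0x429e02a94150953f30d54a474df894), dw (nat_lit 0x0101030701050f0a0b0f110f11151311), 1),
((nat_lit 0x115c12aca300d29bb007ea9cc8f8ca), dw (nat_lit 0x0e020307070f0a0b0e160f1513), 0),
((nat_lit 0x8245e06918122def208fc037d54b94), dw (nat_lit 0x0101030d0208100b0d0f151412), 1),
((nat_lit 0x142760a9d80078a9b289a6ae82ebd8), dw (nat_lit 0x1002030514090f110f14), 0),
((nat_lit 0xcd90402047b098bb92dc449e5a72e8), dw (nat_lit 0x0702030701010c080a0b0e160f131513), 0),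
((nat_lit 0xcd282b02170cb1b529b62c94e7471), dw (nat_lit 0x080203120213050d0c160f1611), 1),
((nat_lit 0xcd0182303c307acba0de8c1cd0a37a), dw (nat_lit 0x1002030213050a110e161312), 0),
((nat_lit 0x9c3c0f218202a6d729a4e8bc74333), dw (nat_lit 0x0802030e08010707160c160f1512), 1),
((nat_lit 0xb4a8404253a0eb7052c3a8abae4e23), dw (nat_lit 0x020e080d0c0d0f11), 0),
((nat_lit 0xa3c0604c3302f57c109e6427ec8ea4), dw (nat_lit 0x0305010714090f110f1213), 0),
((nat_lit 0x7100b288f140627e525ac479af2871), dw (nat_lit 0x05020307010714090f110f11151311), 0),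
((nat_lit 0x660a82007570edf60041ce67392eb4), dw (nat_lit 0x090203010110080a0d13), 0),
((nat_lit 0x24a622495190f2fa805b26ac384afa), dw (nat_lit 0x0801030f070b0b160f1311), 0),
((nat_lit 0x214cd0d4312078f29215e83efa8878), dw (nat_lit 0x0802031307010b07120b1015), 0)]
theorem cls3 {t : M24} (h : orderOf t = 3) :
    (nfix GolayPt t = 6 ∧ ∃ g, g * t * g⁻¹ = ev M0.gen xA) ∨
      (nfix GolayPt t = 0 ∧ ∃ g, g * t * g⁻¹ = ev M0.gen xB) := by
  have := Fact.mk Nat.prime_three
  obtain ⟨r, hr, g, -, e⟩ := cls_trans (k := 3) (m := 9067520) (H := ⊤) le_top cardS3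
    (Subgroup.card_top.trans card_M24) (by norm_num) le_top
    (M0.cls_of_enum (D := 5) (by norm_num) (by norm_num) covS3 (by norm_num) (hs := lets 11)
      (rs := [xA, xB]) (tab := tab3) (by decide +kernel)) trivial h
  simp only [List.mem_cons, List.not_mem_nil, or_false] at hr
  rcases hr with rfl | rfl
  · exact .inl ⟨(nfix_conj e).trans nfix_xA, g, e⟩
  · exact .inr ⟨(nfix_conj e).trans nfix_xB, g, e⟩
theorem cls2A {t : M24} (h : orderOf t = 2) (h' : nfix GolayPt t ≠ 0) : ∃ g, g * t * g⁻¹ = ev M0.gen zA :=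
  (cls2 h).elim And.right fun e => absurd e.1 h'
theorem cls2B {t : M24} (h : orderOf t = 2) (h' : nfix GolayPt t = 0) : ∃ g, g * t * g⁻¹ = ev M0.gen zB :=
  (cls2 h).elim (fun e => by omega) And.right
theorem cls3A {t : M24} (h : orderOf t = 3) (h' : nfix GolayPt t ≠ 0) : ∃ g, g * t * g⁻¹ = ev M0.gen xA :=
  (cls3 h).elim And.right fun e => absurd e.1 h'
theorem cls3B {t : M24} (h : orderOf t = 3) (h' : nfix GolayPt t = 0) : ∃ g, g * t * g⁻¹ = ev M0.gen xB :=
  (cls3 h).elim (fun e => by omega) And.right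
theorem fix_zA : (Finset.univ.filter fun p : GolayPt => ev M0.gen zA • p = p) = fOc 0 := by
  ext p
  rw [Finset.mem_filter, ← M0.mem_S_fix (D := 5) (by norm_num), fOc0,
    show agr 24 5 _ _ = 0x82402f by decide +kernel]
  simp [M0, mem_S_iff]
theorem orderOf_mk {g : Equiv.Perm GolayPt} (hg : g ∈ M24) : orderOf (⟨g, hg⟩ : M24) = orderOf g :=
  (Subgroup.orderOf_coe (⟨g, hg⟩ : M24)).symm
theorem nfix_mk {g : Equiv.Perm GolayPt} (hg : g ∈ M24) :
    nfix GolayPt (⟨g, hg⟩ : M24) = (Finset.univ.filter fun p => g p = p).card :=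
  (nfix_eq_card (⟨g, hg⟩ : M24)).symm
abbrev ACA := Subgroup.centralizer {ev M0.gen zA}
theorem iCA1 : M0.Inv (ACA ⊓ M0.fixL []) (nat_lit 0xffffff) :=
  (PM.Inv.full).of_eq (by decide +kernel)
theorem iCA2 : M0.Inv (ACA ⊓ M0.fixL []) (nat_lit 0x82402f) :=
  (PM.Inv.fix (D := 5) (by norm_num) (z := zA) (M0.comm_of_le le_rfl)).of_eq (by decide +kernel)
theorem iCA3 : M0.Inv (ACA ⊓ M0.fixL []) (nat_lit 0x7dbfd0) :=
  (iCA1.sdf iCA2).of_eq (by decide +kernel)
theorem iCA4 : M0.Inv (ACA ⊓ M0.fixL [4]) (nat_lit 0x10) :=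
  (PM.Inv.pt (b := 4) (by decide +kernel)).of_eq (by decide +kernel)
theorem iCA5 : M0.Inv (ACA ⊓ M0.fixL [4]) (nat_lit 0x7dbfc0) :=
  ((iCA3.lift (by decide +kernel)).sdf iCA4).of_eq (by decide +kernel)
theorem iCA6 : M0.Inv (ACA ⊓ M0.fixL [4]) (nat_lit 0x100) :=
  (iCA4.img (z := zA) (M0.comm_of_le le_rfl)).of_eq (by decide +kernel)
theorem iCA7 : M0.Inv (ACA ⊓ M0.fixL [4]) (nat_lit 0x7dbec0) :=
  (iCA5.sdf iCA6).of_eq (by decide +kernel)
theorem iCA8 : M0.Inv (ACA ⊓ M0.fixL [6, 4]) (nat_lit 0x40) :=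
  (PM.Inv.pt (b := 6) (by decide +kernel)).of_eq (by decide +kernel)
theorem iCA10 : M0.Inv (ACA ⊓ M0.fixL [6, 4]) (nat_lit 0x100000) :=
  (iCA8.img (z := zA) (M0.comm_of_le le_rfl)).of_eq (by decide +kernel)
theorem ubCA4 : Nat.card (ACA ⊓ M0.fixL [8, 20, 6, 4] : Subgroup _) ≤ 96 :=
  PM.card_le_cent (D := 5) (by norm_num) M0_eq4 m24cov4 (dw (nat_lit 0x0802030701140b07090b)) le_rfl (by decide +kernel)
theorem ubCA3 : Nat.card (ACA ⊓ M0.fixL [20, 6, 4] : Subgroup _) ≤ 96 :=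
  M0.card_le_step (p := 1) (iCA6.lift (by decide +kernel)) (by decide +kernel) ubCA4
theorem ubCA2 : Nat.card (ACA ⊓ M0.fixL [6, 4] : Subgroup _) ≤ 96 :=
  M0.card_le_step (p := 1) iCA10 (by decide +kernel) ubCA3
theorem ubCA1 : Nat.card (ACA ⊓ M0.fixL [4] : Subgroup _) ≤ 1344 :=
  M0.card_le_step (p := 14) iCA7 (by decide +kernel) ubCA2
theorem ubCA0 : Nat.card (ACA ⊓ M0.fixL [] : Subgroup _) ≤ 21504 :=
  M0.card_le_step (p := 16) iCA3 (by decide +kernel) ubCA1
theorem ubCA : Nat.card (ACA) ≤ 21504 := M0.card_le_of_nil ubCA0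
noncomputable def cCA : Lv := (.cons (nat_lit 0) [dw (nat_lit 0x030a010107100b0d0f151311)] [dw (nat_lit 0x01), dw (nat_lit 0x05), dw (nat_lit 0x01), dw (nat_lit 0x05), dw (nat_lit 0x01)]
(.cons (nat_lit 1) [dw (nat_lit 0x06080d0c10140f161312)] [dw (nat_lit 0x01), dw (nat_lit 0x03), dw (nat_lit 0x09), dw (nat_lit 0x0b), dw (nat_lit 0x03)]
(.cons (nat_lit 2) [dw (nat_lit 0x140911101613)] [dw (nat_lit 0x01), dw (nat_lit 0x07), dw (nat_lit 0x09), dw (nat_lit 0x01)]
(.cons (nat_lit 4) [dw (nat_lit 0x1412), dw (nat_lit 0x1511)] [dw (nat_lit 0x01), dw (nat_lit 0x03), dw (nat_lit 0x05), dw (nat_lit 0x01), dw (nat_lit 0x03)]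
(.cons (nat_lit 3) [dw (nat_lit 0x070203020c080b0b101312), dw (nat_lit 0x0e080103010e081309101412)] [dw (nat_lit 0x01), dw (nat_lit 0x03)]
.nil)))))
noncomputable def wCA : List Word := cCA.gens
noncomputable def vCA : List (List Word) := [[[], dw (nat_lit 0x02), dw (nat_lit 0x01), dw (nat_lit 0x0202), dw (nat_lit 0x0204), dw (nat_lit 0x0206), dw (nat_lit 0x0101), dw (nat_lit 0x010c)
],
[[], dw (nat_lit 0x02), dw (nat_lit 0x0204), dw (nat_lit 0x02040a), dw (nat_lit 0x02040c), dw (nat_lit 0x02040a02), dw (nat_lit 0x02040a0204)],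
[[], dw (nat_lit 0x02), dw (nat_lit 0x0208), dw (nat_lit 0x020a), dw (nat_lit 0x02080a), dw (nat_lit 0x02080a02)],
[[], dw (nat_lit 0x02), dw (nat_lit 0x04), dw (nat_lit 0x0204), dw (nat_lit 0x0206), dw (nat_lit 0x0208), dw (nat_lit 0x0406), dw (nat_lit 0x0408)
, dw (nat_lit 0x020406), dw (nat_lit 0x020408), dw (nat_lit 0x020602), dw (nat_lit 0x020604), dw (nat_lit 0x020608), dw (nat_lit 0x020802), dw (nat_lit 0x040604), dw (nat_lit 0x040608)
],
[[], dw (nat_lit 0x02), dw (nat_lit 0x04), dw (nat_lit 0x0204)]]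
theorem leCA : sub M0.gen wCA ≤ ACA := (M0.le_cent (D := 5) (by norm_num) (by norm_num) (by decide +kernel))
theorem eqCA : sub M0.gen wCA = ACA := (M0.eq_sub_of_low (c := cCA) leCA ubCA (by decide +kernel)).1
theorem cardCA : Nat.card (ACA) = 21504 := (M0.eq_sub_of_low (c := cCA) leCA ubCA (by decide +kernel)).2
theorem covCA : Cover M0.gen (ACA) (cCA.trs vCA) := M0.cover_of_low cCA vCA leCA ubCA (by decide +kernel)
abbrev ACB := Subgroup.centralizer {ev M0.gen zB}
theorem iCB1 : M0.Inv (ACB ⊓ M0.fixL []) (nat_lit 0xffffff) :=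
  (PM.Inv.full).of_eq (by decide +kernel)
theorem iCB2 : M0.Inv (ACB ⊓ M0.fixL [0]) (nat_lit 0x1) :=
  (PM.Inv.pt (b := 0) (by decide +kernel)).of_eq (by decide +kernel)
theorem iCB3 : M0.Inv (ACB ⊓ M0.fixL [0]) (nat_lit 0xfffffe) :=
  ((iCB1.lift (by decide +kernel)).sdf iCB2).of_eq (by decide +kernel)
theorem iCB4 : M0.Inv (ACB ⊓ M0.fixL [0]) (nat_lit 0x800000) :=
  (iCB2.img (z := zB) (M0.comm_of_le le_rfl)).of_eq (by decide +kernel)
theorem iCB5 : M0.Inv (ACB ⊓ M0.fixL [0]) (nat_lit 0x7ffffe) :=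
  (iCB3.sdf iCB4).of_eq (by decide +kernel)
theorem iCB6 : M0.Inv (ACB ⊓ M0.fixL [1, 0]) (nat_lit 0x2) :=
  (PM.Inv.pt (b := 1) (by decide +kernel)).of_eq (by decide +kernel)
theorem iCB8 : M0.Inv (ACB ⊓ M0.fixL [1, 0]) (nat_lit 0x100) :=
  (iCB6.img (z := zB) (M0.comm_of_le le_rfl)).of_eq (by decide +kernel)
theorem ubCB4 : Nat.card (ACB ⊓ M0.fixL [8, 23, 1, 0] : Subgroup _) ≤ 16 :=
  PM.card_le_cent (D := 5) (by norm_num) M0_eq4 m24cov4 (dw (nat_lit 0x120b)) le_rfl (by decide +kernel)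
theorem ubCB3 : Nat.card (ACB ⊓ M0.fixL [23, 1, 0] : Subgroup _) ≤ 16 :=
  M0.card_le_step (p := 1) (iCB8.lift (by decide +kernel)) (by decide +kernel) ubCB4
theorem ubCB2 : Nat.card (ACB ⊓ M0.fixL [1, 0] : Subgroup _) ≤ 16 :=
  M0.card_le_step (p := 1) (iCB4.lift (by decide +kernel)) (by decide +kernel) ubCB3
theorem ubCB1 : Nat.card (ACB ⊓ M0.fixL [0] : Subgroup _) ≤ 352 :=
  M0.card_le_step (p := 22) iCB5 (by decide +kernel) ubCB2
theorem ubCB0 : Nat.card (ACB ⊓ M0.fixL [] : Subgroup _) ≤ 8448 :=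
  M0.card_le_step (p := 24) iCB1 (by decide +kernel) ubCB1
theorem ubCB : Nat.card (ACB) ≤ 8448 := M0.card_le_of_nil ubCB0
noncomputable def cCB : Lv := (.cons (nat_lit 0) [dw (nat_lit 0x06020305010f08141611)] [dw (nat_lit 0x01), dw (nat_lit 0x07), dw (nat_lit 0x03), dw (nat_lit 0x05), dw (nat_lit 0x03), dw (nat_lit 0x07), dw (nat_lit 0x01), dw (nat_lit 0x03)
]
(.cons (nat_lit 1) [dw (nat_lit 0x0f07160b1312)] [dw (nat_lit 0x01), dw (nat_lit 0x05), dw (nat_lit 0x01), dw (nat_lit 0x05), dw (nat_lit 0x01), dw (nat_lit 0x03), dw (nat_lit 0x01)]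
(.cons (nat_lit 2) [dw (nat_lit 0x0b0e0f151213), dw (nat_lit 0x0e0b0e11)] [dw (nat_lit 0x03), dw (nat_lit 0x01), dw (nat_lit 0x03), dw (nat_lit 0x01), dw (nat_lit 0x01), dw (nat_lit 0x01)]
.nil)))
noncomputable def wCB : List Word := cCB.gens
noncomputable def vCB : List (List Word) := [[[], dw (nat_lit 0x02), dw (nat_lit 0x01), dw (nat_lit 0x0202), dw (nat_lit 0x0204), dw (nat_lit 0x0203), dw (nat_lit 0x0206), dw (nat_lit 0x0205)
, dw (nat_lit 0x0208), dw (nat_lit 0x0104), dw (nat_lit 0x0103), dw (nat_lit 0x0106), dw (nat_lit 0x0105), dw (nat_lit 0x0108), dw (nat_lit 0x020204), dw (nat_lit 0x020203)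
, dw (nat_lit 0x020406), dw (nat_lit 0x020308), dw (nat_lit 0x020602), dw (nat_lit 0x020801), dw (nat_lit 0x010301), dw (nat_lit 0x010503), dw (nat_lit 0x02020402), dw (nat_lit 0x02020301)
],
[[], dw (nat_lit 0x02), dw (nat_lit 0x01), dw (nat_lit 0x0202), dw (nat_lit 0x0204), dw (nat_lit 0x0203), dw (nat_lit 0x0206), dw (nat_lit 0x0101)
, dw (nat_lit 0x0104), dw (nat_lit 0x0103), dw (nat_lit 0x0106), dw (nat_lit 0x020203), dw (nat_lit 0x020404), dw (nat_lit 0x020301), dw (nat_lit 0x020306), dw (nat_lit 0x020601)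
, dw (nat_lit 0x020604), dw (nat_lit 0x010103), dw (nat_lit 0x02020302), dw (nat_lit 0x02040402)],
[[], dw (nat_lit 0x02), dw (nat_lit 0x01), dw (nat_lit 0x04), dw (nat_lit 0x0202), dw (nat_lit 0x0204), dw (nat_lit 0x0104), dw (nat_lit 0x0402)
, dw (nat_lit 0x0401), dw (nat_lit 0x020204), dw (nat_lit 0x020402), dw (nat_lit 0x020401), dw (nat_lit 0x040204), dw (nat_lit 0x040104), dw (nat_lit 0x02040204), dw (nat_lit 0x02040104)
]]
theorem leCB : sub M0.gen wCB ≤ ACB := (M0.le_cent (D := 5) (by norm_num) (by norm_num) (by decide +kernel))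
theorem ubCBx : Nat.card (ACB) ≤ 7680 := M0.card_le_of_dvd cCB leCB ubCB (by decide +kernel)
theorem eqCB : sub M0.gen wCB = ACB := (M0.eq_sub_of_low (c := cCB) leCB ubCBx (by decide +kernel)).1
theorem cardCB : Nat.card (ACB) = 7680 := (M0.eq_sub_of_low (c := cCB) leCB ubCBx (by decide +kernel)).2
theorem covCB : Cover M0.gen (ACB) (cCB.trs vCB) := M0.cover_of_low cCB vCB leCB ubCBx (by decide +kernel)
noncomputable def wK0 : List Word := [dw (nat_lit 0x131512), dw (nat_lit 0x11151311), dw (nat_lit 0x1613), dw (nat_lit 0x161411)]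
noncomputable def EK0 : List Word := [[], dw (nat_lit 0x131512), dw (nat_lit 0x11151311), dw (nat_lit 0x1613), dw (nat_lit 0x161411), dw (nat_lit 0x1511), dw (nat_lit 0x151312), dw (nat_lit 0x151213)
, dw (nat_lit 0x121312), dw (nat_lit 0x1412), dw (nat_lit 0x1311), dw (nat_lit 0x141611), dw (nat_lit 0x131513), dw (nat_lit 0x121512), dw (nat_lit 0x1612), dw (nat_lit 0x1514)
]
theorem covK0 : Cover M0.gen (sub M0.gen wK0) [EK0] :=
  M0.cover_of_closed (D := 5) (by norm_num) (by norm_num) EK0 (by decide +kernel)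
theorem cardK0 : Nat.card (sub M0.gen wK0) = 16 :=
  M0.card_of_cover covK0 (.cons (nat_lit 4) [dw (nat_lit 0x01), dw (nat_lit 0x07), dw (nat_lit 0x03), dw (nat_lit 0x05)] [dw (nat_lit 0x01), dw (nat_lit 0x03), dw (nat_lit 0x05), dw (nat_lit 0x07)]
.nil) (by decide +kernel)

end H14
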