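import Cfsg.Prelude.Def_SporadicCombinatorics
import Cfsg.Agent.H14.M24Lab
import Cfsg.Agent.H14.ODu
import Cfsg.Agent.H14.OTr
import Cfsg.Agent.H14.OOc
import Cfsg.Agent.H14.ODo
import Cfsg.Agent.H14.OSx
import Cfsg.Agent.H14.OTi
import Cfsg.Agent.H14.ODm

/-! Machines of `M24` on duads, triads, octads, dodecads, sextets, trios and pairs of
complementary dodecads; the stabilisers as generated groups. -/

set_option autoImplicit false
set_option maxRecDepth 100000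

namespace H14
open Cfsg MulAction
open scoped Pointwise

theorem OM.conn_of_val {Γ X : Type*} [Group Γ] [MulAction Γ X] {gen : ℕ → Γ} {T : Set X} {N : ℕ}
    {L : List Net} {f : ℕ → X} (O : OM gen T N L f) {c : X → ℕ} {cN : ℕ → ℕ}
    (hc : ∀ i < N, c (f i) = cN i) {ws : List Word} (l : List (ℕ × List Word))
    (h : (l.all (fun o => PM.orbChk N L ws o.1 (selB (fun i => Nat.beq (cN i) (cN o.1)) N) o.2) &&
      allLt (fun i => l.any fun o => Nat.beq (cN i) (cN o.1)) N) = true) {x y : X} (hx : x ∈ T)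
    (hy : y ∈ T) (e : c x = c y) : ∃ g ∈ sub gen ws, g • x = y := by
  rw [Bool.and_eq_true, List.all_eq_true] at h
  obtain ⟨i, hi, rfl⟩ := O.idx hx
  obtain ⟨j, hj, rfl⟩ := O.idx hy
  obtain ⟨o, ho, e'⟩ := List.any_eq_true.1 (allLt_spec h.2 i hi)
  rw [hc i hi, hc j hj] at e
  exact O.conn (h.1 o ho) ((O.mem_VS hi).2 ((testBit_selB _ _ _).2 ⟨hi, e'⟩))
    ((O.mem_VS hj).2 ((testBit_selB _ _ _).2 ⟨hj, e ▸ e'⟩))

theorem orbit_eq_of {Γ X : Type*} [Group Γ] [MulAction Γ X] {T : Set X} {x : X} (h0 : x ∈ T)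
    (h1 : ∀ g : Γ, ∀ y ∈ T, g • y ∈ T) (h2 : ∀ y ∈ T, ∃ g : Γ, g • x = y) : orbit Γ x = T :=
  Set.Subset.antisymm (fun _ ⟨g, e⟩ => e ▸ h1 g x h0) h2

theorem M0_l11 : sub M0.gen (lets 11) = ⊤ :=
  eq_top_iff.2 (M0_lets.ge.trans (sub_mono _ (by decide)))
theorem M0_triv (l : ℕ) (h : 11 ≤ l) : M0.gen l = 1 := M0.gen_of_le h

theorem col_eq (N A i : ℕ) : M0.col N A i = bset (cm 24 N A i) :=
  Finset.ext fun _ => M0.mem_col_cm.trans mem_S_iff

/-- A set of sets of points given by masks. -/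
def bsets (ms : List ℕ) : Finset (Finset GolayPt) := (ms.map bset).toFinset
noncomputable def cms (N : Nat) (As : List Nat) (i : Nat) : List Nat := As.map fun A => cm 24 N A i

theorem cols_eq (N : ℕ) (As : List ℕ) (i : ℕ) : M0.cols N As i = bsets (cms N As i) := by
  simp only [PM.cols, bsets, cms, List.map_map, col_eq]; rfl

theorem mem_bsets {ms : List ℕ} {s : Finset GolayPt} : s ∈ bsets ms ↔ ∃ m ∈ ms, bset m = s := by
  simp only [bsets, List.mem_toFinset, List.mem_map]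

theorem forall_bsets {ms : List ℕ} {P : Finset GolayPt → Prop} :
    (∀ s ∈ bsets ms, P s) ↔ ∀ m ∈ ms, P (bset m) := by
  simp only [mem_bsets, forall_exists_index, and_imp, forall_apply_eq_imp_iff₂]

theorem card_bsets {ms : List ℕ} (h : ms.Nodup) (h2 : ∀ m ∈ ms, m < 2 ^ 24) :
    (bsets ms).card = ms.length := by
  rw [bsets, List.toFinset_card_of_nodup (h.map_on fun a ha b hb e => bset_inj (h2 a ha) (h2 b hb) e),
    List.length_map]

theorem cm_lt (N A i : ℕ) : cm 24 N A i < 2 ^ 24 :=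
  Nat.lt_pow_two_of_testBit _ fun j hj => by
    rw [← Bool.not_eq_true, cm, testBit_selB]; omega

theorem smul_mem_sextets (g : M24) (S : Finset (Finset GolayPt)) (h : S ∈ sextets) :
    g • S ∈ sextets := by
  refine ⟨(Finset.card_smul_finset _ _).trans h.1, fun t ht => ?_, fun t ht u hu hne => ?_⟩
  · obtain ⟨t, h1, rfl⟩ := Finset.mem_smul_finset.1 ht
    exact (Finset.card_smul_finset _ _).trans (h.2.1 t h1)
  · obtain ⟨t, h1, rfl⟩ := Finset.mem_smul_finset.1 ht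
    obtain ⟨u, h2, rfl⟩ := Finset.mem_smul_finset.1 hu
    rw [← Finset.smul_finset_union]
    exact smul_mem_octads g (h.2.2 t h1 u h2 fun e => hne (e ▸ rfl))

theorem smul_mem_trios (g : M24) (S : Finset (Finset GolayPt)) (h : S ∈ trios) : g • S ∈ trios := by
  refine ⟨(Finset.card_smul_finset _ _).trans h.1, fun t ht => ?_, fun t ht u hu hne => ?_⟩
  · obtain ⟨t, h1, rfl⟩ := Finset.mem_smul_finset.1 ht
    exact smul_mem_octads g (h.2.1 t h1)
  · obtain ⟨t, h1, rfl⟩ := Finset.mem_smul_finset.1 ht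
    obtain ⟨u, h2, rfl⟩ := Finset.mem_smul_finset.1 hu
    rw [Finset.disjoint_iff_inter_eq_empty, ← Finset.smul_finset_inter,
      Finset.disjoint_iff_inter_eq_empty.1 (h.2.2 t h1 u h2 fun e => hne (e ▸ rfl)),
      Finset.smul_finset_empty]

/-- Pairs of complementary dodecads. -/
def duums : Set (Finset (Finset GolayPt)) := {D | ∃ d ∈ dodecads, D = {d, dᶜ}}

theorem smul_duum (g : M24) (d : Finset GolayPt) :
    g • ({d, dᶜ} : Finset (Finset GolayPt)) = {g • d, (g • d)ᶜ} := by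
  rw [Finset.smul_finset_insert, Finset.smul_finset_singleton, smul_compl_finset]

noncomputable abbrev fDu : ℕ → Finset GolayPt := M0.col 276 ODu.A
theorem famDu : Fam M0.gen 11 276 ODu.nets fDu :=
  M0.fam_of_chk (by norm_num) (by norm_num) ODu.nets_ok M0_l11 ODu.fam_ok ODu.reach_ok ODu.cls_ok
theorem fDu0 : fDu 0 = bset 0x800001 := (col_eq _ _ _).trans (congrArg bset (by decide +kernel))
noncomputable abbrev fTr : ℕ → Finset GolayPt := M0.col 2024 OTr.A
theorem famTr : Fam M0.gen 11 2024 OTr.nets fTr :=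
  M0.fam_of_chk (by norm_num) (by norm_num) OTr.nets_ok M0_l11 OTr.fam_ok OTr.reach_ok OTr.cls_ok
theorem fTr0 : fTr 0 = bset 0x800003 := (col_eq _ _ _).trans (congrArg bset (by decide +kernel))
noncomputable abbrev fOc : ℕ → Finset GolayPt := M0.col 759 OOc.A
theorem famOc : Fam M0.gen 11 759 OOc.nets fOc :=
  M0.fam_of_chk (by norm_num) (by norm_num) OOc.nets_ok M0_l11 OOc.fam_ok OOc.reach_ok OOc.cls_ok
theorem fOc0 : fOc 0 = bset 0x82402f := (col_eq _ _ _).trans (congrArg bset (by decide +kernel))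
noncomputable abbrev fDo : ℕ → Finset GolayPt := M0.col 2576 ODo.A
theorem famDo : Fam M0.gen 11 2576 ODo.nets fDo :=
  M0.fam_of_chk (by norm_num) (by norm_num) ODo.nets_ok M0_l11 ODo.fam_ok ODo.reach_ok ODo.cls_ok
theorem fDo0 : fDo 0 = bset 0x5335f := (col_eq _ _ _).trans (congrArg bset (by decide +kernel))
noncomputable abbrev fSx : ℕ → Finset (Finset GolayPt) := M0.cols 1771 OSx.As
theorem famSx : Fam M0.gen 11 1771 OSx.nets fSx :=
  M0.setFam_of_chk (by norm_num) (by norm_num) OSx.nets_ok M0_l11 OSx.fam_ok OSx.reach_ok OSx.cls_ok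
theorem fSx0 : fSx 0 = bsets [0x800007, 0x24028, 0x41900, 0x108600, 0x2800c0, 0x412010] := (cols_eq _ _ _).trans (congrArg bsets (by decide +kernel))
noncomputable abbrev fTi : ℕ → Finset (Finset GolayPt) := M0.cols 3795 OTi.As
theorem famTi : Fam M0.gen 11 3795 OTi.nets fTi :=
  M0.setFam_of_chk (by norm_num) (by norm_num) OTi.nets_ok M0_l11 OTi.fam_ok OTi.reach_ok OTi.cls_ok
theorem fTi0 : fTi 0 = bsets [0x82402f, 0x527c0, 0x789810] := (cols_eq _ _ _).trans (congrArg bsets (by decide +kernel))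
noncomputable abbrev fDm : ℕ → Finset (Finset GolayPt) := M0.cols 1288 ODm.As
theorem famDm : Fam M0.gen 11 1288 ODm.nets fDm :=
  M0.setFam_of_chk (by norm_num) (by norm_num) ODm.nets_ok M0_l11 ODm.fam_ok ODm.reach_ok ODm.cls_ok
theorem fDm0 : fDm 0 = bsets [0x5335f, 0xfacca0] := (cols_eq _ _ _).trans (congrArg bsets (by decide +kernel))

theorem oDu : OM M0.gen {s : Finset GolayPt | s.card = 2} 276 ODu.nets fDu :=
  have h : (fDu 0).card = 2 := by rw [fDu0, card_bset]; decide +kernel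
  ⟨famDu, M0_triv, orbit_eq_of h (fun _ _ h => (Finset.card_smul_finset _ _).trans h)
    fun _ hy => M24_exists_smul_finset (h.trans hy.symm) (by omega)⟩
theorem oTr : OM M0.gen {s : Finset GolayPt | s.card = 3} 2024 OTr.nets fTr :=
  have h : (fTr 0).card = 3 := by rw [fTr0, card_bset]; decide +kernel
  ⟨famTr, M0_triv, orbit_eq_of h (fun _ _ h => (Finset.card_smul_finset _ _).trans h)
    fun _ hy => M24_exists_smul_finset (h.trans hy.symm) (by omega)⟩
theorem oOc : OM M0.gen octads 759 OOc.nets fOc :=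
  have h : fOc 0 ∈ octads := fOc0 ▸ bset_mem_octads (by decide +kernel)
  ⟨famOc, M0_triv, orbit_eq_of h (fun g _ h => smul_mem_octads g h) fun _ hy => octad_trans h hy⟩
theorem oDo : OM M0.gen dodecads 2576 ODo.nets fDo :=
  have h : fDo 0 ∈ dodecads := fDo0 ▸ d0_mem
  ⟨famDo, M0_triv, orbit_eq_of h (fun g _ h => smul_mem_dodecads g h)
    fun _ hy => dodecad_trans h hy⟩
theorem fDm0' : fDm 0 = {d0, d0ᶜ} := by
  rw [fDm0, d0, ← bset_compl]
  simp only [bsets, List.map_cons, List.map_nil, List.toFinset_cons, List.toFinset_nil,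
    insert_empty_eq]
  rfl
theorem oDm : OM M0.gen duums 1288 ODm.nets fDm :=
  ⟨famDm, M0_triv, orbit_eq_of ⟨d0, d0_mem, fDm0'⟩
    (fun g _ ⟨d, h, e⟩ => ⟨_, smul_mem_dodecads g h, e ▸ smul_duum g d⟩) fun _ ⟨d, h, e⟩ => by
      obtain ⟨g, rfl⟩ := dodecad_std h
      exact ⟨g, by rw [fDm0', smul_duum, e]⟩⟩

theorem fSx0_mem : fSx 0 ∈ sextets := by
  rw [fSx0]
  refine ⟨card_bsets (by decide) (by decide), forall_bsets.2 fun m hm => ?_,
    forall_bsets.2 fun m hm => forall_bsets.2 fun m' hm' hne => ?_⟩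
  · rw [card_bset]; revert m; decide +kernel
  · rw [← bset_or]
    refine bset_mem_octads ?_
    have : m ≠ m' := fun e => hne (e ▸ rfl)
    revert m m'; decide +kernel

theorem sextet_eq0 {S : Finset (Finset GolayPt)} (hS : S ∈ sextets) (h : bset 0x800007 ∈ S) :
    S = fSx 0 := by
  refine Finset.eq_of_subset_of_card_le (fun u hu => ?_) (fSx0_mem.1.trans hS.1.symm).le
  rw [fSx0, mem_bsets]
  by_cases e : bset 0x800007 = u
  · exact ⟨_, List.mem_cons_self, e⟩
  have h1 := hS.2.2 _ h u hu e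
  obtain ⟨m, hm, h2⟩ := mem_GC.1 h1.1
  have h3 : Disjoint (bset 0x800007) u := Finset.card_union_eq_card_add_card.1 (by
    rw [(mem_octads.1 h1).2, hS.2.1 _ h, hS.2.1 _ hu])
  have h4 := forall_CW (f := fun m => !(Nat.beq (p24 m) 8 && subs 0x800007 m) ||
    decide (m ^^^ 0x800007 ∈ [0x800007, 0x24028, 0x41900, 0x108600, 0x2800c0, 0x412010])) (by decide +kernel) hm
  have h5 : subs 0x800007 m = true := beq_iff.2 (bset_inj (Nat.and_lt_two_pow _ hm.lt) (by norm_num)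
    ((bset_and _ _).trans (by rw [h2]; exact Finset.inter_eq_left.2 Finset.subset_union_left)))
  rw [(card_bset_eq_iff _ _).1 (h2 ▸ (mem_octads.1 h1).2), h5] at h4
  refine ⟨_, of_decide_eq_true h4, ?_⟩
  rw [bset_xor, h2, ← Finset.sup_eq_union, ← h3.symmDiff_eq_sup, symmDiff_comm (bset _) u,
    symmDiff_symmDiff_cancel_right]

theorem oSx : OM M0.gen sextets 1771 OSx.nets fSx :=
  ⟨famSx, M0_triv, orbit_eq_of fSx0_mem smul_mem_sextets fun S hS => by
    obtain ⟨t, ht⟩ : S.Nonempty := Finset.card_pos.1 (by rw [hS.1]; norm_num)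
    obtain ⟨g, hg⟩ := M24_exists_smul_finset (s := t) (t := bset 0x800007)
      (by rw [hS.2.1 t ht, card_bset]; decide +kernel) (by rw [hS.2.1 t ht]; norm_num)
    exact ⟨g⁻¹, by rw [← sextet_eq0 (smul_mem_sextets g S hS) (hg ▸ Finset.smul_mem_smul_finset ht),
      inv_smul_smul]⟩⟩

theorem exists_unique_sextet {t : Finset GolayPt} (ht : t.card = 4) : ∃! S, S ∈ sextets ∧ t ∈ S := by
  obtain ⟨g, rfl⟩ := M24_exists_smul_finset (s := bset 0x800007) (t := t)
    (by rw [ht, card_bset]; decide +kernel) (by rw [card_bset]; decide +kernel)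
  refine ⟨g • fSx 0, ⟨smul_mem_sextets _ _ fSx0_mem, Finset.smul_mem_smul_finset
    (fSx0 ▸ mem_bsets.2 ⟨_, List.mem_cons_self, rfl⟩)⟩, fun S hS => ?_⟩
  rw [← sextet_eq0 (smul_mem_sextets g⁻¹ S hS.1) (Finset.smul_mem_smul_finset_iff g |>.1 (by
    rw [smul_inv_smul]; exact hS.2)), smul_inv_smul]

noncomputable def cDu : Lv := (.cons (nat_lit 1) [dw (nat_lit 0x050e0b160f14)] [dw (nat_lit 0x01), dw (nat_lit 0x0b), dw (nat_lit 0x07), dw (nat_lit 0x05), dw (nat_lit 0x07), dw (nat_lit 0x0b), dw (nat_lit 0x07), dw (nat_lit 0x07)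
, dw (nat_lit 0x05), dw (nat_lit 0x01)]
(.cons (nat_lit 2) [dw (nat_lit 0x13090e151213)] [dw (nat_lit 0x01), dw (nat_lit 0x05), dw (nat_lit 0x05), dw (nat_lit 0x03), dw (nat_lit 0x05), dw (nat_lit 0x0905), dw (nat_lit 0x03), dw (nat_lit 0x05)
]
(.cons (nat_lit 3) [dw (nat_lit 0x101513)] [dw (nat_lit 0x01), dw (nat_lit 0x03), dw (nat_lit 0x0703), dw (nat_lit 0x01), dw (nat_lit 0x03), dw (nat_lit 0x07), dw (nat_lit 0x03), dw (nat_lit 0x03)
]
(.cons (nat_lit 4) [dw (nat_lit 0x16)] [dw (nat_lit 0x01), dw (nat_lit 0x01), dw (nat_lit 0x05), dw (nat_lit 0x03), dw (nat_lit 0x01), dw (nat_lit 0x01), dw (nat_lit 0x05)]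
(.cons (nat_lit 0) [dw (nat_lit 0x030b05100b141015)] [dw (nat_lit 0x01)]
(.cons (nat_lit 5) [dw (nat_lit 0x12)] [dw (nat_lit 0x01), dw (nat_lit 0x01)]
.nil))))))
noncomputable def wDu : List Word := [dw (nat_lit 0x050e0b160f14), dw (nat_lit 0x13090e151213), dw (nat_lit 0x101513), dw (nat_lit 0x16), dw (nat_lit 0x030b05100b141015), dw (nat_lit 0x12)]
theorem card_HDu {x} (hx : x ∈ {s : Finset GolayPt | s.card = 2}) : Nat.card (stabilizer M24 x) = 887040 := oDu.card_stab' hx card_M24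
theorem HDu_eq : sub M0.gen wDu = stabilizer M24 (fDu 0) :=
  (M0.eq_sub_of_low (c := cDu) (oDu.le_stab (by decide +kernel)) (card_HDu (oDu.mem (by norm_num))).le (by decide +kernel)).1
noncomputable def cTr : Lv := (.cons (nat_lit 0) [dw (nat_lit 0x03020f0b11101614)] [dw (nat_lit 0x01), dw (nat_lit 0x01)]
(.cons (nat_lit 2) [dw (nat_lit 0x0c0e160f1315)] [dw (nat_lit 0x01), dw (nat_lit 0x07), dw (nat_lit 0x05), dw (nat_lit 0x07), dw (nat_lit 0x09), dw (nat_lit 0x05), dw (nat_lit 0x0b)]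
(.cons (nat_lit 1) [dw (nat_lit 0x0103010b05130c10140f1315)] [dw (nat_lit 0x01)]
(.cons (nat_lit 3) [dw (nat_lit 0x1011)] [dw (nat_lit 0x01), dw (nat_lit 0x03), dw (nat_lit 0x07), dw (nat_lit 0x03), dw (nat_lit 0x05), dw (nat_lit 0x01)]
(.cons (nat_lit 4) [dw (nat_lit 0x14), dw (nat_lit 0x1215)] [dw (nat_lit 0x01), dw (nat_lit 0x03), dw (nat_lit 0x01), dw (nat_lit 0x05), dw (nat_lit 0x01)]
(.cons (nat_lit 5) [dw (nat_lit 0x12)] [dw (nat_lit 0x01), dw (nat_lit 0x01)]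
.nil))))))
noncomputable def wTr : List Word := [dw (nat_lit 0x03020f0b11101614), dw (nat_lit 0x0c0e160f1315), dw (nat_lit 0x0103010b05130c10140f1315), dw (nat_lit 0x1011), dw (nat_lit 0x14), dw (nat_lit 0x1215), dw (nat_lit 0x12)]
theorem card_HTr {x} (hx : x ∈ {s : Finset GolayPt | s.card = 3}) : Nat.card (stabilizer M24 x) = 120960 := oTr.card_stab' hx card_M24
theorem HTr_eq : sub M0.gen wTr = stabilizer M24 (fTr 0) :=
  (M0.eq_sub_of_low (c := cTr) (oTr.le_stab (by decide +kernel)) (card_HTr (oTr.mem (by norm_num))).le (by decide +kernel)).1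
noncomputable def cOc : Lv := (.cons (nat_lit 0) [dw (nat_lit 0x10020307160b160d1613)] [dw (nat_lit 0x01), dw (nat_lit 0x05), dw (nat_lit 0x07), dw (nat_lit 0x09), dw (nat_lit 0x09), dw (nat_lit 0x03)]
(.cons (nat_lit 1) [dw (nat_lit 0x0e08090c110e11)] [dw (nat_lit 0x01), dw (nat_lit 0x07), dw (nat_lit 0x07), dw (nat_lit 0x01), dw (nat_lit 0x03)]
(.cons (nat_lit 2) [dw (nat_lit 0x070203020c080f0a0b)] [dw (nat_lit 0x01), dw (nat_lit 0x05), dw (nat_lit 0x05), dw (nat_lit 0x03), dw (nat_lit 0x01)]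
(.cons (nat_lit 3) [dw (nat_lit 0x0e160f1312)] [dw (nat_lit 0x01), dw (nat_lit 0x03), dw (nat_lit 0x03), dw (nat_lit 0x07)]
(.cons (nat_lit 4) [dw (nat_lit 0x14)] [dw (nat_lit 0x01), dw (nat_lit 0x0204), dw (nat_lit 0x05), dw (nat_lit 0x03), dw (nat_lit 0x01), dw (nat_lit 0x03)]
(.cons (nat_lit 5) [dw (nat_lit 0x12)] [dw (nat_lit 0x01), dw (nat_lit 0x01), dw (nat_lit 0x03)]
(.cons (nat_lit 6) [dw (nat_lit 0x050203020c080b0b0d131513)] [dw (nat_lit 0x01), dw (nat_lit 0x01)]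
.nil)))))))
noncomputable def wOc : List Word := [dw (nat_lit 0x10020307160b160d1613), dw (nat_lit 0x0e08090c110e11), dw (nat_lit 0x070203020c080f0a0b), dw (nat_lit 0x0e160f1312), dw (nat_lit 0x14), dw (nat_lit 0x12), dw (nat_lit 0x050203020c080b0b0d131513)]
theorem card_HOc {x} (hx : x ∈ octads) : Nat.card (stabilizer M24 x) = 322560 := oOc.card_stab' hx card_M24
theorem HOc_eq : sub M0.gen wOc = stabilizer M24 (fOc 0) :=
  (M0.eq_sub_of_low (c := cOc) (oOc.le_stab (by decide +kernel)) (card_HOc (oOc.mem (by norm_num))).le (by decide +kernel)).1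
noncomputable def cDo : Lv := (.cons (nat_lit 1) [dw (nat_lit 0x100203100207070a0b160d14)] [dw (nat_lit 0x01), dw (nat_lit 0x07), dw (nat_lit 0x07), dw (nat_lit 0x05), dw (nat_lit 0x03), dw (nat_lit 0x07), dw (nat_lit 0x05)]
(.cons (nat_lit 0) [dw (nat_lit 0x020309020b05090e1514)] [dw (nat_lit 0x01), dw (nat_lit 0x05), dw (nat_lit 0x05), dw (nat_lit 0x03), dw (nat_lit 0x05), dw (nat_lit 0x01), dw (nat_lit 0x05)]
(.cons (nat_lit 2) [dw (nat_lit 0x0d0c0f1612)] [dw (nat_lit 0x01), dw (nat_lit 0x03), dw (nat_lit 0x03), dw (nat_lit 0x05), dw (nat_lit 0x03), dw (nat_lit 0x03)]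
(.cons (nat_lit 3) [dw (nat_lit 0x110e1416)] [dw (nat_lit 0x01), dw (nat_lit 0x01), dw (nat_lit 0x03), dw (nat_lit 0x01), dw (nat_lit 0x01)]
(.cons (nat_lit 4) [dw (nat_lit 0x1002030214080a1610), dw (nat_lit 0x0e080103010e081309160f121511)] [dw (nat_lit 0x01), dw (nat_lit 0x03), dw (nat_lit 0x01), dw (nat_lit 0x01)]
.nil)))))
noncomputable def wDo : List Word := [dw (nat_lit 0x100203100207070a0b160d14), dw (nat_lit 0x020309020b05090e1514), dw (nat_lit 0x0d0c0f1612), dw (nat_lit 0x110e1416), dw (nat_lit 0x1002030214080a1610), dw (nat_lit 0x0e080103010e081309160f121511)]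
theorem card_HDo {x} (hx : x ∈ dodecads) : Nat.card (stabilizer M24 x) = 95040 := oDo.card_stab' hx card_M24
theorem HDo_eq : sub M0.gen wDo = stabilizer M24 (fDo 0) :=
  (M0.eq_sub_of_low (c := cDo) (oDo.le_stab (by decide +kernel)) (card_HDo (oDo.mem (by norm_num))).le (by decide +kernel)).1
noncomputable def cSx : Lv := (.cons (nat_lit 0) [dw (nat_lit 0x090203080207160c0e0f)] [dw (nat_lit 0x01), dw (nat_lit 0x0b), dw (nat_lit 0x0b), dw (nat_lit 0x07), dw (nat_lit 0x0b), dw (nat_lit 0x0b), dw (nat_lit 0x05), dw (nat_lit 0x0b)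
, dw (nat_lit 0x07), dw (nat_lit 0x01)]
(.cons (nat_lit 1) [dw (nat_lit 0x0101030d020d)] [dw (nat_lit 0x01), dw (nat_lit 0x01)]
(.cons (nat_lit 3) [dw (nat_lit 0x0e121311)] [dw (nat_lit 0x01), dw (nat_lit 0x07), dw (nat_lit 0x07), dw (nat_lit 0x03), dw (nat_lit 0x07), dw (nat_lit 0x07), dw (nat_lit 0x01), dw (nat_lit 0x07)
, dw (nat_lit 0x03)]
(.cons (nat_lit 4) [dw (nat_lit 0x161312)] [dw (nat_lit 0x01), dw (nat_lit 0x05), dw (nat_lit 0x05), dw (nat_lit 0x03), dw (nat_lit 0x01), dw (nat_lit 0x05), dw (nat_lit 0x05)]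
(.cons (nat_lit 2) [dw (nat_lit 0x0101030d0206080d0c0e161312)] [dw (nat_lit 0x01)]
(.cons (nat_lit 5) [dw (nat_lit 0x12)] [dw (nat_lit 0x01), dw (nat_lit 0x01)]
.nil))))))
noncomputable def wSx : List Word := [dw (nat_lit 0x090203080207160c0e0f), dw (nat_lit 0x0101030d020d), dw (nat_lit 0x0e121311), dw (nat_lit 0x161312), dw (nat_lit 0x0101030d0206080d0c0e161312), dw (nat_lit 0x12)]
theorem card_HSx {x} (hx : x ∈ sextets) : Nat.card (stabilizer M24 x) = 138240 := oSx.card_stab' hx card_M24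
theorem HSx_eq : sub M0.gen wSx = stabilizer M24 (fSx 0) :=
  (M0.eq_sub_of_low (c := cSx) (oSx.le_stab (by decide +kernel)) (card_HSx (oSx.mem (by norm_num))).le (by decide +kernel)).1
noncomputable def cDm : Lv := (.cons (nat_lit 0) [dw (nat_lit 0x010306020f070a0b1416)] [dw (nat_lit 0x01), dw (nat_lit 0x07), dw (nat_lit 0x09), dw (nat_lit 0x01), dw (nat_lit 0x07), dw (nat_lit 0x05), dw (nat_lit 0x07), dw (nat_lit 0x09)
, dw (nat_lit 0x01)]
(.cons (nat_lit 1) [dw (nat_lit 0x030101031607130c130f1614)] [dw (nat_lit 0x01), dw (nat_lit 0x05), dw (nat_lit 0x03), dw (nat_lit 0x05), dw (nat_lit 0x07), dw (nat_lit 0x03), dw (nat_lit 0x05)]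
(.cons (nat_lit 2) [dw (nat_lit 0x0f0a0b10161412)] [dw (nat_lit 0x01), dw (nat_lit 0x03), dw (nat_lit 0x01), dw (nat_lit 0x03), dw (nat_lit 0x05), dw (nat_lit 0x01), dw (nat_lit 0x03)]
(.cons (nat_lit 3) [dw (nat_lit 0x10141612)] [dw (nat_lit 0x01), dw (nat_lit 0x03), dw (nat_lit 0x01), dw (nat_lit 0x03), dw (nat_lit 0x01), dw (nat_lit 0x05)]
(.cons (nat_lit 4) [dw (nat_lit 0x1002030214080a1610), dw (nat_lit 0x050203020c080b0b0d15)] [dw (nat_lit 0x01), dw (nat_lit 0x03), dw (nat_lit 0x01), dw (nat_lit 0x01)]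
.nil)))))
noncomputable def wDm : List Word := [dw (nat_lit 0x010306020f070a0b1416), dw (nat_lit 0x030101031607130c130f1614), dw (nat_lit 0x0f0a0b10161412), dw (nat_lit 0x10141612), dw (nat_lit 0x1002030214080a1610), dw (nat_lit 0x050203020c080b0b0d15)]
theorem card_HDm {x} (hx : x ∈ duums) : Nat.card (stabilizer M24 x) = 190080 := oDm.card_stab' hx card_M24
theorem HDm_eq : sub M0.gen wDm = stabilizer M24 (fDm 0) :=
  (M0.eq_sub_of_low (c := cDm) (oDm.le_stab (by decide +kernel)) (card_HDm (oDm.mem (by norm_num))).le (by decide +kernel)).1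

theorem octad_conn0 {x y : Finset GolayPt} (hx : x ∈ octads) (hy : y ∈ octads)
    (e : (fOc 0 ∩ x).card = (fOc 0 ∩ y).card) : ∃ g ∈ stabilizer M24 (fOc 0), g • x = y :=
  HOc_eq ▸ oOc.conn_of_val (c := fun x => (fOc 0 ∩ x).card)
    (cN := fun i => p24 (Nat.land 0x82402f (cm 24 759 OOc.A i)))
    (fun i _ => by rw [fOc0, fOc, col_eq, ← bset_and, card_bset]; rfl)
    [(0, []), (68, [dw (nat_lit 0x01), dw (nat_lit 0x03), dw (nat_lit 0x05), dw (nat_lit 0x07), dw (nat_lit 0x0b), dw (nat_lit 0x0d), dw (nat_lit 0x01)]), (1, [dw (nat_lit 0x01), dw (nat_lit 0x03), dw (nat_lit 0x05), dw (nat_lit 0x01), dw (nat_lit 0x03), dw (nat_lit 0x05), dw (nat_lit 0x07), dw (nat_lit 0x0d)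
, dw (nat_lit 0x01), dw (nat_lit 0x03), dw (nat_lit 0x07)]), (2, [dw (nat_lit 0x01), dw (nat_lit 0x03), dw (nat_lit 0x05), dw (nat_lit 0x09), dw (nat_lit 0x07), dw (nat_lit 0x01), dw (nat_lit 0x0d), dw (nat_lit 0x03)
, dw (nat_lit 0x05), dw (nat_lit 0x07), dw (nat_lit 0x01), dw (nat_lit 0x01)])] (by decide +kernel) hx hy e

theorem octad_conn {o x y : Finset GolayPt} (ho : o ∈ octads) (hx : x ∈ octads) (hy : y ∈ octads)
    (e : (o ∩ x).card = (o ∩ y).card) : ∃ g : M24, g • o = o ∧ g • x = y := by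
  obtain ⟨a, rfl⟩ := oOc.std ho
  obtain ⟨x, rfl⟩ := MulAction.surjective a x
  obtain ⟨y, rfl⟩ := MulAction.surjective a y
  rw [← Finset.smul_finset_inter, ← Finset.smul_finset_inter, Finset.card_smul_finset,
    Finset.card_smul_finset] at e
  obtain ⟨g, h1, rfl⟩ := octad_conn0 (by simpa using smul_mem_octads a⁻¹ hx)
    (by simpa using smul_mem_octads a⁻¹ hy) e
  exact ⟨a * g * a⁻¹, (conj_mem_stab a g _).2 h1, by rw [mul_smul, mul_smul, inv_smul_smul]⟩

theorem octad_pair_trans {o x o' y : Finset GolayPt} (ho : o ∈ octads) (hx : x ∈ octads)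
    (ho' : o' ∈ octads) (hy : y ∈ octads) (e : (o ∩ x).card = (o' ∩ y).card) :
    ∃ g : M24, g • o = o' ∧ g • x = y := by
  obtain ⟨a, rfl⟩ := octad_trans ho ho'
  obtain ⟨g, h1, h2⟩ := octad_conn ho' (smul_mem_octads a hx) hy
    (by rw [← Finset.smul_finset_inter, Finset.card_smul_finset, e])
  exact ⟨g * a, by rw [mul_smul, h1], by rw [mul_smul, h2]⟩

theorem compl_union_eq {a b c : Finset GolayPt} (ha : a ∈ octads) (hb : b ∈ octads)
    (hc : c ∈ octads) (h1 : Disjoint a b) (h2 : Disjoint a c) (h3 : Disjoint b c) : c = (a ∪ b)ᶜ :=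
  Finset.eq_of_subset_of_card_le (fun x hx => Finset.mem_compl.2 fun h => (Finset.mem_union.1 h).elim
    (fun h => Finset.disjoint_left.1 h2 h hx) fun h => Finset.disjoint_left.1 h3 h hx) (by
    rw [Finset.card_compl, Finset.card_union_of_disjoint h1, card_golayPt, (mem_octads.1 ha).2,
      (mem_octads.1 hb).2, (mem_octads.1 hc).2])

theorem trio_eq {T : Finset (Finset GolayPt)} (hT : T ∈ trios) {a b : Finset GolayPt} (ha : a ∈ T)
    (hb : b ∈ T) (hab : a ≠ b) : T = {a, b, (a ∪ b)ᶜ} := by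
  obtain ⟨c, hc⟩ : ((T.erase a).erase b).Nonempty := Finset.card_pos.1 (by
    rw [Finset.card_erase_of_mem (Finset.mem_erase.2 ⟨hab.symm, hb⟩), Finset.card_erase_of_mem ha,
      hT.1]; norm_num)
  simp only [Finset.mem_erase] at hc
  rw [← compl_union_eq (hT.2.1 a ha) (hT.2.1 b hb) (hT.2.1 c hc.2.2) (hT.2.2 a ha b hb hab)
    (hT.2.2 a ha c hc.2.2 hc.2.1.symm) (hT.2.2 b hb c hc.2.2 hc.1.symm)]
  refine (Finset.eq_of_subset_of_card_le (fun x hx => ?_) ?_).symm
  · simp only [Finset.mem_insert, Finset.mem_singleton] at hx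
    rcases hx with rfl | rfl | rfl
    exacts [ha, hb, hc.2.2]
  · rw [hT.1, Finset.card_eq_three.2 ⟨a, b, c, hab, hc.2.1.symm, hc.1.symm, rfl⟩]

theorem fTi0_mem : fTi 0 ∈ trios := by
  rw [fTi0]
  refine ⟨card_bsets (by decide) (by decide), forall_bsets.2 fun m hm => bset_mem_octads ?_,
    forall_bsets.2 fun m hm => forall_bsets.2 fun m' hm' hne => ?_⟩
  · revert m; decide +kernel
  · rw [Finset.disjoint_iff_inter_eq_empty, ← bset_and, ← bset_zero]
    refine congrArg bset ?_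
    have : m ≠ m' := fun e => hne (e ▸ rfl)
    revert m m'; decide +kernel

theorem trio_trans2 {T T' : Finset (Finset GolayPt)} (hT : T ∈ trios) (hT' : T' ∈ trios)
    {a b a' b' : Finset GolayPt} (ha : a ∈ T) (hb : b ∈ T) (hab : a ≠ b) (ha' : a' ∈ T')
    (hb' : b' ∈ T') (hab' : a' ≠ b') : ∃ g : M24, g • T = T' ∧ g • a = a' ∧ g • b = b' := by
  obtain ⟨g, rfl, rfl⟩ := octad_pair_trans (hT.2.1 a ha) (hT.2.1 b hb) (hT'.2.1 _ ha') (hT'.2.1 _ hb')
    (by rw [Finset.disjoint_iff_inter_eq_empty.1 (hT.2.2 a ha b hb hab),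
      Finset.disjoint_iff_inter_eq_empty.1 (hT'.2.2 _ ha' _ hb' hab')])
  exact ⟨g, (trio_eq (smul_mem_trios g T hT) (Finset.smul_mem_smul_finset ha)
    (Finset.smul_mem_smul_finset hb) hab').trans (trio_eq hT' ha' hb' hab').symm, rfl, rfl⟩

theorem oTi : OM M0.gen trios 3795 OTi.nets fTi :=
  ⟨famTi, M0_triv, orbit_eq_of fTi0_mem smul_mem_trios fun S hS => by
    obtain ⟨a, ha, b, hb, h⟩ := Finset.one_lt_card.1 (by rw [hS.1]; norm_num : 1 < S.card)
    obtain ⟨a', ha', b', hb', h'⟩ := Finset.one_lt_card.1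
      (by rw [fTi0_mem.1]; norm_num : 1 < (fTi 0).card)
    obtain ⟨g, hg, -⟩ := trio_trans2 fTi0_mem hS ha' hb' h' ha hb h
    exact ⟨g, hg⟩⟩

noncomputable def cTi : Lv := (.cons (nat_lit 0) [dw (nat_lit 0x0e020312021607090b0e0f121311)] [dw (nat_lit 0x01), dw (nat_lit 0x0b), dw (nat_lit 0x0d), dw (nat_lit 0x11), dw (nat_lit 0x0f), dw (nat_lit 0x01)]
(.cons (nat_lit 2) [dw (nat_lit 0x0c080e0f1315)] [dw (nat_lit 0x01), dw (nat_lit 0x01), dw (nat_lit 0x03), dw (nat_lit 0x03)]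
(.cons (nat_lit 1) [dw (nat_lit 0x01030107070e0b141015)] [dw (nat_lit 0x01), dw (nat_lit 0x01), dw (nat_lit 0x03), dw (nat_lit 0x01)]
(.cons (nat_lit 3) [dw (nat_lit 0x070203020c080b0b101311), dw (nat_lit 0x050203020c080b0b0f110f11)] [dw (nat_lit 0x01), dw (nat_lit 0x03)]
(.cons (nat_lit 4) [dw (nat_lit 0x1311), dw (nat_lit 0x1613), dw (nat_lit 0x141611), dw (nat_lit 0x1412)] [dw (nat_lit 0x01), dw (nat_lit 0x03), dw (nat_lit 0x07), dw (nat_lit 0x05)]
.nil)))))
noncomputable def wTi : List Word := [dw (nat_lit 0x0e020312021607090b0e0f121311), dw (nat_lit 0x0c080e0f1315), dw (nat_lit 0x01030107070e0b141015), dw (nat_lit 0x070203020c080b0b101311), dw (nat_lit 0x050203020c080b0b0f110f11), dw (nat_lit 0x1311), dw (nat_lit 0x1613), dw (nat_lit 0x141611)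
, dw (nat_lit 0x1412)]
theorem card_HTi {x} (hx : x ∈ trios) : Nat.card (stabilizer M24 x) = 64512 := oTi.card_stab' hx card_M24
theorem HTi_eq : sub M0.gen wTi = stabilizer M24 (fTi 0) :=
  (M0.eq_sub_of_low (c := cTi) (oTi.le_stab (by decide +kernel)) (card_HTi (oTi.mem (by norm_num))).le (by decide +kernel)).1

end H14
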