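import Cfsg.Agent.H14.M24Cls

/-! The pointwise stabiliser of an octad, subsets of a mask, sextets of cosets, invariant subspaces. -/

set_option autoImplicit false
set_option maxRecDepth 100000

namespace H14
open Cfsg MulAction
open scoped Pointwise

theorem pw_bset_iff (w : Word) {m : ℕ} (hm : subs m (full 24) = true) :
    (∀ x ∈ bset m, ev M0.gen w • x = x) ↔
      subs m (agr 24 5 (arW 24 M24c.nets 5 w) (arI 24 5)) = true := by
  rw [← M0.fix_pw_iff (by norm_num) w hm]
  simp only [M0, mem_S_iff]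

theorem mem_ws5 {g : M24} {m : ℕ} (h : ∀ x ∈ bset m, g • x = x) (hm : subs 0x80000f m = true) :
    g ∈ sub M0.gen M24c.ws5 :=
  M0_fix5 g trivial fun b hb => h _ (bset_subset hm (by revert b; decide +kernel))

theorem ncard_pw_bset {m k : ℕ} (h : (subs 0x80000f m && (subs m (full 24) &&
    Nat.beq (cntA (arF 24 M24c.nets 5) (fun _ A => subs m (agr 24 5 A (arI 24 5))) m24Ts5 []
      (arI 24 5)) k)) = true) : {g : M24 | ∀ x ∈ bset m, g • x = x}.ncard = k := by
  simp only [Bool.and_eq_true, beq_iff] at h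
  rw [← h.2.2, ← m24cov5.ncard_eq (P := fun g => ∀ x ∈ bset m, g • x = x)
    ((M24c.card5 M0 M0_rels).trans (by decide +kernel)) fun w _ => pw_bset_iff w h.2.1]
  exact congrArg _ (Set.ext fun g => ⟨fun hg => ⟨mem_ws5 hg h.1, hg⟩, And.right⟩)

theorem ncard_pw_octad {o : Finset GolayPt} (ho : o ∈ octads) :
    {g : M24 | ∀ x ∈ o, g • x = x}.ncard = 16 := by
  obtain ⟨g, rfl⟩ := oOc.std ho
  rw [ncard_pw, fOc0]
  exact ncard_pw_bset (by decide +kernel)

theorem K0_eq : sub M0.gen wK0 = fixingSubgroup M24 (fOc 0 : Set GolayPt) := by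
  refine eq_of_le_of_card (n := 16) (by norm_num) ((sub_le _).2 fun w hw => ?_) cardK0
    ((Nat.card_congr (Equiv.subtypeEquivRight fun g => mem_fixingSubgroup_iff _)).trans
      (ncard_pw_octad (oOc.mem (i := 0) (by norm_num))))
  rw [fOc0]
  exact (mem_fixingSubgroup_iff _).2 ((pw_bset_iff w (by decide +kernel)).2
    (List.all_eq_true.1 (show wK0.all (fun w => subs 0x82402f
      (agr 24 5 (arW 24 M24c.nets 5 w) (arI 24 5))) = true by decide +kernel) w hw))

theorem sq_of_pw {o : Finset GolayPt} (ho : o ∈ octads) {a : M24} (h : ∀ x ∈ o, a • x = x) :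
    a * a = 1 := by
  obtain ⟨g, rfl⟩ := oOc.std ho
  obtain ⟨a, rfl⟩ := (MulAut.conj g).surjective a
  rw [← map_mul, ← sq, M0.pow_eq_one (D := 5) (by norm_num) (by norm_num) covK0 (by norm_num)
    (by decide +kernel) a (K0_eq ▸ (mem_fixingSubgroup_iff _).2 ((conj_pw g _ a).1 h)), map_one]

theorem eq_one_of_nfix {a : M24} (h : a * a = 1) (h' : 8 < nfix GolayPt a) : a = 1 := by
  by_contra e
  have := Fact.mk Nat.prime_two
  have := cls2 (orderOf_eq_prime (by rw [sq, h]) e)
  omega

theorem eq_one_of_pw {o : Finset GolayPt} (ho : o ∈ octads) {a : M24} (h : ∀ x ∈ o, a • x = x)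
    {p : GolayPt} (hp : p ∉ o) (e : a • p = p) : a = 1 := by
  refine eq_one_of_nfix (sq_of_pw ho h) ?_
  have : 9 = (↑(insert p o) : Set GolayPt).ncard := by
    rw [Set.ncard_coe_finset, Finset.card_insert_of_notMem hp, ho.2]
  refine this.le.trans (Set.ncard_le_ncard fun x hx => ?_)
  rcases Finset.mem_insert.1 hx with rfl | hx
  exacts [e, h x hx]

theorem range_octad {o : Finset GolayPt} (ho : o ∈ octads) :
    (resHom M24 o).range = alternatingGroup o :=
  resHom_alt (ncard_pw_octad ho) (by norm_num) (by rw [card_HOc ho, ho.2]; rfl)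

/-- The subsets of a mask. -/
theorem mask_mem_spanA {m : ℕ} {bs : List ℕ}
    (h : allLt (fun i => !tb m i || bs.any (Nat.beq (bit i))) 24 = true) {s : Finset GolayPt}
    (hs : s ⊆ bset m) : mask s ∈ spanA bs 0 := by
  induction s using Finset.induction_on with
  | empty => rw [← bset_zero, mask_bset (by norm_num)]; exact self_mem_spanA _ _
  | insert p s hp ih =>
    have h1 : bit (gi p) ∈ bs := by
      have := allLt_spec h _ (gi_lt p)
      rw [tb_eq, mem_bset.1 (hs (Finset.mem_insert_self _ _))] at this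
      obtain ⟨b, hb, e⟩ := List.any_eq_true.1 this
      exact beq_iff.1 e ▸ hb
    have h2 : ∀ bs : List ℕ, ∀ b ∈ bs, b ∈ spanA bs 0 := fun bs => by
      induction bs with
      | nil => simp
      | cons c bs ih =>
        intro b hb
        rw [spanA_cons, List.mem_append]
        rcases List.mem_cons.1 hb with rfl | hb
        · exact .inr (by rw [Nat.zero_xor]; exact self_mem_spanA _ _)
        · exact .inl (ih b hb)
    have e : mask (insert p s) = bit (gi p) ^^^ mask s := by
      refine bset_inj (mask_lt _) (Nat.xor_lt_two_pow ?_ (mask_lt _)) ?_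
      · exact (Nat.shiftLeft_eq 1 _).trans_lt (by
          rw [one_mul]; exact Nat.pow_lt_pow_right (by norm_num) (gi_lt p))
      · rw [bset_xor, bset_bit (gi_lt p), gp_gi, bset_mask, bset_mask,
          (Finset.disjoint_singleton_left.2 hp).symmDiff_eq_sup]; rfl
    rw [e]
    exact xor_mem_spanA (a := 0) (a' := 0) (h2 _ _ h1) (ih ((Finset.subset_insert _ _).trans hs))

theorem forall_subset {m : ℕ} (bs : List ℕ) {f : ℕ → Bool} {P : Finset GolayPt → Prop}
    (h : (allLt (fun i => !tb m i || bs.any (Nat.beq (bit i))) 24 && allS f bs 0) = true)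
    (hP : ∀ a < 2 ^ 24, f a = true → P (bset a)) {s : Finset GolayPt} (hs : s ⊆ bset m) : P s := by
  rw [Bool.and_eq_true] at h
  exact bset_mask s ▸ hP _ (mask_lt s) (allS_spec h.2 _ (mask_mem_spanA h.1 hs))

theorem bset_eq_iff {a b : ℕ} (ha : a < 2 ^ 24) (hb : b < 2 ^ 24) :
    bset a = bset b ↔ Nat.beq a b = true := ⟨fun h => beq_iff.2 (bset_inj ha hb h), fun h => beq_iff.1 h ▸ rfl⟩

theorem bset_subset_iff {a b : ℕ} (ha : a < 2 ^ 24) : bset a ⊆ bset b ↔ subs a b = true := by
  rw [← Finset.inter_eq_left, ← bset_and]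
  exact bset_eq_iff (Nat.and_le_left.trans_lt ha) ha

/-- Every set is within distance four of a code word. -/
theorem exists_leader (s : Finset GolayPt) : ∃ c ∈ GC, (symmDiff s c).card ≤ 4 := by
  induction h : s.card using Nat.strong_induction_on generalizing s with
  | _ k ih =>
    by_cases hk : k ≤ 4
    · exact ⟨∅, empty_mem_GC, by rw [← Finset.bot_eq_empty, symmDiff_bot]; omega⟩
    obtain ⟨t, ht, h5⟩ := Finset.exists_subset_card_eq (s := s) (n := 5) (by omega)
    obtain ⟨o, ⟨ho, h1⟩, -⟩ := octads_steiner.2 t h5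
    have h2 := card_symmDiff_add s o
    have h3 := Finset.card_le_card (Finset.subset_inter ht h1)
    have h4 : o.card = 8 := ho.2
    obtain ⟨c, hc, e⟩ := ih _ (by omega) (symmDiff s o) rfl
    exact ⟨_, symmDiff_mem_GC ho.1 hc, symmDiff_assoc s o c ▸ e⟩

theorem mem_sextet0 {t u : Finset GolayPt} (ht : t ∈ fSx 0) (hu : u.card = 4)
    (h : symmDiff t u ∈ GC) : u ∈ fSx 0 := by
  have key : ∀ ms : List ℕ, allCW (fun c => ms.all fun a =>
      !Nat.beq (p24 (a ^^^ c)) 4 || ms.any (Nat.beq (a ^^^ c))) = true → t ∈ bsets ms →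
      u ∈ bsets ms := fun ms hm ht => by
    obtain ⟨a, ha, rfl⟩ := mem_bsets.1 ht
    obtain ⟨c, hc, e⟩ := mem_GC.1 h
    have e2 : u = bset (a ^^^ c) := by rw [bset_xor, e, symmDiff_symmDiff_cancel_left]
    have := List.all_eq_true.1 (forall_CW hm hc) a ha
    rw [e2, card_bset_eq_iff] at hu
    rw [hu, Bool.not_true, Bool.false_or] at this
    obtain ⟨b, hb, e3⟩ := List.any_eq_true.1 this
    exact mem_bsets.2 ⟨b, hb, by rw [e2, ← beq_iff.1 e3]⟩
  rw [fSx0] at ht ⊢
  exact key _ (by decide +kernel) ht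

/-- Two tetrads congruent modulo the code lie in the same sextet. -/
theorem mem_sextet_of {S : Finset (Finset GolayPt)} (hS : S ∈ sextets) {t u : Finset GolayPt}
    (ht : t ∈ S) (hu : u.card = 4) (h : symmDiff t u ∈ GC) : u ∈ S := by
  obtain ⟨g, e⟩ := oSx.std hS
  rw [← e, ← Finset.inv_smul_mem_iff] at ht ⊢
  exact mem_sextet0 ht (by rw [Finset.card_smul_finset, hu])
    (smul_symmDiff g⁻¹ t u ▸ smul_mem_GC g⁻¹ h)

theorem card_filter_bsets {ms : List ℕ} (h : ms.Nodup) (h2 : ∀ m ∈ ms, m < 2 ^ 24)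
    {P : Finset GolayPt → Prop} [DecidablePred P] {f : ℕ → Bool} (hf : ∀ m, P (bset m) ↔ f m = true) :
    ((bsets ms).filter P).card = (ms.filter f).length := by
  rw [← card_bsets (h.filter _) fun m hm => h2 m (List.mem_of_mem_filter hm)]
  congr 1
  ext s
  simp only [Finset.mem_filter, mem_bsets, List.mem_filter]
  exact ⟨fun ⟨⟨m, hm, e⟩, hp⟩ => ⟨m, ⟨hm, (hf m).1 (e ▸ hp)⟩, e⟩,
    fun ⟨m, hm, e⟩ => ⟨⟨m, hm.1, e⟩, e ▸ (hf m).2 hm.2⟩⟩

/-- The indicator word of a set. -/
def indW (s : Finset GolayPt) : GolayPt → ZMod 2 := fun p => if p ∈ s then 1 else 0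

theorem indW_bset (m : ℕ) : indW (bset m) = bword m := funext fun p => by simp [indW, bword]
theorem indW_support (w : GolayPt → ZMod 2) : indW (support₂ w) = w := by
  rw [← bset_mask (support₂ w), indW_bset, bword_mask_support]
theorem support_indW (s : Finset GolayPt) : support₂ (indW s) = s := by
  rw [← bset_mask s, indW_bset, support_bword]
theorem indW_symmDiff (s t : Finset GolayPt) : indW (symmDiff s t) = indW s + indW t := by
  rw [← bset_mask s, ← bset_mask t, ← bset_xor, indW_bset, indW_bset, indW_bset, bword_xor]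
theorem indW_empty : indW ∅ = 0 := funext fun p => by simp [indW]
theorem indW_univ : indW Finset.univ = fun _ => 1 := funext fun p => by simp [indW]
theorem indW_mem {s : Finset GolayPt} : indW s ∈ golayCode ↔ s ∈ GC := by
  rw [← support_mem_GC, support_indW]
theorem indW_smul (g : M24) (s : Finset GolayPt) :
    indW (g • s) = fun p => indW s ((g : Equiv.Perm GolayPt).symm p) := funext fun p => by
  simp only [indW, ← Finset.inv_smul_mem_iff]; rfl
theorem indW_inj : Function.Injective indW := fun s t h => by rw [← support_indW s, h, support_indW]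
theorem sum_indW (s : Finset GolayPt) : ∑ p, indW s p = s.card := by simp [indW]

/-- An invariant family of sets closed under symmetric differences. -/
structure InvFam (W : Set (Finset GolayPt)) : Prop where
  sd : ∀ s ∈ W, ∀ t ∈ W, symmDiff s t ∈ W
  sm : ∀ g : M24, ∀ s ∈ W, g • s ∈ W

theorem invFam_of {W : Submodule (ZMod 2) (GolayPt → ZMod 2)}
    (hW : ∀ σ ∈ M24, ∀ w ∈ W, (fun p => w (σ.symm p)) ∈ W) : InvFam {s | indW s ∈ W} :=
  ⟨fun s hs t ht => by
    show indW _ ∈ W
    rw [indW_symmDiff]; exact W.add_mem hs ht, fun g s hs => by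
    show indW _ ∈ W
    rw [indW_smul]; exact hW g g.2 _ hs⟩

namespace InvFam
variable {W : Set (Finset GolayPt)} (h : InvFam W)
include h

theorem of_octad {o : Finset GolayPt} (ho : o ∈ octads) (hW : o ∈ W) : GC ⊆ W := fun s hs => by
  obtain ⟨m, hm, rfl⟩ := mem_GC.1 hs
  refine IsCW.induction (P := fun m => bset m ∈ W) ?_ (fun a b ha hb => ?_) (fun b hb => ?_) hm
  · have := h.sd o hW o hW
    rwa [symmDiff_self, Finset.bot_eq_empty, ← bset_zero] at this
  · exact bset_xor a b ▸ h.sd _ ha _ hb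
  · obtain ⟨g, e⟩ := octad_trans ho (bset_mem_octads
      (List.all_eq_true.1 (show gB.all oct = true by decide +kernel) b hb))
    exact e ▸ h.sm g o hW

theorem of_code {s : Finset GolayPt} (hs : s ∈ GC) (h0 : s ≠ ∅) (h1 : s ≠ Finset.univ)
    (hW : s ∈ W) : GC ⊆ W := by
  have key : ∀ a b, oct (a ^^^ b) = true → bset a ∈ W → bset b ∈ W → GC ⊆ W := fun a b e ha hb =>
    h.of_octad (bset_mem_octads e) (bset_xor a b ▸ h.sd _ ha _ hb)
  rcases card_mem_GC hs with e | e | e | e | e
  · exact absurd (Finset.card_eq_zero.1 e) h0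
  · exact h.of_octad ⟨hs, e⟩ hW
  · have : ∀ d ∈ dodecads, d ∈ W := fun d hd => by
      obtain ⟨g, e⟩ := dodecad_trans ⟨hs, e⟩ hd
      exact e ▸ h.sm g s hW
    exact key 0x5335f 0x853f2a (by decide +kernel) (this _ d0_mem)
      (this _ ⟨bset_mem_GC (by decide +kernel), (card_bset_eq_iff _ _).2 (by decide +kernel)⟩)
  · have : ∀ m, oct (m ^^^ full 24) = true → bset m ∈ W := fun m hm => by
      obtain ⟨g, e⟩ := octad_trans (o := sᶜ) ⟨compl_mem_GC hs, by
        rw [Finset.card_compl, card_golayPt, e]⟩ (bset_mem_octads hm)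
      rw [smul_compl_finset, bset_compl, compl_inj_iff] at e
      exact e ▸ h.sm g s hW
    exact key (0x149f ^^^ full 24) (0x293e ^^^ full 24) (by decide +kernel)
      (this _ (by decide +kernel)) (this _ (by decide +kernel))
  · exact absurd (Finset.eq_univ_of_card s (e.trans card_golayPt.symm)) h1

end InvFam

end H14
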