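import Cfsg.Agent.H14.Conway2

/-! The Leech lattice modulo 2: the index `2 ^ 24`, crosses, short representatives, the invariant
quadratic form. -/

set_option autoImplicit false

namespace H14
open Cfsg MulAction Finset
open scoped Pointwise

/-- Doubling. -/
def dbl (A : Type*) [AddCommGroup A] : A →+ A := AddMonoidHom.mk' (fun x => x + x) fun x y => by abel

theorem dbl_apply {A : Type*} [AddCommGroup A] (x : A) : dbl A x = x + x := rfl

theorem relIndex_dbl {A : Type*} [AddCommGroup A] (hA : Function.Injective (dbl A))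
    (L : AddSubgroup A) (hL : L.index ≠ 0) :
    (L.map (dbl A)).relIndex L = (dbl A).range.index := by
  have h1 : (L.map (dbl A)).relIndex (dbl A).range = L.index := by
    rw [AddMonoidHom.range_eq_map, AddSubgroup.relIndex_map_map_of_injective _ _ hA,
      AddSubgroup.relIndex_top_right]
  have h2 := AddSubgroup.relIndex_mul_index (AddSubgroup.map_le_range (dbl A) L)
  have h3 : L.map (dbl A) ≤ L := by
    rintro _ ⟨x, hx, rfl⟩; exact L.add_mem hx hx
  have h4 := AddSubgroup.relIndex_mul_index h3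
  rw [h1, ← h4, mul_comm] at h2
  exact (Nat.eq_of_mul_eq_mul_right (Nat.pos_of_ne_zero hL) h2).symm

theorem dbl_inj (ι : Type*) : Function.Injective (dbl (ι → ℤ)) := fun x y h => funext fun i => by
  have := congrFun h i
  simp only [dbl_apply, Pi.add_apply] at this
  omega

/-- Reduction modulo `n`. -/
def redH (ι : Type*) (n : ℕ) : (ι → ℤ) →+ (ι → ZMod n) :=
  AddMonoidHom.mk' (fun x i => (x i : ZMod n)) fun x y => funext fun i => by simp

theorem mem_ker_redH {ι : Type*} {n : ℕ} {x : ι → ℤ} : x ∈ (redH ι n).ker ↔ ∀ i, (n : ℤ) ∣ x i := by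
  rw [AddMonoidHom.mem_ker, funext_iff]
  exact forall_congr' fun i => ZMod.intCast_zmod_eq_zero_iff_dvd _ _

theorem index_ker_redH (ι : Type*) [Fintype ι] (n : ℕ) :
    (redH ι n).ker.index = n ^ Fintype.card ι := by
  classical
  rw [AddSubgroup.index_ker, AddMonoidHom.range_eq_top.2 fun y =>
    ⟨fun i => (ZMod.intCast_surjective (y i)).choose,
      funext fun i => (ZMod.intCast_surjective (y i)).choose_spec⟩,
    AddSubgroup.card_top, Nat.card_fun, Nat.card_zmod, Nat.card_eq_fintype_card]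

theorem index_dbl (ι : Type*) [Fintype ι] : (dbl (ι → ℤ)).range.index = 2 ^ Fintype.card ι := by
  rw [← index_ker_redH]
  congr 1
  ext x
  rw [mem_ker_redH]
  refine ⟨?_, fun h => ⟨fun i => x i / 2, funext fun i => ?_⟩⟩
  · rintro ⟨y, rfl⟩ i
    exact ⟨y i, by simp only [dbl_apply, Pi.add_apply]; push_cast; ring⟩
  · have := h i
    simp only [dbl_apply, Pi.add_apply]; push_cast at this; omega

theorem relIndex_dbl_pi {ι : Type*} [Fintype ι] (L : AddSubgroup (ι → ℤ))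
    (hL : ∀ x, (8 : ℤ) • x ∈ L) : (L.map (dbl _)).relIndex L = 2 ^ Fintype.card ι := by
  rw [relIndex_dbl (dbl_inj ι) L, index_dbl]
  have h : (redH ι 8).ker ≤ L := fun x hx => by
    have := mem_ker_redH.1 hx
    convert hL fun i => x i / 8
    funext i
    have := this i
    simp only [Pi.smul_apply, smul_eq_mul]; push_cast at this; omega
  refine fun h0 => ?_
  have := AddSubgroup.index_dvd_of_le h
  rw [h0, index_ker_redH, zero_dvd_iff] at this
  exact absurd this (by positivity)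

/-- Twice the lattice. -/
def TwoL : AddSubgroup Λ := (dbl Λ).range

theorem mem_TwoL {x : Λ} : x ∈ TwoL ↔ ∃ w : Λ, x = w + w :=
  ⟨fun ⟨w, h⟩ => ⟨w, h.symm⟩, fun ⟨w, h⟩ => ⟨w, h.symm⟩⟩

theorem dbl_mem (w : Λ) : w + w ∈ TwoL := ⟨w, rfl⟩

theorem index_TwoL : TwoL.index = 2 ^ 24 := by
  have := relIndex_dbl_pi leechLattice eight_smul_mem
  rw [show Fintype.card GolayPt = 24 from rfl] at this
  rw [← this, AddSubgroup.relIndex]
  congr 1
  ext x
  rw [mem_TwoL, AddSubgroup.mem_addSubgroupOf]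
  exact ⟨fun ⟨w, h⟩ => ⟨w, w.2, by rw [h]; rfl⟩, fun ⟨w, hw, h⟩ => ⟨⟨w, hw⟩, Subtype.ext h.symm⟩⟩

theorem smul_mem_TwoL (g : Co0) {x : Λ} (h : x ∈ TwoL) : g • x ∈ TwoL := by
  obtain ⟨w, rfl⟩ := mem_TwoL.1 h
  rw [smul_add]; exact dbl_mem _

/-- Congruence modulo twice the lattice. -/
def E2 (x y : Λ) : Prop := x - y ∈ TwoL

namespace E2
variable {x y z w : Λ}
theorem refl (x : Λ) : E2 x x := by rw [E2, sub_self]; exact TwoL.zero_mem
theorem symm (h : E2 x y) : E2 y x := by rw [E2, ← neg_sub]; exact TwoL.neg_mem h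
theorem trans (h : E2 x y) (h' : E2 y z) : E2 x z := by
  rw [E2, ← sub_add_sub_cancel x y z]; exact TwoL.add_mem h h'
theorem smul (g : Co0) (h : E2 x y) : E2 (g • x) (g • y) := by
  rw [E2, ← smul_sub]; exact smul_mem_TwoL g h
theorem of_smul (g : Co0) (h : E2 (g • x) (g • y)) : E2 x y := by
  simpa using h.smul g⁻¹
theorem add (h : E2 x y) (h' : E2 z w) : E2 (x + z) (y + w) := by
  rw [E2, add_sub_add_comm]; exact TwoL.add_mem h h'
theorem neg (x : Λ) : E2 (-x) x := mem_TwoL.2 ⟨-x, by abel⟩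
theorem sub (x y : Λ) : E2 (x - y) (x + y) := mem_TwoL.2 ⟨-y, by abel⟩
theorem add_dbl (x w : Λ) : E2 (x + (w + w)) x := mem_TwoL.2 ⟨w, by abel⟩
theorem exists_eq (h : E2 x y) : ∃ w, x = y + (w + w) := by
  obtain ⟨w, e⟩ := mem_TwoL.1 h
  exact ⟨w, by rw [← e]; abel⟩
theorem zero_iff : E2 x 0 ↔ x ∈ TwoL := by rw [E2, sub_zero]
theorem of_eq (h : x = y) : E2 x y := h ▸ refl x
end E2

theorem le_norm_dbl {x : Λ} (h : x ∈ TwoL) (h0 : x ≠ 0) : 128 ≤ sqNorm x.1 := by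
  obtain ⟨w, rfl⟩ := mem_TwoL.1 h
  have := min_norm w.2 fun e => h0 (Subtype.ext (by simp [e]))
  rw [AddSubgroup.coe_add, sqNorm_add, dot_self]; omega

theorem E2.short {x y : Λ} (h : E2 x y) (hx : sqNorm x.1 ≤ 64) (hy : sqNorm y.1 ≤ 64) :
    x = y ∨ x = -y ∨ sqNorm x.1 = 64 ∧ sqNorm y.1 = 64 ∧ dotInt x.1 y.1 = 0 := by
  by_cases h1 : x = y
  · exact .inl h1
  by_cases h2 : x = -y
  · exact .inr (.inl h2)
  have a := le_norm_dbl h (sub_ne_zero.2 h1)
  have b := le_norm_dbl (x := x + y) (E2.zero_iff.1 ((E2.sub x y).symm.trans (E2.zero_iff.2 h)))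
    fun e => h2 (eq_neg_of_add_eq_zero_left e)
  rw [AddSubgroup.coe_sub, sqNorm_sub] at a
  rw [AddSubgroup.coe_add, sqNorm_add] at b
  omega

theorem E2.norm_eq {x y : Λ} (h : E2 x y) (hx : sqNorm x.1 ≤ 64) (hy : sqNorm y.1 ≤ 64) :
    sqNorm x.1 = sqNorm y.1 := by
  rcases h.short hx hy with rfl | rfl | h
  · rfl
  · exact sqNorm_neg _
  · omega

theorem E2.eq_or {x y : Λ} (h : E2 x y) (hx : sqNorm x.1 ≤ 64) (hy : sqNorm y.1 < 64) :
    x = y ∨ x = -y := by
  rcases h.short hx hy.le with h | h | h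
  · exact .inl h
  · exact .inr h
  · omega

theorem not_mem_TwoL {x : Λ} (hx : sqNorm x.1 ≤ 64) (h0 : sqNorm x.1 ≠ 0) : x ∉ TwoL := fun h => by
  have := le_norm_dbl h fun e => h0 (by rw [e]; simp [sqNorm])
  omega

theorem fr_E2 (p q : GolayPt) : E2 (fr p) (fr q) :=
  mem_TwoL.2 ⟨l4 p q (-4) rfl, by rw [fr_eq_add p q, fr_eq_sub p q]; abel⟩

theorem cross_fr {p : GolayPt} {y : Λ} (hy : sqNorm y.1 ≤ 64) (h : E2 y (fr p)) :
    ∃ q, y = fr q ∨ y = -fr q := by
  rcases h.short hy (norm_fr p).le with e | e | ⟨h1, -, h2⟩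
  · exact ⟨p, .inl e⟩
  · exact ⟨p, .inr e⟩
  obtain ⟨w, e⟩ := mem_TwoL.1 h.symm
  have h3 : sqNorm (w.1 + w.1) = 128 := by
    rw [← AddSubgroup.coe_add, ← e, AddSubgroup.coe_sub, sqNorm_sub, norm_fr, dot_comm]; omega
  rw [sqNorm_add, dot_self] at h3
  rw [dot_comm, dot_fr] at h2
  have h4 := congrArg (fun v : Λ => v.1 p) e
  simp only [AddSubgroup.coe_sub, AddSubgroup.coe_add, Pi.sub_apply, Pi.add_apply, fr_apply,
    if_true] at h4
  obtain ⟨q, -, h5⟩ := shape_four (a := w) (p := p) (by omega) (by omega)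
  have h6 : y = fr p - (w + w) := by rw [← e]; abel
  refine ⟨q, ?_⟩
  rcases h5 with rfl | rfl
  · right; rw [h6, fr_eq_add p q, fr_eq_sub p q]; abel
  · left; rw [h6, fr_eq_add p q, fr_eq_sub p q]; abel

theorem E2_fr_of {p q : GolayPt} {y : Λ} (h : y = fr q ∨ y = -fr q) : E2 y (fr p) := by
  rcases h with rfl | rfl
  · exact fr_E2 q p
  · exact (E2.neg _).trans (fr_E2 q p)

theorem mem_Mon_iff_E2 (p : GolayPt) {g : Co0} : g ∈ Mon ↔ E2 (g • fr p) (fr p) :=
  ⟨fun h => let ⟨_, e⟩ := mem_Mon_iff.1 h p; E2_fr_of e, fun h => mem_Mon_of_frame fun r =>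
    cross_fr ((sqNorm_smul g _).trans (norm_fr r)).le (((fr_E2 r p).smul g).trans h)⟩

theorem ncard_cross {x : Λ} (hx : sqNorm x.1 = 64) :
    {y : Λ | sqNorm y.1 = 64 ∧ E2 y x}.ncard = 48 := by
  obtain ⟨g, rfl⟩ := shell_trans ((norm_fr none).trans hx.symm) (norm_fr none).le
  rw [← ncard_frame, ← Set.ncard_image_of_injective {y : Λ | ∃ q, y = fr q ∨ y = -fr q}
    (MulAction.injective g)]
  congr 1
  ext y
  obtain ⟨y, rfl⟩ := MulAction.surjective g y
  rw [(MulAction.injective g).mem_set_image, Set.mem_ofPred_eq, Set.mem_ofPred_eq, sqNorm_smul]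
  refine ⟨fun h => cross_fr h.1.le (h.2.of_smul g), fun ⟨q, h⟩ => ⟨?_, (E2_fr_of h).smul g⟩⟩
  rcases h with rfl | rfl
  · exact norm_fr q
  · exact (sqNorm_neg _).trans (norm_fr q)

theorem ne_neg_self {x : Λ} (hx : sqNorm x.1 ≠ 0) : x ≠ -x := fun e => hx (by
  have : x.1 = 0 := funext fun i => by
    have := congrArg (fun v : Λ => v.1 i) e
    simp only [AddSubgroup.coe_neg, Pi.neg_apply] at this
    simp only [Pi.zero_apply]; omega
  rw [this]; simp [sqNorm])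

theorem ncard_pm {x : Λ} {k : ℤ} (hx : sqNorm x.1 = k) (h0 : k ≠ 0) (hk : k < 64) :
    {y : Λ | sqNorm y.1 = k ∧ E2 y x}.ncard = 2 := by
  rw [← Set.ncard_pair (ne_neg_self (hx ▸ h0))]
  congr 1
  ext y
  refine ⟨fun h => h.2.eq_or (by rw [h.1]; omega) (by omega), ?_⟩
  rintro (rfl | rfl)
  · exact ⟨hx, E2.refl _⟩
  · exact ⟨(sqNorm_neg _).trans hx, E2.neg _⟩

theorem ncard_eq_mul_image {α β : Type*} {S : Set α} (hS : S.Finite) (f : α → β) {m : ℕ}
    (h : ∀ x ∈ S, {y | y ∈ S ∧ f y = f x}.ncard = m) : S.ncard = (f '' S).ncard * m := by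
  classical
  lift S to Finset α using hS
  rw [← Finset.coe_image, Set.ncard_coe_finset, Set.ncard_coe_finset,
    Finset.card_eq_sum_card_image f, Finset.sum_const_nat]
  intro b hb
  obtain ⟨x, hx, rfl⟩ := Finset.mem_image.1 hb
  rw [← h x hx, ← Set.ncard_coe_finset, Finset.coe_filter]
  rfl

/-- The lattice modulo 2. -/
abbrev L2 : Type := Λ ⧸ TwoL

theorem mk_eq_mk {x y : Λ} : (x : L2) = y ↔ E2 x y := QuotientAddGroup.eq_iff_sub_mem

theorem card_L2 : Nat.card L2 = 2 ^ 24 := index_TwoL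

instance : Finite L2 := Nat.finite_of_card_ne_zero (by rw [card_L2]; norm_num)

/-- The classes of the vectors of norm `k`. -/
def TyS (k : ℤ) : Set L2 := (fun x : Λ => (x : L2)) '' {x | sqNorm x.1 = k}

theorem finite_shell (k : ℤ) : {x : Λ | sqNorm x.1 = k}.Finite :=
  (finite_shortL k).subset fun _ h => le_of_eq h

theorem ncard_TyS {k : ℤ} {m : ℕ} (h : ∀ x : Λ, sqNorm x.1 = k →
    {y : Λ | sqNorm y.1 = k ∧ E2 y x}.ncard = m) :
    {x : Λ | sqNorm x.1 = k}.ncard = (TyS k).ncard * m :=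
  ncard_eq_mul_image (finite_shell k) _ fun x hx => by
    simp only [mk_eq_mk]; exact h x hx

theorem ncard_T32 : (TyS 32).ncard = 98280 := by
  have := ncard_TyS (k := 32) fun x hx => ncard_pm hx (by norm_num) (by norm_num)
  rw [ncard_shell32] at this; omega

theorem ncard_T48 : (TyS 48).ncard = 8386560 := by
  have := ncard_TyS (k := 48) fun x hx => ncard_pm hx (by norm_num) (by norm_num)
  rw [ncard_shell48] at this; omega

theorem ncard_T64 : (TyS 64).ncard = 8292375 := by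
  have := ncard_TyS (k := 64) fun x hx => ncard_cross hx
  rw [ncard_shell64] at this; omega

theorem TyS_zero : TyS 0 = {0} := by
  ext y
  refine ⟨?_, fun h => ⟨0, by simp [sqNorm], h.symm⟩⟩
  rintro ⟨x, hx, rfl⟩
  rw [show x = 0 from Subtype.ext (sqNorm_eq_zero hx)]; rfl

theorem disjoint_TyS {k l : ℤ} (hk : k ≤ 64) (hl : l ≤ 64) (h : k ≠ l) :
    Disjoint (TyS k) (TyS l) := Set.disjoint_left.2 (by
  rintro _ ⟨x, hx, rfl⟩ ⟨y, hy, e⟩
  rw [Set.mem_ofPred_eq] at hx hy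
  have := (mk_eq_mk.1 e).norm_eq (by omega) (by omega)
  omega)

theorem union_TyS : TyS 0 ∪ TyS 32 ∪ TyS 48 ∪ TyS 64 = Set.univ := by
  refine Set.eq_of_subset_of_ncard_le (Set.subset_univ _) ?_
  rw [Set.ncard_union_eq, Set.ncard_union_eq, Set.ncard_union_eq, TyS_zero, Set.ncard_singleton,
    ncard_T32, ncard_T48, ncard_T64, Set.ncard_univ, card_L2]
  · norm_num
  all_goals norm_num [Set.disjoint_union_left, disjoint_TyS]

/-- Every vector is congruent to a short one. -/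
theorem exists_short (x : Λ) : ∃ y : Λ, E2 x y ∧
    (y = 0 ∨ sqNorm y.1 = 32 ∨ sqNorm y.1 = 48 ∨ sqNorm y.1 = 64) := by
  have : (x : L2) ∈ TyS 0 ∪ TyS 32 ∪ TyS 48 ∪ TyS 64 := union_TyS ▸ Set.mem_univ _
  rcases this with ((⟨y, h, e⟩ | ⟨y, h, e⟩) | ⟨y, h, e⟩) | ⟨y, h, e⟩ <;>
    refine ⟨y, (mk_eq_mk.1 e).symm, ?_⟩
  · exact .inl (Subtype.ext (sqNorm_eq_zero h))
  · exact .inr (.inl h)
  · exact .inr (.inr (.inl h))
  · exact .inr (.inr (.inr h))

/-- The invariant quadratic form. -/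
def qf (x : Λ) : ZMod 2 := ((sqNorm x.1 / 16 : ℤ) : ZMod 2)
/-- ... and its bilinear form. -/
def bf2 (x y : Λ) : ZMod 2 := ((dotInt x.1 y.1 / 8 : ℤ) : ZMod 2)

theorem qf_add (x y : Λ) : qf (x + y) = qf x + qf y + bf2 x y := by
  obtain ⟨a, ha⟩ := sixteen_dvd x.2
  obtain ⟨b, hb⟩ := sixteen_dvd y.2
  obtain ⟨c, hc⟩ := eight_dvd_dot x.2 y.2
  rw [qf, qf, qf, bf2, AddSubgroup.coe_add, sqNorm_add, ← Int.cast_add, ← Int.cast_add]
  congr 1; omega

theorem bf2_eq_zero {x y : Λ} : bf2 x y = 0 ↔ (16 : ℤ) ∣ dotInt x.1 y.1 := by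
  obtain ⟨c, hc⟩ := eight_dvd_dot x.2 y.2
  rw [bf2, ZMod.intCast_zmod_eq_zero_iff_dvd]; push_cast; omega

theorem qf_eq_zero {x : Λ} : qf x = 0 ↔ (32 : ℤ) ∣ sqNorm x.1 := by
  obtain ⟨c, hc⟩ := sixteen_dvd x.2
  rw [qf, ZMod.intCast_zmod_eq_zero_iff_dvd]; push_cast; omega

theorem E2.qf_eq {x y : Λ} (h : E2 x y) : qf x = qf y := by
  obtain ⟨w, rfl⟩ := h.exists_eq
  obtain ⟨a, ha⟩ := sixteen_dvd w.2
  obtain ⟨c, hc⟩ := eight_dvd_dot y.2 w.2
  rw [qf_add, (qf_eq_zero (x := w + w)).2, bf2_eq_zero.2, add_zero, add_zero]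
  · rw [AddSubgroup.coe_add, dot_add]; omega
  · rw [AddSubgroup.coe_add, sqNorm_add, dot_self]; omega

theorem quad_eq (Q : Λ → ZMod 2) (hcoset : ∀ v w : Λ, Q (v + (w + w)) = Q v)
    (hquad : ∀ u v w : Λ, Q (u + v + w) + Q u + Q v + Q w = Q (u + v) + Q (u + w) + Q (v + w))
    (hinv : ∀ (g : Co0) (v : Λ), Q (g • v) = Q v) (hne : ∃ v : Λ, Q v ≠ 0) (v : Λ) :
    Q v = qf v := by
  have hE : ∀ {x y : Λ}, E2 x y → Q x = Q y := fun h => by
    obtain ⟨w, rfl⟩ := h.exists_eq; exact hcoset _ _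
  have hs : ∀ {x y : Λ}, sqNorm x.1 = sqNorm y.1 → sqNorm x.1 ≤ 64 → Q x = Q y := fun h h' => by
    obtain ⟨g, rfl⟩ := shell_trans h h'; exact (hinv _ _).symm
  have h2 : ∀ a b : ZMod 2, (a + a + a + a = a + a + a → a = 0) ∧
      (a + a + a + a = a + a + b → b = 0) ∧ (b + a + a + a = b + b + b → a = 0) ∧
      (a ≠ 0 → a = 1) := by decide
  have h0 : Q 0 = 0 := (h2 _ 0).1 (by simpa using hquad 0 0 0)
  have h32 : ∀ x : Λ, sqNorm x.1 = 32 → Q x = Q U := fun x h => hs (h.trans norm_U.symm) (by omega)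
  have h48 : ∀ x : Λ, sqNorm x.1 = 48 → Q x = Q VV := fun x h => hs (h.trans norm_VV.symm) (by omega)
  have h64 : ∀ x : Λ, sqNorm x.1 = 64 → Q x = Q (fr none) :=
    fun x h => hs (h.trans (norm_fr _).symm) (by omega)
  have a4 : Q (fr none) = 0 := by
    have := hquad U (l4 (some 1) none (-4) rfl) (l4 (some 2) (some 0) (-4) rfl)
    rw [h32 (_ + _ + _) (by decide +kernel), h32 (l4 _ _ _ _) (by decide +kernel),
      h32 (l4 (some 2) _ _ _) (by decide +kernel), h32 (U + l4 (some 1) _ _ _) (by decide +kernel),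
      h32 (U + _) (by decide +kernel), h64 (_ + _) (by decide +kernel)] at this
    exact (h2 _ _).2.1 this
  have a2 : Q U = 0 := by
    have := hquad U lT (lv 0x80828080808080808080808082807e80807e80807e7e7e7e (by decide +kernel))
    rw [h48 (_ + _ + _) (by decide +kernel), h32 lT (by decide +kernel),
      h32 (lv _ _) (by decide +kernel), h48 (U + lT) (by decide +kernel),
      h48 (U + _) (by decide +kernel), h48 (lT + _) (by decide +kernel)] at this
    exact (h2 _ _).2.2.1 this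
  have a3 : Q VV = 1 := (h2 _ 0).2.2.2 fun e => by
    obtain ⟨x, hx⟩ := hne
    obtain ⟨y, h, h'⟩ := exists_short x
    rw [hE h] at hx
    rcases h' with rfl | h' | h' | h'
    exacts [hx h0, hx ((h32 _ h').trans a2), hx ((h48 _ h').trans e), hx ((h64 _ h').trans a4)]
  obtain ⟨y, h, h'⟩ := exists_short v
  rw [hE h, h.qf_eq, qf]
  rcases h' with rfl | h' | h' | h'
  · rw [h0]; simp [sqNorm]
  · rw [h32 _ h', a2, h']; decide
  · rw [h48 _ h', a3, h']; decide
  · rw [h64 _ h', a4, h']; decide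

end H14
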