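import Cfsg.Agent.H14.Mod2
import Cfsg.Agent.H18.Basic

/-! The sign group `Sg = 2^12`, the projection `monH : Mon → M24`, normal 2-subgroups of the
stabilisers of classes of the Leech lattice modulo 2. -/

set_option autoImplicit false

namespace H14
open Cfsg MulAction H18

theorem sgn_mul_self {c : Finset GolayPt} (hc : c ∈ GC) : sgn c hc * sgn c hc = 1 := by
  rw [← sgn_symmDiff hc hc, ← sgn_empty]; congr 1; simp

theorem sgn_inv {c : Finset GolayPt} (hc : c ∈ GC) : (sgn c hc)⁻¹ = sgn c hc :=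
  inv_eq_of_mul_eq_one_right (sgn_mul_self hc)

/-- The sign changes. -/
def Sg : Subgroup Co0 where
  carrier := {g | ∃ c hc, g = sgn c hc}
  one_mem' := ⟨∅, empty_mem_GC, sgn_empty.symm⟩
  mul_mem' := by
    rintro _ _ ⟨c, hc, rfl⟩ ⟨d, hd, rfl⟩
    exact ⟨_, _, (sgn_symmDiff hc hd).symm⟩
  inv_mem' := by
    rintro _ ⟨c, hc, rfl⟩
    exact ⟨c, hc, sgn_inv hc⟩

theorem sgn_mem_Sg {c : Finset GolayPt} (hc : c ∈ GC) : sgn c hc ∈ Sg := ⟨c, hc, rfl⟩
theorem negOne_mem_Sg : negOne ∈ Sg := sgn_mem_Sg _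

theorem Sg_le_Mon : Sg ≤ Mon := by
  rintro _ ⟨c, hc, rfl⟩; exact sgn_mem hc

theorem card_Sg : Nat.card Sg = 4096 := by
  rw [← ncard_GC, ← Nat.card_coe_set_eq]
  refine (Nat.card_eq_of_bijective (fun x : GC => (⟨sgn x.1 x.2, x.1, x.2, rfl⟩ : Sg))
    ⟨fun x y e => ?_, ?_⟩).symm
  · exact Subtype.ext (mon_inj (σ := 1) (τ := 1) (hc := x.2) (hd := y.2) (congrArg (fun g : Sg => g.1 * permH 1) e)).2
  · rintro ⟨_, c, hc, rfl⟩; exact ⟨⟨c, hc⟩, rfl⟩

theorem Sg_sq {g : Co0} (h : g ∈ Sg) : g * g = 1 := by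
  obtain ⟨c, hc, rfl⟩ := h; exact sgn_mul_self hc

theorem Sg_comm {g h : Co0} (hg : g ∈ Sg) (hh : h ∈ Sg) : g * h = h * g := by
  obtain ⟨c, hc, rfl⟩ := hg
  obtain ⟨d, hd, rfl⟩ := hh
  rw [← sgn_symmDiff, ← sgn_symmDiff]; congr 1; exact symmDiff_comm _ _

theorem sgn_mul_mon (σ τ : M24) {c d : Finset GolayPt} (hc : c ∈ GC) (hd : d ∈ GC) :
    sgn c hc * permH σ * (sgn d hd * permH τ) =
      sgn _ (symmDiff_mem_GC hc (smul_mem_GC σ hd)) * permH (σ * τ) := by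
  rw [sgn_symmDiff hc (smul_mem_GC σ hd), sgn_smul σ hd, map_mul]; group

/-- The permutation part of a monomial automorphism. -/
noncomputable def monH : Mon →* M24 := MonoidHom.mk' (fun g => g.2.choose) fun g h => by
  obtain ⟨c, hc, e⟩ := g.2.choose_spec
  obtain ⟨d, hd, f⟩ := h.2.choose_spec
  obtain ⟨b, hb, k⟩ := (g * h).2.choose_spec
  exact (mon_inj (k.symm.trans ((congrArg₂ (· * ·) e f).trans (sgn_mul_mon _ _ hc hd)))).1

theorem monH_spec (g : Mon) : ∃ c hc, g.1 = sgn c hc * permH (monH g) := g.2.choose_spec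

theorem monH_eq {g : Mon} {σ : M24} {c : Finset GolayPt} {hc : c ∈ GC}
    (h : g.1 = sgn c hc * permH σ) : monH g = σ :=
  let ⟨_, _, e⟩ := monH_spec g; (mon_inj (e.symm.trans h)).1

theorem monH_permH (σ : M24) : monH ⟨permH σ, permH_mem σ⟩ = σ :=
  monH_eq (hc := empty_mem_GC) (by rw [sgn_empty, one_mul])

theorem monH_surj : Function.Surjective monH := fun σ => ⟨_, monH_permH σ⟩

theorem monH_eq_one {g : Mon} : monH g = 1 ↔ g.1 ∈ Sg := by
  refine ⟨fun h => ?_, fun ⟨c, hc, e⟩ => monH_eq (hc := hc) (by rw [e, map_one, mul_one])⟩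
  obtain ⟨c, hc, e⟩ := monH_spec g
  exact ⟨c, hc, by rw [e, h, map_one, mul_one]⟩

theorem Mon_le_N_Sg : Mon ≤ N(Sg) := norm_iff.2 fun a ha b hb =>
  (monH_eq_one (g := ⟨a, ha⟩ * ⟨b, Sg_le_Mon hb⟩ * ⟨a, ha⟩⁻¹)).1 (by
    rw [map_mul, map_mul, (monH_eq_one (g := ⟨b, _⟩)).2 hb, mul_one, map_inv, mul_inv_cancel])

theorem eq_one_of_permH_mem {σ : M24} (h : permH σ ∈ Sg) : σ = 1 :=
  (monH_permH σ).symm.trans (monH_eq_one.2 h)

theorem eq_bot_of_simple {S : Type*} [Group S] [IsSimpleGroup S] {p n : ℕ} [Fact p.Prime]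
    (hn : Nat.card S = n) (h0 : n ≠ 0) {q : ℕ} (hq : q.Prime) (h1 : q ∣ n) (h2 : q ≠ p)
    (N : Subgroup S) [hN : N.Normal] (h : IsPGroup p N) : N = ⊥ :=
  (hN.eq_bot_or_eq_top).resolve_right fun e => by
    have : Finite S := Nat.finite_of_card_ne_zero (hn ▸ h0)
    obtain ⟨k, hk⟩ := IsPGroup.iff_card.1 h
    rw [e, Subgroup.card_top, hn] at hk
    exact h2 ((Nat.prime_dvd_prime_iff_eq hq Fact.out).1 (hq.dvd_of_dvd_pow (hk ▸ h1)))

theorem normal_sgOf {G : Type*} [Group G] {J H : Subgroup G} (h : H ≤ N(J)) :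
    (J.subgroupOf H).Normal := ⟨fun x hx g => conj_mem (x := g.1) (y := x.1) h g.2 hx⟩

theorem le_Sg {J : Subgroup Co0} (h1 : J ≤ Mon) (h2 : Mon ≤ N(J)) (h3 : IsPGroup 2 J) : J ≤ Sg := by
  have := simple_M24
  have := (normal_sgOf h2).map monH monH_surj
  have := eq_bot_of_simple card_M24 (by norm_num) (q := 3) (by norm_num) (by norm_num) (by norm_num)
    ((J.subgroupOf Mon).map monH) ((h3.comap_subtype).map _)
  intro g hg
  exact (monH_eq_one (g := ⟨g, h1 hg⟩)).1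
    (Subgroup.mem_bot.1 (this ▸ Subgroup.mem_map_of_mem monH hg))

theorem simple_stab {u : Λ} (hu : sqNorm u.1 = 32 ∨ sqNorm u.1 = 48) :
    IsSimpleGroup (stabilizer Co0 u) ∧ 3 ∣ Nat.card (stabilizer Co0 u) := by
  rcases hu with hu | hu
  · obtain ⟨g, rfl⟩ := min_trans norm_U hu
    obtain ⟨h1, h2⟩ := simple_card_of_equiv (stabEquiv1 g U) simple_C2 card_C2
    exact ⟨h1, by rw [h2]; norm_num⟩
  · obtain ⟨g, rfl⟩ := std48 hu
    obtain ⟨h1, h2⟩ := simple_card_of_equiv (stabEquiv1 g VV) simple_C3 card_C3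
    exact ⟨h1, by rw [h2]; norm_num⟩

theorem le_center {u : Λ} (hu : sqNorm u.1 = 32 ∨ sqNorm u.1 = 48) {J : Subgroup Co0}
    (h0 : negOne ∈ J) (h1 : ∀ g ∈ J, E2 (g • u) u) (h2 : stabilizer Co0 u ≤ N(J))
    (h3 : IsPGroup 2 J) : J ≤ Subgroup.center Co0 := by
  obtain ⟨hs, hd⟩ := simple_stab hu
  have := normal_sgOf h2
  have := eq_bot_of_simple rfl Nat.card_pos.ne' (q := 3) (by norm_num) hd (by norm_num)
    (J.subgroupOf (stabilizer Co0 u)) h3.comap_subtype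
  have key : ∀ g ∈ J, g • u = u → g = 1 := fun g hg e =>
    congrArg Subtype.val ((Subgroup.eq_bot_iff_forall _).1 this ⟨g, e⟩ hg)
  intro g hg
  rw [mem_center_Co0]
  rcases (h1 g hg).eq_or (by rw [sqNorm_smul]; omega) (by omega) with e | e
  · exact .inl (key g hg e)
  · right
    have := key _ (J.mul_mem h0 hg) (by rw [mul_smul, e, negOne_smul, neg_neg])
    rw [← mul_left_cancel_iff (a := negOne), this, negOne_sq]

theorem negOne_inv : negOne⁻¹ = negOne := inv_eq_of_mul_eq_one_right negOne_sq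

theorem mk_eq_mk_Co1 {g h : Co0} :
    (g : Spor.Co1) = h ↔ h = g ∨ h = g * negOne := by
  rw [QuotientGroup.eq, mem_center_Co0, inv_mul_eq_one, inv_mul_eq_iff_eq_mul, eq_comm]

/-- A fixed point lemma. -/
theorem exists_intertwine {G : Type*} [Group G] {S : Set G} (hS : S.Finite) {p : ℕ} (hp : p.Prime)
    (hd : ¬ p ∣ S.ncard) {x y : G} (hx : x ^ p = 1) (hy : y ^ p = 1)
    (h : ∀ s ∈ S, x * s * y⁻¹ ∈ S) : ∃ s ∈ S, x * s = s * y := by
  classical
  have := Fact.mk hp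
  have := hS.fintype
  let f : Function.End S := fun s => ⟨x * s * y⁻¹, h s s.2⟩
  have hf : ∀ (n : ℕ) (s : S), ((f ^ n) s : G) = x ^ n * s * y⁻¹ ^ n := fun n => by
    induction n with
    | zero => intro s; simp [Function.End.one_def]
    | succ n ih =>
      intro s
      rw [pow_succ']
      show x * ((f ^ n) s : G) * y⁻¹ = _
      rw [ih, pow_succ', pow_succ]; group
  have h1 := Equiv.Perm.card_fixedPoints_modEq (f := f) (p := p) (n := 1) (funext fun s =>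
    Subtype.ext (by rw [pow_one, hf, hx, inv_pow, hy]; simp [Function.End.one_def]))
  have h2 : Fintype.card f.fixedPoints ≠ 0 := fun e => hd (by
    rw [e] at h1
    rw [← Nat.card_coe_set_eq, Nat.card_eq_fintype_card]
    exact (Nat.modEq_zero_iff_dvd).1 h1)
  obtain ⟨⟨s, hs⟩⟩ := Fintype.card_pos_iff.1 (Nat.pos_of_ne_zero h2)
  exact ⟨s, s.2, by rw [← mul_inv_eq_iff_eq_mul]; exact congrArg Subtype.val hs⟩

/-- A monomial element of odd prime order is conjugate to its permutation part. -/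
theorem exists_conj_permH {g : Mon} {p : ℕ} (hp : p.Prime) (h2 : p ≠ 2) (hg : g.1 ^ p = 1) :
    ∃ s ∈ Sg, s⁻¹ * g * s = permH (monH g) := by
  obtain ⟨c, hc, e⟩ := monH_spec g
  obtain ⟨s, hs, h⟩ := exists_intertwine (S := (Sg : Set Co0)) (Set.toFinite _) hp (fun hd => by
      rw [← Nat.card_coe_set_eq, SetLike.coe_sort_coe, card_Sg] at hd
      exact h2 ((Nat.prime_dvd_prime_iff_eq hp Nat.prime_two).1
        (hp.dvd_of_dvd_pow (show p ∣ 2 ^ 12 from hd)))) hg (y := permH (monH g))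
    (by rw [← map_pow, ← map_pow, show g ^ p = 1 from Subtype.ext hg, map_one, map_one])
    fun s hs => by
      have := Sg.mul_mem (conj_mem Mon_le_N_Sg g.2 hs) (sgn_mem_Sg hc)
      have e' : (g.1)⁻¹ * sgn c hc = (permH (monH g))⁻¹ := by
        rw [inv_mul_eq_iff_eq_mul, eq_mul_inv_iff_mul_eq, ← e]
      rwa [mul_assoc (_ * _), e'] at this
  exact ⟨s, hs, by rw [mul_assoc, h, inv_mul_cancel_left]⟩

end H14
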