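import Cfsg.Agent.H14.Enum4

/-! Machines on orbits of objects, with the generators of a given machine. -/

set_option autoImplicit false

namespace H14
open MulAction
open scoped Pointwise

/-- The bitset `{i < k | f i}`. -/
noncomputable def selB (f : Nat → Bool) (k : Nat) : Nat :=
  @Nat.rec (fun _ => Nat) 0
    (fun i ih => @Bool.rec (fun _ => Nat) ih (Nat.lor ih (bit i)) (f i)) k

theorem testBit_selB (f : ℕ → Bool) (k i : ℕ) : (selB f k).testBit i = true ↔ i < k ∧ f i = true := by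
  induction k with
  | zero => simp [show selB f 0 = 0 from rfl]
  | succ k ih =>
    have e : selB f (k + 1) = @Bool.rec (fun _ => Nat) (selB f k) (selB f k ||| bit k) (f k) := rfl
    rw [e]
    cases h : f k
    · show (selB f k).testBit i = true ↔ _
      rw [ih, Nat.lt_succ_iff_lt_or_eq]
      exact ⟨fun a => ⟨Or.inl a.1, a.2⟩, fun a => ⟨a.1.resolve_right fun e => by
        rw [e, h] at a; exact absurd a.2 (by simp), a.2⟩⟩
    · show (selB f k ||| bit k).testBit i = true ↔ _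
      rw [Nat.testBit_or, Bool.or_eq_true, ih, testBit_bit, decide_eq_true_iff, Nat.lt_succ_iff_lt_or_eq]
      exact ⟨fun a => a.elim (fun a => ⟨Or.inl a.1, a.2⟩) fun e => e ▸ ⟨Or.inr rfl, h⟩,
        fun a => a.1.elim (fun b => Or.inl ⟨b, a.2⟩) fun e => Or.inr e.symm⟩

section transport
variable {Γ X Y : Type*} [Group Γ] [MulAction Γ X] [MulAction Γ Y]

theorem mem_orbit_sub {H : Subgroup Γ} {x y : X} : y ∈ orbit H x ↔ ∃ g ∈ H, g • x = y :=
  ⟨fun ⟨g, h⟩ => ⟨g, g.2, h⟩, fun ⟨g, h, e⟩ => ⟨⟨g, h⟩, e⟩⟩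

theorem orbit_conj {H K : Subgroup Γ} {g : Γ} (h : ∀ a, g * a * g⁻¹ ∈ K ↔ a ∈ H) (y : X) :
    orbit K (g • y) = g • orbit H y := by
  ext z
  rw [Set.mem_smul_set_iff_inv_smul_mem, mem_orbit_sub, mem_orbit_sub]
  exact ⟨fun ⟨a, ha, e⟩ => ⟨g⁻¹ * a * g, (h _).1 (by simpa [mul_assoc] using ha), by
      rw [mul_smul, mul_smul, e]⟩,
    fun ⟨a, ha, e⟩ => ⟨_, (h a).2 ha, by rw [mul_smul, mul_smul, inv_smul_smul, e, smul_inv_smul]⟩⟩

theorem conj_mem_stab (g a : Γ) (x : X) : g * a * g⁻¹ ∈ stabilizer Γ (g • x) ↔ a ∈ stabilizer Γ x := by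
  simp only [mem_stabilizer_iff, mul_smul, inv_smul_smul, smul_left_cancel_iff]

/-- The orbits of `H` on `T` have the sizes `l`. -/
def Orbs (H : Subgroup Γ) (T : Set X) (l : List ℕ) : Prop :=
  ∃ xs : List X, (∀ x ∈ xs, x ∈ T ∧ orbit H x ⊆ T) ∧ xs.map (fun x => (orbit H x).ncard) = l ∧
    ∀ y ∈ T, ∃ x ∈ xs, y ∈ orbit H x

theorem Orbs.conj {H K : Subgroup Γ} {T : Set X} {l : List ℕ} (h : Orbs H T l) {g : Γ}
    (hK : ∀ a, g * a * g⁻¹ ∈ K ↔ a ∈ H) (hT : ∀ a : Γ, ∀ x ∈ T, a • x ∈ T) : Orbs K T l := by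
  obtain ⟨xs, h1, h2, h3⟩ := h
  refine ⟨xs.map (g • ·), fun x hx => ?_, ?_, fun y hy => ?_⟩
  · obtain ⟨x, hx', rfl⟩ := List.mem_map.1 hx
    exact ⟨hT _ _ (h1 x hx').1, fun _ ⟨a, e⟩ => e ▸ hT _ _ (hT _ _ (h1 x hx').1)⟩
  · rw [← h2, List.map_map]
    exact List.map_congr_left fun x _ => by
      simp only [Function.comp_apply, orbit_conj hK, Set.ncard_smul_set]
  · obtain ⟨x, hx, e⟩ := h3 _ (hT g⁻¹ y hy)
    exact ⟨_, List.mem_map_of_mem hx, by rwa [orbit_conj hK, Set.mem_smul_set_iff_inv_smul_mem]⟩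

theorem Orbs.stab {T : Set X} {l : List ℕ} {y y' : Y} (h : Orbs (stabilizer Γ y) T l)
    (hy : ∃ g : Γ, g • y = y') (hT : ∀ a : Γ, ∀ x ∈ T, a • x ∈ T) : Orbs (stabilizer Γ y') T l := by
  obtain ⟨g, rfl⟩ := hy
  exact h.conj (fun a => conj_mem_stab g a y) hT

theorem Orbs.three {H : Subgroup Γ} {T : Set X} {a b c : ℕ} (h : Orbs H T [a, b, c]) :
    ∃ X₁ ∈ T, ∃ X₂ ∈ T, ∃ X₃ ∈ T, (orbit H X₁).ncard = a ∧ (orbit H X₂).ncard = b ∧
      (orbit H X₃).ncard = c ∧ T = orbit H X₁ ∪ orbit H X₂ ∪ orbit H X₃ := by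
  obtain ⟨xs, h1, h2, h3⟩ := h
  match xs, h1, h2, h3 with
  | [x, y, z], h1, h2, h3 =>
    simp only [List.map_cons, List.map_nil, List.cons.injEq, and_true, List.mem_cons,
      List.not_mem_nil, or_false, forall_eq_or_imp, forall_eq, exists_eq_or_imp,
      exists_eq_left] at h1 h2 h3
    exact ⟨x, h1.1.1, y, h1.2.1.1, z, h1.2.2.1, h2.1, h2.2.1, h2.2.2, Set.Subset.antisymm
      (fun w hw => by simpa only [Set.mem_union, or_assoc] using h3 w hw)
      (Set.union_subset (Set.union_subset h1.1.2 h1.2.1.2) h1.2.2.2)⟩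

theorem Orbs.four {H : Subgroup Γ} {T : Set X} {a b c d : ℕ} (h : Orbs H T [a, b, c, d]) :
    ∃ X₁ ∈ T, ∃ X₂ ∈ T, ∃ X₃ ∈ T, ∃ X₄ ∈ T, (orbit H X₁).ncard = a ∧ (orbit H X₂).ncard = b ∧
      (orbit H X₃).ncard = c ∧ (orbit H X₄).ncard = d ∧
      T = orbit H X₁ ∪ orbit H X₂ ∪ orbit H X₃ ∪ orbit H X₄ := by
  obtain ⟨xs, h1, h2, h3⟩ := h
  match xs, h1, h2, h3 with
  | [x, y, z, u], h1, h2, h3 =>
    simp only [List.map_cons, List.map_nil, List.cons.injEq, and_true, List.mem_cons,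
      List.not_mem_nil, or_false, forall_eq_or_imp, forall_eq, exists_eq_or_imp,
      exists_eq_left] at h1 h2 h3
    exact ⟨x, h1.1.1, y, h1.2.1.1, z, h1.2.2.1.1, u, h1.2.2.2.1, h2.1, h2.2.1, h2.2.2.1, h2.2.2.2,
      Set.Subset.antisymm (fun w hw => by simpa only [Set.mem_union, or_assoc] using h3 w hw)
      (Set.union_subset (Set.union_subset (Set.union_subset h1.1.2 h1.2.1.2) h1.2.2.1.2) h1.2.2.2.2)⟩

theorem Orbs.five {H : Subgroup Γ} {T : Set X} {a b c d e : ℕ} (h : Orbs H T [a, b, c, d, e]) :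
    ∃ X₀ ∈ T, ∃ X₁ ∈ T, ∃ X₂ ∈ T, ∃ X₃ ∈ T, ∃ X₄ ∈ T, (orbit H X₀).ncard = a ∧
      (orbit H X₁).ncard = b ∧ (orbit H X₂).ncard = c ∧ (orbit H X₃).ncard = d ∧
      (orbit H X₄).ncard = e ∧
      T = orbit H X₀ ∪ orbit H X₁ ∪ orbit H X₂ ∪ orbit H X₃ ∪ orbit H X₄ := by
  obtain ⟨xs, h1, h2, h3⟩ := h
  match xs, h1, h2, h3 with
  | [v, x, y, z, u], h1, h2, h3 =>
    simp only [List.map_cons, List.map_nil, List.cons.injEq, and_true, List.mem_cons,
      List.not_mem_nil, or_false, forall_eq_or_imp, forall_eq, exists_eq_or_imp,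
      exists_eq_left] at h1 h2 h3
    exact ⟨v, h1.1.1, x, h1.2.1.1, y, h1.2.2.1.1, z, h1.2.2.2.1.1, u, h1.2.2.2.2.1, h2.1, h2.2.1,
      h2.2.2.1, h2.2.2.2.1, h2.2.2.2.2,
      Set.Subset.antisymm (fun w hw => by simpa only [Set.mem_union, or_assoc] using h3 w hw)
      (Set.union_subset (Set.union_subset (Set.union_subset (Set.union_subset h1.1.2 h1.2.1.2)
        h1.2.2.1.2) h1.2.2.2.1.2) h1.2.2.2.2.2)⟩

/-- In a union of orbits of a stabiliser, the orbit of size one that contains the point. -/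
theorem orbit_eq_singleton {x y : X} (h : x ∈ orbit (stabilizer Γ x) y) :
    orbit (stabilizer Γ x) y = {x} := by
  rw [← orbit_eq_iff.2 h]
  ext z
  exact ⟨fun ⟨g, e⟩ => e ▸ g.2, fun e => e ▸ mem_orbit_self _⟩

theorem isCoatom_conj {H K : Subgroup Γ} {g : Γ} (h : ∀ a, g * a * g⁻¹ ∈ K ↔ a ∈ H)
    (hH : IsCoatom H) : IsCoatom K := by
  have : K = (MulAut.conj g).mapSubgroup H := by
    ext a
    obtain ⟨a, rfl⟩ := (MulAut.conj g).surjective a
    exact (h a).trans (Subgroup.mem_map_iff_mem (f := (MulAut.conj g).toMonoidHom)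
      (MulAut.conj g).injective).symm
  rw [this]
  exact (OrderIso.isCoatom_iff _ _).2 hH

theorem isCoatom_stab {y y' : Y} (h : IsCoatom (stabilizer Γ y)) (hy : ∃ g : Γ, g • y = y') :
    IsCoatom (stabilizer Γ y') := by
  obtain ⟨g, rfl⟩ := hy
  exact isCoatom_conj (fun a => conj_mem_stab g a y) h

theorem ncard_smul_eq {T : Set X} (hT : ∀ a : Γ, ∀ x ∈ T, a • x ∈ T) (g : Γ) {P Q : X → Prop}
    (h : ∀ x ∈ T, P (g • x) ↔ Q x) : {x | x ∈ T ∧ P x}.ncard = {x | x ∈ T ∧ Q x}.ncard := by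
  rw [← Set.ncard_smul_set g {x | x ∈ T ∧ Q x}]
  congr 1
  ext x
  rw [Set.mem_smul_set_iff_inv_smul_mem]
  refine ⟨fun a => ⟨hT _ _ a.1, (h _ (hT _ _ a.1)).1 (by rw [smul_inv_smul]; exact a.2)⟩, fun a => ?_⟩
  have := (h _ a.1).2 a.2
  rw [smul_inv_smul] at this
  exact ⟨by simpa using hT g _ a.1, this⟩

theorem ncard_fix_conj {T : Set X} (hT : ∀ a : Γ, ∀ x ∈ T, a • x ∈ T) {g t z : Γ}
    (h : g * t * g⁻¹ = z) : {x | x ∈ T ∧ t • x = x}.ncard = {x | x ∈ T ∧ z • x = x}.ncard :=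
  (ncard_smul_eq hT g fun x _ => by
    rw [← h, mul_smul, mul_smul, inv_smul_smul, smul_left_cancel_iff]).symm

theorem card_cent_conj {g t z : Γ} (h : g * t * g⁻¹ = z) (a : Γ) :
    g * a * g⁻¹ ∈ Subgroup.centralizer {z} ↔ a ∈ Subgroup.centralizer {t} := by
  rw [Subgroup.mem_centralizer_singleton_iff, Subgroup.mem_centralizer_singleton_iff, ← h,
    conj_mul, conj_mul, mul_left_inj, mul_right_inj]

end transport

/-- An orbit of objects numbered by `f`, permuted by the letters as the networks `L` say. -/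
structure OM {Γ X : Type*} [Group Γ] [MulAction Γ X] (gen : ℕ → Γ) (T : Set X) (N : ℕ)
    (L : List Net) (f : ℕ → X) : Prop where
  fam : Fam gen L.length N L f
  triv : ∀ l, L.length ≤ l → gen l = 1
  eq : orbit Γ (f 0) = T

/-- The objects whose numbers are in `b`. -/
def VS {X : Type*} (f : ℕ → X) (N b : ℕ) : Set X := f '' {i | i < N ∧ b.testBit i = true}

theorem getL_of_le {α : Type} (d : α) {L : List α} {l : ℕ} (h : L.length ≤ l) : getL d L l = d := by
  rw [getL_eq_getD]; exact List.getD_eq_default _ _ h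

theorem PM.gen_of_le {Γ Ω : Type*} [Group Γ] [MulAction Γ Ω] [FaithfulSMul Γ Ω] {n : ℕ}
    {L : List Net} (M : PM Γ Ω n L) {l : ℕ} (h : L.length ≤ l) : M.gen l = 1 :=
  M.gen_eq l fun x => by rw [getL_of_le _ h, one_smul]; rfl

namespace OM
variable {Γ X : Type*} [Group Γ] [MulAction Γ X] {gen : ℕ → Γ} {T : Set X} {N : ℕ} {L : List Net}
  {f : ℕ → X} (O : OM gen T N L f)
include O

/-- The machine on the orbit. -/
noncomputable def pm : PM Γ (orbit Γ (f 0)) N L where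
  enc := O.fam.enc.enc
  dec := O.fam.enc.dec
  gen := gen
  enc_inj := O.fam.enc.enc_inj
  enc_lt := O.fam.enc.enc_lt
  enc_dec := O.fam.enc.enc_dec
  small := O.fam.small
  ok := O.fam.ok
  spec l x := by
    by_cases h : l < L.length
    · exact O.fam.real h x
    · rw [O.triv l (by omega), getL_of_le _ (by omega), one_smul]; rfl

theorem coe_dec {i : ℕ} (hi : i < N) : (O.pm.dec i : X) = f i := O.fam.coe_dec hi
theorem f_enc (x : orbit Γ (f 0)) : f (O.pm.enc x) = x := O.fam.f_enc x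
theorem mem {i : ℕ} (hi : i < N) : f i ∈ T := O.eq ▸ O.fam.mem_orbit hi
theorem idx {x : X} (hx : x ∈ T) : ∃ i < N, f i = x := O.fam.exists_index ⟨x, O.eq ▸ hx⟩
theorem inv (a : Γ) (x : X) (hx : x ∈ T) : a • x ∈ T := by
  rw [← O.eq] at hx ⊢; exact mem_orbit_of_mem_orbit a hx
theorem std {x : X} (hx : x ∈ T) : ∃ g : Γ, g • f 0 = x := O.eq.ge hx
theorem trans {x y : X} (hx : x ∈ T) (hy : y ∈ T) : ∃ g : Γ, g • x = y := by
  obtain ⟨a, rfl⟩ := O.std hx
  obtain ⟨b, rfl⟩ := O.std hy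
  exact ⟨b * a⁻¹, by rw [mul_smul, inv_smul_smul]⟩
theorem ncard : T.ncard = N := O.eq ▸ O.fam.ncard_orbit

theorem VS_eq (b : ℕ) : VS f N b = Subtype.val '' O.pm.S b :=
  Set.ext fun _ => ⟨fun ⟨i, h, e⟩ => ⟨O.pm.dec i, by rw [PM.mem_S, O.pm.enc_dec i h.1]; exact h.2,
    (O.coe_dec h.1).trans e⟩, fun ⟨y, h, e⟩ => ⟨_, ⟨O.pm.enc_lt y, h⟩, (O.f_enc y).trans e⟩⟩

theorem ncard_VS (b : ℕ) : (VS f N b).ncard = pop N b := by
  rw [O.VS_eq, Set.ncard_image_of_injective _ Subtype.val_injective, PM.ncard_S]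

theorem mem_VS {b i : ℕ} (hi : i < N) : f i ∈ VS f N b ↔ b.testBit i = true :=
  ⟨fun ⟨_, h, e⟩ => O.fam.inj h.1 hi e ▸ h.2, fun h => ⟨i, ⟨hi, h⟩, rfl⟩⟩

theorem VS_sub (b : ℕ) : VS f N b ⊆ T := fun _ ⟨_, h, e⟩ => e ▸ O.mem h.1

theorem sel_eq {P : X → Prop} {b : ℕ} (h : ∀ i < N, P (f i) ↔ b.testBit i = true) :
    {x | x ∈ T ∧ P x} = VS f N b :=
  Set.ext fun x => ⟨fun a => by
    obtain ⟨i, hi, rfl⟩ := O.idx a.1
    exact (O.mem_VS hi).2 ((h i hi).1 a.2), fun ⟨i, a, e⟩ => e ▸ ⟨O.mem a.1, (h i a.1).2 a.2⟩⟩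

theorem sel_eq' {P : X → Prop} {g : ℕ → Bool} (h : ∀ i < N, P (f i) ↔ g i = true) :
    {x | x ∈ T ∧ P x} = VS f N (selB g N) :=
  O.sel_eq fun i hi => by rw [h i hi, testBit_selB, and_iff_right hi]

theorem ncard_sel {P : X → Prop} {g : ℕ → Bool} (h : ∀ i < N, P (f i) ↔ g i = true) :
    {x | x ∈ T ∧ P x}.ncard = pop N (selB g N) := by rw [O.sel_eq' h, O.ncard_VS]

theorem forall_of {P : X → Prop} {g : ℕ → Bool} (h : ∀ i < N, g i = true → P (f i))
    (hc : allLt g N = true) : ∀ x ∈ T, P x := fun x hx => by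
  obtain ⟨i, hi, rfl⟩ := O.idx hx
  exact h i hi (allLt_spec hc i hi)

theorem run {w : Word} {i j : ℕ} (h : (Nat.ble (Nat.succ i) N && Nat.ble (Nat.succ j) N &&
    tb (runW (letN L) w (bit i)) j) = true) : ev gen w • f i = f j := by
  simp only [Bool.and_eq_true] at h
  have hi : i < N := Nat.le_of_ble_eq_true h.1.1
  have hj : j < N := Nat.le_of_ble_eq_true h.1.2
  have := (O.pm.mem_S_runW_bit w hi _).1 ((O.pm.mem_S_dec hj).2 h.2)
  rw [← O.coe_dec hi, ← O.coe_dec hj, this]; rfl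

theorem orbit_eq {ws : List Word} {s b : ℕ} {sc : List Word} (h : PM.orbChk N L ws s b sc = true) :
    orbit (sub gen ws) (f s) = VS f N b := by
  have hs : s < N := by
    simp only [PM.orbChk, Bool.and_eq_true] at h
    exact Nat.le_of_ble_eq_true h.1
  ext y
  rw [O.VS_eq, mem_orbit_sub, ← O.coe_dec hs]
  exact ⟨fun ⟨g, hg, e⟩ => ⟨g • O.pm.dec s, (O.pm.orb_of_chk h _).2 ⟨g, hg, rfl⟩, e⟩,
    fun ⟨z, hz, e⟩ => by
      obtain ⟨g, hg, rfl⟩ := (O.pm.orb_of_chk h _).1 hz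
      exact ⟨g, hg, e⟩⟩

theorem conn {ws : List Word} {s b : ℕ} {sc : List Word} (h : PM.orbChk N L ws s b sc = true)
    {x y : X} (hx : x ∈ VS f N b) (hy : y ∈ VS f N b) : ∃ g ∈ sub gen ws, g • x = y := by
  rw [← O.orbit_eq h] at hx hy
  exact mem_orbit_sub.1 (orbit_eq_iff.2 hx ▸ hy)

theorem le_stab {ws : List Word} {i : ℕ}
    (h : (Nat.ble (Nat.succ i) N && invChk L ws (bit i)) = true) :
    sub gen ws ≤ stabilizer Γ (f i) := fun g hg => by
  rw [Bool.and_eq_true] at h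
  have hi : i < N := Nat.le_of_ble_eq_true h.1
  rw [mem_stabilizer_iff, ← O.coe_dec hi]
  exact congrArg Subtype.val (O.pm.fix_sound hi h.2 hg)

theorem card_stab {x : X} (hx : x ∈ T) : Nat.card (stabilizer Γ x) * N = Nat.card Γ := by
  rw [← O.ncard, ← O.eq, ← orbit_eq_iff.2 (O.eq ▸ hx), mul_comm]
  exact (Nat.card_prod _ _).symm.trans (Nat.card_congr (orbitProdStabilizerEquivGroup Γ x))

theorem card_stab' {x : X} (hx : x ∈ T) {K : ℕ} (h : Nat.card Γ = K * N) :
    Nat.card (stabilizer Γ x) = K :=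
  Nat.eq_of_mul_eq_mul_right O.fam.pos ((O.card_stab hx).trans h)

theorem ncard_fix {D : ℕ} (hD : N ≤ 2 ^ D) (w : Word) : {x | x ∈ T ∧ ev gen w • x = x}.ncard =
    pop N (agr N D (arW N L D w) (arI N D)) := by
  rw [← O.ncard_VS]
  refine congrArg _ (O.sel_eq fun i hi => ?_)
  rw [← tb_eq, ← O.pm.mem_S_dec hi, O.pm.mem_S_fix hD, ← O.coe_dec hi, Subtype.ext_iff]
  rfl

/-- The listed orbits cover everything. -/
noncomputable def _root_.H14.orbsChk (N : Nat) (L : List Net) (ws : List Word)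
    (l : List (Nat × Nat × List Word)) (sz : List Nat) : Bool :=
  l.all (fun o => PM.orbChk N L ws o.1 o.2.1 o.2.2) &&
    (subs (full N) (l.foldr (fun o a => Nat.lor o.2.1 a) 0) &&
      decide (l.map (fun o => pop N o.2.1) = sz))

theorem cover_of {l : List (ℕ × ℕ × List Word)}
    (h : subs (full N) (l.foldr (fun o a => Nat.lor o.2.1 a) 0) = true) {x : X} (hx : x ∈ T) :
    ∃ o ∈ l, x ∈ VS f N o.2.1 := by
  obtain ⟨i, hi, rfl⟩ := O.idx hx
  have := subs_spec h (i := i) (by rw [testBit_full]; simpa using hi)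
  clear h
  induction l with
  | nil => simp at this
  | cons o l ih =>
    rw [List.foldr_cons, show ∀ a b, Nat.lor a b = a ||| b from fun _ _ => rfl, Nat.testBit_or,
      Bool.or_eq_true] at this
    rcases this with h | h
    · exact ⟨o, List.mem_cons_self, (O.mem_VS hi).2 h⟩
    · obtain ⟨o', h1, h2⟩ := ih h
      exact ⟨o', List.mem_cons_of_mem _ h1, h2⟩

theorem orbs {ws : List Word} (l : List (ℕ × ℕ × List Word)) {sz : List ℕ}
    (h : orbsChk N L ws l sz = true) : Orbs (sub gen ws) T sz := by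
  simp only [orbsChk, Bool.and_eq_true, List.all_eq_true, decide_eq_true_iff] at h
  refine ⟨l.map fun o => f o.1, fun x hx => ?_, ?_, fun y hy => ?_⟩
  · obtain ⟨o, ho, rfl⟩ := List.mem_map.1 hx
    have := O.orbit_eq (h.1 o ho)
    exact ⟨O.VS_sub _ (this ▸ mem_orbit_self _), this ▸ O.VS_sub _⟩
  · rw [← h.2.2, List.map_map]
    exact List.map_congr_left fun o ho => by
      simp only [Function.comp_apply, O.orbit_eq (h.1 o ho), O.ncard_VS]
  · obtain ⟨o, ho, e⟩ := O.cover_of h.2.1 hy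
    exact ⟨_, List.mem_map_of_mem ho, O.orbit_eq (h.1 o ho) ▸ e⟩

/-- Each orbit `(s, O, schedule)` comes with a word `u` mapping `0` to `s` and a schedule showing
that `u` and `ws` generate a transitive group. -/
noncomputable def _root_.H14.coatomChk (N : Nat) (L : List Net) (ws : List Word)
    (l : List ((Nat × Nat × List Word) × Word × List Word)) : Bool :=
  Nat.ble 2 N && (l.all (fun o => PM.orbChk N L ws o.1.1 o.1.2.1 o.1.2.2 &&
    (tb (runW (letN L) o.2.1 (bit 0)) o.1.1 && subs (full N) (orbRun L (o.2.1 :: ws) o.2.2 (bit 0)))) &&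
    subs (full N) ((((0, 1, []) : Nat × Nat × List Word) :: l.map Prod.fst).foldr
      (fun o a => Nat.lor o.2.1 a) 0))

theorem coatom {ws : List Word} (hs : sub gen ws = stabilizer Γ (f 0))
    (l : List ((ℕ × ℕ × List Word) × Word × List Word)) (h : coatomChk N L ws l = true) :
    IsCoatom (stabilizer Γ (f 0)) := by
  simp only [coatomChk, Bool.and_eq_true, List.all_eq_true] at h
  have h2 : 2 ≤ N := Nat.le_of_ble_eq_true h.1
  refine ⟨fun e => ?_, fun K hK => ?_⟩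
  · obtain ⟨g, hg⟩ := O.std (O.mem (show 1 < N from h2))
    have : g ∈ stabilizer Γ (f 0) := e ▸ trivial
    exact absurd (O.fam.inj O.fam.pos h2 (this.symm.trans hg)) (by norm_num)
  obtain ⟨g, hg, hg'⟩ := SetLike.exists_of_lt hK
  obtain ⟨o, ho, e⟩ := O.cover_of h.2.2 (O.inv g _ (O.mem O.fam.pos))
  rcases List.mem_cons.1 ho with rfl | ho
  · obtain ⟨i, hi, e⟩ := e
    have : i = 0 := by simpa [Nat.testBit_one_eq_true_iff_self_eq_zero] using hi.2
    exact absurd (this ▸ e).symm hg'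
  obtain ⟨o, ho', rfl⟩ := List.mem_map.1 ho
  obtain ⟨h3, h4, h5⟩ := h.2.1 o ho'
  have hs' : o.1.1 < N := by
    simp only [PM.orbChk, Bool.and_eq_true] at h3
    exact Nat.le_of_ble_eq_true h3.1
  have h6 : ev gen o.2.1 • f 0 = f o.1.1 := O.run (by
    simp only [Bool.and_eq_true]
    exact ⟨⟨Nat.ble_eq_true_of_le O.fam.pos, Nat.ble_eq_true_of_le hs'⟩, h4⟩)
  rw [← O.orbit_eq h3, mem_orbit_sub] at e
  obtain ⟨a, ha, e⟩ := e
  have h7 : ev gen o.2.1 ∈ K := by
    have : g⁻¹ * a * ev gen o.2.1 ∈ K := hK.le (by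
      rw [mem_stabilizer_iff, mul_smul, h6, mul_smul, e, inv_smul_smul])
    rwa [mul_mem_cancel_left (mul_mem (inv_mem hg) (hK.le (hs ▸ ha)))] at this
  have h8 : sub gen (o.2.1 :: ws) ≤ K :=
    (sub_le _).2 (fa_cons h7 fun w hw => hK.le (hs ▸ ev_mem_sub _ hw))
  refine eq_top_iff.2 fun b _ => ?_
  obtain ⟨c, hc, e⟩ := O.pm.orb_sound_bit _ _ O.fam.pos (O.pm.mem_S_full h5 (b • O.pm.dec 0))
  have : c⁻¹ * b ∈ K := hK.le (by
    rw [mem_stabilizer_iff, mul_smul, inv_smul_eq_iff, ← O.coe_dec O.fam.pos]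
    exact congrArg Subtype.val e.symm)
  rwa [mul_mem_cancel_left (inv_mem (h8 hc))] at this

end OM

/-- Column `i` of an array with `n` planes, as a mask. -/
noncomputable def cm (n N A i : Nat) : Nat := selB (fun p => tb A (Nat.add (Nat.mul N p) i)) n

/-- The indices `i` where the array `B`, read through the permutation `T` of the planes, differs
from `C`. -/
noncomputable def difP (n : Nat) (T : Net) (N B C : Nat) : Nat :=
  @Nat.rec (fun _ => Nat) 0 (fun p ih => Nat.lor ih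
    (Nat.xor (pln N B p) (pln N C (Nat.log2 (Net.run T (bit p)))))) n

theorem testBit_difP {n : ℕ} {T : Net} (hT : T.ok n = true) {N B C i : ℕ} (hi : i < N) {k : ℕ}
    (h : (difP k T N B C).testBit i = false) :
    ∀ p < k, B.testBit (N * p + i) = C.testBit (N * T.pt p + i) := by
  induction k with
  | zero => exact fun _ h => absurd h (Nat.not_lt_zero _)
  | succ k ih =>
    have e : difP (k + 1) T N B C = difP k T N B C |||
      (pln N B k ^^^ pln N C (Nat.log2 (Net.run T (bit k)))) := rfl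
    rw [e, Nat.testBit_or, Bool.or_eq_false_iff, Nat.testBit_xor, testBit_pln _ _ _ _ hi,
      testBit_pln _ _ _ _ hi, PM.run_bit hT, bit, show Nat.shiftLeft 1 (T.pt k) = 2 ^ T.pt k by
        rw [← Nat.one_shiftLeft]; rfl, Nat.log2_two_pow] at h
    intro p hp
    rcases Nat.lt_succ_iff_lt_or_eq.1 hp with hp | rfl
    · exact ih h.1 p hp
    · simpa using h.2

/-- The intersection of `f a` over the list. -/
noncomputable def andL {α : Type} (N : Nat) (f : α → Nat) (l : List α) : Nat :=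
  @List.rec α (fun _ => Nat) (full N) (fun a _ ih => Nat.land (f a) ih) l

theorem andL_eq_zero {α : Type} {N : ℕ} {f : α → ℕ} {l : List α} {i : ℕ} (hi : i < N)
    (h : (andL N f l).testBit i = false) : ∃ a ∈ l, (f a).testBit i = false := by
  induction l with
  | nil => exact absurd h (by rw [show andL N f [] = full N from rfl, testBit_full]; simpa using hi)
  | cons a l ih =>
    rw [show andL N f (a :: l) = f a &&& andL N f l from rfl, Nat.testBit_and,
      Bool.and_eq_false_iff] at h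
    rcases h with h | h
    · exact ⟨a, List.mem_cons_self, h⟩
    · obtain ⟨b, h1, h2⟩ := ih h
      exact ⟨b, List.mem_cons_of_mem _ h1, h2⟩

/-- The networks `L'` permute the sets of columns of the arrays `As`. -/
noncomputable def setFamChk (n : Nat) (L : List Net) (N : Nat) (L' : List Net) (As : List Nat)
    (k : Nat) : Bool :=
  allLt (fun l => (fun Bs : List Nat =>
    (Bs.all fun B => Nat.beq (andL N (fun C => difP n (getL Net.nil L l) N B C) As) 0) &&
    (As.all fun C => Nat.beq (andL N (fun B => difP n (getL Net.nil L l) N B C) Bs) 0))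
    (As.map fun A => Net.run (Net.rep (ones N n) (getL Net.nil L' l)) A)) k

/-- The indices whose column is `m`. -/
noncomputable def clsM (N A m n : Nat) : Nat :=
  @Nat.rec (fun _ => Nat) (full N) (fun p ih => @Bool.rec (fun _ => Nat)
    (sdf ih (pln N A p)) (Nat.land ih (pln N A p)) (tb m p)) n

theorem testBit_clsM {N A m i : ℕ} (hi : i < N) {n : ℕ}
    (h : ∀ p < n, A.testBit (N * p + i) = m.testBit p) : (clsM N A m n).testBit i = true := by
  induction n with
  | zero => rw [show clsM N A m 0 = full N from rfl, testBit_full]; simpa using hi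
  | succ n ih =>
    have e : clsM N A m (n + 1) = @Bool.rec (fun _ => Nat) (sdf (clsM N A m n) (pln N A n))
      (clsM N A m n &&& pln N A n) (tb m n) := rfl
    have h1 := ih fun p hp => h p (by omega)
    have h2 := h n (by omega)
    rw [e, tb_eq]
    cases hb : m.testBit n
    · show (sdf _ _).testBit i = true
      rw [testBit_sdf, h1, testBit_pln _ _ _ _ hi, h2, hb]; rfl
    · show Nat.testBit (_ &&& _) i = true
      rw [Nat.testBit_and, h1, testBit_pln _ _ _ _ hi, h2, hb]; rfl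

namespace PM
variable {Γ Ω : Type*} [Group Γ] [MulAction Γ Ω] [Fintype Ω] [DecidableEq Ω] {n : ℕ} {L : List Net}
  (M : PM Γ Ω n L)

theorem mem_col_cm {N A i : ℕ} {x : Ω} : x ∈ M.col N A i ↔ x ∈ M.S (cm n N A i) := by
  rw [mem_col, mem_S, cm, testBit_selB, and_iff_right (M.enc_lt x), tb_eq]; rfl

/-- The set of the columns `i` of the arrays `As`. -/
def cols (N : ℕ) (As : List ℕ) (i : ℕ) : Finset (Finset Ω) := (As.map fun A => M.col N A i).toFinset

theorem mem_cols {N : ℕ} {As : List ℕ} {i : ℕ} {s : Finset Ω} :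
    s ∈ M.cols N As i ↔ ∃ A ∈ As, M.col N A i = s := by
  simp only [cols, List.mem_toFinset, List.mem_map]

theorem smul_col {N : ℕ} {T : Net} (hT : T.ok N = true) {l A C i : ℕ} (hi : i < N)
    (h : (difP n (getL Net.nil L l) N (Net.run (Net.rep (ones N n) T) A) C).testBit (T.pt i) = false) :
    M.gen l • M.col N A i = M.col N C (T.pt i) := by
  ext x
  obtain ⟨x, rfl⟩ := MulAction.surjective (M.gen l) x
  rw [Finset.smul_mem_smul_finset_iff, mem_col, mem_col, M.spec,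
    ← testBit_difP (ok_getL M.ok l) (Net.pt_lt hT hi) h _ (M.enc_lt x),
    Net.testBit_run_rep hT (M.enc_lt x) hi]

theorem setFam_of_chk {N k : ℕ} {As : List ℕ} {L' : List Net} (h0 : 0 < N) (hs : N < 2 ^ 31)
    (hok : netsOk N L' = true) (htop : sub M.gen (lets k) = ⊤)
    (h : setFamChk n L N L' As k = true) {sched : List Word}
    (hr : subs (full N) (orbRun L' (lets k) sched (bit 0)) = true)
    (hc : Nat.beq (andL N (fun A0 => As.foldr (fun A a => Nat.lor (clsM N A (cm n N A0 0) n) a) 0)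
      As) (bit 0) = true) : Fam M.gen k N L' (M.cols N As) where
  pos := h0
  small := hs
  ok := hok
  top := htop
  reach := ⟨sched, hr⟩
  eqv l hl i hi := by
    have h1 := allLt_spec h l hl
    simp only [Bool.and_eq_true, List.all_eq_true, beq_iff, List.mem_map, forall_exists_index,
      and_imp, forall_apply_eq_imp_iff₂] at h1
    have h2 := Net.pt_lt (ok_getL hok l) hi
    ext s
    rw [Finset.mem_smul_finset, mem_cols]
    constructor
    · rintro ⟨_, ht, rfl⟩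
      obtain ⟨A, hA, rfl⟩ := M.mem_cols.1 ht
      obtain ⟨C, hC, e⟩ := andL_eq_zero h2 (by rw [h1.1 A hA]; exact Nat.zero_testBit _)
      exact ⟨C, hC, (M.smul_col (ok_getL hok l) hi e).symm⟩
    · rintro ⟨C, hC, rfl⟩
      obtain ⟨_, hB, e⟩ := andL_eq_zero h2 (by rw [h1.2 C hC]; exact Nat.zero_testBit _)
      obtain ⟨A, hA, rfl⟩ := List.mem_map.1 hB
      exact ⟨_, M.mem_cols.2 ⟨A, hA, rfl⟩, M.smul_col (ok_getL hok l) hi e⟩
  sep i hi e := by
    by_contra hne
    obtain ⟨A0, h1, h2⟩ := andL_eq_zero hi (by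
      rw [beq_iff.1 hc, testBit_bit]; simpa using fun e => hne e.symm)
    obtain ⟨A, h3, h4⟩ := M.mem_cols.1 (e.ge (M.mem_cols.2 ⟨A0, h1, rfl⟩))
    have h5 : (clsM N A (cm n N A0 0) n).testBit i = true := testBit_clsM hi fun p hp => by
      rw [← M.enc_dec p hp, Bool.eq_iff_iff, ← M.mem_col, h4, mem_col_cm, mem_S]
    clear h1 e hc h
    induction As with
    | nil => exact nomatch h3
    | cons B As ih =>
      rw [List.foldr_cons, show ∀ a b, Nat.lor a b = a ||| b from fun _ _ => rfl, Nat.testBit_or,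
        Bool.or_eq_false_iff] at h2
      rcases List.mem_cons.1 h3 with rfl | h3
      · rw [h5] at h2; exact absurd h2.1 (by simp)
      · exact ih h2.2 h3

end PM

end H14
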