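import Cfsg.Agent.H14.Obj
import Mathlib.GroupTheory.SpecificGroups.Alternating

/-! More transport lemmas, small groups as closed lists, induced permutations. -/

set_option autoImplicit false

namespace H14
open MulAction
open scoped Pointwise

section
variable {Γ X : Type*} [Group Γ] [MulAction Γ X]

theorem ne_of_ncard {x y : X} {a : ℕ} (h : (orbit (stabilizer Γ x) y).ncard = a) (ha : a ≠ 1) :
    x ∉ orbit (stabilizer Γ x) y := fun e => ha (by rw [← h, orbit_eq_singleton e, Set.ncard_singleton])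

theorem Orbs.four' {x : X} {T : Set X} {a b c : ℕ} (h : Orbs (stabilizer Γ x) T [1, a, b, c])
    (hx : x ∈ T) (h1 : a ≠ 1 ∧ b ≠ 1 ∧ c ≠ 1) {P : Prop} (hP : P) :
    ∃ X₁ ∈ T, ∃ X₂ ∈ T, ∃ X₃ ∈ T, (orbit (stabilizer Γ x) X₁).ncard = a ∧
      (orbit (stabilizer Γ x) X₂).ncard = b ∧ (orbit (stabilizer Γ x) X₃).ncard = c ∧
      T = {x} ∪ orbit (stabilizer Γ x) X₁ ∪ orbit (stabilizer Γ x) X₂ ∪
        orbit (stabilizer Γ x) X₃ ∧ P := by
  obtain ⟨y, -, u, hu, v, hv, w, hw, -, e1, e2, e3, e⟩ := h.four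
  have := e ▸ hx
  simp only [Set.mem_union, ne_of_ncard e1 h1.1, ne_of_ncard e2 h1.2.1, ne_of_ncard e3 h1.2.2,
    or_false] at this
  exact ⟨u, hu, v, hv, w, hw, e1, e2, e3, orbit_eq_singleton this ▸ e, hP⟩

theorem Orbs.five' {x : X} {T : Set X} {a b c d : ℕ} (h : Orbs (stabilizer Γ x) T [1, a, b, c, d])
    (hx : x ∈ T) (h1 : a ≠ 1 ∧ b ≠ 1 ∧ c ≠ 1 ∧ d ≠ 1) {P : Prop} (hP : P) :
    ∃ X₁ ∈ T, ∃ X₂ ∈ T, ∃ X₃ ∈ T, ∃ X₄ ∈ T, (orbit (stabilizer Γ x) X₁).ncard = a ∧
      (orbit (stabilizer Γ x) X₂).ncard = b ∧ (orbit (stabilizer Γ x) X₃).ncard = c ∧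
      (orbit (stabilizer Γ x) X₄).ncard = d ∧
      T = {x} ∪ orbit (stabilizer Γ x) X₁ ∪ orbit (stabilizer Γ x) X₂ ∪
        orbit (stabilizer Γ x) X₃ ∪ orbit (stabilizer Γ x) X₄ ∧ P := by
  obtain ⟨y, -, u, hu, v, hv, w, hw, z, hz, -, e1, e2, e3, e4, e⟩ := h.five
  have := e ▸ hx
  simp only [Set.mem_union, ne_of_ncard e1 h1.1, ne_of_ncard e2 h1.2.1, ne_of_ncard e3 h1.2.2.1,
    ne_of_ncard e4 h1.2.2.2, or_false] at this
  exact ⟨u, hu, v, hv, w, hw, z, hz, e1, e2, e3, e4, orbit_eq_singleton this ▸ e, hP⟩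

theorem ncard_conj (a : Γ) {P Q : Γ → Prop} (h : ∀ g, P (a * g * a⁻¹) ↔ Q g) :
    {g | P g}.ncard = {g | Q g}.ncard :=
  (Set.ncard_congr (fun g _ => a * g * a⁻¹) (fun g hg => (h g).2 hg)
    (fun _ _ _ _ e => by simpa using e)
    fun g hg => ⟨a⁻¹ * g * a, (h _).1 (by rw [show a * (a⁻¹ * g * a) * a⁻¹ = g by group]; exact hg), by group⟩).symm

theorem card_conj {H K : Subgroup Γ} (a : Γ) (h : ∀ g, a * g * a⁻¹ ∈ K ↔ g ∈ H) :
    Nat.card K = Nat.card H := ncard_conj a h

/-- Transitivity statements are transported along the orbit of the fixed object. -/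
theorem conn_transport {Y : Type*} [MulAction Γ Y] {y0 : Y} {R : Y → X → X → Prop}
    (hR : ∀ (a : Γ) y u v, R (a • y) (a • u) (a • v) → R y u v)
    (h : ∀ u v, R y0 u v → ∃ g ∈ stabilizer Γ y0, g • u = v) {y : Y} (hy : ∃ a : Γ, a • y0 = y)
    {u v : X} (huv : R y u v) : ∃ g : Γ, g • y = y ∧ g • u = v := by
  obtain ⟨a, rfl⟩ := hy
  obtain ⟨u, rfl⟩ := MulAction.surjective a u
  obtain ⟨v, rfl⟩ := MulAction.surjective a v
  obtain ⟨g, h1, rfl⟩ := h u v (hR a _ _ _ huv)
  exact ⟨a * g * a⁻¹, (conj_mem_stab a g _).2 h1, by rw [mul_smul, mul_smul, inv_smul_smul]⟩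

variable [DecidableEq X]

theorem smul_mem_iff_of_stab {s : Finset X} {g : Γ} (hg : g ∈ stabilizer Γ s) (x : X) :
    g • x ∈ s ↔ x ∈ s := by
  conv_lhs => rw [← mem_stabilizer_iff.1 hg]
  exact Finset.smul_mem_smul_finset_iff g

/-- The permutations that the stabiliser of a finite set induces on it. -/
def resHom (Γ : Type*) [Group Γ] [MulAction Γ X] (s : Finset X) : stabilizer Γ s →* Equiv.Perm s where
  toFun g := (MulAction.toPerm (g : Γ)).subtypePerm (smul_mem_iff_of_stab g.2)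
  map_one' := Equiv.ext fun x => Subtype.ext (one_smul Γ x.1)
  map_mul' a b := Equiv.ext fun x => Subtype.ext (mul_smul a.1 b.1 x.1)

theorem resHom_apply {s : Finset X} (g : stabilizer Γ s) (x : s) :
    (resHom Γ s g x : X) = (g : Γ) • (x : X) := rfl

theorem mem_ker_resHom {s : Finset X} {g : stabilizer Γ s} :
    g ∈ (resHom Γ s).ker ↔ ∀ x ∈ s, (g : Γ) • x = x :=
  ⟨fun h x hx => congrArg Subtype.val (Equiv.congr_fun h ⟨x, hx⟩),
    fun h => Equiv.ext fun x => Subtype.ext (h x x.2)⟩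

theorem mem_stab_of_pw {s : Finset X} {g : Γ} (h : ∀ x ∈ s, g • x = x) : g ∈ stabilizer Γ s := by
  rw [mem_stabilizer_iff, ← Finset.image_smul]
  exact (Finset.image_congr h).trans Finset.image_id

theorem card_ker_resHom (s : Finset X) :
    Nat.card (resHom Γ s).ker = {g : Γ | ∀ x ∈ s, g • x = x}.ncard :=
  Nat.card_congr ⟨fun g => ⟨g.1.1, mem_ker_resHom.1 g.2⟩,
    fun g => ⟨⟨g.1, mem_stab_of_pw g.2⟩, mem_ker_resHom.2 g.2⟩, fun _ => rfl, fun _ => rfl⟩

theorem card_range_mul (s : Finset X) : Nat.card (resHom Γ s).range *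
    {g : Γ | ∀ x ∈ s, g • x = x}.ncard = Nat.card (stabilizer Γ s) := by
  rw [← card_ker_resHom, ← Subgroup.index_ker, Subgroup.index_mul_card]

theorem card_perm_coe (s : Finset X) : Nat.card (Equiv.Perm s) = s.card.factorial := by
  rw [Nat.card_eq_fintype_card, Fintype.card_perm, Fintype.card_coe]

/-- A large stabiliser with small kernel induces all permutations. -/
theorem resHom_top [Finite Γ] {s : Finset X} {k : ℕ} (h1 : {g : Γ | ∀ x ∈ s, g • x = x}.ncard ≤ k)
    (h2 : s.card.factorial * k ≤ Nat.card (stabilizer Γ s)) :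
    (resHom Γ s).range = ⊤ ∧ {g : Γ | ∀ x ∈ s, g • x = x}.ncard = k ∧
      Nat.card (stabilizer Γ s) = s.card.factorial * k := by
  have h3 := card_range_mul (Γ := Γ) s
  have h4 : Nat.card (resHom Γ s).range ≤ s.card.factorial :=
    card_perm_coe s ▸ Subgroup.card_le_card_group _
  have h5 : 0 < Nat.card (stabilizer Γ s) := Nat.card_pos
  have h6 := s.card.factorial_pos
  have h7 : {g : Γ | ∀ x ∈ s, g • x = x}.ncard = k := by
    refine le_antisymm h1 (Nat.le_of_mul_le_mul_left (h2.trans ?_) h6)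
    exact h3 ▸ Nat.mul_le_mul_right _ h4
  rw [h7] at h3
  have h8 : Nat.card (resHom Γ s).range = s.card.factorial := by
    refine le_antisymm h4 (Nat.le_of_mul_le_mul_right (h2.trans h3.ge) (Nat.pos_of_ne_zero ?_))
    rintro rfl
    omega
  exact ⟨Subgroup.eq_top_of_card_eq _ (h8.trans (card_perm_coe s).symm), h7, by rw [← h3, h8]⟩

theorem exists_of_top {s : Finset X} (h : (resHom Γ s).range = ⊤) (σ : Equiv.Perm s) :
    ∃ g ∈ stabilizer Γ s, ∀ x : s, g • (x : X) = σ x := by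
  obtain ⟨g, rfl⟩ := h.ge (Subgroup.mem_top σ)
  exact ⟨g, g.2, fun _ => rfl⟩

/-- A group acting faithfully on `k` points with `k !` elements is the symmetric group. -/
theorem equiv_perm_of {H : Subgroup Γ} {s : Finset X} (hH : H ≤ stabilizer Γ s)
    (hf : ∀ g ∈ H, (∀ x ∈ s, g • x = x) → g = 1) {k : ℕ} (hs : s.card = k)
    (hc : Nat.card H = k.factorial) : Nonempty (H ≃* Equiv.Perm (Fin k)) := by
  have hi : Function.Injective ((resHom Γ s).comp (Subgroup.inclusion hH)) :=
    (injective_iff_map_eq_one _).2 fun g hg => Subtype.ext (hf g g.2 (mem_ker_resHom.1 hg))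
  exact ⟨(MulEquiv.ofBijective _ (hi.bijective_of_nat_card_le
    (by rw [card_perm_coe, hs, hc]))).trans (Finset.equivFinOfCardEq hs).permCongrHom⟩

theorem resHom_alt {s : Finset X} {k : ℕ} (h1 : {g : Γ | ∀ x ∈ s, g • x = x}.ncard = k)
    (hk : k ≠ 0) (h2 : Nat.card (stabilizer Γ s) * 2 = s.card.factorial * k) :
    (resHom Γ s).range = alternatingGroup s := by
  refine Equiv.Perm.eq_alternatingGroup_of_index_eq_two ?_
  have h3 := card_range_mul (Γ := Γ) s
  have h4 := (resHom Γ s).range.card_mul_index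
  rw [card_perm_coe] at h4
  rw [← h3, h1, ← h4, mul_right_comm] at h2
  exact (Nat.eq_of_mul_eq_mul_left Nat.card_pos
    (Nat.eq_of_mul_eq_mul_right (Nat.pos_of_ne_zero hk) h2)).symm

end

/-- The base points of a chain, last one first. -/
noncomputable def Lv.pts (c : Lv) : List Nat → List Nat :=
  @Lv.rec (fun _ => List Nat → List Nat) (fun bs => bs) (fun b _ _ _ ih bs => ih (b :: bs)) c

/-- The list of words is closed under multiplication by the generators and their inverses. -/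
noncomputable def clsdChk (n : Nat) (L : List Net) (D : Nat) (ws E : List Word) : Bool :=
  (fun As : List Nat => As.any (Nat.beq (arI n D)) && As.all fun A => ws.all fun s =>
    As.any (Nat.beq (runW (arF n L D) s A)) && As.any (Nat.beq (runW (arF n L D) (invW s) A)))
    (E.map (arW n L D))

namespace PM
variable {Γ Ω : Type*} [Group Γ] [MulAction Γ Ω] {n D : ℕ} {L : List Net} (M : PM Γ Ω n L)

theorem low_fix (c : Lv) {H : Subgroup Γ} [Finite H] {bs : List ℕ}
    (h : sub M.gen c.gens ≤ H ⊓ M.fixL bs) :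
    c.val n L * Nat.card (H ⊓ M.fixL (c.pts bs) : Subgroup Γ) ≤
      Nat.card (H ⊓ M.fixL bs : Subgroup Γ) := by
  induction c generalizing bs with
  | nil => exact (one_mul _).le
  | cons b ws s r ih =>
    have e : (Lv.cons b ws s r).val n L = @Bool.rec (fun _ => Nat) 0
      (@Bool.rec (fun _ => Nat) 0
        (pop n (orbRun L (ws ++ r.gens) s (bit b)) * r.val n L)
        (invChk L r.gens (bit b))) (Nat.ble (b + 1) n) := rfl
    have eg : (Lv.cons b ws s r).gens = ws ++ r.gens := rfl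
    have ep : (Lv.cons b ws s r).pts bs = r.pts (b :: bs) := rfl
    rw [e, ep]
    rw [eg] at h
    cases h1 : Nat.ble (b + 1) n
    · exact (zero_mul _).le.trans (Nat.zero_le _)
    cases h2 : invChk L r.gens (bit b)
    · exact (zero_mul _).le.trans (Nat.zero_le _)
    have hb : b < n := Nat.le_of_ble_eq_true h1
    have := ih (bs := b :: bs) (by
      rw [fixL_cons, ← inf_assoc]
      exact le_inf ((sub_mono _ fun w h => List.mem_append_right _ h).trans h) (M.fix_sound hb h2))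
    have hf := M.finite
    show pop n _ * _ * _ ≤ _
    rw [card_eq_mul (H ⊓ M.fixL bs) (M.dec b), inf_assoc, ← fixL_cons, mul_assoc, mul_comm,
      ← M.ncard_S]
    exact Nat.mul_le_mul this (Set.ncard_le_ncard (fun x hx => by
      obtain ⟨g, hg, e⟩ := M.orb_sound_bit _ _ hb hx
      exact ⟨g, h hg, e⟩) (Set.toFinite _))

/-- An upper bound for a pointwise stabiliser from the order of the group. -/
theorem card_fix_le (c : Lv) {H : Subgroup Γ} (h : sub M.gen c.gens ≤ H) {N k : ℕ}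
    (hN : Nat.card H = N) (hc : (Nat.ble 1 N && Nat.ble (Nat.succ N) (Nat.mul (c.val n L) (Nat.succ k))) = true) :
    Nat.card (H ⊓ M.fixL (c.pts []) : Subgroup Γ) ≤ k := by
  rw [Bool.and_eq_true] at hc
  have h0 : 1 ≤ N := Nat.le_of_ble_eq_true hc.1
  have : Finite H := Nat.finite_of_card_ne_zero (by omega)
  have h1 := M.low_fix c (H := H) (bs := []) (by rwa [fixL_nil, inf_top_eq])
  rw [fixL_nil, inf_top_eq, hN] at h1
  have h2 : N < c.val n L * (k + 1) := Nat.le_of_ble_eq_true hc.2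
  exact Nat.le_of_lt_succ (Nat.lt_of_mul_lt_mul_left (h1.trans_lt h2))

theorem cover_of_closed [FaithfulSMul Γ Ω] (h0 : 0 < n) (hD : n ≤ 2 ^ D) {ws : List Word}
    (E : List Word) (h : clsdChk n L D ws E = true) : Cover M.gen (sub M.gen ws) [E] := by
  simp only [clsdChk, Bool.and_eq_true, List.all_eq_true, List.any_eq_true, List.mem_map,
    forall_exists_index, and_imp, forall_apply_eq_imp_iff₂, beq_iff, exists_exists_and_eq_and,
    arW_run] at h
  have key : ∀ g ∈ sub M.gen ws, ∃ e ∈ E, ev M.gen e = g := fun g hg => by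
    induction hg using Subgroup.closure_induction_left with
    | one =>
      obtain ⟨e, he, h1⟩ := h.1
      exact ⟨e, he, ((M.arW_iff h0 hD (u := [])).1 h1).symm⟩
    | mul_left x hx y _ ih =>
      obtain ⟨s, hs, rfl⟩ := hx
      obtain ⟨e, he, rfl⟩ := ih
      obtain ⟨e', he', h1⟩ := (h.2 e he s hs).1
      exact ⟨e', he', by rw [← (M.arW_iff h0 hD).1 h1, ev_append]⟩
    | inv_mul_cancel x hx y _ ih =>
      obtain ⟨s, hs, rfl⟩ := hx
      obtain ⟨e, he, rfl⟩ := ih
      obtain ⟨e', he', h1⟩ := (h.2 e he s hs).2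
      exact ⟨e', he', by rw [← (M.arW_iff h0 hD).1 h1, ev_append, ev_invW]⟩
  intro g hg
  obtain ⟨e, he, rfl⟩ := key g hg
  exact ⟨e ++ [], by simp only [prods, List.mem_flatMap, List.mem_map, List.mem_singleton]; exact ⟨e, he, [], rfl, rfl⟩,
    by rw [List.append_nil]⟩

theorem card_of_cover {ws : List Word} {Ts : List (List Word)} (h : Cover M.gen (sub M.gen ws) Ts)
    (c : Lv) {N : ℕ} (hc : (Nat.beq (lenP Ts) N && Nat.ble N ((c.sbst ws).val n L)) = true) :
    Nat.card (sub M.gen ws) = N := by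
  rw [Bool.and_eq_true, beq_iff] at hc
  have h1 := h.card_le (Y := sub M.gen ws) le_rfl (F := fun _ => Net.nil) (f := fun _ _ => true)
    (A := 0) fun _ _ => rfl
  have h2 := cntA_eq (fun _ => Net.nil) (fun _ _ => true) Ts [] 0
  simp only [runW_nil, List.filter_true, length_prods] at h2
  have := h1.1
  exact (M.eq_sub_of_low (c := c.sbst ws) (by rw [Lv.gens_sbst]; exact sub_map_flat_le _ _ _)
    (h1.2.trans (h2.trans hc.1).le) hc.2).2

/-- The word fixes all points of the set `m`. -/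
theorem fix_pw_iff (hD : n ≤ 2 ^ D) (w : Word) {m : ℕ} (hm : subs m (full n) = true) :
    (∀ x ∈ M.S m, ev M.gen w • x = x) ↔ subs m (agr n D (arW n L D w) (arI n D)) = true := by
  refine ⟨fun h => beq_iff.2 (Nat.eq_of_testBit_eq fun i => ?_), fun h x hx =>
    (M.mem_S_fix hD w x).1 (M.S_mono h hx)⟩
  rw [show ∀ a b, Nat.land a b = a &&& b from fun _ _ => rfl, Nat.testBit_and]
  cases hb : m.testBit i
  · rfl
  have hi : i < n := by simpa [testBit_full] using subs_spec hm hb
  rw [Bool.true_and, ← tb_eq, ← M.mem_S_dec hi, M.mem_S_fix hD]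
  exact h _ ((M.mem_S_dec hi).2 (by rwa [tb_eq]))

theorem pow_eq_one [FaithfulSMul Γ Ω] (h0 : 0 < n) (hD : n ≤ 2 ^ D) {X : Subgroup Γ}
    {Ts : List (List Word)} (hc : Cover M.gen X Ts) {p : ℕ} (hp : 0 < p)
    (h : enumA (arF n L D) (fun w A => Nat.beq (runW (arF n L D) (powW w (Nat.pred p)) A) (arI n D))
      Ts [] (arI n D) = true) : ∀ g ∈ X, g ^ p = 1 :=
  hc.all h (P := fun g => g ^ p = 1) fun w hw => (M.arW_pow_iff h0 hD hp w).1 (beq_iff.1 hw)

end PM

section nml
variable {Γ : Type*} [Group Γ] {gen : ℕ → Γ}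

/-- The conjugates of the words `ws` by the words `hs`. -/
noncomputable def conjs (ws hs : List Word) : List Word := hs.flatMap fun h => ws.map (conjW · h)

theorem le_normalizer_of [Finite Γ] {ws hs vs : List Word}
    (h : Rels gen (memRels ws (conjs ws hs) vs)) :
    sub gen hs ≤ Subgroup.normalizer (sub gen ws : Set Γ) :=
  (sub_le _).2 fun a ha => Subgroup.mem_normalizer_fintype fun x hx => by
    have : sub gen ws ≤ (sub gen ws).comap (MulAut.conj (ev gen a)).toMonoidHom :=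
      (sub_le _).2 fun w hw => by
        have := sub_le_of_memRels h (ev_mem_sub _ (w := conjW w a)
          (List.mem_flatMap.2 ⟨a, ha, List.mem_map_of_mem hw⟩))
        rwa [ev_conjW] at this
    exact this hx

theorem normal_subgroupOf {N H : Subgroup Γ} (h : H ≤ Subgroup.normalizer (N : Set Γ)) :
    (N.subgroupOf H).Normal :=
  ⟨fun x hx g => (Subgroup.mem_normalizer_iff.1 (h g.2) x.1).1 hx⟩

theorem card_subgroupOf {N H : Subgroup Γ} (h : N ≤ H) :
    Nat.card (N.subgroupOf H) = Nat.card N := Nat.card_congr (Subgroup.subgroupOfEquivOfLe h).toEquiv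

end nml

end H14
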