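import Cfsg.Agent.H14.Obj2
import Cfsg.Agent.H14.Enum4

/-! Covers from lower-bound chains, numbers of fixed points, subgroups of prime order. -/

set_option autoImplicit false

namespace H14
open MulAction
open scoped Pointwise

/-- The transversals of a chain, given as second-level words. -/
noncomputable def Lv.trs (c : Lv) : List (List Word) → List (List Word) :=
  @Lv.rec (fun _ => List (List Word) → List (List Word)) (fun _ => [])
    (fun _ ws _ r ih vs => List.map (flat (List.append ws r.gens)) (vs.headD []) :: ih vs.tail) c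

noncomputable def Lv.trChk (n : Nat) (L : List Net) (c : Lv) : List (List Word) → Bool :=
  @Lv.rec (fun _ => List (List Word) → Bool) (fun _ => true)
    (fun b ws s r ih vs => (Nat.ble (Nat.succ b) n &&
      subs (orbRun L (List.append ws r.gens) s (bit b))
        (trImg L (List.map (flat (List.append ws r.gens)) (vs.headD [])) b)) && ih vs.tail) c

namespace PM
variable {Γ Ω : Type*} [Group Γ] [MulAction Γ Ω] {n D : ℕ} {L : List Net} (M : PM Γ Ω n L)

theorem cover_lv (c : Lv) (vs : List (List Word)) (hf : Finite (sub M.gen c.gens))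
    (h : Nat.card (sub M.gen c.gens) ≤ c.val n L) (hc : c.trChk n L vs = true) :
    Cover M.gen (sub M.gen c.gens) (c.trs vs) := by
  induction c generalizing vs with
  | nil => exact Cover.nil
  | cons b ws s r ih =>
    have e : (Lv.cons b ws s r).val n L = @Bool.rec (fun _ => Nat) 0
      (@Bool.rec (fun _ => Nat) 0
        (pop n (orbRun L (ws ++ r.gens) s (bit b)) * r.val n L)
        (invChk L r.gens (bit b))) (Nat.ble (b + 1) n) := rfl
    have eg : (Lv.cons b ws s r).gens = ws ++ r.gens := rfl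
    have hc' := Bool.and_eq_true_iff.1 hc
    rw [e, eg] at h
    rw [eg] at hf ⊢
    have h0 : 0 < Nat.card (sub M.gen (ws ++ r.gens)) := Nat.card_pos
    revert h
    cases h1 : Nat.ble (b + 1) n
    · exact fun h => absurd (h0.trans_le h) (lt_irrefl _)
    cases h2 : invChk L r.gens (bit b)
    · exact fun h => absurd (h0.trans_le h) (lt_irrefl _)
    intro h
    replace h : _ ≤ pop n _ * _ := h
    have hb : b < n := Nat.le_of_ble_eq_true h1
    have hle : sub M.gen r.gens ≤ sub M.gen (ws ++ r.gens) :=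
      sub_mono _ fun w h => List.mem_append_right _ h
    have hf' : Finite (sub M.gen r.gens) :=
      Finite.of_injective _ (Subgroup.inclusion_injective hle)
    rw [← M.ncard_S] at h
    obtain ⟨e1, e2, e3⟩ := PM.stab_eq rfl h0.ne' (M.dec b) (le_inf hle (M.fix_sound hb h2))
      (fun x hx => M.orb_sound_bit _ _ hb hx) (M.low r hf') h
    refine M.cover_step e1 e2 hc'.1 (ih _ hf' ?_ hc'.2)
    rw [← e3, mul_comm] at h
    exact Nat.le_of_mul_le_mul_left h (Nat.pos_of_mul_pos_left (e3 ▸ h0))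

theorem cover_of_low {A : Subgroup Γ} [Finite A] (c : Lv) (vs : List (List Word)) {N : ℕ}
    (h1 : sub M.gen c.gens ≤ A) (h2 : Nat.card A ≤ N)
    (h3 : (Nat.ble N (c.val n L) && c.trChk n L vs) = true) : Cover M.gen A (c.trs vs) := by
  rw [Bool.and_eq_true] at h3
  obtain ⟨e, -⟩ := M.eq_sub_of_low h1 h2 h3.1
  exact e ▸ M.cover_lv c vs (e ▸ inferInstance) (e ▸ h2.trans (Nat.le_of_ble_eq_true h3.1)) h3.2

/-- All cells of the common refinement of the sets `Ys` are small. -/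
noncomputable def sepL (n : Nat) (Ys : List Nat) : Nat → Bool :=
  @List.rec Nat (fun _ => Nat → Bool) (fun C => Nat.ble (pop n C) 1)
    (fun Y _ ih C => Nat.ble (pop n C) 1 || (ih (Nat.land C Y) && ih (sdf C Y))) Ys

theorem eq_of_sepL {Ys : List ℕ} {C : ℕ} (h : sepL n Ys C = true) {x y : Ω} (hx : x ∈ M.S C)
    (hy : y ∈ M.S C) (e : ∀ Y ∈ Ys, x ∈ M.S Y ↔ y ∈ M.S Y) : x = y := by
  have hf := M.finite
  have key : ∀ C, Nat.ble (pop n C) 1 = true → x ∈ M.S C → y ∈ M.S C → x = y := fun C h hx hy =>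
    (Set.ncard_le_one (Set.toFinite _)).1 (M.ncard_S C ▸ Nat.le_of_ble_eq_true h) x hx y hy
  induction Ys generalizing C with
  | nil => exact key C h hx hy
  | cons Y Ys ih =>
    rcases Bool.or_eq_true_iff.1 h with h | h
    · exact key C h hx hy
    rw [Bool.and_eq_true] at h
    have e' := fun Y h => e Y (List.mem_cons_of_mem _ h)
    by_cases hY : x ∈ M.S Y
    · exact ih h.1 ((M.mem_S_land _ _ _).2 ⟨hx, hY⟩)
        ((M.mem_S_land _ _ _).2 ⟨hy, (e Y List.mem_cons_self).1 hY⟩) e'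
    · exact ih h.2 ((M.mem_S_sdf _ _ _).2 ⟨hx, hY⟩)
        ((M.mem_S_sdf _ _ _).2 ⟨hy, mt (e Y List.mem_cons_self).2 hY⟩) e'

/-- Invariant sets that separate the points. -/
theorem card_le_sep [FaithfulSMul Γ Ω] {A : Subgroup Γ} {Ys : List ℕ} (hY : ∀ Y ∈ Ys, M.Inv A Y)
    (h : sepL n Ys (full n) = true) : Nat.card A ≤ 1 := by
  have : A = ⊥ := (Subgroup.eq_bot_iff_forall _).2 fun g hg =>
    eq_of_smul_eq_smul (α := Ω) fun x => by
      rw [one_smul]
      exact M.eq_of_sepL h (M.mem_S_full' _) (M.mem_S_full' _) fun Y hY' => (hY Y hY').iff hg x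
  rw [this, Subgroup.card_bot]

end PM

section nfix
variable {Γ : Type*} [Group Γ]

/-- The number of fixed points. -/
noncomputable def nfix (Ω : Type*) [MulAction Γ Ω] (g : Γ) : ℕ := {x : Ω | g • x = x}.ncard

theorem nfix_conj {Ω : Type*} [MulAction Γ Ω] {g t z : Γ} (h : g * t * g⁻¹ = z) :
    nfix Ω t = nfix Ω z := by
  have := ncard_fix_conj (T := (Set.univ : Set Ω)) (fun _ _ _ => trivial) h
  simpa [nfix] using this

theorem nfix_inv {Ω : Type*} [MulAction Γ Ω] (g : Γ) : nfix Ω g⁻¹ = nfix Ω g :=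
  congrArg Set.ncard (Set.ext fun _ => inv_smul_eq_iff.trans eq_comm)

theorem PM.nfix_ev {Ω : Type*} [MulAction Γ Ω] {n D : ℕ} {L : List Net} (M : PM Γ Ω n L)
    (hD : n ≤ 2 ^ D) (u : Word) {k : ℕ}
    (h : Nat.beq (pop n (agr n D (arW n L D u) (arI n D))) k = true) : nfix Ω (ev M.gen u) = k :=
  (M.ncard_fix hD u).trans (beq_iff.1 h)

theorem nfix_eq_zero {Ω : Type*} [MulAction Γ Ω] [Finite Ω] {g : Γ} :
    nfix Ω g = 0 ↔ ∀ x : Ω, g • x ≠ x := by
  rw [nfix, Set.ncard_eq_zero (Set.toFinite _), Set.eq_empty_iff_forall_notMem]; rfl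

theorem nfix_eq_card {Ω : Type*} [MulAction Γ Ω] [Fintype Ω] [DecidableEq Ω] (g : Γ) :
    (Finset.univ.filter fun p : Ω => g • p = p).card = nfix Ω g := by
  rw [nfix, ← Set.ncard_coe_finset]; congr 1; ext; simp

theorem fix_conj {Ω : Type*} [MulAction Γ Ω] [Fintype Ω] [DecidableEq Ω] {g t z : Γ}
    (h : g * t * g⁻¹ = z) : (Finset.univ.filter fun p : Ω => z • p = p) =
      g • Finset.univ.filter fun p : Ω => t • p = p := by
  ext x
  simp only [Finset.mem_filter, Finset.mem_univ, true_and, ← Finset.inv_smul_mem_iff, ← h, mul_smul,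
    smul_eq_iff_eq_inv_smul]

/-- A subgroup of prime order is generated by an element of that order. -/
theorem exists_zpowers_eq {X : Subgroup Γ} {p : ℕ} (hp : p.Prime) (h : Nat.card X = p) :
    ∃ x, orderOf x = p ∧ Subgroup.zpowers x = X := by
  have := Fact.mk hp
  obtain ⟨x, hx⟩ := (Subgroup.isCyclic_iff_exists_zpowers_eq_top X).1 (isCyclic_of_prime_card h)
  exact ⟨x, by rw [← Nat.card_zpowers, hx, h], hx⟩

theorem conj_zpowers {g t z : Γ} (h : g * t * g⁻¹ = z) :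
    MulAut.conj g • Subgroup.zpowers t = Subgroup.zpowers z := by
  rw [← h]; exact MonoidHom.map_zpowers _ _

theorem fix_zpowers {Ω : Type*} [MulAction Γ Ω] (x : Γ) :
    {p : Ω | ∀ y ∈ Subgroup.zpowers x, y • p = p}.ncard = nfix Ω x :=
  congrArg Set.ncard (Set.ext fun p => ⟨fun h => h x (Subgroup.mem_zpowers x), fun h =>
    show Subgroup.zpowers x ≤ stabilizer Γ p from Subgroup.zpowers_le_of_mem h⟩)

theorem sub_single (gen : ℕ → Γ) (w : Word) : sub gen [w] = Subgroup.zpowers (ev gen w) := by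
  rw [sub, Subgroup.zpowers_eq_closure]; congr 1; ext; simp [eq_comm]

theorem conj_trans {a b t u z : Γ} (h1 : a * t * a⁻¹ = z) (h2 : b * u * b⁻¹ = z) :
    ∃ k, k * t * k⁻¹ = u := ⟨b⁻¹ * a, by
  rw [show b⁻¹ * a * t * (b⁻¹ * a)⁻¹ = b⁻¹ * (a * t * a⁻¹) * b by group, h1, ← h2]; group⟩

theorem centralizer_zpowers (x : Γ) :
    Subgroup.centralizer (Subgroup.zpowers x : Set Γ) = Subgroup.centralizer {x} := by
  rw [Subgroup.zpowers_eq_closure, Subgroup.centralizer_closure]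

theorem card_inf_sub (H K : Subgroup Γ) :
    Nat.card (H ⊓ K : Subgroup Γ) = {g : H | (g : Γ) ∈ K}.ncard :=
  Nat.card_congr ⟨fun g => ⟨⟨g.1, g.2.1⟩, g.2.2⟩, fun g => ⟨g.1.1, g.1.2, g.2⟩, fun _ => rfl,
    fun _ => rfl⟩

theorem card_sub_sub (H : Subgroup Γ) (P : Γ → Prop) :
    Nat.card {g : Γ // g ∈ H ∧ P g} = {g : H | P g}.ncard :=
  Nat.card_congr ⟨fun g => ⟨⟨g.1, g.2.1⟩, g.2.2⟩, fun g => ⟨g.1.1, g.1.2, g.2⟩, fun _ => rfl,
    fun _ => rfl⟩

theorem conj_mem_inf {H K H' K' : Subgroup Γ} {g : Γ} (h : ∀ a, g * a * g⁻¹ ∈ H' ↔ a ∈ H)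
    (h' : ∀ a, g * a * g⁻¹ ∈ K' ↔ a ∈ K) (a : Γ) : g * a * g⁻¹ ∈ H' ⊓ K' ↔ a ∈ H ⊓ K :=
  and_congr (h a) (h' a)

theorem conj_pw {Ω : Type*} [MulAction Γ Ω] [DecidableEq Ω] (g : Γ) (s : Finset Ω) (a : Γ) :
    (∀ x ∈ g • s, (g * a * g⁻¹) • x = x) ↔ ∀ x ∈ s, a • x = x := by
  refine ⟨fun h x hx => ?_, fun h x hx => ?_⟩
  · simpa [mul_smul] using h _ (Finset.smul_mem_smul_finset hx)
  · obtain ⟨y, hy, rfl⟩ := Finset.mem_smul_finset.1 hx
    simp [mul_smul, h y hy]

theorem ncard_pw {Ω : Type*} [MulAction Γ Ω] [DecidableEq Ω] (g : Γ) (s : Finset Ω) :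
    {a : Γ | ∀ x ∈ g • s, a • x = x}.ncard = {a : Γ | ∀ x ∈ s, a • x = x}.ncard :=
  ncard_conj g (conj_pw g s)

theorem card_stab_smul {Ω : Type*} [MulAction Γ Ω] (g : Γ) (x : Ω) :
    Nat.card (stabilizer Γ (g • x)) = Nat.card (stabilizer Γ x) :=
  card_conj g fun a => conj_mem_stab g a x

theorem conj_mem_nml {g : Γ} {X Y : Subgroup Γ} (h : MulAut.conj g • X = Y) (a : Γ) :
    g * a * g⁻¹ ∈ Subgroup.normalizer (Y : Set Γ) ↔ a ∈ Subgroup.normalizer (X : Set Γ) := by
  have hm : ∀ x, g * x * g⁻¹ ∈ Y ↔ x ∈ X := fun x => h ▸ Subgroup.smul_mem_pointwise_smul_iff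
  simp only [Subgroup.mem_normalizer_iff, SetLike.mem_coe]
  refine ⟨fun h' x => ?_, fun h' y => ?_⟩
  · rw [← hm, ← hm, h']; exact iff_of_eq (congrArg _ (by group))
  · obtain ⟨x, rfl⟩ := (MulAut.conj g).surjective y
    rw [MulAut.conj_apply, hm, h', ← hm]; exact iff_of_eq (congrArg _ (by group))

end nfix

namespace OM
variable {Γ X : Type*} [Group Γ] [MulAction Γ X] {gen : ℕ → Γ} {T : Set X} {N : ℕ} {L : List Net}
  {f : ℕ → X} (O : OM gen T N L f)
include O

/-- No object is fixed by all the words. -/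
theorem no_fix {D : ℕ} (hD : N ≤ 2 ^ D) {ws : List Word}
    (h : Nat.beq (andL N (fun w => agr N D (arW N L D w) (arI N D)) ws) 0 = true) {x : X}
    (hx : x ∈ T) : ∃ g ∈ sub gen ws, g • x ≠ x := by
  obtain ⟨i, hi, rfl⟩ := O.idx hx
  obtain ⟨w, hw, e⟩ := andL_eq_zero hi (by rw [beq_iff.1 h]; exact Nat.zero_testBit i)
  refine ⟨_, ev_mem_sub _ hw, fun e' => ?_⟩
  have := (O.pm.mem_S_fix hD w (O.pm.dec i)).2 (Subtype.ext (by
    show ev gen w • ((O.pm.dec i : orbit Γ (f 0)) : X) = _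
    rw [O.coe_dec hi, e']))
  rw [PM.mem_S, O.pm.enc_dec i hi, e] at this
  exact Bool.false_ne_true this

theorem ncard_fix' {D : ℕ} (hD : N ≤ 2 ^ D) {w : Word} {g t : Γ} (h : g * t * g⁻¹ = ev gen w)
    {k : ℕ} (hk : Nat.beq (pop N (agr N D (arW N L D w) (arI N D))) k = true) :
    {x | x ∈ T ∧ t • x = x}.ncard = k :=
  (ncard_fix_conj O.inv h).trans ((O.ncard_fix hD w).trans (beq_iff.1 hk))

end OM

end H14
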