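import Cfsg.Agent.H14.OutK
import Cfsg.Agent.H15.DC3

/-! The two-point stabilisers `St H x = H ⊓ x H x⁻¹` read off a closed double coset enumeration (`cl_st`). -/

set_option autoImplicit false

namespace H14
open L H15.DC MulAction

variable {Γ G : Type*} [Group Γ] [Group G]

/-- the stabiliser in `H` of the coset of `x` -/
def St (H : Subgroup G) (x : G) : Subgroup G := H ⊓ stabilizer G (x : G ⧸ H)

theorem mem_St {H : Subgroup G} {x y : G} : y ∈ St H x ↔ y ∈ H ∧ x⁻¹ * y * x ∈ H :=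
  and_congr_right fun _ => (QuotientGroup.eq.trans (by simp [mul_assoc])).trans inv_mem_iff

theorem St_le (H : Subgroup G) (x : G) : St H x ≤ H := inf_le_left

theorem mem_St_mul {H : Subgroup G} {h k x y : G} (hh : h ∈ H) (hk : k ∈ H) :
    y ∈ St H (h * x * k) ↔ h⁻¹ * y * h ∈ St H x := by
  rw [mem_St, mem_St, mul_mem_cancel_right hh, mul_mem_cancel_left (inv_mem hh),
    show (h * x * k)⁻¹ * y * (h * x * k) = k⁻¹ * (x⁻¹ * (h⁻¹ * y * h) * x) * k by group,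
    mul_mem_cancel_right hk, mul_mem_cancel_left (inv_mem hk)]

theorem card_St {θ : Γ →* G} (hθ : Function.Injective θ) (x : G) :
    Nat.card (St θ.range x) * (Ob θ (x : G ⧸ θ.range)).ncard = Nat.card Γ := by
  rw [ncard_range, St, ← Subgroup.map_comap_eq, Subgroup.card_map_of_injective hθ, Subgroup.card_mul_index]

theorem cl_st {Ω : Type*} [MulAction Γ Ω] {n : ℕ} {Ls : List Net} {M : PM Γ Ω n Ls}
    {st : ℕ → ℕ → ℕ} {P0 A B K0 : ℕ} {E : Ev Γ st P0} {θ : Γ →* G} {T : G} {row : ℕ → ℕ}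
    {F : ℕ → ℕ → ℕ} [PtF n Ls F] {nF p0 O N : ℕ} {cs : List CI} (h : Cl M A B K0 E θ T row F nF p0 O N cs)
    (hθ : Function.Injective θ) (hi : θ.range.index = 1 + (cs.map CI.m).sum) :
    ∃ m : ℕ → G, m 1 = T ∧ (∀ c ∈ cs, Nat.card (St θ.range (m c.i)) * c.m = N ∧
      ∀ w ∈ c.c.gens, θ (ev M.gen w) ∈ St θ.range (m c.i)) ∧
      ∀ x, x ∈ θ.range ∨ ∃ c ∈ cs, Nat.card (St θ.range x) * c.m = N ∧
        ∃ a ∈ θ.range, ∃ b ∈ θ.range, x = a * m c.i * b := by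
  refine ⟨gel E θ T row, h.gel_one, fun c hc => ⟨?_, fun w hw => ⟨⟨_, rfl⟩, h.le_stab hc (ev_mem_sub _ hw)⟩⟩,
    fun x => ?_⟩
  · rw [← h.ncard_eq hi hc, ← h.card]; exact card_St hθ _
  obtain ⟨j, hj, y, e⟩ := h.cover (x : G ⧸ θ.range)
  rcases List.mem_cons.1 hj with rfl | hj
  · refine Or.inl ?_
    rw [om, gel] at e
    have : (θ y * 1)⁻¹ * x ∈ θ.range := QuotientGroup.eq.1 e
    exact (mul_mem_cancel_left (inv_mem (mul_mem (show _ ∈ θ.range from ⟨y, rfl⟩) (one_mem _)))).1 this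
  obtain ⟨c, hc, rfl⟩ := List.mem_map.1 hj
  refine Or.inr ⟨c, hc, ?_, θ y, ⟨y, rfl⟩, (θ y * gel E θ T row c.i)⁻¹ * x, QuotientGroup.eq.1 e, by group⟩
  rw [← h.ncard_eq hi hc, ← h.card, ← card_St hθ x, ← e]
  congr 2
  ext z
  exact ⟨fun ⟨g, e⟩ => ⟨g * y⁻¹, by simpa [mul_smul] using e⟩,
    fun ⟨g, e⟩ => ⟨g * y, by simpa [mul_smul] using e⟩⟩

end H14
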