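import Cfsg.Agent.L.Out2

/-! Small lemmas for outer automorphism groups: `rels_def_take`, `syl_conj` (an element of order `p` is
conjugate into a Sylow subgroup), `inner_on` (automorphisms normalising the image of a complete group),
`fpf_spec`. -/

set_option autoImplicit false

namespace H14
open Cfsg L

theorem rels_def_take {G : Type*} [Group G] {gen : ℕ → G} {ds : List Word} {k : ℕ}
    (h : Rels gen (defRels ds k)) (j : ℕ) : Rels gen (defRels (List.take j ds) k) := by
  induction j generalizing ds k with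
  | zero => exact fun _ h => nomatch h
  | succ j ih =>
    cases ds with
    | nil => exact fun _ h => nomatch h
    | cons d ds =>
      exact fa_cons (h _ List.mem_cons_self) (ih fun p hp => h p (List.mem_cons_of_mem _ hp))

theorem syl_conj {G : Type*} [Group G] [Finite G] {p k : ℕ} (hp : p.Prime) {K P Q : Subgroup G} (hP : P ≤ K)
    (hc : Nat.card P = p ^ k) (hK : ¬ p ^ (k + 1) ∣ Nat.card K) (hQ : Q ≤ K) (hq : IsPGroup p Q) :
    ∃ x ∈ K, ∀ y ∈ Q, x⁻¹ * y * x ∈ P := by
  have := Fact.mk hp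
  have h1 : Nat.card (P.subgroupOf K) = p ^ k := by
    rw [Nat.card_congr (Subgroup.subgroupOfEquivOfLe hP).toEquiv, hc]
  have h2 : ¬ p ∣ (P.subgroupOf K).index := fun h => hK (by
    rw [← (P.subgroupOf K).card_mul_index, h1, pow_succ]
    exact Nat.mul_dvd_mul_left _ h)
  obtain ⟨R, hR⟩ := (hq.comap_of_injective K.subtype K.subtype_injective).exists_le_sylow
  obtain ⟨x, hx⟩ := MulAction.exists_smul_eq K R ((IsPGroup.of_card h1).toSylow h2)
  refine ⟨(x⁻¹ : K), x⁻¹.2, fun y hy => ?_⟩
  have : MulAut.conj x • (⟨y, hQ hy⟩ : K) ∈ ((x • R : Sylow p K) : Subgroup K) :=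
    Subgroup.smul_mem_pointwise_smul _ _ _ (hR hy)
  rw [hx] at this
  simpa using Subgroup.mem_subgroupOf.1 this

theorem inner_on {G Y : Type*} [Group G] [Group Y] [Finite Y] {θ : Y →* G} (hθ : Function.Injective θ)
    (h : ∀ α : MulAut Y, ∃ y, MulAut.conj y * α = 1) (γ : MulAut G) (hγ : ∀ y, γ (θ y) ∈ θ.range) :
    ∃ x, ∀ y, (MulAut.conj x * γ : MulAut G) (θ y) = θ y := by
  choose f hf using hγ
  let ψ : Y →* Y := MonoidHom.mk' f fun a b => hθ (by simp only [hf, map_mul])
  have b : Function.Injective ψ := fun a b e => hθ (γ.injective (by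
    rw [← hf, ← hf]; exact congrArg θ e))
  obtain ⟨y, e⟩ := h (MulEquiv.ofBijective ψ ⟨b, Finite.surjective_of_injective b⟩)
  refine ⟨θ y, fun z => ?_⟩
  have := congrArg θ (DFunLike.congr_fun e z)
  rw [MulAut.mul_apply, MulAut.conj_apply, map_mul, map_mul, map_inv] at this
  rw [MulAut.mul_apply, MulAut.conj_apply, ← hf]
  exact this

theorem out_one_of {G : Type*} [Group G] (h : ∀ α : MulAut G, ∃ x, MulAut.conj x * α = 1) :
    Nat.card (Out G) = 1 := by
  refine Nat.card_eq_one_iff_exists.2 ⟨1, fun y => ?_⟩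
  obtain ⟨α, rfl⟩ := QuotientGroup.mk_surjective y
  obtain ⟨g, h1⟩ := h α
  exact mk_eq_of h1

/-- the word `w` moves every point -/
noncomputable def fpf (n : ℕ) (L : List Net) (w : Word) : Bool :=
  Nat.beq (mvRun n L w) (Nat.sub (Nat.pow 2 n) 1)

theorem fpf_spec {G Ω : Type*} [Group G] [MulAction G Ω] {n : ℕ} {L : List Net} (M : PM G Ω n L) {w : Word}
    (h : fpf n L w = true) (x : Ω) : ev M.gen w • x ≠ x := fun e => not_mem_mvRun (M := M) e (by
  rw [PM.mem_S, Nat.eq_of_beq_eq_true h]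
  exact (Nat.testBit_two_pow_sub_one n _).trans (decide_eq_true (M.enc_lt x)))

end H14
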