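import Cfsg.Agent.H14.OutC

/-! Polycyclic series read off relations: normalisers (`norm_of_mem`), `p`-groups (`pg_cons`, `card_pg`),
commutator subgroups (`comm_le`), characters of a torus (`chi`), abelian groups on two generators (`ab2`). -/

set_option autoImplicit false

namespace H14
open L Subgroup
open scoped commutatorElement

variable {G : Type*} [Group G]

/-- the word of `w * u * w⁻¹` -/
noncomputable def cjW (w u : Word) : Word := invW w ++ (u ++ w)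
/-- the word of `⁅a, b⁆` -/
noncomputable def cmW (a b : Word) : Word := invW b ++ (invW a ++ (b ++ a))
/-- all commutators -/
noncomputable def pairsW (ws : List Word) : List Word := ws.flatMap fun a => ws.map (cmW a)
/-- `w` normalises the group generated by `ws` -/
noncomputable def nmRels (w : Word) (ws vs : List Word) : List (Word × Word) := memRels ws (ws.map (cjW w)) vs

theorem ev_cjW (x : ℕ → G) (w u : Word) : ev x (cjW w u) = ev x w * ev x u * (ev x w)⁻¹ := by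
  simp [cjW, mul_assoc]

theorem ev_cmW (x : ℕ → G) (a b : Word) : ev x (cmW a b) = ⁅ev x a, ev x b⁆ := by
  simp [cmW, mul_assoc, commutatorElement_def]

theorem rels_map {G' : Type*} [Group G'] (f : G →* G') {x : ℕ → G} {l : List (Word × Word)} (h : Rels x l) :
    Rels (fun i => f (x i)) l := fun p hp => by rw [← map_ev, ← map_ev, h p hp]

theorem norm_of_le [Finite G] {X : Subgroup G} {g : G} (h : X ≤ X.comap (MulAut.conj g).toMonoidHom) :
    g ∈ normalizer (X : Set G) := mem_normalizer_fintype fun _ hn => h hn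

theorem norm_of_mem [Finite G] {x : ℕ → G} {w : Word} {ws vs : List Word} (h : Rels x (nmRels w ws vs)) :
    ev x w ∈ normalizer (sub x ws : Set G) := norm_of_le ((sub_le _).2 fun u hu => by
  have := sub_le_of_memRels h (ev_mem_sub _ (List.mem_map_of_mem hu))
  rwa [ev_cjW] at this)

theorem sub_cons (x : ℕ → G) (w : Word) (ws : List Word) : sub x (w :: ws) = zpowers (ev x w) ⊔ sub x ws :=
  le_antisymm ((sub_le _).2 (fa_cons (mem_sup_left (mem_zpowers _)) fun _ h => mem_sup_right (ev_mem_sub _ h)))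
    (sup_le ((zpowers_le).2 (ev_mem_sub _ List.mem_cons_self)) (sub_mono _ fun _ => List.mem_cons_of_mem _))

theorem pg_zp {p k : ℕ} {y : G} (h : y ^ p ^ k = 1) : IsPGroup p (zpowers y) := fun ⟨_, j, rfl⟩ =>
  ⟨k, Subtype.ext (show (y ^ j) ^ p ^ k = 1 by
    rw [← zpow_natCast, ← zpow_mul, mul_comm, zpow_mul, zpow_natCast, h, one_zpow])⟩

theorem pg_cons {p : ℕ} {x : ℕ → G} {w : Word} {ws : List Word} (hw : ev x w ^ p = 1)
    (hn : ev x w ∈ normalizer (sub x ws : Set G)) (h : IsPGroup p (sub x ws)) : IsPGroup p (sub x (w :: ws)) := by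
  rw [sub_cons]
  exact (pg_zp (k := 1) (by rwa [pow_one])).to_sup_of_normal_right' h ((zpowers_le).2 hn)

theorem mem_cons [Finite G] {x : ℕ → G} {w : Word} {ws : List Word}
    (hn : ev x w ∈ normalizer (sub x ws : Set G)) {y : G} (hy : y ∈ sub x (w :: ws)) :
    ∃ j : ℕ, ∃ d ∈ sub x ws, ev x w ^ j * d = y := by
  rw [sub_cons, ← SetLike.mem_coe, coe_mul_of_left_le_normalizer_right _ _ ((zpowers_le).2 hn)] at hy
  obtain ⟨a, ha, d, hd, e⟩ := hy
  obtain ⟨j, rfl⟩ := mem_powers_iff_mem_zpowers.2 ha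
  exact ⟨j, d, hd, e⟩

theorem dvd_pg [Finite G] {p k : ℕ} (hp : p.Prime) (h : IsPGroup p G) (hk : p ^ k ≤ Nat.card G) :
    p ^ k ∣ Nat.card G := by
  have := Fact.mk hp
  obtain ⟨m, e⟩ := IsPGroup.iff_card.1 h
  rw [e] at hk ⊢
  exact pow_dvd_pow _ ((Nat.pow_le_pow_iff_right hp.one_lt).1 hk)

theorem card_pg [Finite G] {p k : ℕ} (hp : p.Prime) (h : IsPGroup p G) (hk : p ^ k ≤ Nat.card G)
    (hk' : ¬ p ^ (k + 1) ∣ Nat.card G) : Nat.card G = p ^ k := by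
  have := Fact.mk hp
  obtain ⟨m, e⟩ := IsPGroup.iff_card.1 h
  rw [e] at hk hk' ⊢
  rw [le_antisymm (not_lt.1 fun a => hk' (pow_dvd_pow _ a)) ((Nat.pow_le_pow_iff_right hp.one_lt).1 hk)]

theorem comm_le {x : ℕ → G} {ws vs : List Word} {N : List Word} (hn : sub x ws ≤ normalizer (sub x N : Set G))
    (h : Rels x (memRels N (pairsW ws) vs)) : ⁅sub x ws, sub x ws⁆ ≤ sub x N := by
  have key : ∀ b, (∀ w ∈ ws, ⁅ev x w, b⁆ ∈ sub x N) → ∀ a ∈ sub x ws, ⁅a, b⁆ ∈ sub x N := fun b hb a ha => by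
    induction ha using closure_induction with
    | mem a ha => obtain ⟨w, hw, rfl⟩ := ha; exact hb w hw
    | one => simp [one_mem]
    | mul a a' ha _ h1 h2 =>
      rw [show ⁅a * a', b⁆ = a * ⁅a', b⁆ * a⁻¹ * ⁅a, b⁆ by simp [commutatorElement_def, mul_assoc]]
      exact mul_mem ((mem_normalizer_iff.1 (hn ha) _).1 h2) h1
    | inv a ha h1 =>
      rw [show ⁅a⁻¹, b⁆ = a⁻¹ * ⁅a, b⁆⁻¹ * a by simp [commutatorElement_def, mul_assoc]]
      exact (mem_normalizer_iff''.1 (hn ha) _).1 (inv_mem h1)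
  refine commutator_le.2 fun a ha b hb => key b (fun w hw => ?_) a ha
  rw [← commutatorElement_inv, inv_mem_iff]
  refine key _ (fun v hv => ?_) b hb
  rw [← ev_cmW]
  exact sub_le_of_memRels h (ev_mem_sub _ (List.mem_flatMap.2 ⟨v, hv, List.mem_map_of_mem hw⟩))

theorem norm_comm {X : Subgroup G} {g : G} (h : g ∈ normalizer (X : Set G)) :
    g ∈ normalizer ((⁅X, X⁆ : Subgroup G) : Set G) := by
  rw [mem_normalizer_iff_map_conj_eq] at h ⊢
  rw [map_commutator, h]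

theorem chi {N : Subgroup G} {x s d : G} {p c a j : ℕ} (hp : p.Prime) (hx : x ∈ normalizer (N : Set G))
    (hs : s ∈ normalizer (N : Set G)) (h1 : x ^ p = 1) (h2 : s⁻¹ * x * s = x ^ c) (hd : d ∈ N)
    (h3 : x ^ j * d ∉ N) (h4 : s⁻¹ * (x ^ j * d) * s * ((x ^ j * d) ^ a)⁻¹ ∈ N) : c ≡ a [MOD p] := by
  have := Fact.mk hp
  have hd' := le_normalizer hd
  let π := QuotientGroup.mk' (N.subgroupOf (normalizer (N : Set G)))
  have k : ∀ y, π y = 1 ↔ (y : G) ∈ N := fun y => QuotientGroup.eq_one_iff y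
  have e1 : π ⟨d, hd'⟩ = 1 := (k _).2 hd
  have e2 : π ⟨x, hx⟩ ^ j ≠ 1 := fun e => h3 ((k (⟨x, hx⟩ ^ j * ⟨d, hd'⟩)).1 (by rw [map_mul, map_pow, e, e1, one_mul]))
  have e3 : π ⟨x, hx⟩ ^ p = 1 := by rw [← map_pow, k]; simp [h1, one_mem]
  have e4 : (π ⟨s, hs⟩)⁻¹ * π ⟨x, hx⟩ * π ⟨s, hs⟩ = π ⟨x, hx⟩ ^ c := by
    rw [← map_inv, ← map_mul, ← map_mul, ← map_pow]; exact congrArg π (Subtype.ext h2)
  have e5 := (k (⟨s, hs⟩⁻¹ * (⟨x, hx⟩ ^ j * ⟨d, hd'⟩) * ⟨s, hs⟩ * ((⟨x, hx⟩ ^ j * ⟨d, hd'⟩) ^ a)⁻¹)).2 h4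
  simp only [map_mul, map_inv, map_pow, e1, mul_one, mul_inv_eq_one] at e5
  generalize π ⟨x, hx⟩ = X at *
  generalize π ⟨s, hs⟩ = S at *
  have e6 : S⁻¹ * X ^ j * S = (S⁻¹ * X * S) ^ j := by simpa using (conj_pow (a := S⁻¹) (b := X) (i := j)).symm
  rw [e6, e4, pow_right_comm, pow_eq_pow_iff_modEq,
    orderOf_eq_prime (by rw [pow_right_comm, e3, one_pow]) e2] at e5
  exact e5

/-- the group generated by two commuting elements -/
def ab2 {a b : G} {n : ℕ} (hc : Commute a b) (ha : a ^ (n + 1) = 1) (hb : b ^ (n + 1) = 1) : Subgroup G where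
  carrier := {v | ∃ i j : ℕ, a ^ i * b ^ j = v}
  one_mem' := ⟨0, 0, by simp⟩
  mul_mem' := by
    rintro _ _ ⟨i, j, rfl⟩ ⟨k, l, rfl⟩
    exact ⟨i + k, j + l, by
      rw [pow_add, pow_add, mul_assoc, mul_assoc, ← mul_assoc (a ^ k), (hc.pow_pow k j).eq, mul_assoc]⟩
  inv_mem' := by
    rintro _ ⟨i, j, rfl⟩
    refine ⟨n * i, n * j, eq_inv_of_mul_eq_one_left ?_⟩
    rw [mul_assoc, ← mul_assoc (b ^ _), ← (hc.pow_pow i _).eq, mul_assoc, ← mul_assoc, ← pow_add, ← pow_add,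
      show n * i + i = (n + 1) * i by ring, show n * j + j = (n + 1) * j by ring, pow_mul, pow_mul, ha, hb]
    simp

section
variable {a b : G} {n : ℕ} {hc : Commute a b} {ha : a ^ (n + 1) = 1} {hb : b ^ (n + 1) = 1}

theorem mem_ab2 {v : G} (h : v ∈ ab2 hc ha hb) : ∃ i < n + 1, ∃ j < n + 1, a ^ i * b ^ j = v := by
  obtain ⟨i, j, rfl⟩ := h
  exact ⟨_, Nat.mod_lt i n.succ_pos, _, Nat.mod_lt j n.succ_pos, by
    rw [← pow_eq_pow_mod _ ha, ← pow_eq_pow_mod _ hb]⟩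

theorem ab2_le {K : Subgroup G} (h1 : a ∈ K) (h2 : b ∈ K) : ab2 hc ha hb ≤ K := by
  rintro _ ⟨i, j, rfl⟩
  exact mul_mem (pow_mem h1 i) (pow_mem h2 j)

theorem card_ab2 (h : ∀ i < n + 1, ∀ j < n + 1, ∀ k < n + 1, ∀ l < n + 1,
    a ^ i * b ^ j = a ^ k * b ^ l → i = k ∧ j = l) : Nat.card (ab2 hc ha hb) = (n + 1) ^ 2 := by
  rw [← Nat.card_eq_of_bijective (fun p : Fin (n + 1) × Fin (n + 1) => (⟨_, p.1, p.2, rfl⟩ : ab2 hc ha hb))
    ⟨fun p q e => ?_, fun v => ?_⟩]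
  · simp [sq]
  · obtain ⟨u, v⟩ := h _ p.1.2 _ p.2.2 _ q.1.2 _ q.2.2 (congrArg Subtype.val e)
    exact Prod.ext (Fin.ext u) (Fin.ext v)
  · obtain ⟨i, hi, j, hj, e⟩ := mem_ab2 v.2
    exact ⟨(⟨i, hi⟩, ⟨j, hj⟩), Subtype.ext e⟩

end

theorem cjp (x y : G) (k : ℕ) : x⁻¹ * y ^ k * x = (x⁻¹ * y * x) ^ k := by
  simpa using (conj_pow (a := x⁻¹) (b := y) (i := k)).symm

end H14
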