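import Cfsg.Agent.H29.Q0

/-! Overgroups of `Ω₃(K)`: rotations normalise no member through their axis (`pF2`). -/

set_option autoImplicit false
set_option linter.unusedSectionVars false

namespace H14.Q3G

open Module H11 H11.PForm H29 H29.Q3

variable {F K V : Type*} [Field F] [Field K] [Algebra F K] [AddCommGroup V] [Module F V]
  [Module K V] [IsScalarTower F K V] [FiniteDimensional F V] {S : PForm (orthP F) V}
  [Finite F] [Finite K] {φ : Dual F K} {U : PForm (orthP K) V} {H : Subgroup S.Isom}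

theorem pF2 (h : O3 φ U H) (s2 : S2 U H) : F2 U H := fun y t c Z qy ht ⟨r1, r2, r3⟩ c2 hZ yZ tZ => by
  have yy : U.h y y ≠ 0 := by simp [U.orth_h_self, qy, h.toOX.twoK]
  have y0 : y ≠ 0 := by rintro rfl; simp at yy
  have dec : ∀ z, ∃ (a : K) (w : V), U.h y w = 0 ∧ z = a • y + w := fun z =>
    ⟨U.h y z / U.h y y, z - (U.h y z / U.h y y) • y, by simp [yy], by abel⟩
  have k1 : ∀ (a : K) w, U.h y w = 0 →
      t.1 (t.1 (a • y + w)) + (a • y + w) - t.1 (a • y + w) - t.1 (a • y + w) = (c - 2) • t.1 w := fun a w hw => by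
    simp only [map_add, r1, r2]
    linear_combination (norm := module) (r3 w hw).2
  have key : ∀ (a : K) w, U.h y w = 0 → a • y + w ∈ Z → (c - 2) • t.1 w = 0 := by
    by_cases hc : ∃ c₀ : F, algebraMap F K c₀ = c
    · obtain ⟨c₀, rfl⟩ := hc
      have := s2 Z t y (c₀ + 1) (-(c₀ + 1)) 1 hZ ht tZ yZ y0 r2 fun z _ => by
        obtain ⟨a, w, hw, rfl⟩ := dec z
        have e1 := (r3 w hw).2
        have e2 := (r3 _ (r3 w hw).1).2
        rw [algebraMap_smul] at e1 e2
        simp only [map_add, r1, r2]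
        linear_combination (norm := module) e2 - e1
      intro a w hw hz
      rw [← k1 a w hw, this _ hz, this _ hz]; abel
    · intro a w hw hz
      by_contra w0
      have e := Submodule.eq_of_le_of_finrank_eq (S₁ := Z.map (t.1 : V →ₗ[F] V)) (S₂ := Z)
        (by rintro _ ⟨z, hz, rfl⟩; exact tZ z hz) (t.1.finrank_map_eq Z)
      have m : (c - 2) • t.1 w ∈ Z := k1 a w hw ▸ Z.sub_mem (Z.sub_mem (Z.add_mem (tZ _ (tZ _ hz)) hz) (tZ _ hz)) (tZ _ hz)
      have p : U.h y ((c - 2) • t.1 w) = 0 := by simp [(r3 w hw).1]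
      generalize (c - 2) • t.1 w = v at w0 m p
      refine hc (mem_range_of_mul h.pr (Z.comap ((LinearMap.toSpanSingleton K V v).restrictScalars F))
        (by simpa) (fun e => ?_) fun d hd => ?_)
      · obtain ⟨b, hb⟩ := (Submodule.eq_of_le_of_finrank_eq (S₁ := KL F K v) (S₂ := Z)
          (by rintro _ ⟨k, rfl⟩; exact Submodule.eq_top_iff'.1 e k) (by rw [finrank_KL w0, hZ.finrank])).ge yZ
        refine yy ?_
        conv_lhs => enter [2]; rw [← show b • v = y from hb]
        simp [p]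
      · have hd' : d • v ∈ Z := hd
        obtain ⟨z, hz, k⟩ := e.ge (Z.add_mem (tZ _ (tZ _ hd')) hd')
        rw [(r3 _ (by simp [p])).2, ← r1] at k
        show (c * d) • v ∈ Z
        rwa [mul_smul, ← t.1.injective k]
  have e := Submodule.eq_of_le_of_finrank_eq (S₁ := Z) (S₂ := KL F K y) (fun z hz => by
    obtain ⟨a, w, hw, rfl⟩ := dec z
    obtain rfl := t.1.map_eq_zero_iff.1 ((smul_eq_zero.1 (key a w hw hz)).resolve_left (sub_ne_zero.2 c2))
    exact ⟨a, (add_zero _).symm⟩) (by rw [finrank_KL y0, hZ.finrank])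
  exact yy (h.toOX.perpK fun k => h.toOX.ts hZ (e.ge (smul_mem_KL k y)) yZ)

end H14.Q3G
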