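import Mathlib

/-! Rank 3 groups: the orbital graph (`Rk`), recognition from a model (`iso_of`). -/

set_option autoImplicit false

namespace H14.R3
open MulAction Finset

/-- the orbital relation -/
def Orb (Γ : Type*) {Ω : Type*} [Group Γ] [MulAction Γ Ω] (a b x y : Ω) : Prop :=
  ∃ g : Γ, g • a = x ∧ g • b = y

/-- a rank 3 action with suborbits of lengths `1, k, l` -/
structure Rk (Γ : Type*) {Ω : Type*} [Group Γ] [MulAction Γ Ω] (a b c : Ω) (k l : ℕ) : Prop where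
  tr : IsPretransitive Γ Ω
  card : Nat.card Ω = 1 + k + l
  hb : (orbit (stabilizer Γ a) b).ncard = k
  hc : (orbit (stabilizer Γ a) c).ncard = l
  k1 : 1 < k
  l1 : 1 < l
  ne : k ≠ l

section
variable {Γ Ω : Type*} [Group Γ] [MulAction Γ Ω] {a b c : Ω} {k l : ℕ}

theorem orb_smul (a b x y : Ω) (g : Γ) : Orb Γ a b (g • x) (g • y) ↔ Orb Γ a b x y :=
  ⟨fun ⟨k, h1, h2⟩ => ⟨g⁻¹ * k, by rw [mul_smul, h1, inv_smul_smul], by
    rw [mul_smul, h2, inv_smul_smul]⟩,
    fun ⟨k, h1, h2⟩ => ⟨g * k, by rw [mul_smul, h1], by rw [mul_smul, h2]⟩⟩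

theorem orb_base (a b y : Ω) : Orb Γ a b a y ↔ y ∈ orbit (stabilizer Γ a) b :=
  ⟨fun ⟨k, h1, h2⟩ => ⟨⟨k, h1⟩, h2⟩, fun ⟨k, h⟩ => ⟨k, k.2, h⟩⟩

theorem orb_card [IsPretransitive Γ Ω] (a b x : Ω) :
    {y | Orb Γ a b x y}.ncard = (orbit (stabilizer Γ a) b).ncard := by
  obtain ⟨g, rfl⟩ := exists_smul_eq Γ a x
  symm
  refine Set.ncard_congr (fun y _ => g • y) (fun y hy => ?_)
    (fun _ _ _ _ e => MulAction.injective g e) (fun y hy => ⟨g⁻¹ • y, ?_, smul_inv_smul _ _⟩)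
  · exact (orb_smul _ _ _ _ _).2 ((orb_base a b y).2 hy)
  · rw [← orb_base, ← orb_smul _ _ _ _ g, smul_inv_smul]; exact hy

open Classical in
theorem orb_card' [IsPretransitive Γ Ω] [Fintype Ω] (a b x : Ω) :
    (univ.filter (Orb Γ a b x)).card = (orbit (stabilizer Γ a) b).ncard := by
  rw [← orb_card a b x, ← Set.ncard_coe_finset]; congr 1; ext y; simp

theorem not_mem_orb {d : Ω} (hd : 1 < (orbit (stabilizer Γ a) d).ncard) : a ∉ orbit (stabilizer Γ a) d := by
  intro ha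
  rw [← orbit_eq_iff.2 ha] at hd
  have : orbit (stabilizer Γ a) a = {a} := by
    ext y; exact ⟨fun ⟨k, h⟩ => h ▸ k.2, fun h => by rw [Set.mem_singleton_iff.1 h]; exact mem_orbit_self a⟩
  rw [this, Set.ncard_singleton] at hd
  omega

theorem orb_move {b' : Ω} (h : b' ∈ orbit (stabilizer Γ a) b) (x y : Ω) : Orb Γ a b' x y ↔ Orb Γ a b x y := by
  obtain ⟨g, rfl⟩ := h
  have hg : (g : Γ) • a = a := g.2
  exact ⟨fun ⟨k, h1, h2⟩ => ⟨k * g, by rw [mul_smul, hg, h1], by rw [mul_smul]; exact h2⟩,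
    fun ⟨k, h1, h2⟩ => ⟨k * (g : Γ)⁻¹, by rw [mul_smul, inv_smul_eq_iff.2 hg.symm, h1], by
      rw [mul_smul, ← h2]; exact congrArg _ (inv_smul_smul (g : Γ) b)⟩⟩

namespace Rk
variable (R : Rk Γ a b c k l)
include R

theorem fin : Finite Ω := Nat.finite_of_card_ne_zero (by rw [R.card]; omega)
theorem nb : a ∉ orbit (stabilizer Γ a) b := not_mem_orb (R.hb ▸ R.k1)
theorem nc : a ∉ orbit (stabilizer Γ a) c := not_mem_orb (R.hc ▸ R.l1)

theorem dis {y : Ω} (h1 : y ∈ orbit (stabilizer Γ a) b) (h2 : y ∈ orbit (stabilizer Γ a) c) : False :=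
  R.ne (by rw [← R.hb, ← orbit_eq_iff.2 h1, orbit_eq_iff.2 h2, R.hc])

theorem cov (y : Ω) : y = a ∨ y ∈ orbit (stabilizer Γ a) b ∨ y ∈ orbit (stabilizer Γ a) c := by
  have := R.fin
  have : insert a (orbit (stabilizer Γ a) b ∪ orbit (stabilizer Γ a) c) = Set.univ := by
    apply Set.eq_of_subset_of_ncard_le (Set.subset_univ _) _ (Set.toFinite _)
    rw [Set.ncard_insert_of_notMem (by simp [R.nb, R.nc]),
      Set.ncard_union_eq (Set.disjoint_left.2 fun _ => R.dis), R.hb, R.hc, Set.ncard_univ, R.card]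
    omega
  have h3 : y ∈ insert a (orbit (stabilizer Γ a) b ∪ orbit (stabilizer Γ a) c) := this ▸ trivial
  simpa using h3

theorem move {b' c' : Ω} (h : b' ∈ orbit (stabilizer Γ a) b) (h' : c' ∈ orbit (stabilizer Γ a) c) :
    Rk Γ a b' c' k l :=
  ⟨R.tr, R.card, by rw [orbit_eq_iff.2 h, R.hb], by rw [orbit_eq_iff.2 h', R.hc], R.k1, R.l1, R.ne⟩

theorem irr (x : Ω) : ¬ Orb Γ a b x x := by
  rintro ⟨g, h1, h2⟩
  exact R.nb (MulAction.injective g (h2.trans h1.symm) ▸ mem_orbit_self b)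

theorem cov' (x y : Ω) (h1 : y ≠ x) (h2 : ¬ Orb Γ a b x y) : Orb Γ a c x y := by
  have := R.tr
  obtain ⟨g, rfl⟩ := exists_smul_eq Γ a x
  obtain ⟨y, rfl⟩ := (MulAction.surjective g) y
  rw [orb_smul, orb_base] at h2 ⊢
  exact ((R.cov y).resolve_left fun e => h1 (by rw [e])).resolve_left h2

theorem symm {x y : Ω} (h : Orb Γ a b x y) : Orb Γ a b y x := by
  classical
  have := R.tr
  have := R.fin
  have := Fintype.ofFinite Ω
  obtain ⟨g, rfl, rfl⟩ := h
  rw [orb_smul]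
  by_contra hn
  obtain ⟨g, h1, h2⟩ := R.cov' b a (fun e => R.nb (e ▸ mem_orbit_self a)) hn
  have key : ∀ x y, Orb Γ a b x y ↔ Orb Γ a c y x := fun x y =>
    ⟨fun ⟨k, e1, e2⟩ => ⟨k * g, by rw [mul_smul, h1, e2], by rw [mul_smul, h2, e1]⟩,
      fun ⟨k, e1, e2⟩ => ⟨k * g⁻¹, by rw [mul_smul, inv_smul_eq_iff.2 h2.symm, e2], by
        rw [mul_smul, inv_smul_eq_iff.2 h1.symm, e1]⟩⟩
  have s1 : ∑ x, (univ.filter (Orb Γ a b x)).card = ∑ y, (univ.filter (Orb Γ a c y)).card := by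
    simp only [card_filter]
    rw [sum_comm]
    exact sum_congr rfl fun y _ => sum_congr rfl fun x _ => by simp only [key]
  simp only [orb_card', R.hb, R.hc, sum_const, card_univ, smul_eq_mul] at s1
  exact R.ne (Nat.eq_of_mul_eq_mul_left (Fintype.card_pos_iff.2 ⟨a⟩) s1)

theorem deg (x : Ω) : {y | Orb Γ a b x y}.ncard = k := by
  have := R.tr
  rw [orb_card, R.hb]

theorem param (hk : ¬ k + 1 ∣ 1 + k + l) :
    k * (k - ({y | Orb Γ a b b y} ∩ orbit (stabilizer Γ a) b).ncard - 1) =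
      l * ({y | Orb Γ a b c y} ∩ orbit (stabilizer Γ a) b).ncard ∧
      ({y | Orb Γ a b c y} ∩ orbit (stabilizer Γ a) b).ncard ≠ 0 := by
  classical
  have := R.fin
  have := Fintype.ofFinite Ω
  let X : SimpleGraph Ω := ⟨Orb Γ a b, ⟨fun _ _ => R.symm⟩, ⟨R.irr⟩⟩
  have hinv : ∀ (g : Γ) x y, X.Adj (g • x) (g • y) ↔ X.Adj x y := fun g x y => orb_smul a b x y g
  have hcn : ∀ (g : Γ) x y, Fintype.card (X.commonNeighbors (g • x) (g • y)) =
      Fintype.card (X.commonNeighbors x y) := by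
    intro g x y
    symm
    refine Fintype.card_congr ((MulAction.toPerm g).subtypeEquiv fun z => ?_)
    simp only [SimpleGraph.mem_commonNeighbors, MulAction.toPerm_apply, hinv]
  have := R.tr
  have hd : ∀ x, (univ.filter (Orb Γ a b x)).card = k := fun x => by rw [orb_card', R.hb]
  have hn : Fintype.card Ω = 1 + k + l := Nat.card_eq_fintype_card.symm.trans R.card
  have hs : X.IsSRGWith (1 + k + l) k (Fintype.card (X.commonNeighbors a b))
      (Fintype.card (X.commonNeighbors a c)) := by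
    refine ⟨hn, fun x => ?_, ?_, ?_⟩
    · rw [← SimpleGraph.card_neighborFinset_eq_degree, SimpleGraph.neighborFinset_eq_filter, ← hd x]
    · rintro _ _ ⟨g, rfl, rfl⟩; exact hcn g a b
    · intro x y hxy h
      obtain ⟨g, rfl, rfl⟩ := R.cov' x y hxy.symm h
      exact hcn g a c
  have e : ∀ d, ({y | Orb Γ a b d y} ∩ orbit (stabilizer Γ a) b).ncard =
      Fintype.card (X.commonNeighbors a d) := fun d => by
    rw [← Nat.card_eq_fintype_card, Nat.card_coe_set_eq]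
    congr 1
    ext y
    exact ⟨fun h => ⟨(orb_base a b y).2 h.2, h.1⟩, fun h => ⟨h.2, (orb_base a b y).1 h.1⟩⟩
  rw [e, e]
  refine ⟨(hs.param_eq X (by omega)).trans (by congr 1; omega), fun h0 => hk ?_⟩
  let s : Setoid Ω := ⟨fun x y => x = y ∨ X.Adj x y, fun _ => Or.inl rfl,
    fun h => h.imp Eq.symm X.adj_symm, by
      rintro x y z (rfl | h1) h2
      · exact h2
      · rcases h2 with rfl | h2
        · exact Or.inr h1
        · by_contra hc
          rw [not_or] at hc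
          have := (hs.of_not_adj hc.1 hc.2).trans h0
          exact (Fintype.card_eq_zero_iff.1 this).false ⟨y, h1, h2.symm⟩⟩
  rw [← hn, ← card_univ, card_eq_sum_card_fiberwise (f := Quotient.mk s) (t := univ) fun _ _ => mem_univ _]
  refine dvd_sum fun q _ => ?_
  induction q using Quotient.inductionOn with
  | h x =>
    have : univ.filter (fun y => Quotient.mk s y = Quotient.mk s x) = insert x (univ.filter (Orb Γ a b x)) := by
      ext y
      simp only [mem_filter, mem_univ, true_and, mem_insert, Quotient.eq]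
      exact ⟨fun h => h.imp id X.adj_symm, fun h => h.imp id X.adj_symm⟩
    rw [this, card_insert_of_notMem (by simpa using R.irr x), hd]

end Rk
end

section
variable {G Ω Γ X : Type*} [Group G] [MulAction G Ω] [Group Γ] [MulAction Γ X]

theorem exists_f {H : Type*} [Group H] [MulAction H Ω] (θ : H →* Γ) {p : Ω} {p0 : X}
    (h : ∀ g : H, g • p = p → θ g • p0 = p0) : ∃ f : Ω → X, ∀ g : H, f (g • p) = θ g • p0 := by
  classical
  refine ⟨fun x => if hx : ∃ g : H, g • p = x then θ hx.choose • p0 else p0, fun g => ?_⟩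
  have hx : ∃ g' : H, g' • p = g • p := ⟨g, rfl⟩
  have := h (g⁻¹ * hx.choose) (by rw [mul_smul, hx.choose_spec, inv_smul_smul])
  rw [map_mul, map_inv, mul_smul, inv_smul_eq_iff] at this
  simp only [dif_pos hx, this]

theorem stab_iff {H H0 : Type*} [Group H] [MulAction H Ω] [Group H0] [Finite H0] [MulAction H0 X] (e : H ≃* H0)
    {p : Ω} {p0 : X} (hc : (orbit H p).ncard = (orbit H0 p0).ncard) (h : ∀ g : H, g • p = p → e g • p0 = p0)
    (g : H) : e g • p0 = p0 → g • p = p := by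
  have := Finite.of_equiv _ e.toEquiv.symm
  have h1 : stabilizer H p ≤ (stabilizer H0 p0).comap e.toMonoidHom := h
  have h2 := (stabilizer H p).card_mul_index
  have h3 := ((stabilizer H0 p0).comap e.toMonoidHom).card_mul_index
  rw [Subgroup.index_comap_of_surjective _ e.surjective, index_stabilizer, ← hc, ← index_stabilizer, ← h2] at h3
  have h4 := Nat.eq_of_mul_eq_mul_right (Nat.pos_of_ne_zero Subgroup.index_ne_zero_of_finite) h3
  exact fun hg => (Subgroup.eq_of_le_of_card_ge h1 h4.le).ge hg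

/-- a point of the orbit whose stabiliser matches -/
theorem pick {a b : Ω} {a0 b0 y : X} (e : stabilizer G a ≃* stabilizer Γ a0)
    (hy : y ∈ orbit (stabilizer Γ a0) b0)
    (h : (stabilizer (stabilizer G a) b).map ((stabilizer Γ a0).subtype.comp e.toMonoidHom) ≤ stabilizer Γ y) :
    ∃ b' ∈ orbit (stabilizer G a) b, ∀ g : stabilizer G a, g • b' = b' → e g • b0 = b0 := by
  obtain ⟨u, rfl⟩ := hy
  refine ⟨(e.symm u)⁻¹ • b, mem_orbit _ _, fun g hg => ?_⟩
  have : (e (e.symm u * g * (e.symm u)⁻¹) : Γ) • u • b0 = u • b0 := h ⟨_, by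
    rw [SetLike.mem_coe, mem_stabilizer_iff, mul_smul, mul_smul, hg, smul_inv_smul], rfl⟩
  rw [map_mul, map_mul, map_inv, e.apply_symm_apply, ← Subgroup.smul_def, mul_smul, mul_smul,
    inv_smul_smul] at this
  exact MulAction.injective u this

theorem card_K {a b : Ω} {a0 : X} (e : stabilizer G a ≃* stabilizer Γ a0) :
    Nat.card ((stabilizer (stabilizer G a) b).map ((stabilizer Γ a0).subtype.comp e.toMonoidHom)) *
      (orbit (stabilizer G a) b).ncard = Nat.card (stabilizer Γ a0) := by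
  rw [Subgroup.card_map_of_injective (f := (stabilizer Γ a0).subtype.comp e.toMonoidHom)
    ((stabilizer Γ a0).subtype_injective.comp e.injective), ← index_stabilizer,
    Subgroup.card_mul_index, Nat.card_congr e.toEquiv]

/-- the automorphisms of a relation -/
def autR (r : X → X → Prop) : Subgroup (Equiv.Perm X) where
  carrier := {σ | ∀ x y, r (σ x) (σ y) ↔ r x y}
  one_mem' _ _ := Iff.rfl
  mul_mem' h h' x y := (h _ _).trans (h' x y)
  inv_mem' {σ} h x y := by simpa using (h (σ⁻¹ x) (σ⁻¹ y)).symm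

theorem iso_of_aut [Finite X] [IsSimpleGroup Γ] {A : Subgroup (Equiv.Perm X)} {φ : G →* Equiv.Perm X}
    {ψ : Γ →* Equiv.Perm X} (hφ : Function.Injective φ) (hψ : Function.Injective ψ) (h1 : φ.range ≤ A)
    (h2 : ψ.range ≤ A) (hc : Nat.card G = Nat.card Γ) {m : ℕ} (hA : Nat.card A ≤ m * Nat.card Γ)
    (hm : ¬ Nat.card Γ ∣ m.factorial) : Nonempty (G ≃* Γ) := by
  classical
  have := Finite.of_injective _ hψ
  have c1 := Nat.card_congr (MonoidHom.ofInjective hφ).toEquiv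
  have c2 := Nat.card_congr (MonoidHom.ofInjective hψ).toEquiv
  have i1 : φ.range.relIndex A ≤ m := by
    have := (φ.range.subgroupOf A).card_mul_index
    rw [Nat.card_congr (Subgroup.subgroupOfEquivOfLe h1).toEquiv, ← c1, hc, mul_comm] at this
    exact Nat.le_of_mul_le_mul_right (this.le.trans hA) Nat.card_pos
  have i2 : (φ.range.comap ψ).index ≤ m := by
    rw [Subgroup.index_comap]
    exact (Subgroup.relIndex_le_of_le_right h2 Subgroup.index_ne_zero_of_finite).trans i1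
  have h3 : (φ.range.comap ψ).normalCore = ⊤ := by
    refine (Subgroup.Normal.eq_bot_or_eq_top inferInstance).resolve_left fun h => hm ?_
    rw [Subgroup.normalCore_eq_ker, MonoidHom.ker_eq_bot_iff] at h
    refine (Subgroup.card_dvd_of_injective _ h).trans ?_
    rw [Nat.card_perm]
    exact Nat.factorial_dvd_factorial i2
  have h4 : ψ.range ≤ φ.range := by
    rintro _ ⟨x, rfl⟩
    exact (φ.range.comap ψ).normalCore_le (h3.ge (Subgroup.mem_top x))
  have h5 := Subgroup.eq_of_le_of_card_ge h4 (by rw [← c1, ← c2, hc])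
  exact ⟨(MonoidHom.ofInjective hφ).trans ((MulEquiv.subgroupCongr h5.symm).trans
    (MonoidHom.ofInjective hψ).symm)⟩

/-- recognition of a rank 3 group from a model -/
theorem iso_of [FaithfulSMul G Ω] [FaithfulSMul Γ X] [IsSimpleGroup Γ] {a b c : Ω} {a0 b0 c0 : X}
    {k l μ m : ℕ} (R : Rk G a b c k l) (R0 : Rk Γ a0 b0 c0 k l) (e : stabilizer G a ≃* stabilizer Γ a0)
    (hk : ¬ k + 1 ∣ 1 + k + l)
    (hA : ∀ K : Subgroup Γ, K ≤ stabilizer Γ a0 → Nat.card K * k = Nat.card (stabilizer Γ a0) →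
      ∃ y ∈ orbit (stabilizer Γ a0) b0, K ≤ stabilizer Γ y)
    (hB : ∀ Y ⊆ orbit (stabilizer Γ a0) b0, b0 ∉ Y → (∀ g : Γ, g • a0 = a0 → g • b0 = b0 → ∀ y ∈ Y, g • y ∈ Y) →
      ∀ j ≠ 0, k * (k - Y.ncard - 1) = l * j →
        j = μ ∧ Y = {y | Orb Γ a0 b0 b0 y} ∩ orbit (stabilizer Γ a0) b0)
    (hC : ∀ K : Subgroup Γ, K ≤ stabilizer Γ a0 → Nat.card K * l = Nat.card (stabilizer Γ a0) →
      ∀ Y ⊆ orbit (stabilizer Γ a0) b0, (∀ g ∈ K, ∀ y ∈ Y, g • y ∈ Y) → Y.ncard = μ →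
      ∃ y ∈ orbit (stabilizer Γ a0) c0, K ≤ stabilizer Γ y)
    (hD : ∀ Y : Set X, a0 ∉ Y → c0 ∉ Y → (∀ g : Γ, g • a0 = a0 → g • c0 = c0 → ∀ y ∈ Y, g • y ∈ Y) →
      Y.ncard = k → (Y ∩ orbit (stabilizer Γ a0) b0).ncard = μ → Y = {y | Orb Γ a0 b0 c0 y})
    (hF : Nat.card (autR (Orb Γ a0 b0)) ≤ m * Nat.card Γ) (hm : ¬ Nat.card Γ ∣ m.factorial) :
    Nonempty (G ≃* Γ) := by
  classical
  have := R.fin
  have := R0.fin
  have : Finite Γ := Finite.of_injective _ (MulAction.toPerm_injective (α := Γ) (β := X))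
  let θ := (stabilizer Γ a0).subtype.comp e.toMonoidHom
  have hθ : ∀ g : Γ, g • a0 = a0 → ∃ h, θ h = g := fun g hg =>
    ⟨e.symm ⟨g, hg⟩, congrArg Subtype.val (e.apply_symm_apply _)⟩
  have hle : ∀ S : Subgroup (stabilizer G a), S.map θ ≤ stabilizer Γ a0 := by
    rintro S _ ⟨h, -, rfl⟩; exact (e h).2
  -- the first suborbit
  obtain ⟨y, hy, h1⟩ := hA _ (hle _) (R.hb ▸ card_K e)
  obtain ⟨b', hb', h2⟩ := pick e hy h1
  replace R := R.move hb' (mem_orbit_self c)
  clear hb' h1 hy y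
  have h3 := stab_iff e (R.hb.trans R0.hb.symm) h2
  obtain ⟨f1, hf1⟩ := exists_f θ h2
  have inj : ∀ {p : Ω} {p0 : X} {f : Ω → X}, (∀ g : stabilizer G a, e g • p0 = p0 → g • p = p) →
      (∀ g : stabilizer G a, f (g • p) = θ g • p0) → Set.InjOn f (orbit (stabilizer G a) p) := by
    rintro p p0 f h hf _ ⟨g, rfl⟩ _ ⟨g', rfl⟩ hg
    simp only [hf] at hg
    have := h (g'⁻¹ * g) (by
      rw [map_mul, map_inv, mul_smul, inv_smul_eq_iff]; exact hg)
    rwa [mul_smul, inv_smul_eq_iff] at this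
  have mem : ∀ {p : Ω} {p0 : X} {f : Ω → X}, (∀ g : stabilizer G a, f (g • p) = θ g • p0) →
      ∀ x ∈ orbit (stabilizer G a) p, f x ∈ orbit (stabilizer Γ a0) p0 := by
    rintro p p0 f hf _ ⟨g, rfl⟩
    exact ⟨e g, (hf g).symm⟩
  have eqv : ∀ {p : Ω} {p0 : X} {f : Ω → X}, (∀ g : stabilizer G a, f (g • p) = θ g • p0) →
      ∀ g : stabilizer G a, ∀ x ∈ orbit (stabilizer G a) p, f (g • x) = θ g • f x := by
    rintro p p0 f hf g _ ⟨g', rfl⟩
    simp only [← mul_smul, hf, map_mul]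
  have hN : ∀ (g : stabilizer G a) x y, Orb G a b' x y → Orb G a b' (g • x) (g • y) := fun g x y =>
    (orb_smul a b' x y (g : G)).2
  have hY : ∀ d, (f1 '' ({y | Orb G a b' d y} ∩ orbit (stabilizer G a) b')).ncard = _ := fun d =>
    Set.InjOn.ncard_image ((inj h3 hf1).mono Set.inter_subset_right)
  have hY' : ∀ d, f1 '' ({y | Orb G a b' d y} ∩ orbit (stabilizer G a) b') ⊆ orbit (stabilizer Γ a0) b0 := by
    rintro d _ ⟨x, hx, rfl⟩; exact mem hf1 x hx.2
  have hYi : ∀ d (g : stabilizer G a), g • d = d → ∀ y ∈ f1 '' ({y | Orb G a b' d y} ∩ orbit (stabilizer G a) b'),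
      θ g • y ∈ f1 '' ({y | Orb G a b' d y} ∩ orbit (stabilizer G a) b') := by
    rintro d g hg _ ⟨x, hx, rfl⟩
    exact ⟨g • x, ⟨hg ▸ hN g d x hx.1, mapsTo_smul_orbit g b' hx.2⟩, eqv hf1 g x hx.2⟩
  have fb : f1 b' = b0 := by simpa using hf1 1
  obtain ⟨p1, p2⟩ := R.param hk
  obtain ⟨p3, p4⟩ := hB _ (hY' b') (by
      rintro ⟨x, hx, h⟩
      exact R.irr b' (inj h3 hf1 hx.2 (mem_orbit_self b') (h.trans fb.symm) ▸ hx.1))
    (fun g g1 g2 => by
      obtain ⟨h, rfl⟩ := hθ g g1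
      exact hYi b' h (h3 h g2)) _ p2 (by rw [hY, p1])
  -- the second suborbit
  obtain ⟨y, hy, h1⟩ := hC _ (hle _) (R.hc ▸ card_K e) _ (hY' c) (by
    rintro _ ⟨h, hh, rfl⟩; exact hYi c h hh) (by rw [hY, p3])
  obtain ⟨c', hc', h4⟩ := pick e hy h1
  have p5 : ({y | Orb G a b' c' y} ∩ orbit (stabilizer G a) b').ncard = μ := by
    have := ((R.move (mem_orbit_self b') hc').param hk).1
    rw [p1, p3] at this
    exact (Nat.eq_of_mul_eq_mul_left (by have := R.l1; omega) this).symm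
  replace R := R.move (mem_orbit_self b') hc'
  clear hc' h1 hy y p1 p2 p3
  have h5 := stab_iff e (R.hc.trans R0.hc.symm) h4
  obtain ⟨f2, hf2⟩ := exists_f θ h4
  let f : Ω → X := fun x => if x ∈ orbit (stabilizer G a) b' then f1 x else if x = a then a0 else f2 x
  have e1 : ∀ x ∈ orbit (stabilizer G a) b', f x = f1 x := fun x hx => if_pos hx
  have e2 : ∀ x ∈ orbit (stabilizer G a) c', f x = f2 x := fun x hx => by
    simp only [f, if_neg fun h => R.dis h hx, if_neg fun h : x = a => R.nc (h ▸ hx)]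
  have e0 : f a = a0 := by simp only [f, if_neg R.nb, if_true]
  have m1 : ∀ x, f x ∈ orbit (stabilizer Γ a0) b0 ↔ x ∈ orbit (stabilizer G a) b' := fun x =>
    ⟨fun h => by
      rcases R.cov x with rfl | h' | h'
      · exact (R0.nb (e0 ▸ h)).elim
      · exact h'
      · exact (R0.dis h (e2 x h' ▸ mem hf2 x h')).elim, fun h => e1 x h ▸ mem hf1 x h⟩
  have finj : Function.Injective f := by
    intro x y h
    rcases R.cov x with rfl | hx | hx
    · rcases R.cov y with rfl | hy | hy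
      · rfl
      · exact (R.nb ((m1 _).1 (h ▸ (m1 y).2 hy))).elim
      · exact (R0.nc ((e0.symm.trans (h.trans (e2 y hy))).symm ▸ mem hf2 y hy :)).elim
    · have hy := (m1 y).1 (h ▸ (m1 x).2 hx)
      exact inj h3 hf1 hx hy (by rw [← e1 x hx, h, e1 y hy])
    · rcases R.cov y with rfl | hy | hy
      · exact (R0.nc ((e0.symm.trans (h.symm.trans (e2 x hx))).symm ▸ mem hf2 x hx :)).elim
      · exact (R.dis ((m1 x).1 (h ▸ (m1 y).2 hy)) hx).elim
      · exact inj h5 hf2 hx hy (by rw [← e2 x hx, h, e2 y hy])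
  have feq : ∀ (g : stabilizer G a) x, f (g • x) = θ g • f x := fun g x => by
    rcases R.cov x with rfl | hx | hx
    · rw [show g • x = x from g.2, e0]; exact (e g).2.symm
    · rw [e1 x hx, e1 _ (mapsTo_smul_orbit g b' hx), eqv hf1 g x hx]
    · rw [e2 x hx, e2 _ (mapsTo_smul_orbit g c' hx), eqv hf2 g x hx]
  have fb' : f b' = b0 := (e1 _ (mem_orbit_self b')).trans fb
  have fc : f c' = c0 := (e2 _ (mem_orbit_self c')).trans (by simpa using hf2 1)
  have q1 : f '' {y | Orb G a b' c' y} = {y | Orb Γ a0 b0 c0 y} := by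
    refine hD _ ?_ ?_ (fun g g1 g2 => ?_) (by rw [Set.ncard_image_of_injective _ finj, R.deg]) ?_
    · rintro ⟨x, hx, h⟩
      rw [finj (h.trans e0.symm)] at hx
      exact R.dis ((orb_base _ _ _).1 (R.symm hx)) (mem_orbit_self c')
    · rintro ⟨x, hx, h⟩
      exact R.irr c' (finj (h.trans fc.symm) ▸ hx)
    · obtain ⟨h, rfl⟩ := hθ g g1
      rintro _ ⟨x, hx, rfl⟩
      exact ⟨h • x, h5 h g2 ▸ hN h c' x hx, feq h x⟩
    · rw [← p5, ← Set.ncard_image_of_injective _ finj]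
      congr 1
      ext z
      exact ⟨fun ⟨⟨x, hx, h⟩, h'⟩ => ⟨x, ⟨hx, (m1 x).1 (h ▸ h')⟩, h⟩,
        fun ⟨x, hx, h⟩ => ⟨⟨x, hx.1, h⟩, h ▸ (m1 x).2 hx.2⟩⟩
  have tr : ∀ (g : stabilizer G a) {x}, (∀ y, Orb Γ a0 b0 (f x) (f y) ↔ Orb G a b' x y) →
      ∀ y, Orb Γ a0 b0 (f (g • x)) (f y) ↔ Orb G a b' (g • x) y := fun g x h y => by
    rw [← smul_inv_smul g y, feq, feq, orb_smul, h]
    exact (orb_smul _ _ _ _ (g : G)).symm
  have r0 : ∀ y, Orb Γ a0 b0 (f a) (f y) ↔ Orb G a b' a y := fun y => by rw [e0, orb_base, orb_base, m1]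
  have r2 : ∀ x ∈ orbit (stabilizer G a) c', ∀ y, Orb Γ a0 b0 (f x) (f y) ↔ Orb G a b' x y := by
    rintro _ ⟨g, rfl⟩
    refine tr g fun y => ?_
    rw [fc]
    exact (Set.ext_iff.1 q1 (f y)).symm.trans finj.mem_set_image
  have r : ∀ x y, Orb Γ a0 b0 (f x) (f y) ↔ Orb G a b' x y := fun x y => by
    rcases R.cov x with rfl | ⟨g, rfl⟩ | hx
    · exact r0 y
    · refine tr g (fun y => ?_) y
      rcases R.cov y with rfl | hy | hy
      · exact ⟨fun h => R.symm ((r0 _).1 (R0.symm h)), fun h => R0.symm ((r0 _).2 (R.symm h))⟩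
      · rw [fb', e1 y hy]
        have := Set.ext_iff.1 p4 (f1 y)
        exact ⟨fun h => by
          obtain ⟨x, hx, h'⟩ := this.2 ⟨h, mem hf1 y hy⟩
          exact inj h3 hf1 hx.2 hy h' ▸ hx.1, fun h => (this.1 ⟨y, ⟨h, hy⟩, rfl⟩).1⟩
      · exact ⟨fun h => R.symm ((r2 _ hy _).1 (R0.symm h)), fun h => R0.symm ((r2 _ hy _).2 (R.symm h))⟩
    · exact r2 x hx y
  let E := Equiv.ofBijective f ((Nat.bijective_iff_injective_and_card f).2 ⟨finj, R.card.trans R0.card.symm⟩)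
  refine iso_of_aut (φ := E.permCongrHom.toMonoidHom.comp (toPermHom G Ω)) (ψ := toPermHom Γ X)
    (E.permCongrHom.injective.comp toPerm_injective) toPerm_injective ?_ ?_ ?_ hF hm
  · rintro _ ⟨g, rfl⟩ x y
    obtain ⟨x, rfl⟩ := E.surjective x
    obtain ⟨y, rfl⟩ := E.surjective y
    have : Orb Γ a0 b0 (E (g • x)) (E (g • y)) ↔ Orb Γ a0 b0 (E x) (E y) :=
      (r (g • x) (g • y)).trans ((orb_smul _ _ _ _ g).trans (r x y).symm)
    simpa [Equiv.permCongr_apply] using this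
  · rintro _ ⟨g, rfl⟩ x y
    exact orb_smul _ _ _ _ g
  · have := R.tr
    have := R0.tr
    rw [← (stabilizer G a).index_mul_card, ← (stabilizer Γ a0).index_mul_card, index_stabilizer_of_transitive,
      index_stabilizer_of_transitive, R.card, R0.card, Nat.card_congr e.toEquiv]

end
end H14.R3
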