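import Cfsg.Agent.H14.R3
import Cfsg.Agent.H14.OutP
import Cfsg.Agent.H14.Enum2

/-! Kernel checkers for `H14.R3.iso_of`: invariant sets as unions of orbits (`inv_cases`), counting
neighbours (`cnt_spec`), bounds for automorphism groups (`aut_le`), overgroups of Sylow subgroups
(`syl_le`, `pg_rels`, `sieve_spec`, `card_pairs`). -/

set_option autoImplicit false

namespace H14.R3
open MulAction L

section grp
variable {G : Type*} [Group G]

theorem card_cj (K : Subgroup G) (x : G) : Nat.card (K.comap (MulAut.conj x).toMonoidHom) = Nat.card K := by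
  rw [Subgroup.comap_equiv_eq_map_symm', Subgroup.card_map_of_injective (MulEquiv.injective _)]

theorem syl_le [Finite G] {p k : ℕ} (hp : p.Prime) {H K P : Subgroup G} (hP : P ≤ H) (hp' : IsPGroup p P)
    (hc : p ^ k ≤ Nat.card P) (hH : ¬ p ^ (k + 1) ∣ Nat.card H) (hK : K ≤ H) (hk : p ^ k ∣ Nat.card K) :
    ∃ x ∈ H, P ≤ K.comap (MulAut.conj x).toMonoidHom := by
  have := Fact.mk hp
  have h1 := card_pg hp hp' hc fun h => hH (h.trans (Subgroup.card_dvd_of_le hP))
  obtain ⟨Q, hQ⟩ := Sylow.exists_subgroup_card_pow_prime (G := K) p hk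
  have h2 : Nat.card (Q.map K.subtype) = p ^ k := by rw [Subgroup.card_map_of_injective K.subtype_injective, hQ]
  obtain ⟨x, hx, h3⟩ := syl_conj hp hP h1 hH ((Subgroup.map_subtype_le Q).trans hK) (IsPGroup.of_card h2)
  refine ⟨x, hx, (Subgroup.eq_of_le_of_card_ge (H := (Q.map K.subtype).comap (MulAut.conj x).toMonoidHom)
    (fun y hy => by simpa [mul_assoc] using h3 _ hy) ?_).ge.trans (Subgroup.comap_mono (Subgroup.map_subtype_le Q))⟩
  rw [h1, card_cj, h2]

/-- relations of a polycyclic series of `q`-elements -/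
noncomputable def pcRels (q : ℕ) (l : List (Word × List Word)) : List (Word × Word) :=
  @List.rec _ (fun _ => List (Word × Word)) []
    (fun p r ih => (powW p.1 q, []) :: List.append (nmRels p.1 (List.map Prod.fst r) p.2) ih) l

theorem pg_rels [Finite G] {p k : ℕ} {x : ℕ → G} {l : List (Word × List Word)} (h : Rels x (pcRels (p ^ k) l)) :
    IsPGroup p (sub x (List.map Prod.fst l)) := by
  induction l with
  | nil => rw [List.map_nil, sub_nil]; exact IsPGroup.of_bot
  | cons a l ih =>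
    have h1 : Rels x (nmRels a.1 (List.map Prod.fst l) a.2 ++ pcRels (p ^ k) l) :=
      fun q hq => h q (List.mem_cons_of_mem _ hq)
    have h2 : ev x (powW a.1 (p ^ k)) = 1 := h _ List.mem_cons_self
    rw [List.map_cons, sub_cons]
    exact (pg_zp (by rwa [ev_powW] at h2)).to_sup_of_normal_right' (ih h1.right)
      ((Subgroup.zpowers_le).2 (norm_of_mem h1.left))

theorem card_pairs {x : ℕ → G} {K : Subgroup G} {S : List Word} {P : List (Word × Word × Word)}
    (h : ∀ g ∈ K, ∃ w ∈ List.append S (List.append (List.map (·.1) P) (List.map (·.2.1) P)), ev x w = g)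
    (hP : ∀ p ∈ P, ev x p.1 ∈ K → ev x p.2.1 ∉ K) : Nat.card K ≤ S.length + P.length := by
  classical
  have : (K : Set G) ⊆ (((S ++ P.map fun p => if ev x p.1 ∈ K then p.1 else p.2.1).map (ev x)).toFinset : Set G) := by
    intro g hg
    obtain ⟨w, hw, rfl⟩ := h g hg
    rw [List.coe_toFinset]
    refine List.mem_map_of_mem (List.mem_append.2 ((List.mem_append.1 hw).imp id fun hw => ?_))
    rcases List.mem_append.1 hw with hw | hw <;> obtain ⟨p, hp, rfl⟩ := List.mem_map.1 hw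
    · exact List.mem_map.2 ⟨p, hp, if_pos hg⟩
    · exact List.mem_map.2 ⟨p, hp, if_neg fun h => hP p hp h hg⟩
  refine (Set.ncard_le_ncard this (Finset.finite_toSet _)).trans ?_
  rw [Set.ncard_coe_finset]
  exact (List.toFinset_card_le _).trans (by simp)

end grp

/-- an orbit given by a word for a representative and a schedule -/
noncomputable def oM (L : List Net) (F : ℕ → ℕ → ℕ) (a : ℕ) (us : List Word) (p : Word × List Word) : ℕ :=
  orbRun L us p.2 (bit (apW F p.1 a))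
noncomputable def oOk (n : ℕ) (L : List Net) (F : ℕ → ℕ → ℕ) (a : ℕ) (us : List Word)
    (l : List (Word × List Word)) : Bool :=
  allL (fun p => PM.orbChk n L us (apW F p.1 a) (oM L F a us p) p.2) l
noncomputable def orA (f : Word × List Word → ℕ) (l : List (Word × List Word)) : ℕ :=
  @List.rec _ (fun _ => ℕ) 0 (fun p _ ih => Nat.lor (f p) ih) l
noncomputable def unions (f : Word × List Word → ℕ) (l : List (Word × List Word)) : List ℕ :=
  @List.rec _ (fun _ => List ℕ) [0] (fun p _ ih => List.append ih (List.map (Nat.lor (f p)) ih)) l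
/-- the orbits whose points have `t` neighbours in `Y` -/
noncomputable def cntU (n : ℕ) (L : List Net) (F : ℕ → ℕ → ℕ) (a D : ℕ) (us : List Word) (Y t : ℕ)
    (l : List (Word × List Word)) : ℕ :=
  orA (fun p => @Bool.rec (fun _ => ℕ) 0 (oM L F a us p)
    (Nat.beq (pop n (Nat.land (runW (letN L) p.1 D) Y)) t)) l
/-- the points that the masks do not separate from `v` -/
noncomputable def cell (n : ℕ) (ms : List ℕ) (v : ℕ) : ℕ :=
  @List.rec _ (fun _ => ℕ) (H14.full n)
    (fun m _ ih => @Bool.rec (fun _ => ℕ) (sdf ih m) (Nat.land m ih) (tb m v)) ms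

/-- steps of a bound for an automorphism group -/
inductive AS : Type
  | nil : AS
  | pt (w : Word) (r : AS) : AS
  | ref (us : List Word) (l : List (Word × List Word)) (x y t : ℕ) (r : AS) : AS

noncomputable def autV (n : ℕ) (L : List Net) (F : ℕ → ℕ → ℕ) (a D : ℕ) (s : AS) : List ℕ → ℕ :=
  @AS.rec (fun _ => List ℕ → ℕ)
    (fun ms => @Bool.rec (fun _ => ℕ) 0 1 (H14.allLt (fun v => Nat.beq (cell n ms v) (bit v)) n))
    (fun w _ ih ms => Nat.mul (pop n (cell n ms (apW F w a)))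
      (ih (runW (letN L) w D :: bit (apW F w a) :: ms)))
    (fun us l x y t _ ih ms => @Bool.rec (fun _ => ℕ) 0 (ih (cntU n L F a D us (cell n ms y) t l :: ms))
      (band (oOk n L F a us l) (band (invChk L us (cell n ms y))
        (Nat.beq (orA (oM L F a us) l) (cell n ms x))))) s

/-- the word `c` in `w :: T` is `g` at the points `bs` -/
noncomputable def hit (F : ℕ → ℕ → ℕ) (bs : List ℕ) (T : List Word) (g c : Word) : Bool :=
  allL (fun b => Nat.beq (apW F (flat T c) b) (apW F g b)) bs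
noncomputable def sieve (F : ℕ → ℕ → ℕ) (bs : List ℕ) (T : List Word) (g : Word) (A : List Word) (t : Word)
    (E : List Word) : List Word → Bool :=
  @List.rec _ (fun _ => List Word → Bool) (fun _ => true)
    (fun u _ ih cs => band (@List.rec _ (fun _ => Bool) (List.elem (List.append t u) A)
      (fun _ _ _ => hit F bs (List.append t u :: T) g (List.headD cs [])) (List.headD cs [])) (ih (List.tail cs))) E

section
variable {Γ X : Type*} [Group Γ] [MulAction Γ X] {n : ℕ} {L : List Net} (M : PM Γ X n L)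
  {F : ℕ → ℕ → ℕ} [PtF n L F] {a D : ℕ}

theorem mem_orA {f : Word × List Word → ℕ} {l : List (Word × List Word)} {x : X} :
    x ∈ M.S (orA f l) ↔ ∃ p ∈ l, x ∈ M.S (f p) := by
  induction l with
  | nil => exact iff_of_false (M.not_mem_S_zero x) (by simp)
  | cons p l ih =>
    have e : orA f (p :: l) = Nat.lor (f p) (orA f l) := rfl
    rw [e, M.mem_S_lor, ih]; simp

theorem inv_cases {us : List Word} {l : List (Word × List Word)} (h : oOk n L F a us l = true) {Y : Set X}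
    (h1 : Y ⊆ M.S (orA (oM L F a us) l)) (h2 : ∀ g ∈ sub M.gen us, ∀ y ∈ Y, g • y ∈ Y) :
    ∃ m ∈ unions (oM L F a us) l, Y = M.S m := by
  induction l generalizing Y with
  | nil => exact ⟨0, List.mem_cons_self, Set.ext fun x =>
      ⟨fun hx => h1 hx, fun hx => (M.not_mem_S_zero x hx).elim⟩⟩
  | cons p l ih =>
    obtain ⟨h3, h4⟩ := band_iff.1 h
    obtain ⟨m, hm, e⟩ := ih h4 (Y := Y \ M.S (oM L F a us p))
      (fun x hx => ((M.mem_S_lor _ _ x).1 (h1 hx.1)).resolve_left hx.2) fun g hg y hy =>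
        ⟨h2 g hg y hy.1, fun hc => hy.2 ((M.orbit_of_chk h3 hc).le ⟨g⁻¹, inv_mem hg, inv_smul_smul g y⟩)⟩
    by_cases hc : ∃ y ∈ Y, y ∈ M.S (oM L F a us p)
    · obtain ⟨y, hy, hy'⟩ := hc
      refine ⟨_, List.mem_append_right _ (List.mem_map_of_mem hm), Set.ext fun x => ?_⟩
      rw [M.mem_S_lor, ← e]
      refine ⟨fun hx => by by_cases h : x ∈ M.S (oM L F a us p); exacts [Or.inl h, Or.inr ⟨hx, h⟩], ?_⟩
      rintro (hx | hx)
      · obtain ⟨g, hg, rfl⟩ := M.conn_of_chk h3 hy' hx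
        exact h2 g hg y hy
      · exact hx.1
    · refine ⟨m, List.mem_append_left _ hm, ?_⟩
      rw [← e]
      exact Set.ext fun x => ⟨fun hx => ⟨hx, fun h => hc ⟨x, hx, h⟩⟩, fun hx => hx.1⟩

/-- `D` is the suborbit of `b0` -/
def Nb (a D : ℕ) (b0 : X) : Prop := a < n ∧ orbit (stabilizer Γ (M.dec a)) b0 = M.S D

variable {M} {b0 : X}

theorem Nb.spec (h : Nb M a D b0) (w : Word) :
    {y | Orb Γ (M.dec a) b0 (M.dec (apW F w a)) y} = M.S (runW (letN L) w D) := Set.ext fun y => by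
  rw [M.mem_S_runW, ← h.2, ← orb_base, ← orb_smul _ _ _ _ (ev M.gen w), smul_inv_smul, ev_dec M w h.1]; rfl

theorem cnt_inv {r : X → X → Prop} [Finite X] {σ : Equiv.Perm X} (h : σ ∈ autR r) {Y : Set X}
    (hY : ∀ y ∈ Y, σ y ∈ Y) (x : X) : ({y | r (σ x) y} ∩ Y).ncard = ({y | r x y} ∩ Y).ncard := by
  have h1 : σ '' Y = Y := Set.eq_of_subset_of_ncard_le (by rintro _ ⟨y, hy, rfl⟩; exact hY y hy)
    (Set.ncard_image_of_injective _ σ.injective).ge
  rw [← Set.ncard_image_of_injective ({y | r x y} ∩ Y) σ.injective, Set.image_inter σ.injective, h1]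
  congr 2
  ext y
  obtain ⟨y, rfl⟩ := σ.surjective y
  exact (h x y).trans σ.injective.mem_set_image.symm

theorem to_aut (a b : X) (g : Γ) : toPerm g ∈ autR (Orb Γ a b) := fun _ _ => orb_smul _ _ _ _ g

theorem cnt_spec (h : Nb M a D b0) {us : List Word} {l : List (Word × List Word)} (h1 : oOk n L F a us l = true)
    {Y : ℕ} (h2 : ∀ g ∈ sub M.gen us, ∀ y ∈ M.S Y, g • y ∈ M.S Y) (t : ℕ) (x : X) :
    x ∈ M.S (cntU n L F a D us Y t l) ↔ x ∈ M.S (orA (oM L F a us) l) ∧
      ({y | Orb Γ (M.dec a) b0 x y} ∩ M.S Y).ncard = t := by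
  have := M.finite
  have key : ∀ p ∈ l, x ∈ M.S (oM L F a us p) → ({y | Orb Γ (M.dec a) b0 x y} ∩ M.S Y).ncard =
      pop n (Nat.land (runW (letN L) p.1 D) Y) := fun p hp hx => by
    obtain ⟨g, hg, rfl⟩ := (M.orb_of_chk (allL_iff.1 h1 p hp) x).1 hx
    refine (cnt_inv (to_aut _ _ g) (h2 g hg) _).trans ?_
    rw [h.spec, ← M.ncard_S]
    congr 1
    exact Set.ext fun y => (M.mem_S_land _ _ y).symm
  rw [cntU, mem_orA, mem_orA]
  constructor
  · rintro ⟨p, hp, hx⟩
    cases hb : Nat.beq (pop n (Nat.land (runW (letN L) p.1 D) Y)) t <;> rw [hb] at hx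
    · exact (M.not_mem_S_zero x hx).elim
    · exact ⟨⟨p, hp, hx⟩, (key p hp hx).trans (Nat.eq_of_beq_eq_true hb)⟩
  · rintro ⟨⟨p, hp, hx⟩, e⟩
    refine ⟨p, hp, ?_⟩
    rwa [← key p hp hx, e, Nat.beq_refl]

theorem mem_cell {ms : List ℕ} {v : ℕ} {x : X} :
    x ∈ M.S (cell n ms v) ↔ ∀ m ∈ ms, (x ∈ M.S m ↔ tb m v = true) := by
  induction ms with
  | nil => exact iff_of_true (M.mem_S_full' x) fa_nil
  | cons m ms ih =>
    have e : cell n (m :: ms) v = @Bool.rec (fun _ => ℕ) (sdf (cell n ms v) m) (Nat.land m (cell n ms v))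
      (tb m v) := rfl
    rw [e, List.forall_mem_cons, ← ih]
    cases tb m v
    · simp [M.mem_S_sdf, and_comm]
    · exact (M.mem_S_land _ _ _).trans (by simp)

theorem aut_le (h : Nb M a D b0) (s : AS) {ms : List ℕ} {A : Subgroup (Equiv.Perm X)}
    (hA : A ≤ autR (Orb Γ (M.dec a) b0)) (hm : ∀ σ ∈ A, ∀ m ∈ ms, ∀ x, σ x ∈ M.S m ↔ x ∈ M.S m)
    (h0 : autV n L F a D s ms ≠ 0) : Nat.card A ≤ autV n L F a D s ms := by
  have := M.finite
  have hc : ∀ {ms : List ℕ} {A : Subgroup (Equiv.Perm X)}, (∀ σ ∈ A, ∀ m ∈ ms, ∀ x, σ x ∈ M.S m ↔ x ∈ M.S m) →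
      ∀ σ ∈ A, ∀ v x, σ x ∈ M.S (cell n ms v) ↔ x ∈ M.S (cell n ms v) := fun hm σ hσ v x => by
    rw [mem_cell, mem_cell]
    exact forall₂_congr fun m h => by rw [hm σ hσ m h]
  have hs : ∀ ms {v}, v < n → M.dec v ∈ M.S (cell n ms v) := fun ms v hv =>
    mem_cell.2 fun m _ => M.mem_S_dec hv
  induction s generalizing ms A with
  | nil =>
    have e : autV n L F a D .nil ms = @Bool.rec (fun _ => ℕ) 0 1
      (H14.allLt (fun v => Nat.beq (cell n ms v) (bit v)) n) := rfl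
    rw [e] at h0 ⊢
    cases hb : H14.allLt (fun v => Nat.beq (cell n ms v) (bit v)) n <;> rw [hb] at h0
    · exact (h0 rfl).elim
    · refine (Subgroup.card_le_one_iff_eq_bot _).2 (eq_bot_iff.2 fun σ hσ => Equiv.ext fun x => ?_)
      have := (hc hm σ hσ _ _).2 (hs ms (M.enc_lt x))
      rwa [Nat.eq_of_beq_eq_true (allLt_spec hb _ (M.enc_lt x)), M.mem_S_bit (M.enc_lt x), M.dec_enc] at this
  | pt w r ih =>
    have e : autV n L F a D (.pt w r) ms = pop n (cell n ms (apW F w a)) *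
      autV n L F a D r (runW (letN L) w D :: bit (apW F w a) :: ms) := rfl
    rw [e] at h0 ⊢
    have hv := apW_lt M (F := F) w h.1
    rw [PM.card_eq_mul A (M.dec (apW F w a)), mul_comm, ← M.ncard_S]
    refine Nat.mul_le_mul (Set.ncard_le_ncard (fun y ⟨σ, hσ, e⟩ => e ▸ (hc hm σ hσ _ _).2 (hs ms hv)))
      (ih (inf_le_left.trans hA) (fun σ hσ => ?_) (right_ne_zero_of_mul h0))
    have h1 : σ (M.dec (apW F w a)) = M.dec (apW F w a) := hσ.2
    refine fa_cons (fun x => ?_) (fa_cons (fun x => ?_) (hm σ hσ.1))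
    · rw [← h.spec (F := F)]
      exact (h1 ▸ hA hσ.1 (M.dec (apW F w a)) x :)
    · rw [M.mem_S_bit hv, M.mem_S_bit hv, ← σ.injective.eq_iff (a := x), h1]
  | ref us l x y t r ih =>
    have e : autV n L F a D (.ref us l x y t r) ms = @Bool.rec (fun _ => ℕ) 0
      (autV n L F a D r (cntU n L F a D us (cell n ms y) t l :: ms))
      (band (oOk n L F a us l) (band (invChk L us (cell n ms y))
        (Nat.beq (orA (oM L F a us) l) (cell n ms x)))) := rfl
    rw [e] at h0 ⊢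
    cases hb : band (oOk n L F a us l) (band (invChk L us (cell n ms y))
      (Nat.beq (orA (oM L F a us) l) (cell n ms x))) <;> rw [hb] at h0
    · exact (h0 rfl).elim
    obtain ⟨h1, h2⟩ := band_iff.1 hb
    obtain ⟨h2, h3⟩ := band_iff.1 h2
    refine ih hA (fun σ hσ => fa_cons (fun z => ?_) (hm σ hσ)) h0
    rw [cnt_spec h h1 (PM.Inv.of_chk h2), cnt_spec h h1 (PM.Inv.of_chk h2), Nat.eq_of_beq_eq_true h3,
      hc hm σ hσ, cnt_inv (hA hσ) fun z hz => (hc hm σ hσ _ z).2 hz]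

theorem hit_spec {c : Lv} {fx : List ℕ} (hc : Ex M c fx) {T : List Word} {g w : Word} {K : Subgroup Γ}
    (hK : K ≤ M.fixL fx) (hg : ev M.gen g ∈ M.fixL fx) (hT : sub M.gen T ≤ K)
    (h : hit F (bas c) T g w = true) : ev M.gen g ∈ K := by
  have h1 := hT (ev_flat_mem _ T w)
  have := ex_base hc (g := (ev M.gen g)⁻¹ * ev M.gen (flat T w)) (mul_mem (inv_mem hg) (hK h1)) fun x hx hn => by
    rw [mul_smul, inv_smul_eq_iff, ev_dec M _ hn, ev_dec M _ hn, Nat.eq_of_beq_eq_true (allL_iff.1 h x hx)]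
  rwa [inv_mul_eq_one.1 this]

theorem sub_cons_le {x : ℕ → Γ} {w : Word} {T : List Word} {K : Subgroup Γ} (hw : ev x w ∈ K) (hT : sub x T ≤ K) :
    sub x (w :: T) ≤ K := (sub_le _).2 (fa_cons hw fun _ h => hT (ev_mem_sub _ h))

theorem sieve_spec {c : Lv} {fx : List ℕ} (hc : Ex M c fx) {T : List Word} {g : Word} {K : Subgroup Γ}
    (hK : K ≤ M.fixL fx) (hg : ev M.gen g ∈ M.fixL fx) (hT : sub M.gen T ≤ K) (hn : ev M.gen g ∉ K)
    {A E cs : List Word} {t : Word} (h : sieve F (bas c) T g A t E cs = true) :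
    ∀ u ∈ E, ev M.gen (t ++ u) ∈ K → t ++ u ∈ A := by
  induction E generalizing cs with
  | nil => exact fa_nil
  | cons u E ih =>
    obtain ⟨h1, h2⟩ := band_iff.1 h
    refine fa_cons (fun hu => ?_) (ih h2)
    generalize List.headD cs [] = d at h1
    cases d with
    | nil => exact List.mem_of_elem_eq_true h1
    | cons i d => exact (hn (hit_spec hc hK hg (sub_cons_le hu hT) h1)).elim

/-- transversal of the first level of a chain -/
noncomputable def trChk (n : ℕ) (L : List Net) (F : ℕ → ℕ → ℕ) (c : Lv) (fx : List ℕ) (T : List Word) : Bool :=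
  lvCase c false (fun b O _ => band (allL (fun t => fixes F t fx) T) (subs O (trImg L T b))) L

theorem cover_ex {c : Lv} {fx : List ℕ} (hc : Ex M c fx) {T : List Word} {Ts : List (List Word)}
    (h : trChk n L F c fx T = true) (h' : Cover M.gen (M.fixL (hd c :: fx)) Ts) :
    Cover M.gen (M.fixL fx) (T :: Ts) := by
  cases c with
  | nil => exact absurd h Bool.false_ne_true
  | cons b ws s r =>
    obtain ⟨h1, h2⟩ := band_iff.1 h
    exact M.cover_step' (M.fixL_cons b fx).ge hc.step.2.2 (fun t ht => fixes_spec (allL_iff.1 h1 t ht) hc.lt)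
      (Bool.and_eq_true_iff.2 ⟨Nat.ble_eq_true_of_le hc.step.1, h2⟩) h'

theorem cover_nil {fx : List ℕ} (hc : Ex M .nil fx) : Cover M.gen (M.fixL fx) [] := Cover.nil.mono hc.mem

theorem le_fix {ws : List Word} {fx : List ℕ} (h : band (allL (fun x => Nat.ble (Nat.succ x) n) fx)
    (allL (fun t => fixes F t fx) ws) = true) : sub M.gen ws ≤ M.fixL fx := (sub_le _).2 fun w hw =>
  fixes_spec (allL_iff.1 (band_iff.1 h).2 w hw) fun x hx => Nat.le_of_ble_eq_true (allL_iff.1 (band_iff.1 h).1 x hx)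

/-- the words fix the points -/
noncomputable def fxB (n : ℕ) (F : ℕ → ℕ → ℕ) (ws : List Word) (fx : List ℕ) : Bool :=
  band (allL (fun x => Nat.ble (Nat.succ x) n) fx) (allL (fun t => fixes F t fx) ws)

noncomputable def rkB (n : ℕ) (L : List Net) (F : ℕ → ℕ → ℕ) (c : Lv) (b d D Z k l : ℕ) (s0 s1 s2 : List Word) :
    Bool :=
  band (fxB n F (tl c).gens [hd c]) (band (PM.orbChk n L c.gens (hd c) (H14.full n) s0)
    (band (PM.orbChk n L (tl c).gens b D s1) (band (PM.orbChk n L (tl c).gens d Z s2)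
      (band (Nat.beq (pop n D) k) (band (Nat.beq (pop n Z) l) (band (Nat.beq (pop n (H14.full n)) (1 + k + l))
        (band (Nat.ble 2 k) (band (Nat.ble 2 l) (bnot (Nat.beq k l))))))))))

theorem ex_tl {c : Lv} {fx : List ℕ} (hc : Ex M c fx) (h : hd c < n) : Ex M (tl c) (hd c :: fx) := by
  cases c with
  | nil => exact ⟨fa_cons h hc.lt, fun g h => hc.mem g fun x hx => h x (List.mem_cons_of_mem _ hx), hc.card, hc.ne⟩
  | cons b ws s r => exact hc.step.2.1

theorem fix1 (a : ℕ) : M.fixL [a] = stabilizer Γ (M.dec a) := by rw [M.fixL_cons, M.fixL_nil, top_inf_eq]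

theorem rk_of {c : Lv} (hc : Ex M c []) {b d Z k l : ℕ} {s0 s1 s2 : List Word}
    (h : rkB n L F c b d D Z k l s0 s1 s2 = true) :
    Rk Γ (M.dec (hd c)) (M.dec b) (M.dec d) k l ∧ Nb M (hd c) D (M.dec b) ∧ Nb M (hd c) Z (M.dec d) ∧
      Nat.card (stabilizer Γ (M.dec (hd c))) = (tl c).val n L := by
  simp only [rkB, band_iff] at h
  obtain ⟨h1, h2, h3, h4, h5, h6, h7, h8, h9, h10⟩ := h
  have ha : hd c < n := Nat.le_of_ble_eq_true (allL_iff.1 (band_iff.1 h1).1 _ List.mem_cons_self)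
  have e : stabilizer Γ (M.dec (hd c)) = sub M.gen (tl c).gens :=
    (fix1 _).symm.trans (le_antisymm (ex_tl hc ha).mem (le_fix h1))
  have k1 : ∀ {b D s}, PM.orbChk n L (tl c).gens b D s = true →
      orbit (stabilizer Γ (M.dec (hd c))) (M.dec b) = M.S D := fun h => Set.ext fun y => by
    rw [M.orb_of_chk h, ← e]
    exact ⟨fun ⟨g, hg⟩ => ⟨g, g.2, hg⟩, fun ⟨g, hg, e⟩ => ⟨⟨g, hg⟩, e⟩⟩
  refine ⟨⟨⟨fun x y => ?_⟩, ?_, ?_, ?_, Nat.le_of_ble_eq_true h8, Nat.le_of_ble_eq_true h9,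
    Nat.ne_of_beq_eq_false (bnot_iff.1 h10)⟩, ⟨ha, k1 h3⟩, ⟨ha, k1 h4⟩, e ▸ (ex_tl hc ha).card⟩
  · obtain ⟨g, -, e⟩ := M.conn_of_chk h2 (M.mem_S_full' x) (M.mem_S_full' y)
    exact ⟨g, e⟩
  · rw [← Set.ncard_univ, ← M.S_full, M.ncard_S, Nat.eq_of_beq_eq_true h7]
  · rw [k1 h3, M.ncard_S, Nat.eq_of_beq_eq_true h5]
  · rw [k1 h4, M.ncard_S, Nat.eq_of_beq_eq_true h6]

noncomputable def bB (n : ℕ) (L : List Net) (F : ℕ → ℕ → ℕ) (a D k l μ : ℕ) (w : Word) (us : List Word)
    (o : List (Word × List Word)) : Bool :=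
  band (fxB n F us [a, apW F w a]) (band (oOk n L F a us o)
    (band (subs (sdf D (bit (apW F w a))) (orA (oM L F a us) o))
      (allL (fun m => bor (bnot (Nat.beq (Nat.mod (k * (k - pop n m - 1)) l) 0))
        (bor (Nat.beq (k * (k - pop n m - 1)) 0) (band (Nat.beq (k * (k - pop n m - 1)) (l * μ))
          (Nat.beq m (Nat.land (runW (letN L) w D) D))))) (unions (oM L F a us) o))))

theorem hB_of {k l μ b : ℕ} {w : Word} (hb : apW F w a = b) (h0 : Nb M a D (M.dec b)) (hl : 0 < l) {us : List Word}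
    {o : List (Word × List Word)} (h : bB n L F a D k l μ w us o = true) :
    ∀ Y ⊆ orbit (stabilizer Γ (M.dec a)) (M.dec b), M.dec b ∉ Y →
      (∀ g : Γ, g • M.dec a = M.dec a → g • M.dec b = M.dec b → ∀ y ∈ Y, g • y ∈ Y) →
      ∀ j ≠ 0, k * (k - Y.ncard - 1) = l * j → j = μ ∧
        Y = {y | Orb Γ (M.dec a) (M.dec b) (M.dec b) y} ∩ orbit (stabilizer Γ (M.dec a)) (M.dec b) := by
  subst hb
  intro Y h1 h2 h3 j hj h4
  simp only [bB, band_iff] at h
  obtain ⟨a1, a2, a3, a4⟩ := h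
  obtain ⟨m, hm, rfl⟩ := inv_cases M a2 (Y := Y) (fun y hy => M.S_mono a3 ((M.mem_S_sdf _ _ _).2
    ⟨h0.2 ▸ h1 hy, fun e => h2 ((M.mem_S_bit (apW_lt M w h0.1)).1 e ▸ hy)⟩)) fun g hg =>
      h3 g (le_fix a1 hg _ List.mem_cons_self) (le_fix a1 hg _ (by simp))
  have := allL_iff.1 a4 m hm
  rw [← M.ncard_S, h4] at this
  rcases bor_iff.1 this with h | h
  · exact absurd (Nat.mul_mod_right l j) (Nat.ne_of_beq_eq_false (bnot_iff.1 h))
  rcases bor_iff.1 h with h | h
  · exact absurd (Nat.eq_of_beq_eq_true h) (Nat.mul_ne_zero hl.ne' hj)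
  obtain ⟨b1, b2⟩ := band_iff.1 h
  refine ⟨Nat.eq_of_mul_eq_mul_left hl (Nat.eq_of_beq_eq_true b1), ?_⟩
  rw [h0.spec, h0.2, Nat.eq_of_beq_eq_true b2]
  exact Set.ext fun y => M.mem_S_land _ _ y

noncomputable def dB (n : ℕ) (L : List Net) (F : ℕ → ℕ → ℕ) (a D k μ : ℕ) (w : Word) (us : List Word)
    (o : List (Word × List Word)) : Bool :=
  band (fxB n F us [a, apW F w a]) (band (oOk n L F a us o)
    (band (subs (sdf (sdf (H14.full n) (bit a)) (bit (apW F w a))) (orA (oM L F a us) o))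
      (allL (fun m => bor (bnot (Nat.beq (pop n m) k)) (bor (bnot (Nat.beq (pop n (Nat.land m D)) μ))
        (Nat.beq m (runW (letN L) w D)))) (unions (oM L F a us) o))))

theorem hD_of {k μ d : ℕ} {w : Word} (hd : apW F w a = d) (h0 : Nb M a D b0) {us : List Word}
    {o : List (Word × List Word)} (h : dB n L F a D k μ w us o = true) :
    ∀ Y : Set X, M.dec a ∉ Y → M.dec d ∉ Y →
      (∀ g : Γ, g • M.dec a = M.dec a → g • M.dec d = M.dec d → ∀ y ∈ Y, g • y ∈ Y) → Y.ncard = k →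
      (Y ∩ orbit (stabilizer Γ (M.dec a)) b0).ncard = μ → Y = {y | Orb Γ (M.dec a) b0 (M.dec d) y} := by
  subst hd
  intro Y h1 h2 h3 h4 h5
  simp only [dB, band_iff] at h
  obtain ⟨a1, a2, a3, a4⟩ := h
  obtain ⟨m, hm, rfl⟩ := inv_cases M a2 (Y := Y) (fun y hy => M.S_mono a3 ((M.mem_S_sdf _ _ _).2
    ⟨(M.mem_S_sdf _ _ _).2 ⟨M.mem_S_full' y, fun e => h1 ((M.mem_S_bit h0.1).1 e ▸ hy)⟩,
      fun e => h2 ((M.mem_S_bit (apW_lt M w h0.1)).1 e ▸ hy)⟩)) fun g hg =>
      h3 g (le_fix a1 hg _ List.mem_cons_self) (le_fix a1 hg _ (by simp))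
  rcases bor_iff.1 (allL_iff.1 a4 m hm) with h | h
  · exact absurd (M.ncard_S m ▸ h4) (Nat.ne_of_beq_eq_false (bnot_iff.1 h))
  rcases bor_iff.1 h with h | h
  · refine absurd ?_ (Nat.ne_of_beq_eq_false (bnot_iff.1 h))
    rw [← M.ncard_S, ← h5, h0.2]
    congr 1
    exact Set.ext fun y => M.mem_S_land _ _ y
  · rw [h0.spec, ← Nat.eq_of_beq_eq_true h]

theorem cj_fix {H K : Subgroup Γ} {x : Γ} (hx : x ∈ H) {y : X}
    (h : K.comap (MulAut.conj x).toMonoidHom ≤ stabilizer Γ y) : ∃ z ∈ orbit H y, K ≤ stabilizer Γ z :=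
  ⟨_, ⟨⟨x, hx⟩, rfl⟩, fun g hg => by
    have : (x⁻¹ * g * x) • y = y := h (by simpa [mul_assoc] using hg)
    rwa [mul_smul, mul_smul, inv_smul_eq_iff] at this⟩

theorem cj_le {H K : Subgroup Γ} {x : Γ} (hx : x ∈ H) (h : K ≤ H) : K.comap (MulAut.conj x).toMonoidHom ≤ H :=
  fun g hg => by simpa [mul_assoc] using mul_mem (mul_mem (inv_mem hx) (h hg)) hx

/-- refine invariant masks by counting neighbours in the cells of the points `ys` -/
noncomputable def rf (n : ℕ) (L : List Net) (F : ℕ → ℕ → ℕ) (a D : ℕ) (us : List Word) (l : List (Word × List Word))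
    (ys : List ℕ) : List ℕ → List ℕ :=
  @List.rec _ (fun _ => List ℕ → List ℕ) (fun ms => ms) (fun y _ ih ms => ih (List.append (List.map (fun p =>
    cntU n L F a D us (cell n ms y) (pop n (Nat.land (runW (letN L) p.1 D) (cell n ms y))) l) l) ms)) ys

theorem cell_inv {K : Subgroup Γ} {ms : List ℕ} (h : ∀ m ∈ ms, M.Inv K m) (v : ℕ) : M.Inv K (cell n ms v) :=
  fun g hg x hx => mem_cell.2 fun m hm => ((h m hm).iff hg x).trans (mem_cell.1 hx m hm)

theorem rf_inv (h0 : Nb M a D b0) {us : List Word} {l : List (Word × List Word)} (h1 : oOk n L F a us l = true)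
    (h2 : subs (H14.full n) (orA (oM L F a us) l) = true) {K : Subgroup Γ} (hK : sub M.gen us ≤ K) (ys : List ℕ)
    {ms : List ℕ} (h : ∀ m ∈ ms, M.Inv K m) : ∀ m ∈ rf n L F a D us l ys ms, M.Inv K m := by
  have := M.finite
  induction ys generalizing ms with
  | nil => exact h
  | cons y ys ih =>
    refine ih fun m hm => (List.mem_append.1 hm).elim (fun hm => ?_) (h m)
    obtain ⟨p, -, rfl⟩ := List.mem_map.1 hm
    intro g hg x hx
    rw [cnt_spec h0 h1 ((cell_inv h y).mono hK)] at hx ⊢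
    exact ⟨M.S_mono h2 (M.mem_S_full' _), (cnt_inv (to_aut _ _ g) (cell_inv h y g hg) x).trans hx.2⟩

noncomputable def cB (n : ℕ) (L : List Net) (F : ℕ → ℕ → ℕ) (a D μ d : ℕ) (us : List Word)
    (o o' : List (Word × List Word)) (ys : List ℕ) : Bool :=
  band (Nat.ble (Nat.succ d) n) (band (oOk n L F a us o) (band (oOk n L F a us o') (band (subs D (orA (oM L F a us) o))
    (band (subs (H14.full n) (orA (oM L F a us) o')) (allL (fun m => bor (bnot (Nat.beq (pop n m) μ))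
      (Nat.beq (cell n (rf n L F a D us o' ys [m, D, bit a]) d) (bit d))) (unions (oM L F a us) o))))))

/-- an overgroup of `us` with an invariant set of size `μ` in the first suborbit fixes `d` -/
theorem hC_of {μ d : ℕ} (h0 : Nb M a D b0) {us : List Word} {o o' : List (Word × List Word)} {ys : List ℕ}
    (h : cB n L F a D μ d us o o' ys = true) {K : Subgroup Γ}
    (hK : K ≤ stabilizer Γ (M.dec a)) {Y : Set X} (h1 : Y ⊆ orbit (stabilizer Γ (M.dec a)) b0)
    (h2 : ∀ g ∈ K, ∀ y ∈ Y, g • y ∈ Y) (h3 : Y.ncard = μ)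
    (hx : ∃ x ∈ stabilizer Γ (M.dec a), sub M.gen us ≤ K.comap (MulAut.conj x).toMonoidHom) :
    ∃ y ∈ orbit (stabilizer Γ (M.dec a)) (M.dec d), K ≤ stabilizer Γ y := by
  have := M.finite
  obtain ⟨x, hx, h4⟩ := hx
  simp only [cB, band_iff] at h
  obtain ⟨a0, a1, a2, a3, a4, a5⟩ := h
  have hd : d < n := Nat.le_of_ble_eq_true a0
  have h5 : ∀ g ∈ K.comap (MulAut.conj x).toMonoidHom, ∀ y ∈ (x • ·) ⁻¹' Y, g • y ∈ (x • ·) ⁻¹' Y :=
    fun g hg y hy => by simpa [mul_smul] using h2 _ hg _ hy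
  obtain ⟨m, hm, e⟩ := inv_cases M a1 (Y := (x • ·) ⁻¹' Y) (fun y hy => M.S_mono a3 (h0.2 ▸ by
    simpa using mapsTo_smul_orbit (⟨x⁻¹, inv_mem hx⟩ : stabilizer Γ (M.dec a)) b0 (h1 hy))) fun g hg => h5 g (h4 hg)
  refine cj_fix hx ?_
  rcases bor_iff.1 (allL_iff.1 a5 m hm) with h | h
  · refine absurd ?_ (Nat.ne_of_beq_eq_false (bnot_iff.1 h))
    rw [← M.ncard_S, ← e, ← h3]
    exact Set.ncard_preimage_of_injective_subset_range (MulAction.injective x) (by simp [MulAction.surjective])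
  rw [e] at h5
  refine PM.Inv.le_stab hd (PM.Inv.of_eq (cell_inv (rf_inv h0 a2 a4 h4 ys (fa_cons h5 (fa_cons (fun g hg y hy => ?_)
    (fa_cons ((PM.Inv.stab h0.1).mono (cj_le hx hK)) fa_nil)))) d) h)
  rw [← h0.2] at hy ⊢
  exact mapsTo_smul_orbit (⟨g, cj_le hx hK hg⟩ : stabilizer Γ (M.dec a)) b0 hy

theorem card_step {c : Lv} {fx : List ℕ} (hc : Ex M c fx) {K : Subgroup Γ} {m : ℕ}
    (h : lvCase c false (fun _ O _ => Nat.ble (pop n O) m) L = true) :
    Nat.card (K ⊓ M.fixL fx : Subgroup Γ) ≤ m * Nat.card (K ⊓ M.fixL (hd c :: fx) : Subgroup Γ) := by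
  cases c with
  | nil => exact absurd h Bool.false_ne_true
  | cons b ws s r =>
    rw [M.fixL_cons, ← inf_assoc]
    exact (M.card_le_mul (A := K ⊓ M.fixL fx) fun g hg => hc.step.2.2 g hg.2).trans
      (Nat.mul_le_mul_right _ (Nat.le_of_ble_eq_true h))

theorem sieve_all {c : Lv} {fx : List ℕ} (hc : Ex M c fx) {T : List Word} {g : Word} {K J : Subgroup Γ}
    (hK : K ≤ M.fixL fx) (hg : ev M.gen g ∈ M.fixL fx) (hT : sub M.gen T ≤ K) (hn : ev M.gen g ∉ K)
    {S E : List Word} {P : List (Word × Word × Word)} {d : List (Word × List Word)}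
    (hJ : Cover M.gen J [List.map Prod.fst d, E])
    (h : allL (fun p => sieve F (bas c) T g (List.append S (List.append (List.map (·.1) P) (List.map (·.2.1) P)))
      p.1 E p.2) d = true) (h' : allL (fun p => hit F (bas c) (p.1 :: p.2.1 :: T) g p.2.2) P = true) :
    Nat.card (K ⊓ J : Subgroup Γ) ≤ S.length + P.length := by
  refine card_pairs (fun y hy => ?_) fun p hp h1 h2 =>
    hn (hit_spec hc hK hg (sub_cons_le h1.1 (sub_cons_le h2.1 hT)) (allL_iff.1 h' p hp))
  obtain ⟨w, hw, rfl⟩ := hJ y hy.2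
  simp only [prods, List.mem_flatMap, List.mem_map, List.mem_singleton, exists_eq_left, List.append_nil] at hw
  obtain ⟨_, ⟨p, hp, rfl⟩, _, ⟨u, hu, rfl⟩, rfl⟩ := hw
  exact ⟨_, sieve_spec hc hK hg hT hn (allL_iff.1 h p hp) u hu hy.1, rfl⟩

theorem allL_app {α : Type} {f : α → Bool} {l l' : List α} (h : allL f l = true) (h' : allL f l' = true) :
    allL f (List.append l l') = true :=
  allL_iff.2 fun a ha => (List.mem_append.1 ha).elim (allL_iff.1 h a) (allL_iff.1 h' a)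

theorem low_sub [Finite Γ] (c : Lv) (us : List Word) : (c.sbst us).val n L ≤ Nat.card (sub M.gen us) :=
  (M.low _ inferInstance).trans (Subgroup.card_le_of_le (Lv.gens_sbst us c ▸ sub_map_flat_le _ _ _))

end
end H14.R3
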