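import Cfsg.Agent.H14.R3T
import Cfsg.Agent.H14.McLc

/-! Generated certificate (tools14/r3): the rank 3 action of `McL` of degree 275 is determined by its
point stabiliser and subdegrees (`H14.R3M.main`). -/
set_option Elab.async false
set_option autoImplicit false
set_option maxRecDepth 100000
set_option maxHeartbeats 0
set_option linter.unusedSectionVars false

namespace H14.R3M
open L H14.R3 MulAction

noncomputable def c1 : Lv := (.cons (nat_lit 0) [dw (nat_lit 0x01), dw (nat_lit 0x03), dw (nat_lit 0x05), dw (nat_lit 0x07)] [dw (nat_lit 0x01), dw (nat_lit 0x03), dw (nat_lit 0x05), dw (nat_lit 0x01), dw (nat_lit 0x07), dw (nat_lit 0x09), dw (nat_lit 0x1b), dw (nat_lit 0x11)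
, dw (nat_lit 0x0d), dw (nat_lit 0x0b), dw (nat_lit 0x01)]
(.cons (nat_lit 2) [dw (nat_lit 0x09), dw (nat_lit 0x0b)] [dw (nat_lit 0x01), dw (nat_lit 0x03), dw (nat_lit 0x01), dw (nat_lit 0x05), dw (nat_lit 0x09), dw (nat_lit 0x0f), dw (nat_lit 0x11), dw (nat_lit 0x0b)
, dw (nat_lit 0x03)]
(.cons (nat_lit 138) [dw (nat_lit 0x0d), dw (nat_lit 0x0f), dw (nat_lit 0x11), dw (nat_lit 0x13), dw (nat_lit 0x15), dw (nat_lit 0x17), dw (nat_lit 0x19), dw (nat_lit 0x1b)
, dw (nat_lit 0x1d)] [dw (nat_lit 0x01), dw (nat_lit 0x03), dw (nat_lit 0x05), dw (nat_lit 0x01), dw (nat_lit 0x03), dw (nat_lit 0x01)]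
(.cons (nat_lit 1) [dw (nat_lit 0x130e1e101612180e120e160d), dw (nat_lit 0x16131311), dw (nat_lit 0x160d1814)] [dw (nat_lit 0x03), dw (nat_lit 0x05), dw (nat_lit 0x03), dw (nat_lit 0x05), dw (nat_lit 0x03), dw (nat_lit 0x05), dw (nat_lit 0x03), dw (nat_lit 0x01)
, dw (nat_lit 0x03)]
(.cons (nat_lit 5) [dw (nat_lit 0x121414151214141513170e1512141415130e1e101612180e120e160d), dw (nat_lit 0x13170e13131113170e150e150d110d1711150f1d0d1416131311160d181416131311), dw (nat_lit 0x0e150d110d1711150f1d0d14121414150e150d110d1711150f1d0d1416131311161313110e150d110d1711150f1d0d1416131311160d1814160d181416131311160d1814)] [dw (nat_lit 0x01), dw (nat_lit 0x03), dw (nat_lit 0x01), dw (nat_lit 0x05)]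
(.cons (nat_lit 3) [dw (nat_lit 0x121414151214141513170e1512141415121414150e150d110d1711150f1d0d1416131311161313110e150d110d1711150f1d0d1416131311160d1814160d181416131311160d1814)] [dw (nat_lit 0x01)]
.nil))))))
noncomputable def D : ℕ := (nat_lit 0x648625a84ec6a1005d108c61988aee4a2c7a4514cc630650939d47182ca1a674b2544)
noncomputable def Z : ℕ := (nat_lit 0x1b79da57b1395effa2ef739e677511b5d385baeb339cf9af6c62b8e7d35e598b4daba)
noncomputable def s0 : List Word := [dw (nat_lit 0x01), dw (nat_lit 0x03), dw (nat_lit 0x05), dw (nat_lit 0x01), dw (nat_lit 0x07), dw (nat_lit 0x09), dw (nat_lit 0x1b), dw (nat_lit 0x11)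
, dw (nat_lit 0x0d), dw (nat_lit 0x0b), dw (nat_lit 0x01)]
noncomputable def s1 : List Word := [dw (nat_lit 0x01), dw (nat_lit 0x03), dw (nat_lit 0x01), dw (nat_lit 0x05), dw (nat_lit 0x09), dw (nat_lit 0x0f), dw (nat_lit 0x11), dw (nat_lit 0x0b)
, dw (nat_lit 0x03)]
noncomputable def s2 : List Word := [dw (nat_lit 0x01), dw (nat_lit 0x03), dw (nat_lit 0x05), dw (nat_lit 0x0b), dw (nat_lit 0x01), dw (nat_lit 0x03), dw (nat_lit 0x05), dw (nat_lit 0x09)
, dw (nat_lit 0x0b)]
noncomputable def s3 : List Word := [dw (nat_lit 0x01), dw (nat_lit 0x03), dw (nat_lit 0x05), dw (nat_lit 0x01), dw (nat_lit 0x03), dw (nat_lit 0x01)]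
noncomputable def wb : Word := dw (nat_lit 0x03)
noncomputable def wc : Word := dw (nat_lit 0x01)
noncomputable def uJ : List Word := [dw (nat_lit 0x0d), dw (nat_lit 0x0f), dw (nat_lit 0x11), dw (nat_lit 0x13), dw (nat_lit 0x15), dw (nat_lit 0x17), dw (nat_lit 0x19), dw (nat_lit 0x1b)
, dw (nat_lit 0x1d)]
noncomputable def oJ : List (Word × List Word) := [(dw (nat_lit 0x04), [dw (nat_lit 0x01), dw (nat_lit 0x03), dw (nat_lit 0x05), dw (nat_lit 0x01), dw (nat_lit 0x11), dw (nat_lit 0x01), dw (nat_lit 0x01)]),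
  (dw (nat_lit 0x06), [dw (nat_lit 0x01), dw (nat_lit 0x03), dw (nat_lit 0x05), dw (nat_lit 0x07), dw (nat_lit 0x01), dw (nat_lit 0x0b), dw (nat_lit 0x03), dw (nat_lit 0x0d)
, dw (nat_lit 0x01)])]
noncomputable def uP : List Word := [dw (nat_lit 0x1e), dw (nat_lit 0x0e09091209141b)]
noncomputable def oP : List (Word × List Word) := [(dw (nat_lit 0x03), [dw (nat_lit 0x03), dw (nat_lit 0x01), dw (nat_lit 0x03), dw (nat_lit 0x01), dw (nat_lit 0x03), dw (nat_lit 0x01), dw (nat_lit 0x03), dw (nat_lit 0x01)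
, dw (nat_lit 0x03), dw (nat_lit 0x01), dw (nat_lit 0x03), dw (nat_lit 0x01)]),
  (dw (nat_lit 0x08), [dw (nat_lit 0x01), dw (nat_lit 0x03), dw (nat_lit 0x01), dw (nat_lit 0x03), dw (nat_lit 0x01), dw (nat_lit 0x03), dw (nat_lit 0x01), dw (nat_lit 0x03)
, dw (nat_lit 0x01), dw (nat_lit 0x03), dw (nat_lit 0x01), dw (nat_lit 0x03), dw (nat_lit 0x01), dw (nat_lit 0x03), dw (nat_lit 0x01), dw (nat_lit 0x03)
]),
  (dw (nat_lit 0x07), [dw (nat_lit 0x01), dw (nat_lit 0x03), dw (nat_lit 0x01), dw (nat_lit 0x03), dw (nat_lit 0x01), dw (nat_lit 0x03), dw (nat_lit 0x01), dw (nat_lit 0x03)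
, dw (nat_lit 0x01), dw (nat_lit 0x03), dw (nat_lit 0x01), dw (nat_lit 0x03), dw (nat_lit 0x01), dw (nat_lit 0x03), dw (nat_lit 0x03), dw (nat_lit 0x01)
]),
  (dw (nat_lit 0x06), [dw (nat_lit 0x01), dw (nat_lit 0x03), dw (nat_lit 0x01), dw (nat_lit 0x03), dw (nat_lit 0x01), dw (nat_lit 0x03), dw (nat_lit 0x01), dw (nat_lit 0x03)
, dw (nat_lit 0x01), dw (nat_lit 0x03), dw (nat_lit 0x01), dw (nat_lit 0x03)])]
noncomputable def lU : List (Word × List Word) := [(dw (nat_lit 0x0d141613180e), [dw (nat_lit 0x07), dw (nat_lit 0x020301), dw (nat_lit 0x070205), dw (nat_lit 0x0802)]),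
  (dw (nat_lit 0x0d171415130e0f0f0d141613180e), [dw (nat_lit 0x010603), dw (nat_lit 0x06020401), dw (nat_lit 0x04020401)]),
  (dw (nat_lit 0x0e150e1517), [dw (nat_lit 0x03), dw (nat_lit 0x03030101)]),
  (dw (nat_lit 0x18160d160d0f0f0e150e1517), [dw (nat_lit 0x01)]),
  (dw (nat_lit 0x0f0f), [])]
noncomputable def oU : List (Word × List Word) := [(dw (nat_lit 0x03), []),
  (dw (nat_lit 0x04), [dw (nat_lit 0x09), dw (nat_lit 0x0909), dw (nat_lit 0x05), dw (nat_lit 0x09), dw (nat_lit 0x05), dw (nat_lit 0x09), dw (nat_lit 0x09), dw (nat_lit 0x0909)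
]),
  (dw (nat_lit 0x05), [dw (nat_lit 0x09), dw (nat_lit 0x0909), dw (nat_lit 0x05), dw (nat_lit 0x09), dw (nat_lit 0x09), dw (nat_lit 0x05), dw (nat_lit 0x09), dw (nat_lit 0x01)
, dw (nat_lit 0x09), dw (nat_lit 0x05)]),
  (dw (nat_lit 0x1a04), [dw (nat_lit 0x09), dw (nat_lit 0x09)])]
noncomputable def cU : Lv := (.cons (nat_lit 1) [dw (nat_lit 0x01), dw (nat_lit 0x03), dw (nat_lit 0x05), dw (nat_lit 0x07), dw (nat_lit 0x09)] [dw (nat_lit 0x09), dw (nat_lit 0x0909), dw (nat_lit 0x05), dw (nat_lit 0x09), dw (nat_lit 0x09), dw (nat_lit 0x05), dw (nat_lit 0x09), dw (nat_lit 0x05)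
, dw (nat_lit 0x09), dw (nat_lit 0x09), dw (nat_lit 0x09), dw (nat_lit 0x09)]
(.cons (nat_lit 5) [dw (nat_lit 0x060109010502), dw (nat_lit 0x06070209)] [dw (nat_lit 0x03), dw (nat_lit 0x01), dw (nat_lit 0x03), dw (nat_lit 0x01)]
.nil))
noncomputable def mL : ℕ := (nat_lit 0x80000000000000000000020000040000000000000000000000000000000004)
noncomputable def xs : List Word := [dw (nat_lit 0x0808), dw (nat_lit 0x0f0601), dw (nat_lit 0x0601), dw (nat_lit 0x031001)]
noncomputable def w7 : Word := dw (nat_lit 0x0c)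
noncomputable def oS : List (Word × List Word) := [(dw (nat_lit 0x03), [dw (nat_lit 0x01), dw (nat_lit 0x0101), dw (nat_lit 0x010101)]),
  (dw (nat_lit 0x0303), [dw (nat_lit 0x01), dw (nat_lit 0x0202), dw (nat_lit 0x020202)]),
  (dw (nat_lit 0x0808), [dw (nat_lit 0x01), dw (nat_lit 0x0202), dw (nat_lit 0x020202)]),
  (dw (nat_lit 0x06), [dw (nat_lit 0x01), dw (nat_lit 0x0202), dw (nat_lit 0x010101)]),
  (dw (nat_lit 0x1506), [dw (nat_lit 0x01), dw (nat_lit 0x0202), dw (nat_lit 0x010101)]),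
  (dw (nat_lit 0x05), [dw (nat_lit 0x01), dw (nat_lit 0x0202), dw (nat_lit 0x010101)]),
  (dw (nat_lit 0x0601), [dw (nat_lit 0x01), dw (nat_lit 0x0202), dw (nat_lit 0x0101), dw (nat_lit 0x01)]),
  (dw (nat_lit 0x0306), [dw (nat_lit 0x01), dw (nat_lit 0x0202), dw (nat_lit 0x010101)]),
  (dw (nat_lit 0x0608), [dw (nat_lit 0x01), dw (nat_lit 0x0202), dw (nat_lit 0x010101)]),
  (dw (nat_lit 0x1806), [dw (nat_lit 0x01), dw (nat_lit 0x0202), dw (nat_lit 0x020202)]),
  (dw (nat_lit 0x0505), [dw (nat_lit 0x01), dw (nat_lit 0x0202), dw (nat_lit 0x010101)]),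
  (dw (nat_lit 0x0d04), [dw (nat_lit 0x01), dw (nat_lit 0x0202), dw (nat_lit 0x020202)]),
  (dw (nat_lit 0x1d04), [dw (nat_lit 0x01), dw (nat_lit 0x0101), dw (nat_lit 0x010101)]),
  (dw (nat_lit 0x0207), [dw (nat_lit 0x01), dw (nat_lit 0x0202), dw (nat_lit 0x020202)]),
  (dw (nat_lit 0x0705), [dw (nat_lit 0x01), dw (nat_lit 0x0101), dw (nat_lit 0x020202)]),
  (dw (nat_lit 0x0e05), [dw (nat_lit 0x01), dw (nat_lit 0x0101), dw (nat_lit 0x020202)])]
noncomputable def cT : Lv := (.cons (nat_lit 1) [dw (nat_lit 0x01)] [dw (nat_lit 0x01), dw (nat_lit 0x0202), dw (nat_lit 0x020202)]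
.nil)
noncomputable def gH : List Word := [dw (nat_lit 0x09), dw (nat_lit 0x0b)]
noncomputable def cH : Lv := (.cons (nat_lit 2) [dw (nat_lit 0x01), dw (nat_lit 0x03)] [dw (nat_lit 0x01), dw (nat_lit 0x03), dw (nat_lit 0x01), dw (nat_lit 0x03), dw (nat_lit 0x0303), dw (nat_lit 0x01), dw (nat_lit 0x03), dw (nat_lit 0x01)
, dw (nat_lit 0x03), dw (nat_lit 0x03), dw (nat_lit 0x01), dw (nat_lit 0x03)]
(.cons (nat_lit 1) [dw (nat_lit 0x03010303010303), dw (nat_lit 0x010401030204)] [dw (nat_lit 0x03), dw (nat_lit 0x01), dw (nat_lit 0x03), dw (nat_lit 0x01), dw (nat_lit 0x03), dw (nat_lit 0x03), dw (nat_lit 0x01), dw (nat_lit 0x03)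
, dw (nat_lit 0x01), dw (nat_lit 0x03), dw (nat_lit 0x01), dw (nat_lit 0x03)]
(.cons (nat_lit 9) [dw (nat_lit 0x0301040203020301030301030303010402030203010402030203010303010303), dw (nat_lit 0x0301030301030303010303010303010401030204010401030204)] [dw (nat_lit 0x03), dw (nat_lit 0x01), dw (nat_lit 0x03), dw (nat_lit 0x01), dw (nat_lit 0x03), dw (nat_lit 0x01), dw (nat_lit 0x03), dw (nat_lit 0x03)
, dw (nat_lit 0x01)]
(.cons (nat_lit 3) [dw (nat_lit 0x0301040203020301040203020404020404020404040204040402030203010303010303030104020302030104020302030103030103030301040203020301040203020404020404020404040204040204040402040402040104010302040104010302040404020404040203020404020404020404040204040204040402040402040104010302040104010302040404020404040203020404020404020404040204040204), dw (nat_lit 0x0404020404020401040103020401040103020404040204040204010401030303010303030103030103030104010302040104010303030103030301030301030301040103020401040103030301030303010303010303010401030204010401030204)]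 [dw (nat_lit 0x03), dw (nat_lit 0x01), dw (nat_lit 0x03), dw (nat_lit 0x03)]
.nil))))
noncomputable def ps : List (ℕ × ℕ × ℕ × List Word) := [((nat_lit 0x201204ec0010004008860888264480448401444600240029c47100c01a050b0000), (nat_lit 0x75cc00002880000370000000002259e00000007000002d000507280134004880000000023c0000872fdf20071b300000002f92e00750011c0000000002e000000000000000000002e800b32212c00870000000f2000000000148000000428ac00000028d60000000000887f00000ce828000000328000000778002000508217200892794a00000f800003f00084000000078000f3f00000001a4990661801da00001bc00000009000a7000000078001d80000089c80000858640000000688e00000015631000000000001788c0000254001600000000011800005d00001d6d06900000734eb70005a00034000000084f8480000001011b800000000000c80009b840000640009a000000000587b801dc00004450400002293efb00060000017800a66a000015e00000f4000a000180000000080000), (nat_lit 0x27c3c00003bc0000378000000002215e00000007000002cc008e0c001da00118000000003200000538850a0026b8c000000445f6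00758005c000000000460000000000000000000012c004c82ac000ea00000002b0000000004380000007739800000034942000000000fe6800000b90680000003280000003e0013a005d43946000ca788e00003e4000072800b40000001ee007938400000006a0cb4660017e000007400000025c003d000000078001d80000241c800004142c000000041140000001563100000000000178a0000011000240000000000880000fc00000528967000003c3497400cf0025400000026814910000001011b800000000000c80009b7000005f001860000000007e298007c000023e2400001a8dc1600160000017800e6a50000084000002000a2000180000000080000), [dw (nat_lit 0x1a0b0d0d15110c), dw (nat_lit 0x0f140c14090e)]),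
  ((nat_lit 0x2482210046020000091084400000864a045a041480230250130507000c01202412504), (nat_lit 0xc5460000084000067800000000044ca0000001c2000042c00462e801de006800000000006400006412c9000370ac0000000f4a000510012e0000000008e000000000000000000003b400b461b98003e0000000850000000007f00000001e1f00000002543a000000000440f00000875d00000002d0000000488014a0075990460083068d4000026800002c000e400000008400441e00000001d94e8f5f801f200000280000000b800b3000000010003f0000071abc0000014440000000e0d200000021c7300000000000179f600002e4010100000000067000009e00001a42979000004d0c22800f700224000000330a6b00000000244f8000000000022400099f8000026001d40000000009d508020a00002f9560000395dc060011c0000410006edc00000de00000bc000d000580000000200000), (nat_lit 0xc4dc000019400007f00000000027c420000000b0000030c00762e8010a002200000000012c00007c865a400518a400000033834003980202000000000100000000000000000000013400f78594c003e0000000ef000000000678000000438780000002bcb4000000000d03e000003c3900000000e8000000448014a0088b8c46001b9404800002680000708017400000014e0044370000000118848f5800190000004c0000000b800be00000008e00228000032254000006bac000000274d200000020aa200000000000179f600002ac00970000000001e80000e500000902b7700000ed0b3f000b400244000000331ccbf00000006a088000000000022400051f80000750009800000000038508021c00002cd720000279e447000180000178020c78000001000002080002000600000001bc0000),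 [dw (nat_lit 0x0b0a18090e10), dw (nat_lit 0x1b100b140d171b)]),
  ((nat_lit 0x400404a808c4a10054000821988a6800282041004c4004008098401820a08650a0040), (nat_lit 0x856600001300000680000000000344800000012e000040400be170019e001780000000022400000c8c4bc000423c00000026904001f0021c000000000fc000000000000000000001a800cc53920010b000000038000000000220000000771080000002848e000000000462c00000727f00000003e000000075800960048a5426007cc459c000027c000032001d4000000160004f3c8000000018ecc81580156000030c000000394008500000002300288000052a8c0000281f80000003dc7800000010e4d000000000000a5cc0000078008e0000000004500000ed00000dd1239800009d3c22000af002fc000000418b4370000000650d000000000001f600088f4000071801c2000000000185c800140000370de00001a4bb05003bc000069000a6ba000016800000740016000400000000080000), (nat_lit 0x1313c00003840000660000000000f8300000001fc00002bc00dc188013e003500000000023800000b2fca00053a54000000174fc0015800520000000001e0000000000000000000004c010b7ca7400d0000000088000000000410000000213f0000000040460000000000d88800009122000000042800000067800e600391d974004d23c90000039800008080144000000146007516000000014de44632800f800003940000001b800ab00000004700224000025ac000000e9340000003483400000007097000000000003b43200000f400b300000000008800006f00000c90e5280000ce5cad000c3002f800000038c5c690000000c81e000000000001dc007bbec000043800bc000000001053c0022400001681400000ddde24000200000508005e06000020c000008400eb002280000000080000),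 [dw (nat_lit 0x0e1609140f16140a), dw (nat_lit 0x100b0e0f1a131c)]),
  ((nat_lit 0x648424880006a0005910040110088a0228320500880304109101000820a0062402544), (nat_lit 0x2284200003e400008700000000012c88000000198000019401120d001d4003b0000000000f400002e97956003742c00000011ca00069000de000000000890000000000000000000038c00fc47a1c00e100000009e0000000008880000000f0bc0000000589a0000000007e1e00000dc5100000005980000004d000700075af846000c8ad60000029c00004b8017e0000000d40082a440000003413aa3830005200002380000003dc00b9000000042002d000004a874000080a20000000209cc00000010a78000000000003b898000004400580000000000980000fb0000014466700000181bbbc00cf00090000000008b4ed00000000634800000000001860057b20000017001fc00000000064508006200001cce40000394a6ba0012000004f801e4a5000007c00001f0000d000400000000200000), (nat_lit 0x3f186000042c00007500000000021d1e0000000de00000a400d0280021c003f000000000044000023178780051be40000001a434006900198000000000b00000000000000000000038c008a2212c010100000002e0000000001880000004aa88000000060f80000000007655800009d1780000007680000004d0002000442bc460009b2112000029c00004b800e600000011c0067a08000000449b86e67000ca00001a80000002d0000a000000064003dc00000f074000070bac0000002446e0000001fc24000000000003b9de00000f400580000000000c80000e500001725d830000016731300105001e0000000035e4b30000000a52380000000000042005f0ac00004f0010a00000000042508022200002fce400003ed3e48002e8000029800b406000001000001340002000e00000000f80000),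 [dw (nat_lit 0x0d0a101215130c10), dw (nat_lit 0x0c0c0e1a1d151d)])]
noncomputable def aut : AS := (.pt []
(.pt (dw (nat_lit 0x01))
(.pt (dw (nat_lit 0x08))
(.pt (dw (nat_lit 0x03))
(.pt (dw (nat_lit 0x1804))
(.pt (dw (nat_lit 0x190502))
(.pt (dw (nat_lit 0x1102))
(.pt (dw (nat_lit 0x0f0501))
(.pt (dw (nat_lit 0x0c04))
(.pt (dw (nat_lit 0x1307))
(.pt (dw (nat_lit 0x0e08))
(.pt (dw (nat_lit 0x1b04))
(.pt (dw (nat_lit 0x0101))
(.pt (dw (nat_lit 0x0301))
(.pt (dw (nat_lit 0x0303))
(.pt (dw (nat_lit 0x02))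
(.pt (dw (nat_lit 0x0103))
(.pt (dw (nat_lit 0x010701))
(.pt (dw (nat_lit 0x110301))
.nil)))))))))))))))))))
noncomputable abbrev nets : List Net := McLc.nets
noncomputable def F : Nat → Nat → Nat := ptF (nat_lit 64) (nat_lit 9) nets
instance instF : PtF 275 nets F := ptF_ok McLc.nets_ok (by decide +kernel)
/-- neighbours -/
noncomputable def N (w : Word) : ℕ := runW (letN nets) w D
/-- table lookup -/
noncomputable def lk (T x : ℕ) : ℕ := Nat.mod (Nat.shiftRight T (Nat.mul 9 x)) 512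
noncomputable def landA (l : List Word) : ℕ := @List.rec _ (fun _ => ℕ) Z (fun w _ ih => Nat.land (N w) ih) l
theorem chc : band (Nat.ble 1 898128000) (Nat.ble 898128000 (c1.val 275 nets)) = true := by decide +kernel
theorem rk : rkB 275 nets F c1 2 1 D Z 112 162 s0 s1 s2 = true := by decide +kernel
theorem vH : (tl c1).val 275 nets = 3265920 := by decide +kernel
theorem v3 : (tl (tl (tl c1))).val 275 nets = 972 := by decide +kernel
theorem hb : bB 275 nets F 0 D 112 162 56 wb uJ oJ = true := by decide +kernel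
theorem ha : autV 275 nets F 0 D aut [] = 1796256000 := by decide +kernel
theorem pU : relsPt F (bas c1) (pcRels (3 ^ 2) lU) = true := by decide +kernel
theorem pT : relsPt F (bas c1) (pcRels (7 ^ 1) [(w7, [])]) = true := by decide +kernel
theorem vU : (cU.sbst (List.map Prod.fst lU)).val 275 nets = 3 ^ 6 := by decide +kernel
theorem vT : (cT.sbst [w7]).val 275 nets = 7 ^ 1 := by decide +kernel
theorem vG : (cH.sbst gH).val 275 nets = 3265920 := by decide +kernel
theorem kq : band (fxB 275 F uJ [0, 2]) (PM.orbChk 275 nets uJ 138 (Nat.land (N wb) D) s3) = true := by decide +kernel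
theorem kA : band (oOk 275 nets F 0 (List.map Prod.fst lU) oU)
    (band (subs D (orA (oM nets F 0 (List.map Prod.fst lU)) oU)) (allL (fun m => bor (bnot (tb m 2))
      (bor (bnot (Nat.ble (Nat.mul (pop 275 m) 729) 29160)) (bor (bnot (Nat.beq (Nat.mod 29160 (pop 275 m)) 0))
        (bor (Nat.beq m (bit 2)) (Nat.beq m mL))))) (unions (oM nets F 0 (List.map Prod.fst lU)) oU))) = true := by
  decide +kernel
theorem kD : band (fxB 275 F uP [0, 1]) (band (oOk 275 nets F 0 uP oP)
    (band (subs (sdf (sdf (H14.full 275) (bit 0)) (bit 1)) (orA (oM nets F 0 uP) oP))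
      (allL (fun m => bor (bnot (Nat.beq (pop 275 m) 112)) (bor (bnot (Nat.beq
        (pop 275 (Nat.land m (Nat.land (N wc) D))) (pop 275 (Nat.land (N wc) D)))) (bor (bnot (Nat.beq
          (pop 275 (Nat.land m D)) (pop 275 (Nat.land (N wc) D)))) (Nat.beq m (N wc)))))
        (unions (oM nets F 0 uP) oP)))) = true := by decide +kernel
theorem kE : band (allL (fun w => band (tb D (apW F w 0)) (tb (N wc) (apW F w 0))) xs)
    (Nat.beq (landA xs) (bit 1)) = true := by decide +kernel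
theorem kC : band (oOk 275 nets F 0 [w7] oS) (band (subs D (orA (oM nets F 0 [w7]) oS))
    (allL (fun p => tb D (apW F p.1 0)) oS)) = true := by decide +kernel
/-- a cheaper population count -/
noncomputable def pp (S : ℕ) : ℕ := popc 9 31 (Nat.mod S (Nat.shiftLeft 1 275))
set_option exponentiation.threshold 300 in
theorem pp_eq (S : ℕ) : pp S = pop 275 S := by
  have e : pp S = popc 9 31 (S % (1 <<< 275)) := rfl
  rw [e, pop_eq (by norm_num), Nat.one_shiftLeft, popc_eq (n := 275) (Nat.mod_lt _ (Nat.two_pow_pos _)) (by omega) (by omega)]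
  exact Finset.sum_congr rfl fun i hi => by
    rw [Nat.testBit_mod_two_pow, decide_eq_true (Finset.mem_range.1 hi), Bool.true_and]
/-- `P` holds on all unions -/
noncomputable def uAll (P : ℕ → Bool) (f : Word × List Word → ℕ) (l : List (Word × List Word)) : ℕ → Bool :=
  @List.rec _ (fun _ => ℕ → Bool) P (fun p _ ih m => band (ih m)
    (@Nat.rec (fun _ => Bool) (ih 0) (fun x _ => ih (Nat.succ x)) (Nat.lor m (f p)))) l
theorem uAll_spec {P : ℕ → Bool} {f : Word × List Word → ℕ} {l : List (Word × List Word)} :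
    ∀ {a : ℕ}, uAll P f l a = true → ∀ m ∈ unions f l, P (a ||| m) = true := by
  induction l with
  | nil => exact fun h => fa_cons (by rwa [Nat.or_zero]) fa_nil
  | cons p l ih =>
    intro a h m hm
    obtain ⟨h1, h2⟩ := band_iff.1 h
    rcases List.mem_append.1 hm with hm | hm
    · exact ih h1 m hm
    · obtain ⟨m, hm', rfl⟩ := List.mem_map.1 hm
      have := ih (a := Nat.lor a (f p)) (by revert h2; cases Nat.lor a (f p) <;> exact id) m hm'
      exact (Nat.or_assoc a (f p) m ▸ this :)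
theorem kC' : uAll (fun m => bor (anyL (fun p => bnot (Nat.beq (Nat.mod (pp (Nat.land (N p.1) m)) 5) 0)) oS)
    (bor (bnot (Nat.beq (pp m) 56)) (anyL (fun p => Nat.beq m p.1) ps))) (oM nets F 0 [w7]) oS 0 = true := by
  decide +kernel
theorem kP : allL (fun p => band (fxB 275 F p.2.2.2 [0]) (band (Nat.beq (List.length p.2.2.2) 2)
    (H14.allLt (fun x => bor (bnot (tb D x))
    (band (band (Nat.ble (Nat.succ (lk p.2.1 x)) 275) (tb D (lk p.2.1 x))) (band (Nat.beq (lk p.2.2.1 (lk p.2.1 x)) x)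
      (band (allL (fun q => Nat.beq (lk p.2.1 (apW F q.1 x)) (apW F q.2 (lk p.2.1 x))) (List.zip gH p.2.2.2))
        (bor (bnot (tb p.1 x)) (tb (N wc) (lk p.2.1 x))))))) 275))) ps = true := by decide +kernel

set_option maxHeartbeats 400000
theorem dvd_ncard {Γ X : Type*} [Group Γ] [MulAction Γ X] {g : Γ} {p : ℕ} (hp : p.Prime) (hg : g ^ p = 1) {T : Set X}
    (hT : T.Finite) (hi : ∀ y ∈ T, g • y ∈ T) (hf : ∀ y ∈ T, g • y ≠ y) : p ∣ T.ncard := by
  classical
  have := Fact.mk hp
  have := hT.fintype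
  let f : Function.End T := fun y => ⟨g • y, hi _ y.2⟩
  have h1 : ∀ (k : ℕ) (y : T), ((f ^ k : Function.End T) y : X) = g ^ k • (y : X) := fun k => by
    induction k with
    | zero => exact fun y => by rw [pow_zero, pow_zero, one_smul]; rfl
    | succ k ih => exact fun y => by rw [pow_succ, pow_succ, mul_smul]; exact ih _
  have h2 := Equiv.Perm.card_fixedPoints_modEq (f := f) (p := p) (n := 1)
    (funext fun y => Subtype.ext (by rw [h1, pow_one, hg, one_smul]; rfl))
  have : IsEmpty f.fixedPoints := ⟨fun y => hf _ y.1.2 (congrArg Subtype.val y.2)⟩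
  rw [Fintype.card_eq_zero (α := f.fixedPoints), ← Nat.card_eq_fintype_card] at h2
  exact (Nat.modEq_zero_iff_dvd).1 h2

section
variable {Γ X : Type*} [Group Γ] [MulAction Γ X] (M : PM Γ X 275 nets) [Finite Γ] (hN : Nat.card Γ = 898128000)
include hN

theorem nb : Nb M 0 D (M.dec 2) := (rk_of (M := M) (ex_top hN chc) rk).2.1
theorem cH' : Nat.card (stabilizer Γ (M.dec 0)) = 3265920 := (rk_of (M := M) (ex_top hN chc) rk).2.2.2.trans vH
theorem nN (w : Word) (y : X) : Orb Γ (M.dec 0) (M.dec 2) (M.dec (apW F w 0)) y ↔ y ∈ M.S (N w) :=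
  Set.ext_iff.1 ((nb M hN).spec w) y

theorem c3 : Nat.card (M.fixL [138, 2, 0]) ∣ 972 := by
  have E : Ex M (tl (tl (tl c1))) [138, 2, 0] := ex_tl (ex_tl (ex_tl (ex_top hN chc) (by decide +kernel))
    (by decide +kernel)) (by decide +kernel)
  exact v3 ▸ E.card ▸ Subgroup.card_dvd_of_le E.mem

theorem hA (K : Subgroup Γ) (hK : K ≤ stabilizer Γ (M.dec 0))
    (hk : Nat.card K * 112 = Nat.card (stabilizer Γ (M.dec 0))) :
    ∃ y ∈ orbit (stabilizer Γ (M.dec 0)) (M.dec 2), K ≤ stabilizer Γ y := by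
  have cK : Nat.card K = 29160 := by have := cH' M hN; omega
  have hU : sub M.gen (List.map Prod.fst lU) ≤ M.fixL [2, 0] := le_fix (by decide +kernel)
  have lo := vU ▸ low_sub (M := M) cU _
  obtain ⟨x, hx, h1⟩ := syl_le Nat.prime_three (hU.trans fun g hg => hg 0 (by simp))
    (pg_rels (rels_of_pt hN chc pU)) lo (by rw [cH' M hN]; norm_num) hK (by rw [cK]; norm_num)
  refine cj_fix hx ?_
  have h2 := cj_le hx hK
  have h3 := (card_cj K x).trans cK
  generalize K.comap (MulAut.conj x).toMonoidHom = K1 at h1 h2 h3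
  obtain ⟨a3, a4⟩ := band_iff.1 kA
  obtain ⟨a4, a5⟩ := band_iff.1 a4
  obtain ⟨m, hm, e⟩ := inv_cases M a3 (Y := {y | ∃ g ∈ K1, g • M.dec 2 = y}) (fun y ⟨g, hg, e⟩ => M.S_mono a4
    ((nb M hN).2 ▸ e ▸ mem_orbit _ (⟨g, h2 hg⟩ : stabilizer Γ (M.dec 0))))
    fun g hg y ⟨k, hk, e⟩ => ⟨g * k, mul_mem (h1 hg) hk, by rw [mul_smul, e]⟩
  have h5 := PM.card_eq_mul K1 (M.dec 2)
  rw [e, M.ncard_S, h3] at h5
  rcases bor_iff.1 (allL_iff.1 a5 m hm) with h | h
  · exact absurd ((M.mem_S_dec (by decide)).1 (e.le ⟨1, one_mem _, one_smul _ _⟩)) (by rw [bnot_iff.1 h]; simp)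
  rcases bor_iff.1 h with h | h
  · refine absurd (Nat.ble_eq_true_of_le ?_) (by rw [bnot_iff.1 h]; simp)
    rw [h5, mul_comm]
    exact Nat.mul_le_mul_left _ (lo.trans (Subgroup.card_le_of_le (le_inf h1 (hU.trans fun g hg => hg 2 (by simp)))))
  rcases bor_iff.1 h with h | h
  · exact absurd (by rw [h5]; exact Nat.mul_mod_left _ _) (Nat.ne_of_beq_eq_false (bnot_iff.1 h))
  rcases bor_iff.1 h with h | h
  · intro g hg
    rw [mem_stabilizer_iff, ← M.mem_S_bit (by decide), ← Nat.eq_of_beq_eq_true h, ← e]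
    exact ⟨g, hg, rfl⟩
  obtain rfl := Nat.eq_of_beq_eq_true h
  obtain ⟨k, hk, e1⟩ := e.ge ((M.mem_S_dec (i := 138) (by decide)).2 (by decide +kernel))
  have h6 := M.card_le_mul (A := K1 ⊓ stabilizer Γ (M.dec 2)) (a := 138) (T := sdf mL (bit 2)) fun g hg =>
    (M.mem_S_sdf _ _ _).2 ⟨e.le ⟨g * k, mul_mem hg.1 hk, by rw [mul_smul, e1]⟩, fun h => by
      rw [M.mem_S_bit (by decide), ← mem_stabilizer_iff.1 hg.2, smul_left_cancel_iff] at h
      have := congrArg M.enc h
      rw [M.enc_dec _ (by decide), M.enc_dec _ (by decide)] at this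
      exact absurd this (by decide)⟩
  have h7 := (Subgroup.card_le_of_le (H := K1 ⊓ stabilizer Γ (M.dec 2) ⊓ stabilizer Γ (M.dec 138))
    (K := M.fixL [138, 2, 0]) fun g hg => fa_cons hg.2 (fa_cons hg.1.2 (fa_cons (h2 hg.1.1) fa_nil))).trans (Nat.le_of_dvd (by decide) (c3 M hN))
  rw [show pop 275 (sdf mL (bit 2)) = 3 by decide +kernel] at h6
  rw [show pop 275 mL = 4 by decide +kernel] at h5
  omega

theorem pair {x y : X} (hx : x ∈ orbit (stabilizer Γ (M.dec 0)) (M.dec 2))
    (hy : y ∈ orbit (stabilizer Γ (M.dec 0)) (M.dec 2)) (h : Orb Γ (M.dec 0) (M.dec 2) x y) {g : Γ}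
    (h0 : g • M.dec 0 = M.dec 0) (h1 : g • x = x) (h2 : g • y = y) : g ^ 972 = 1 := by
  obtain ⟨u, rfl⟩ := hx
  obtain ⟨j, hj, e⟩ := (M.orb_of_chk (band_iff.1 kq).2 (u⁻¹ • y)).1 ((M.mem_S_land _ _ _).2 ⟨(nN M hN wb _).1 (by
    rw [show apW F wb 0 = 2 by decide +kernel, ← orb_smul _ _ _ _ (u : Γ)]
    exact (smul_inv_smul u y).symm ▸ h), (nb M hN).2 ▸ mapsTo_smul_orbit u⁻¹ _ hy⟩)
  have h3 := le_fix (M := M) (band_iff.1 kq).1 hj
  have h4 : ∀ z : X, g • ((u : Γ) * j) • z = ((u : Γ) * j) • z → (((u : Γ) * j)⁻¹ * g * (u * j)) • z = z := fun z h => by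
    rw [mul_smul, mul_smul, h, inv_smul_smul]
  have h5 : ((u : Γ) * j)⁻¹ * g * (u * j) ∈ M.fixL [138, 2, 0] :=
    fa_cons (h4 _ (by rw [mul_smul, e]; exact (smul_inv_smul u y).symm ▸ h2))
      (fa_cons (h4 _ (by rw [mul_smul, h3 2 (by simp)]; exact h1))
        (fa_cons (h4 _ (by rw [mul_smul, h3 0 (by simp), mem_stabilizer_iff.1 u.2, h0])) fa_nil))
  have h6 := orderOf_dvd_iff_pow_eq_one.1 ((Subgroup.orderOf_dvd_natCard _ h5).trans (c3 M hN))
  rwa [← cjp, mul_assoc, inv_mul_eq_one, eq_comm, mul_eq_right] at h6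

theorem five {K : Subgroup Γ} (hK : K ≤ stabilizer Γ (M.dec 0)) (cK : Nat.card K = 20160) {Y : Set X}
    (hY : Y ⊆ orbit (stabilizer Γ (M.dec 0)) (M.dec 2)) (hi : ∀ g ∈ K, ∀ y ∈ Y, g • y ∈ Y) {x : X}
    (hx : x ∈ orbit (stabilizer Γ (M.dec 0)) (M.dec 2)) : 5 ∣ ({y | Orb Γ (M.dec 0) (M.dec 2) x y} ∩ Y).ncard := by
  have := M.finite
  have R := (rk_of (M := M) (ex_top hN chc) rk).1
  have h1 := PM.card_eq_mul K x
  have h2 := PM.card_eq_mul (stabilizer Γ (M.dec 0)) x
  have h3 : {y | ∃ g ∈ stabilizer Γ (M.dec 0), g • x = y} = orbit (stabilizer Γ (M.dec 0)) (M.dec 2) :=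
    orbit_eq_iff.2 hx ▸ Set.ext fun y => ⟨fun ⟨g, hg, e⟩ => ⟨⟨g, hg⟩, e⟩, fun ⟨g, e⟩ => ⟨g, g.2, e⟩⟩
  have h4 := Set.ncard_le_ncard (s := {y | ∃ g ∈ K, g • x = y}) (fun y ⟨g, hg, e⟩ => h3.le ⟨g, hK hg, e⟩)
  have h5 := Subgroup.card_dvd_of_le (inf_le_inf_right (stabilizer Γ x) hK)
  rw [h3, show (orbit (stabilizer Γ (M.dec 0)) (M.dec 2)).ncard = 112 from R.hb, cH' M hN] at h2
  rw [show (orbit (stabilizer Γ (M.dec 0)) (M.dec 2)).ncard = 112 from R.hb] at h4
  rw [show Nat.card (stabilizer Γ (M.dec 0) ⊓ stabilizer Γ x : Subgroup Γ) = 29160 by omega] at h5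
  rw [cK] at h1
  have h6 : 5 ∣ Nat.card (K ⊓ stabilizer Γ x : Subgroup Γ) := by
    obtain ⟨t, ht⟩ : Nat.card (K ⊓ stabilizer Γ x : Subgroup Γ) ∣ 360 := Nat.dvd_gcd ⟨_, h1⟩ h5
    have := Nat.mul_le_mul_left (Nat.card (K ⊓ stabilizer Γ x : Subgroup Γ)) h4
    have : t < 3 := by nlinarith
    interval_cases t <;> omega
  have := Fact.mk Nat.prime_five
  obtain ⟨⟨g, g0⟩, hg⟩ := exists_prime_orderOf_dvd_card' 5 h6
  rw [Subgroup.orderOf_mk] at hg
  obtain ⟨g1, g2⟩ := Subgroup.mem_inf.1 g0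
  refine dvd_ncard (g := g) Nat.prime_five (hg ▸ pow_orderOf_eq_one g) (Set.toFinite _)
    (fun y hy => ⟨mem_stabilizer_iff.1 g2 ▸ (orb_smul _ _ _ _ g).2 hy.1, hi g g1 y hy.2⟩) fun y hy e => ?_
  have := orderOf_dvd_iff_pow_eq_one.2 (pair M hN hx (hY hy.2) hy.1 (hK g1) g2 e)
  rw [hg] at this
  exact absurd this (by decide)

theorem hC (K : Subgroup Γ) (hK : K ≤ stabilizer Γ (M.dec 0))
    (hk : Nat.card K * 162 = Nat.card (stabilizer Γ (M.dec 0))) (Y : Set X)
    (hY : Y ⊆ orbit (stabilizer Γ (M.dec 0)) (M.dec 2)) (hi : ∀ g ∈ K, ∀ y ∈ Y, g • y ∈ Y) (hc : Y.ncard = 56) :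
    ∃ π : X → X, (orbit (stabilizer Γ (M.dec 0)) (M.dec 2)).InjOn π ∧
      (orbit (stabilizer Γ (M.dec 0)) (M.dec 2)).MapsTo π (orbit (stabilizer Γ (M.dec 0)) (M.dec 2)) ∧
      (∀ g : stabilizer Γ (M.dec 0), ∃ g' : stabilizer Γ (M.dec 0),
        ∀ x ∈ orbit (stabilizer Γ (M.dec 0)) (M.dec 2), π (g • x) = g' • π x) ∧
      ∀ y ∈ Y, Orb Γ (M.dec 0) (M.dec 2) (M.dec 1) (π y) := by
  have cK : Nat.card K = 20160 := by have := cH' M hN; omega
  obtain ⟨x, hx, h1⟩ := syl_le (P := sub M.gen [w7]) (by norm_num : Nat.Prime 7)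
    ((le_fix (by decide +kernel)).trans (fix1 0).le) (pg_rels (k := 1) (l := [(w7, [])]) (rels_of_pt hN chc pT))
    (vT.ge.trans (low_sub cT _))
    (by rw [cH' M hN]; norm_num) hK (by rw [cK]; norm_num)
  have h5 : ∀ g ∈ K.comap (MulAut.conj x).toMonoidHom, ∀ y ∈ (x • ·) ⁻¹' Y, g • y ∈ (x • ·) ⁻¹' Y :=
    fun g hg y hy => by simpa [mul_smul] using hi _ hg _ hy
  have h6 : ∀ y ∈ orbit (stabilizer Γ (M.dec 0)) (M.dec 2), x⁻¹ • y ∈ orbit (stabilizer Γ (M.dec 0)) (M.dec 2) :=
    mapsTo_smul_orbit (⟨x⁻¹, inv_mem hx⟩ : stabilizer Γ (M.dec 0)) _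
  have h7 : (x • ·) ⁻¹' Y ⊆ orbit (stabilizer Γ (M.dec 0)) (M.dec 2) := fun y hy => by simpa using h6 _ (hY hy)
  obtain ⟨a1, a2⟩ := band_iff.1 kC
  obtain ⟨m, hm, e⟩ := inv_cases M a1 (Y := (x • ·) ⁻¹' Y)
    (fun y hy => M.S_mono (band_iff.1 a2).1 ((nb M hN).2 ▸ h7 hy)) fun g hg => h5 g (h1 hg)
  have h8 := uAll_spec kC' m hm
  simp only [Nat.zero_or, pp_eq] at h8
  rcases bor_iff.1 h8 with h | h
  · obtain ⟨p, hp, h⟩ := anyL_iff.1 h
    have := five M hN (cj_le hx hK) ((card_cj K x).trans cK) h7 h5 (x := M.dec (apW F p.1 0))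
      ((nb M hN).2 ▸ (M.mem_S_dec (apW_lt M _ (by decide))).2 (allL_iff.1 (band_iff.1 a2).2 p hp))
    rw [(nb M hN).spec, e, show M.S (runW (letN nets) p.1 D) ∩ M.S m =
      M.S (Nat.land (N p.1) m) from Set.ext fun y => (M.mem_S_land _ _ y).symm, M.ncard_S] at this
    exact absurd (Nat.mod_eq_zero_of_dvd this) (Nat.ne_of_beq_eq_false (bnot_iff.1 h))
  rcases bor_iff.1 h with h | h
  · refine absurd ?_ (Nat.ne_of_beq_eq_false (bnot_iff.1 h))
    rw [← M.ncard_S, ← e, ← hc]
    exact Set.ncard_preimage_of_injective_subset_range (MulAction.injective x) (by simp [MulAction.surjective])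
  obtain ⟨p, hp, h⟩ := anyL_iff.1 h
  obtain rfl := Nat.eq_of_beq_eq_true h
  obtain ⟨b1, b2⟩ := band_iff.1 (allL_iff.1 kP p hp)
  obtain ⟨b0, b2⟩ := band_iff.1 b2
  have b3 := fun y (hy : y ∈ orbit (stabilizer Γ (M.dec 0)) (M.dec 2)) =>
    band_iff.1 ((bor_iff.1 (allLt_spec b2 _ (M.enc_lt y))).resolve_left (by
      rw [bnot_iff, (M.mem_S_dec (M.enc_lt y)).1 ((M.dec_enc y).symm ▸ (nb M hN).2 ▸ hy)]; simp))
  have b4 := fun y hy => Nat.le_of_ble_eq_true (band_iff.1 (b3 y hy).1).1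
  have b5 : ∀ g ∈ sub M.gen gH, g ∈ stabilizer Γ (M.dec 0) ∧ ∃ g' ∈ stabilizer Γ (M.dec 0),
      ∀ y ∈ orbit (stabilizer Γ (M.dec 0)) (M.dec 2),
        M.dec (lk p.2.1 (M.enc (g • y))) = g' • M.dec (lk p.2.1 (M.enc y)) := fun g hg => by
    induction hg using Subgroup.closure_induction with
    | mem g hg =>
      obtain ⟨w, hw, rfl⟩ := hg
      obtain ⟨v, hv⟩ : ∃ v, (w, v) ∈ List.zip gH p.2.2.2 := by
        obtain ⟨a, b, e⟩ := List.length_eq_two.1 (Nat.eq_of_beq_eq_true b0)
        rw [e]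
        rcases List.mem_pair.1 hw with rfl | rfl
        exacts [⟨a, .head _⟩, ⟨b, .tail _ (.head _)⟩]
      refine ⟨le_fix (M := M) (fx := [0]) (by decide +kernel) (ev_mem_sub _ hw) 0 (by simp), ev M.gen v,
        le_fix (M := M) b1 (ev_mem_sub _ (List.of_mem_zip hv).2) 0 (by simp), fun y hy => ?_⟩
      rw [enc_ev M (F := F), ev_dec M (F := F) _ (b4 y hy),
        Nat.eq_of_beq_eq_true (allL_iff.1 (band_iff.1 (band_iff.1 (b3 y hy).2).2).1 _ hv)]
    | one => exact ⟨one_mem _, 1, one_mem _, fun y _ => by rw [one_smul, one_smul]⟩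
    | mul a b _ _ i1 i2 =>
      obtain ⟨c1, a', c2, c3⟩ := i1
      obtain ⟨d1, b', d2, d3⟩ := i2
      exact ⟨mul_mem c1 d1, a' * b', mul_mem c2 d2, fun y hy => by
        rw [mul_smul, c3 (b • y) (mapsTo_smul_orbit (⟨b, d1⟩ : stabilizer Γ (M.dec 0)) _ hy), d3 y hy, mul_smul]⟩
    | inv a _ i1 =>
      obtain ⟨c1, a', c2, c3⟩ := i1
      exact ⟨inv_mem c1, a'⁻¹, inv_mem c2, fun y hy => by
        rw [eq_inv_smul_iff, ← c3 (a⁻¹ • y) (mapsTo_smul_orbit (⟨a⁻¹, inv_mem c1⟩ : stabilizer Γ (M.dec 0)) _ hy)]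
        exact congrArg (fun z => M.dec (lk p.2.1 (M.enc z))) (smul_inv_smul a y)⟩
  have b6 := Subgroup.eq_of_le_of_card_ge (fun g hg => (b5 g hg).1) ((cH' M hN).trans_le (vG ▸ low_sub cH _))
  refine ⟨fun y => M.dec (lk p.2.1 (M.enc (x⁻¹ • y))), fun y hy z hz h => ?_, fun y hy =>
    (nb M hN).2 ▸ (M.mem_S_dec (b4 _ (h6 y hy))).2 (band_iff.1 (b3 _ (h6 y hy)).1).2, fun g => ?_, fun y hy => ?_⟩
  · have := congrArg (fun u => lk p.2.2.1 (M.enc u)) h
    simp only [M.enc_dec _ (b4 _ (h6 y hy)), M.enc_dec _ (b4 _ (h6 z hz)),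
      Nat.eq_of_beq_eq_true (band_iff.1 (b3 _ (h6 y hy)).2).1,
      Nat.eq_of_beq_eq_true (band_iff.1 (b3 _ (h6 z hz)).2).1] at this
    exact MulAction.injective x⁻¹ (M.enc_inj this)
  · obtain ⟨-, g', c2, c3⟩ := b5 (x⁻¹ * g * x) (b6.ge (mul_mem (mul_mem (inv_mem hx) g.2) hx))
    exact ⟨⟨g', c2⟩, fun y hy => by
      have := c3 _ (h6 y hy)
      rwa [mul_smul, mul_smul, smul_inv_smul] at this⟩
  · have c1 := h6 y (hY hy)
    refine (show apW F wc 0 = 1 by decide +kernel) ▸ (nN M hN wc _).2 ((M.mem_S_dec (b4 _ c1)).2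
      ((bor_iff.1 (band_iff.1 (band_iff.1 (b3 _ c1).2).2).2).resolve_left ?_))
    rw [bnot_iff, (M.mem_S_dec (M.enc_lt _)).1 ((M.dec_enc _).symm ▸ e.le (by simpa using hy))]
    simp

theorem hE (y : X) (hy : y ∈ orbit (stabilizer Γ (M.dec 0)) (M.dec 1))
    (h : ∀ x ∈ orbit (stabilizer Γ (M.dec 0)) (M.dec 2), Orb Γ (M.dec 0) (M.dec 2) (M.dec 1) x →
      Orb Γ (M.dec 0) (M.dec 2) y x) : y = M.dec 1 := by
  obtain ⟨R, -, h1, -⟩ := rk_of (M := M) (ex_top hN chc) rk
  have key : ∀ l : List Word, (∀ w ∈ l, w ∈ xs) → y ∈ M.S (landA l) := fun l hl => by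
    induction l with
    | nil => exact h1.2.le hy
    | cons w l ih =>
      obtain ⟨a, b⟩ := band_iff.1 (allL_iff.1 (band_iff.1 kE).1 w (hl w List.mem_cons_self))
      have c := apW_lt M (F := F) w (show 0 < 275 by decide)
      exact (M.mem_S_land _ _ _).2 ⟨(nN M hN w y).1 (R.symm (h _ ((nb M hN).2 ▸ (M.mem_S_dec c).2 a)
        ((show apW F wc 0 = 1 by decide +kernel) ▸ (nN M hN wc _).2 ((M.mem_S_dec c).2 b)))),
        ih fun v hv => hl v (List.mem_cons_of_mem _ hv)⟩
  exact (M.mem_S_bit (by decide)).1 (Nat.eq_of_beq_eq_true (band_iff.1 kE).2 ▸ key xs fun _ => id)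

theorem hD (Y : Set X) (h1 : M.dec 0 ∉ Y) (h2 : M.dec 1 ∉ Y)
    (h3 : ∀ g : Γ, g • M.dec 0 = M.dec 0 → g • M.dec 1 = M.dec 1 → ∀ y ∈ Y, g • y ∈ Y) (h4 : Y.ncard = 112)
    (h5 : Y ∩ orbit (stabilizer Γ (M.dec 0)) (M.dec 2) =
      {y | Orb Γ (M.dec 0) (M.dec 2) (M.dec 1) y} ∩ orbit (stabilizer Γ (M.dec 0)) (M.dec 2)) :
    Y = {y | Orb Γ (M.dec 0) (M.dec 2) (M.dec 1) y} := by
  have h := kD
  simp only [band_iff] at h
  obtain ⟨a1, a2, a3, a4⟩ := h
  have e : {y | Orb Γ (M.dec 0) (M.dec 2) (M.dec 1) y} = M.S (N wc) :=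
    (show apW F wc 0 = 1 by decide +kernel) ▸ (nb M hN).spec wc
  obtain ⟨m, hm, rfl⟩ := inv_cases M a2 (Y := Y) (fun y hy => M.S_mono a3 ((M.mem_S_sdf _ _ _).2
    ⟨(M.mem_S_sdf _ _ _).2 ⟨M.mem_S_full' y, fun e => h1 ((M.mem_S_bit (by decide)).1 e ▸ hy)⟩,
      fun e => h2 ((M.mem_S_bit (by decide)).1 e ▸ hy)⟩)) fun g hg =>
      h3 g (le_fix a1 hg _ List.mem_cons_self) (le_fix a1 hg _ (by simp))
  rw [e, (nb M hN).2] at h5
  rcases bor_iff.1 (allL_iff.1 a4 m hm) with h | h
  · exact absurd (M.ncard_S m ▸ h4) (Nat.ne_of_beq_eq_false (bnot_iff.1 h))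
  rcases bor_iff.1 h with h | h
  · refine absurd ?_ (Nat.ne_of_beq_eq_false (bnot_iff.1 h))
    rw [← M.ncard_S, ← M.ncard_S]
    refine congrArg Set.ncard (Set.ext fun y => ?_)
    rw [M.mem_S_land, M.mem_S_land]
    exact ⟨And.right, fun h => ⟨(h5.ge h).1, h⟩⟩
  rcases bor_iff.1 h with h | h
  · refine absurd ?_ (Nat.ne_of_beq_eq_false (bnot_iff.1 h))
    rw [← M.ncard_S, ← M.ncard_S]
    refine congrArg Set.ncard (Set.ext fun y => ?_)
    rw [M.mem_S_land, M.mem_S_land]
    exact Set.ext_iff.1 h5 y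
  · rw [e, Nat.eq_of_beq_eq_true h]

theorem main [FaithfulSMul Γ X] [IsSimpleGroup Γ] {G Ω : Type*} [Group G] [MulAction G Ω] [FaithfulSMul G Ω]
    {a b c : Ω} (R : Rk G a b c 112 162) (e : stabilizer G a ≃* stabilizer Γ (M.dec 0)) : Nonempty (G ≃* Γ) :=
  iso_of2 (μ := 56) (m := 2) R (rk_of (M := M) (ex_top hN chc) rk).1 e (by norm_num) (hA M hN)
    (hB_of (by decide +kernel) (nb M hN) (by norm_num) hb) (hC M hN) (hE M hN) (hD M hN)
    (hN ▸ (aut_le (nb M hN) aut le_rfl (fun _ _ => fa_nil) (ha ▸ by norm_num)).trans (ha ▸ by norm_num))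
    (by rw [hN]; norm_num)

end

end H14.R3M
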