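import Cfsg.Agent.H14.CZ3
import Cfsg.Agent.H14.KhM24
import Cfsg.Agent.H15.StdL34

/-! Generated certificate (toolsL/cg.hpp). -/
set_option autoImplicit false
set_option maxRecDepth 200000
set_option Elab.async false
set_option linter.unusedVariables false
set_option linter.unusedSectionVars false

namespace L.SiL34
open H14 L.KhM24T L.KhM24
variable {G Ω : Type*} [Group G] [Finite G] [MulAction G Ω]

noncomputable def w0 : Word := [nat_lit 21, nat_lit 10, nat_lit 12, nat_lit 8]
noncomputable def w1 : Word := [nat_lit 20, nat_lit 13, nat_lit 21, nat_lit 17]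
noncomputable def w2 : Word := [nat_lit 21, nat_lit 19, nat_lit 17]
noncomputable def w3 : Word := [nat_lit 18, nat_lit 20, nat_lit 18]
noncomputable def w4 : Word := [nat_lit 17]
noncomputable def ks : List Word := [w0, w1, w2, w3, w4]
noncomputable def c5 : Chn := [((nat_lit 23), (bit (nat_lit 23))), ((nat_lit 0), (bit (nat_lit 0))), ((nat_lit 1), (bit (nat_lit 1))), ((nat_lit 2), (nat_lit 0x7ffffc)), ((nat_lit 3), (nat_lit 0x7ffff8)), ((nat_lit 4), (nat_lit 0x7dbfd0)), ((nat_lit 5), (nat_lit 0x24020))]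
noncomputable def d6 : List OD := [⟨[], [], []⟩,
 ⟨[], [], []⟩,
 ⟨[], [], []⟩,
 ⟨[nat_lit 4, nat_lit 0], [], (dn (nat_lit 12) (nat_lit 0x5025010c24c13423414822024024013c1241182181142442441381102082))⟩,
 ⟨[nat_lit 3, nat_lit 1], [], (dn (nat_lit 12) (nat_lit 0x3c24823824c24024015025011823023012c21421021012421c21c10c2))⟩,
 ⟨[nat_lit 4, nat_lit 2, nat_lit 3], [], (dn (nat_lit 12) (nat_lit 0x2011813034834c12422412832812c22c11c31c1103102))⟩,
 ⟨[nat_lit 4], [], (dn (nat_lit 12) (nat_lit 0x381141))⟩]
theorem k7 : ocChk (nat_lit 24) H14.M24c.nets F ks c5 d6 [] = true := by decide +kernel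
theorem o8 (M : PM G Ω 24 H14.M24c.nets) (hN : Nat.card G = 244823040) : OC M (sub M.gen ks) [] c5 :=
  oc_of le_rfl k7
theorem ks_low (M : PM G Ω 24 H14.M24c.nets) (hN : Nat.card G = 244823040) : 20160 ≤ Nat.card (sub M.gen ks) :=
  (OC.le_card' (N := 20160) (o8 M hN) (by decide +kernel))
noncomputable def w9 : Word := [nat_lit 20, nat_lit 18, nat_lit 12, nat_lit 10, nat_lit 10]
noncomputable def w10 : Word := [nat_lit 12, nat_lit 17, nat_lit 12, nat_lit 11]
noncomputable def w11 : Word := [nat_lit 20, nat_lit 11, nat_lit 17, nat_lit 18]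
noncomputable def w12 : Word := [nat_lit 17, nat_lit 19, nat_lit 21, nat_lit 12, nat_lit 9]
noncomputable def w13 : Word := [nat_lit 16, nat_lit 20, nat_lit 12, nat_lit 9, nat_lit 17]
noncomputable def w14 : Word := [nat_lit 13, nat_lit 11, nat_lit 14, nat_lit 16]
noncomputable def w15 : Word := [nat_lit 17, nat_lit 15, nat_lit 8, nat_lit 19, nat_lit 8]
noncomputable def w16 : Word := [nat_lit 13, nat_lit 13, nat_lit 8, nat_lit 16, nat_lit 11]
noncomputable def w17 : Word := [nat_lit 19, nat_lit 10, nat_lit 9, nat_lit 16]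
noncomputable def iys : List Word := [w9, w10, w11, w12, w13, w14, w15, w16, w17]
noncomputable def v18 : List Word := [dw (nat_lit 0x020a030709), dw (nat_lit 0x0302050704070a0509), dw (nat_lit 0x020203090706), dw (nat_lit 0x07010a07040a07), dw (nat_lit 0x0907010a070409070a), dw (nat_lit 0x0a020507040507050a), dw (nat_lit 0x02020307030907060a), dw (nat_lit 0x0101010a0703060706)
, dw (nat_lit 0x050701040a050a)]
theorem k19 : relK F bs0 (memRels ks iys v18) = true := by decide +kernel
theorem ihy (M : PM G Ω 24 H14.M24c.nets) (hN : Nat.card G = 244823040) : (sub M.gen iys) ≤ (sub M.gen ks) :=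
  (sub_le_of_memRels (rels_base (base0 M hN) k19))
noncomputable def v20 : List Word := [[], [], [], [], [], [], [], []
, [], [], [], [], [], [], [], []
, [], [], [], [], [], [], [], []
, [], [], [], [], [], [], [], []
, [], [], [], [], [], [], [], []
, [], [], [], [], [], [], [], []
, [], [], [], [], [], [], [], []
, [], [], [], [], [], [], []]
theorem k21 : relK F bs0 (qR iys [] H15.StdL34.rels v20) = true := by decide +kernel
noncomputable def v22 : Prs := [(dw (nat_lit 0x011109030105), []),
 (dw (nat_lit 0x0311010805), []),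
 (dw (nat_lit 0x0d03080103), []),
 (dw (nat_lit 0x07050107030c), []),
 (dw (nat_lit 0x080805030109), [])]
theorem k23 : relK F bs0 (sR iys [] H15.StdL34.ws0 ks v22) = true := by decide +kernel
theorem iqs (M : PM G Ω 24 H14.M24c.nets) (hN : Nat.card G = 244823040) : ∀ {X : Type*} [Group X], PresF G X H15.StdL34.rels H15.StdL34.ws0 → QS X (sub M.gen ks) (sub M.gen []) :=
  fun hP _ => quot_surj hP ((sub_le _).2 fa_nil) (ihy M hN) le_rfl le_rfl (rels_base (base0 M hN) k21) (rels_base (base0 M hN) k23) (by decide +kernel)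
theorem k24 : fixAll 24 H14.M24c.nets ks [nat_lit 23, nat_lit 0, nat_lit 1] = true := by decide +kernel
theorem iso (M : PM G Ω 24 H14.M24c.nets) (hN : Nat.card G = 244823040) : ∀ {X : Type*} [Group X], PresF G X H15.StdL34.rels H15.StdL34.ws0 → Nat.card X = 20160 → ∀ K : Subgroup G, Nat.card K = 20160 → (∀ g, M.FixL [nat_lit 23, nat_lit 0, nat_lit 1] g → g ∈ K) → Nonempty (K ≃* X) :=
  fun hP hX K hK h => (Subgroup.eq_of_le_of_card_ge (fun _ hg => h _ (M.fixL_of_chk k24 hg)) (hK.le.trans (ks_low M hN))) ▸ (iqs M hN hP).iso_bot hX (ks_low M hN) (by norm_num)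

end L.SiL34
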