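import Cfsg.Agent.H14.CZ3
import Cfsg.Agent.H14.KhHT
import Cfsg.Agent.H15.StdU35

/-! Generated certificate (toolsL/cg.hpp). -/
set_option autoImplicit false
set_option maxRecDepth 200000
set_option Elab.async false
set_option linter.unusedVariables false
set_option linter.unusedSectionVars false

namespace L.SiU35
open H14 L.KhHTT L.KhHT
variable {G Ω : Type*} [Group G] [Finite G] [MulAction G Ω]

noncomputable def w0 : Word := [nat_lit 12, nat_lit 9, nat_lit 4, nat_lit 11, nat_lit 6, nat_lit 6, nat_lit 4]
noncomputable def w1 : Word := [nat_lit 8, nat_lit 6, nat_lit 11, nat_lit 6, nat_lit 4]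
noncomputable def w2 : Word := [nat_lit 11, nat_lit 8, nat_lit 12, nat_lit 12, nat_lit 11]
noncomputable def w3 : Word := [nat_lit 10, nat_lit 13, nat_lit 10, nat_lit 13]
noncomputable def w4 : Word := [nat_lit 11, nat_lit 12, nat_lit 12, nat_lit 11, nat_lit 12]
noncomputable def w5 : Word := [nat_lit 11, nat_lit 8, nat_lit 13, nat_lit 8]
noncomputable def ks : List Word := [w0, w1, w2, w3, w4, w5]
noncomputable def s6 : Nat := (nat_lit 0x2c9b4180786a71820bbeca6d0f38a34d72a05f6a3861edc5c69270f2e95de557d5c852a5197cfa675cd45b0e)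
noncomputable def s7 : Nat := (nat_lit 0x200000000040000000004010000000006040400000000000000002000000000000000040004200)
noncomputable def s8 : Nat := (nat_lit 0x8044022500800c10800000103042080285428001818012220004080c008010200804291224030500012120e0)
noncomputable def c9 : Chn := [((nat_lit 0), (bit (nat_lit 0))), ((nat_lit 1), s6), ((nat_lit 9), s7), ((nat_lit 5), s8)]
noncomputable def d10 : List OD := [⟨[], [], []⟩,
 ⟨[nat_lit 3, nat_lit 5, nat_lit 1], [dw (nat_lit 0x05), dw (nat_lit 0x01), dw (nat_lit 0x03), dw (nat_lit 0x05), dw (nat_lit 0x01), dw (nat_lit 0x03), dw (nat_lit 0x01), dw (nat_lit 0x03)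
], (dn (nat_lit 16) (nat_lit 0x388107823d434cc24a032142100148431a022b832b811d0232c30b021d821d81070307013702370115c31902408353834ec30cc331833e423d033d0232434d834d8105c11f833ec1198319812bc13bc22a821f4251c11bc343c343c214c314c246c335c335c11703170236423a4137435401138345434643168217c317c10c830c82158315821581278327820ec2328332813e833e812f0335432f4308830303030129c123014c4354c1234323414b8306c310833e03020328031b4356c357434b433783448311432c0305830983))⟩,
 ⟨[nat_lit 3, nat_lit 2], [], (dn (nat_lit 16) (nat_lit 0x37012b822d412d814d41184218413982398143820242))⟩,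
 ⟨[nat_lit 3, nat_lit 5], [dw (nat_lit 0x01), dw (nat_lit 0x03)], (dn (nat_lit 16) (nat_lit 0x01c250810f423f424101558203413f01514135823581120157c12a422a413d823d810a8120c22b01248105422dc22dc13602360119422fc2490249010e814ac24ac13ac23ac13c423c412e0122c222c13682368133c23002300147c247c1104210414dc24dc15242524137c237c11341))⟩]
theorem k11 : ocChk (nat_lit 352) H14.HTc.nets F ks c9 d10 [] = true := by decide +kernel
theorem o12 (M : PM G Ω 352 H14.HTc.nets) (hN : Nat.card G = 44352000) : OC M (sub M.gen ks) [] c9 :=
  oc_of le_rfl k11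
theorem ks_low (M : PM G Ω 352 H14.HTc.nets) (hN : Nat.card G = 44352000) : 126000 ≤ Nat.card (sub M.gen ks) :=
  (OC.le_card' (N := 126000) (o12 M hN) (by decide +kernel))
noncomputable def w13 : Word := [nat_lit 10, nat_lit 13, nat_lit 7, nat_lit 7, nat_lit 12, nat_lit 8]
noncomputable def w14 : Word := [nat_lit 9, nat_lit 4, nat_lit 12, nat_lit 6, nat_lit 10]
noncomputable def w15 : Word := [nat_lit 8, nat_lit 8, nat_lit 10, nat_lit 4, nat_lit 12, nat_lit 6]
noncomputable def w16 : Word := [nat_lit 6, nat_lit 13, nat_lit 7, nat_lit 12, nat_lit 6, nat_lit 5]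
noncomputable def w17 : Word := [nat_lit 13, nat_lit 4, nat_lit 4, nat_lit 8, nat_lit 5]
noncomputable def w18 : Word := [nat_lit 10, nat_lit 13, nat_lit 8, nat_lit 7, nat_lit 10, nat_lit 6, nat_lit 5]
noncomputable def iys : List Word := [w13, w14, w15, w16, w17, w18]
noncomputable def v19 : List Word := [dw (nat_lit 0x040207010a05090c09), dw (nat_lit 0x0a0704050c), dw (nat_lit 0x040c05050709), dw (nat_lit 0x0905010c050c), dw (nat_lit 0x0c04020705050908), dw (nat_lit 0x0b07030805050b0908)]
theorem k20 : relK F bs0 (memRels ks iys v19) = true := by decide +kernel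
theorem ihy (M : PM G Ω 352 H14.HTc.nets) (hN : Nat.card G = 44352000) : (sub M.gen iys) ≤ (sub M.gen ks) :=
  (sub_le_of_memRels (rels_base (base0 M hN) k20))
noncomputable def v21 : List Word := [[], [], [], [], [], [], [], []
, [], [], [], [], [], [], [], []
, [], [], [], [], [], [], [], []
, [], [], [], [], [], [], [], []
, [], [], [], [], [], [], [], []
, [], [], [], [], [], [], [], []
, [], [], [], [], [], [], [], []
, [], [], [], [], [], [], [], []
, [], [], [], [], [], [], [], []
, [], [], [], [], [], [], [], []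
, [], [], [], [], [], [], [], []
, [], [], [], [], [], [], [], []
, [], [], [], [], [], [], [], []
, [], [], [], [], [], [], [], []
, [], [], [], [], [], [], [], []
, [], [], [], [], [], [], [], []
, [], [], [], [], [], [], [], []
, [], [], [], [], [], [], [], []
, [], [], [], [], [], [], [], []
, [], [], [], [], [], []]
theorem k22 : relK F bs0 (qR iys [] H15.StdU35.rels v21) = true := by decide +kernel
noncomputable def v23 : Prs := [(dw (nat_lit 0x0c08010609), []),
 (dw (nat_lit 0x06020c09090c), []),
 (dw (nat_lit 0x060c0c0805), []),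
 (dw (nat_lit 0x04090706070b), []),
 (dw (nat_lit 0x03050c0908), []),
 (dw (nat_lit 0x040505010b08), [])]
theorem k24 : relK F bs0 (sR iys [] H15.StdU35.ws0 ks v23) = true := by decide +kernel
theorem iqs (M : PM G Ω 352 H14.HTc.nets) (hN : Nat.card G = 44352000) : ∀ {X : Type*} [Group X], PresF G X H15.StdU35.rels H15.StdU35.ws0 → QS X (sub M.gen ks) (sub M.gen []) :=
  fun hP _ => quot_surj hP ((sub_le _).2 fa_nil) (ihy M hN) le_rfl le_rfl (rels_base (base0 M hN) k22) (rels_base (base0 M hN) k24) (by decide +kernel)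
theorem k25 : fixAll 352 H14.HTc.nets ks [nat_lit 0] = true := by decide +kernel
theorem iso (M : PM G Ω 352 H14.HTc.nets) (hN : Nat.card G = 44352000) : ∀ {X : Type*} [Group X], PresF G X H15.StdU35.rels H15.StdU35.ws0 → Nat.card X = 126000 → ∀ K : Subgroup G, Nat.card K = 126000 → (∀ g, M.FixL [nat_lit 0] g → g ∈ K) → Nonempty (K ≃* X) :=
  fun hP hX K hK h => (Subgroup.eq_of_le_of_card_ge (fun _ hg => h _ (M.fixL_of_chk k25 hg)) (hK.le.trans (ks_low M hN))) ▸ (iqs M hN hP).iso_bot hX (ks_low M hN) (by norm_num)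

end L.SiU35
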