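import Cfsg.Agent.H14.CZ3
import Cfsg.Agent.H14.KhMcL
import Cfsg.Agent.H15.StdU43

/-! Generated certificate (toolsL/cg.hpp). -/
set_option autoImplicit false
set_option maxRecDepth 200000
set_option Elab.async false
set_option linter.unusedVariables false
set_option linter.unusedSectionVars false

namespace L.SiU43
open H14 L.KhMcLT L.KhMcL
variable {G Ω : Type*} [Group G] [Finite G] [MulAction G Ω]

noncomputable def w0 : Word := [nat_lit 28, nat_lit 22, nat_lit 13, nat_lit 15, nat_lit 10, nat_lit 12]
noncomputable def w1 : Word := [nat_lit 25, nat_lit 17, nat_lit 24, nat_lit 14, nat_lit 9, nat_lit 20]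
noncomputable def w2 : Word := [nat_lit 16, nat_lit 28, nat_lit 12, nat_lit 20]
noncomputable def w3 : Word := [nat_lit 19, nat_lit 28]
noncomputable def w4 : Word := [nat_lit 26, nat_lit 20, nat_lit 18]
noncomputable def w5 : Word := [nat_lit 22]
noncomputable def w6 : Word := [nat_lit 28, nat_lit 23, nat_lit 25]
noncomputable def w7 : Word := [nat_lit 28]
noncomputable def ks : List Word := [w0, w1, w2, w3, w4, w5, w6, w7]
noncomputable def s8 : Nat := (nat_lit 0x648625a84ec6a1005d108c61988aee4a2c7a4514cc630650939d47182ca1a674b2544)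
noncomputable def s9 : Nat := (nat_lit 0x800000000440000601002a20020400010c06000008098010808008040b0040)
noncomputable def s10 : Nat := (nat_lit 0x180110168008586b20e001800114002001019000038031044c6220408010018041088)
noncomputable def s11 : Nat := (nat_lit 0x10000000020000000000000020000100080000100004000000000200000000000002)
noncomputable def s12 : Nat := (nat_lit 0x2000000000000000000000000000000000000000000000000000000000000010)
noncomputable def c13 : Chn := [((nat_lit 0), (bit (nat_lit 0))), ((nat_lit 2), s8), ((nat_lit 6), s9), ((nat_lit 3), s10), ((nat_lit 1), s11), ((nat_lit 4), s12)]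
noncomputable def d14 : List OD := [⟨[], [], []⟩,
 ⟨[nat_lit 5, nat_lit 7, nat_lit 0], [dw (nat_lit 0x05)], (dn (nat_lit 16) (nat_lit 0x2743120317832d021c810a420a412fc30442044133c333c11e033f033f0139413e430783078122432242224121c321c1284113414043068306821b831b813a833a81278341433b8225420f430f420f4111c11cc21cc1398339810743074207413ac34483448129c329c229c113030b830b820b813f833f81384330c230c1060319433b433b423b412f8304030402040132032ac323832382238109021a43288328812203220222010583058106430642064129432c033dc33dc134023401140108c12e832e822e8133812cc30dc30dc20dc1118311810203020104c3))⟩,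
 ⟨[nat_lit 5, nat_lit 2], [], (dn (nat_lit 16) (nat_lit 0x2841068214c128c2274227412c021c811cc21cc1348234812e822e8112010402040108c11e021e012e41338211c211c11a421a413dc23dc10182))⟩,
 ⟨[nat_lit 5, nat_lit 7, nat_lit 3], [dw (nat_lit 0x05), dw (nat_lit 0x01)], (dn (nat_lit 16) (nat_lit 0x158338033d83180307032a0313c31b022103364112832b032b02388332c332c203030302030132811483148214812ec32ec22ec123032301048304820481264226410cc30cc11b431b421b4120032002200101c301c201c13d433d423d4117030a0329832982))⟩,
 ⟨[nat_lit 5, nat_lit 7, nat_lit 6], [], (dn (nat_lit 16) (nat_lit 0x1d021882260226010e430e4100430041))⟩,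
 ⟨[nat_lit 7], [], (dn (nat_lit 16) (nat_lit 0x0101))⟩]
theorem k15 : ocChk (nat_lit 275) H14.McLc.nets F ks c13 d14 [] = true := by decide +kernel
theorem o16 (M : PM G Ω 275 H14.McLc.nets) (hN : Nat.card G = 898128000) : OC M (sub M.gen ks) [] c13 :=
  oc_of le_rfl k15
theorem ks_low (M : PM G Ω 275 H14.McLc.nets) (hN : Nat.card G = 898128000) : 3265920 ≤ Nat.card (sub M.gen ks) :=
  (OC.le_card' (N := 3265920) (o16 M hN) (by decide +kernel))
noncomputable def w17 : Word := [nat_lit 14, nat_lit 9, nat_lit 16, nat_lit 13, nat_lit 8]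
noncomputable def w18 : Word := [nat_lit 8, nat_lit 12, nat_lit 12, nat_lit 12, nat_lit 9]
noncomputable def w19 : Word := [nat_lit 13, nat_lit 15, nat_lit 10, nat_lit 18, nat_lit 8, nat_lit 23]
noncomputable def w20 : Word := [nat_lit 25, nat_lit 19, nat_lit 10, nat_lit 25, nat_lit 14, nat_lit 12]
noncomputable def w21 : Word := [nat_lit 18, nat_lit 21, nat_lit 10, nat_lit 22, nat_lit 20, nat_lit 15]
noncomputable def w22 : Word := [nat_lit 28, nat_lit 24, nat_lit 8, nat_lit 10, nat_lit 18, nat_lit 10]
noncomputable def w23 : Word := [nat_lit 12, nat_lit 19, nat_lit 16, nat_lit 9, nat_lit 22, nat_lit 19]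
noncomputable def w24 : Word := [nat_lit 15, nat_lit 10, nat_lit 25, nat_lit 2, nat_lit 25, nat_lit 3]
noncomputable def w25 : Word := [nat_lit 19, nat_lit 15, nat_lit 1, nat_lit 22, nat_lit 25, nat_lit 0]
noncomputable def w26 : Word := [nat_lit 28, nat_lit 19, nat_lit 10, nat_lit 20, nat_lit 9, nat_lit 9]
noncomputable def iys : List Word := [w17, w18, w19, w20, w21, w22, w23, w24, w25, w26]
noncomputable def v27 : List Word := [dw (nat_lit 0x0d020b05050c070f0d0b0f), dw (nat_lit 0x050109060b080f0d), dw (nat_lit 0x070d020b0505080b090d0f), dw (nat_lit 0x080501090608090d0b), dw (nat_lit 0x050501080905070709070d0f), dw (nat_lit 0x01050207050b070f0d0b0f), dw (nat_lit 0x02040508060f080b070c0f), dw (nat_lit 0x070d020f0a0509070d0b0f)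
, dw (nat_lit 0x0d010105090f0d0b0f), dw (nat_lit 0x09030805050d09070d0c0f)]
theorem k28 : relK F bs0 (memRels ks iys v27) = true := by decide +kernel
theorem ihy (M : PM G Ω 275 H14.McLc.nets) (hN : Nat.card G = 898128000) : (sub M.gen iys) ≤ (sub M.gen ks) :=
  (sub_le_of_memRels (rels_base (base0 M hN) k28))
noncomputable def v29 : List Word := [[], [], [], [], [], [], [], []
, [], [], [], [], [], [], [], []
, [], [], [], [], [], [], [], []
, [], [], [], [], [], [], [], []
, [], [], [], [], [], [], [], []
, [], [], [], [], [], [], [], []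
, [], [], [], [], [], [], [], []
, [], [], [], [], [], [], [], []
, [], [], [], [], [], [], [], []
, [], [], [], [], [], [], [], []
, [], [], [], [], [], [], [], []
, [], [], [], [], [], [], [], []
, [], [], [], [], [], [], [], []
, [], [], [], [], []]
theorem k30 : relK F bs0 (qR iys [] H15.StdU43.rels v29) = true := by decide +kernel
noncomputable def v31 : Prs := [(dw (nat_lit 0x030a01070406), []),
 (dw (nat_lit 0x0307010c010d), []),
 (dw (nat_lit 0x1006110213), []),
 (dw (nat_lit 0x110104141206), []),
 (dw (nat_lit 0x070b020c01140b), []),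
 (dw (nat_lit 0x010b04020b0811), []),
 (dw (nat_lit 0x0c04140c030b), []),
 (dw (nat_lit 0x03101402110805), [])]
theorem k32 : relK F bs0 (sR iys [] H15.StdU43.ws0 ks v31) = true := by decide +kernel
theorem iqs (M : PM G Ω 275 H14.McLc.nets) (hN : Nat.card G = 898128000) : ∀ {X : Type*} [Group X], PresF G X H15.StdU43.rels H15.StdU43.ws0 → QS X (sub M.gen ks) (sub M.gen []) :=
  fun hP _ => quot_surj hP ((sub_le _).2 fa_nil) (ihy M hN) le_rfl le_rfl (rels_base (base0 M hN) k30) (rels_base (base0 M hN) k32) (by decide +kernel)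
theorem k33 : fixAll 275 H14.McLc.nets ks [nat_lit 0] = true := by decide +kernel
theorem iso (M : PM G Ω 275 H14.McLc.nets) (hN : Nat.card G = 898128000) : ∀ {X : Type*} [Group X], PresF G X H15.StdU43.rels H15.StdU43.ws0 → Nat.card X = 3265920 → ∀ K : Subgroup G, Nat.card K = 3265920 → (∀ g, M.FixL [nat_lit 0] g → g ∈ K) → Nonempty (K ≃* X) :=
  fun hP hX K hK h => (Subgroup.eq_of_le_of_card_ge (fun _ hg => h _ (M.fixL_of_chk k33 hg)) (hK.le.trans (ks_low M hN))) ▸ (iqs M hN hP).iso_bot hX (ks_low M hN) (by norm_num)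

end L.SiU43
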