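import Cfsg.Agent.H14.CZ3
import Cfsg.Agent.H14.KhCo2
import Cfsg.Agent.H15.StdU62

/-! Generated certificate (toolsL/cg.hpp). -/
set_option autoImplicit false
set_option maxRecDepth 200000
set_option Elab.async false
set_option linter.unusedVariables false
set_option linter.unusedSectionVars false

namespace L.SiU62
open H14 L.KhCo2T L.KhCo2
variable {G Ω : Type*} [Group G] [Finite G] [MulAction G Ω]

noncomputable def w0 : Word := [nat_lit 35, nat_lit 28, nat_lit 16, nat_lit 18, nat_lit 6, nat_lit 21, nat_lit 36]
noncomputable def w1 : Word := [nat_lit 36, nat_lit 26, nat_lit 23, nat_lit 16, nat_lit 23, nat_lit 14, nat_lit 22, nat_lit 30]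
noncomputable def w2 : Word := [nat_lit 40, nat_lit 28, nat_lit 22, nat_lit 17, nat_lit 17, nat_lit 26, nat_lit 21]
noncomputable def w3 : Word := [nat_lit 23, nat_lit 18, nat_lit 24, nat_lit 24]
noncomputable def w4 : Word := [nat_lit 28, nat_lit 39, nat_lit 4, nat_lit 31]
noncomputable def w5 : Word := [nat_lit 40, nat_lit 24]
noncomputable def w6 : Word := [nat_lit 4, nat_lit 40, nat_lit 39]
noncomputable def w7 : Word := [nat_lit 39, nat_lit 35, nat_lit 32]
noncomputable def w8 : Word := [nat_lit 38, nat_lit 4]
noncomputable def w9 : Word := [nat_lit 36]
noncomputable def w10 : Word := [nat_lit 41]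
noncomputable def ks : List Word := [w0, w1, w2, w3, w4, w5, w6, w7, w8, w9, w10]
noncomputable def s11 : Nat := (nat_lit 0x82104020088290064648d004083318080144100010428080481012a41004049de40001020041422943a5814000040474f0008000008908111000800940c8470130230c1284201a0205880610001808001880a88c0404082006010a10020c001c001800000a408800034210132c802000044400c808260040001000a45002816a000430048444000280184ca09d08000001000811920201181850c403c2001103004004318010830826a00116d80c04000c230090000400806c00006800180c00b20000000003000001c80c1b4010000000080e0e0008038c8c078191240004000110046342800009060038000d84882b00098032c008631404008e0080396002000020b00640000008e1000018100843000000100060070c0084000006e86548190a041200d1061011e0619e0318010624c000f4c030042820403c1462403981000200180520000098040000321e0180000113383c030c0000e7018080002010858003030000000060010002019800c38000c011960190012803a00078034618c832800c800010070000046306102000000000003600181900004802000300046001838001800718001c0000fc0200318cc0060600c004920000c0001801001204000000000183033e60400646006cc060019918cc2000007800002198000000d8000300000000000000000603000c1c8c66041830404000c024c4c0000000c4d800000c0060010300001801e0000cc0000030001803c03860db00c00000000000c380600998004c00c80000c18000431e0004999043c1b400240cccdc6726)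
noncomputable def s12 : Nat := (nat_lit 0x40000000000000000010000000000000000000000000000400000000000000000000000000000000000000000800000000000080000000000000000000000000000000020000000000000000000000000000000000000000004000000000000000000000000000000000000100000000000000000000000000000000000000000000000000000000000000000000000000000000040000000000000000000000000000000000000000000000000000000000000000000000000000000002004000000000000000000000000000010000200000020000000000000000000000000000000000000000000000000000400000000001000000800000000000000000000000000000000000000000001000000000000008000800000000000000000000000000000000004000000000000000000000000000000080000000000000000000000000000000000000000500000000000000000000000000000000000000000000000000002000000000000000000000000000000000000000020000000001000000000000000000000000000081000020000000000000000000000000080000000000000000200000000800000000000000000004000001000000000000000008020080000000000000080000000000000000040000000000004000100)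
noncomputable def s13 : Nat := (nat_lit 0x6000000000000000000000000000000000000000000000000000000000000000000000000000000000000000000000000000000000000000000000000000000000000000000000000000000000000000000000000000000000000000000000000000000000800000000000000000000000000000000000000000000100000000000000000000000000000080180003000000000000008200000180004000800000000000021e0000190001409400000448d86604)
noncomputable def s14 : Nat := (nat_lit 0x40000000000000000000000000000000000000000000000000000000001a000000000000000000000000000000000000000000000000000000000000002400000000000000100000000000100202c000000000000000002209a02048001a03310000d0)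
noncomputable def s15 : Nat := (nat_lit 0x40000000900000000000000000000000000000000000000000080000000000000000000080000000000000000000000000000800000000000000000000000000000000000400000000000000000000000001000000000000000000080400020000000100000101081000000000000000000000000100000000080000200000000000000000000000000000100000000000000000000000000800000000000000000000000000004000000000002000000000000000000000000000000000000000000000000000020000020000000000001000000000000000000000002400100000000000004000000000040000000000000000000000000000000000000000000000200000000000000000004000000000000000000000000000000010000080000000000000000000004000000000000000000000000000400000400000000000400000400000000000000000000000000000000000000000000040000000000800000100000000000000000000000000000000000000000000000000000000000000000000000000000000000000000000000000000000000000000040a00000000a0000000000000400000000000000000000000000000000000000000000000000000000000400000000000000000000000000000080000000000002000800000120000000000000000000000000000000000000000000000000010000200000c000000000000000000001000000000000000004000800000000000000000000004000000000000000000000000080000000000000)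
noncomputable def s16 : Nat := (nat_lit 0x1000000000000000000000000000000000000010000000008)
noncomputable def c17 : Chn := [((nat_lit 0), (bit (nat_lit 0))), ((nat_lit 1), s11), ((nat_lit 8), s12), ((nat_lit 2), s13), ((nat_lit 4), s14), ((nat_lit 55), s15), ((nat_lit 3), s16)]
noncomputable def d18 : List OD := [⟨[], [], []⟩,
 ⟨[nat_lit 9, nat_lit 10, nat_lit 0], [dw (nat_lit 0x05), dw (nat_lit 0x03), dw (nat_lit 0x03), dw (nat_lit 0x05), dw (nat_lit 0x01), dw (nat_lit 0x03), dw (nat_lit 0x03), dw (nat_lit 0x01)
, dw (nat_lit 0x03), dw (nat_lit 0x05), dw (nat_lit 0x03), dw (nat_lit 0x01), dw (nat_lit 0x03), dw (nat_lit 0x01), dw (nat_lit 0x03), dw (nat_lit 0x05)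
, dw (nat_lit 0x01), dw (nat_lit 0x03), dw (nat_lit 0x01), dw (nat_lit 0x03)], (dn (nat_lit 20) (nat_lit 0x213020ecc22e703358c3166433f4832b6432ce832c5431d703179c3405831aa033a4c306e4344d8341d431ad43125031168318a0303743469832178307d0325043195033aa434280318183282c3))⟩,
 ⟨[nat_lit 10, nat_lit 2], [], (dn (nat_lit 20) (nat_lit 0x1a40138f821e282051820a0c2065c2065c124341039c12e7022e7012174221741195c10c7423ac0207fc22958229581025c221e41034c2034c1365c109f020f042125020138201381191c2191c1240822408130c821d0c21d0c1358c206e4206e413374100202))⟩,
 ⟨[nat_lit 5, nat_lit 3], [], (dn (nat_lit 20) (nat_lit 0x012010170203bc209dc209dc102bc2070020700104a0100fc202f8202f81016c2016c11678101cc201c8201c8104ec103a4203a4104f0204f01005020050100e81167421674100382003810160101c42005c2005c10034200341002820028100082))⟩,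
 ⟨[nat_lit 10, nat_lit 5, nat_lit 4], [], (dn (nat_lit 20) (nat_lit 0x0174204b430c58108a4308a4102981008410070202c4300ac300ac2016430164200ec200ec108b0308b0208b010060200601008030080103b0303b01013c2013c100f8300f8200f810010300102))⟩,
 ⟨[nat_lit 9, nat_lit 10, nat_lit 8, nat_lit 6], [dw (nat_lit 0x01), dw (nat_lit 0x03)], (dn (nat_lit 20) (nat_lit 0x04282377433cc043cc033cc0233ec435904269423a203069c4069c3069c22b544321842da423b68343cc443cc343cc20bfc40a804427c21acc31338413383133820540405403054022b48439f0411a8411a8311a820698406983069824670446703467022558425583255822198421983219823b2443b2433b2423b2410de840de830de820de813b8c43b8c33b8c1128441284300dc400dc3))⟩,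
 ⟨[nat_lit 10], [], (dn (nat_lit 20) (nat_lit 0x00a01000c1))⟩]
theorem k19 : ocChk (nat_lit 4600) H14.C2c.nets F ks c17 d18 [] = true := by decide +kernel
theorem o20 (M : PM G Ω 4600 H14.C2c.nets) (hN : Nat.card G = 42305421312000) : OC M (sub M.gen ks) [] c17 :=
  oc_of le_rfl k19
theorem ks_low (M : PM G Ω 4600 H14.C2c.nets) (hN : Nat.card G = 42305421312000) : 9196830720 ≤ Nat.card (sub M.gen ks) :=
  (OC.le_card' (N := 9196830720) (o20 M hN) (by decide +kernel))
noncomputable def w21 : Word := [nat_lit 36, nat_lit 26, nat_lit 21, nat_lit 21, nat_lit 6, nat_lit 18, nat_lit 17, nat_lit 14, nat_lit 18]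
noncomputable def w22 : Word := [nat_lit 0, nat_lit 29, nat_lit 20, nat_lit 26, nat_lit 1, nat_lit 6, nat_lit 18, nat_lit 26, nat_lit 28]
noncomputable def w23 : Word := [nat_lit 41, nat_lit 39, nat_lit 32, nat_lit 35, nat_lit 22, nat_lit 14, nat_lit 25, nat_lit 27, nat_lit 13]
noncomputable def w24 : Word := [nat_lit 23, nat_lit 16, nat_lit 39, nat_lit 22, nat_lit 13, nat_lit 40, nat_lit 15, nat_lit 12, nat_lit 24]
noncomputable def w25 : Word := [nat_lit 6, nat_lit 40, nat_lit 35, nat_lit 29, nat_lit 30, nat_lit 14, nat_lit 18, nat_lit 26]
noncomputable def w26 : Word := [nat_lit 12, nat_lit 28, nat_lit 28, nat_lit 18, nat_lit 18, nat_lit 28, nat_lit 13]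
noncomputable def w27 : Word := [nat_lit 33, nat_lit 29, nat_lit 30, nat_lit 20, nat_lit 32, nat_lit 15, nat_lit 25, nat_lit 28, nat_lit 6]
noncomputable def w28 : Word := [nat_lit 17, nat_lit 41, nat_lit 19, nat_lit 16, nat_lit 13, nat_lit 35, nat_lit 23, nat_lit 33]
noncomputable def w29 : Word := [nat_lit 24, nat_lit 23, nat_lit 16, nat_lit 23, nat_lit 19, nat_lit 16, nat_lit 35]
noncomputable def w30 : Word := [nat_lit 15, nat_lit 24, nat_lit 26, nat_lit 6, nat_lit 20, nat_lit 26, nat_lit 19]
noncomputable def w31 : Word := [nat_lit 39, nat_lit 34, nat_lit 28, nat_lit 19, nat_lit 15, nat_lit 33, nat_lit 25, nat_lit 6]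
noncomputable def w32 : Word := [nat_lit 40, nat_lit 38, nat_lit 4, nat_lit 20, nat_lit 29, nat_lit 13, nat_lit 26, nat_lit 21]
noncomputable def w33 : Word := [nat_lit 30, nat_lit 4, nat_lit 6, nat_lit 17, nat_lit 23, nat_lit 12, nat_lit 27]
noncomputable def w34 : Word := [nat_lit 24, nat_lit 28, nat_lit 38, nat_lit 21, nat_lit 14, nat_lit 24, nat_lit 15, nat_lit 13, nat_lit 20]
noncomputable def w35 : Word := [nat_lit 14, nat_lit 4, nat_lit 33, nat_lit 17, nat_lit 14, nat_lit 40, nat_lit 38, nat_lit 6]
noncomputable def w36 : Word := [nat_lit 30, nat_lit 41, nat_lit 16, nat_lit 20, nat_lit 13, nat_lit 35, nat_lit 27, nat_lit 15]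
noncomputable def w37 : Word := [nat_lit 41, nat_lit 32, nat_lit 19, nat_lit 16, nat_lit 23, nat_lit 12, nat_lit 40, nat_lit 27]
noncomputable def w38 : Word := [nat_lit 14, nat_lit 32, nat_lit 25, nat_lit 18, nat_lit 20, nat_lit 6, nat_lit 39, nat_lit 27]
noncomputable def iys : List Word := [w21, w22, w23, w24, w25, w26, w27, w28, w29, w30, w31, w32, w33, w34, w35, w36, w37, w38]
noncomputable def v39 : List Word := [dw (nat_lit 0x0e04090107050a080c090d1115), dw (nat_lit 0x0410041305130b07090c101315), dw (nat_lit 0x020e0301090805130b07100b090e0f15), dw (nat_lit 0x0f04090107050b09071209131215), dw (nat_lit 0x030a010110050c09070c1209151316), dw (nat_lit 0x020b0301060705070b070715090d1016), dw (nat_lit 0x1304090107050c0707090c09120f0e), dw (nat_lit 0x0113030107090507090707130c091210)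
, dw (nat_lit 0x050d0c051009070a0b09130f15), dw (nat_lit 0x15030a01150c050e0c070a0b11100d), dw (nat_lit 0x040a0c02060f0509070e0c091216), dw (nat_lit 0x070d02090f0507090b0709110f), dw (nat_lit 0x1009020609051207090d0b13100d), dw (nat_lit 0x02030a021607050f0c07090c11150d), dw (nat_lit 0x07060109050c070a0d0b120f0d16), dw (nat_lit 0x0e070501080e050b07100b100d16)
, dw (nat_lit 0x050f01100a050c09070d0b13121016), dw (nat_lit 0x030a01010d0c050907071209110f0e16)]
theorem k40 : relK F bs0 (memRels ks iys v39) = true := by decide +kernel
theorem ihy (M : PM G Ω 4600 H14.C2c.nets) (hN : Nat.card G = 42305421312000) : (sub M.gen iys) ≤ (sub M.gen ks) :=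
  (sub_le_of_memRels (rels_base (base0 M hN) k40))
noncomputable def v41 : List Word := [[], [], [], [], [], [], [], []
, [], [], [], [], [], [], [], []
, [], [], [], [], [], [], [], []
, [], [], [], [], [], [], [], []
, [], [], [], [], [], [], [], []
, [], [], [], [], [], [], [], []
, [], [], [], [], [], [], [], []
, [], [], [], [], [], [], [], []
, [], [], [], [], [], [], [], []
, [], [], [], [], [], [], [], []
, [], [], [], [], [], [], [], []
, [], [], [], [], [], [], [], []
, [], [], [], [], [], [], [], []
, [], [], [], [], [], [], [], []
, [], [], [], [], [], [], [], []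
, [], [], [], [], [], [], [], []
, [], [], [], [], [], [], [], []
, [], [], [], [], [], [], [], []
, [], [], [], [], [], [], [], []
, [], [], [], [], [], [], [], []
, [], [], [], [], [], [], [], []
, [], [], [], [], [], [], [], []
, [], [], [], [], [], [], [], []
, [], [], [], [], [], [], [], []
, [], [], [], [], [], [], [], []
, [], [], [], [], [], [], [], []
, [], [], [], [], [], [], [], []
, [], [], [], [], [], [], [], []
, [], [], [], [], [], [], [], []
, [], [], [], [], [], [], [], []
, [], [], [], [], [], [], [], []
, [], [], [], [], [], [], [], []
, [], [], [], [], [], [], [], []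
, [], [], [], [], [], [], [], []
, [], [], [], [], [], [], [], []
, [], [], [], [], [], [], [], []
, [], [], [], [], [], [], [], []
, [], [], [], [], [], [], [], []
, [], [], [], [], [], []]
theorem k42 : relK F bs0 (qR iys [] H15.StdU62.rels v41) = true := by decide +kernel
noncomputable def v43 : Prs := [(dw (nat_lit 0x0d111f21071315131b17), []),
 (dw (nat_lit 0x0d0b1b1d050d20191f), []),
 (dw (nat_lit 0x03010b1911172019), []),
 (dw (nat_lit 0x09201d1b07011f191f), []),
 (dw (nat_lit 0x170501210e01110e13151f), []),
 (dw (nat_lit 0x1b0b14031e140e150b), []),
 (dw (nat_lit 0x1d070b111f1120152017), []),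
 (dw (nat_lit 0x0715141e0113111513), []),
 (dw (nat_lit 0x09150b1e0514151f23), []),
 (dw (nat_lit 0x0e2313090314210d2123), []),
 (dw (nat_lit 0x031e010f0d151415131e), [])]
theorem k44 : relK F bs0 (sR iys [] H15.StdU62.ws0 ks v43) = true := by decide +kernel
theorem iqs (M : PM G Ω 4600 H14.C2c.nets) (hN : Nat.card G = 42305421312000) : ∀ {X : Type*} [Group X], PresF G X H15.StdU62.rels H15.StdU62.ws0 → QS X (sub M.gen ks) (sub M.gen []) :=
  fun hP _ => quot_surj hP ((sub_le _).2 fa_nil) (ihy M hN) le_rfl le_rfl (rels_base (base0 M hN) k42) (rels_base (base0 M hN) k44) (by decide +kernel)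
theorem k45 : fixAll 4600 H14.C2c.nets ks [nat_lit 0] = true := by decide +kernel
theorem iso (M : PM G Ω 4600 H14.C2c.nets) (hN : Nat.card G = 42305421312000) : ∀ {X : Type*} [Group X], PresF G X H15.StdU62.rels H15.StdU62.ws0 → Nat.card X = 9196830720 → ∀ K : Subgroup G, Nat.card K = 9196830720 → (∀ g, M.FixL [nat_lit 0] g → g ∈ K) → Nonempty (K ≃* X) :=
  fun hP hX K hK h => (Subgroup.eq_of_le_of_card_ge (fun _ hg => h _ (M.fixL_of_chk k45 hg)) (hK.le.trans (ks_low M hN))) ▸ (iqs M hN hP).iso_bot hX (ks_low M hN) (by norm_num)

end L.SiU62
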