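import Cfsg.Agent.H14.EN
import Cfsg.Agent.H14.KhE64

/-! Generated certificate (toolsL/cg.hpp). -/
set_option autoImplicit false
set_option maxRecDepth 200000
set_option Elab.async false
set_option linter.unusedVariables false
set_option linter.unusedSectionVars false

namespace L.SpE64
open H14 L.KhE64T L.KhE64
variable {G Ω : Type*} [Group G] [Finite G] [MulAction G Ω]

noncomputable def T1 : List Word := [[], dw (nat_lit 0x03), dw (nat_lit 0x04), dw (nat_lit 0x0103), dw (nat_lit 0x0203), dw (nat_lit 0x0303), dw (nat_lit 0x0703), dw (nat_lit 0x0c03)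
, dw (nat_lit 0x1103), dw (nat_lit 0x1303), dw (nat_lit 0x0404), dw (nat_lit 0x0704), dw (nat_lit 0x0804), dw (nat_lit 0x1304), dw (nat_lit 0x030103), dw (nat_lit 0x040103)
, dw (nat_lit 0x0c0103), dw (nat_lit 0x080203), dw (nat_lit 0x0b0203), dw (nat_lit 0x010303), dw (nat_lit 0x070303), dw (nat_lit 0x080303), dw (nat_lit 0x0d0303), dw (nat_lit 0x110303)
, dw (nat_lit 0x030703), dw (nat_lit 0x0b0703), dw (nat_lit 0x030c03), dw (nat_lit 0x040c03), dw (nat_lit 0x041103), dw (nat_lit 0x070404), dw (nat_lit 0x031304), dw (nat_lit 0x030c0103)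
, dw (nat_lit 0x03080203), dw (nat_lit 0x09070303), dw (nat_lit 0x01080303)]
noncomputable def ts : List (List Word) := [[[], dw (nat_lit 0x01), dw (nat_lit 0x02), dw (nat_lit 0x07), dw (nat_lit 0x0701), dw (nat_lit 0x0801), dw (nat_lit 0x0c01), dw (nat_lit 0x0d01)
, dw (nat_lit 0x1101), dw (nat_lit 0x0702), dw (nat_lit 0x010701), dw (nat_lit 0x020701), dw (nat_lit 0x090701), dw (nat_lit 0x010801), dw (nat_lit 0x020801), dw (nat_lit 0x090801)
, dw (nat_lit 0x011101), dw (nat_lit 0x010702)],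
[[], dw (nat_lit 0x0b), dw (nat_lit 0x0c), dw (nat_lit 0x0d), dw (nat_lit 0x11), dw (nat_lit 0x110b), dw (nat_lit 0x110c), dw (nat_lit 0x110d)
],
[[], dw (nat_lit 0x13), dw (nat_lit 0x15), dw (nat_lit 0x1513)]]
theorem trv : band (ltb (nat_lit 0) (nat_lit 64)) (trvChk (nat_lit 64) (apK F) (List.tail L.KhE64.c18) [nat_lit 0] (T1 :: ts)) = true := by decide +kernel
theorem ev0 (M : PM G Ω 64 H14.StE64.nets) (hN : Nat.card G = 1290240) : Ev M ⊤ (nat_lit 8) (nat_lit 255) (apK F) (ev M.gen) :=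
  Ev.top (by decide +kernel)
noncomputable def r2 : Word := [nat_lit 4]
noncomputable def r1 : Word := [nat_lit 4, nat_lit 10, nat_lit 4]
noncomputable def r0 : Word := []
theorem cvr (M : PM G Ω 64 H14.StE64.nets) (hN : Nat.card G = 1290240) : Cvr M ⊤ (ev M.gen) (nat_lit 0) (full (nat_lit 64)) [r0, r1, r2] :=
  ((ev0 M hN).cvr (r := r0) (O'' := (full (nat_lit 64))) (orb_bit ⊤ [nat_lit 0] (b := (nat_lit 0)) rfl) ((ev0 M hN).cvr (r := r1) (O'' := (nat_lit 0xfffffffffffffffe)) (L.KhE64.o7 M hN) ((ev0 M hN).cvr (r := r2) (O'' := (nat_lit 0xe88181178117177e)) (L.KhE64.o25 M hN) cvr_nil (by decide +kernel)) (by decide +kernel)) (by decide +kernel))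
theorem en2 : enTop (nat_lit 8) (nat_lit 255) (nat_lit 64) (apK F) (ordP (nat_lit 8) (nat_lit 255) (nat_lit 15) bs0 [nat_lit 7, nat_lit 8, nat_lit 10, nat_lit 12, nat_lit 15]) T1 ts r2 = true := by decide +kernel
theorem en1 : enTop (nat_lit 8) (nat_lit 255) (nat_lit 64) (apK F) (ordP (nat_lit 8) (nat_lit 255) (nat_lit 15) bs0 [nat_lit 7, nat_lit 8, nat_lit 10, nat_lit 12, nat_lit 15]) T1 ts r1 = true := by decide +kernel
theorem en0 : enTop (nat_lit 8) (nat_lit 255) (nat_lit 64) (apK F) (ordP (nat_lit 8) (nat_lit 255) (nat_lit 15) bs0 [nat_lit 7, nat_lit 8, nat_lit 10, nat_lit 12, nat_lit 15]) T1 ts r0 = true := by decide +kernel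
theorem up (M : PM G Ω 64 H14.StE64.nets) (hN : Nat.card G = 1290240) : ∀ g : G, ∃ e ∈ [7, 8, 10, 12, 15], g ^ e = 1 :=
  fun g => (ev0 M hN).all (Q := fun g => ∃ e ∈ [7, 8, 10, 12, 15], g ^ e = 1) (ordP_spec (base0 M hN)) (fun x y _ => pow_swap x y) (b := (nat_lit 0)) (O := (full (nat_lit 64))) (c := List.tail L.KhE64.c18) (L.KhE64.e20 M hN).sc trv (cvr M hN) (fa_cons en0 (fa_cons en1 (fa_cons en2 fa_nil))) (Subgroup.mem_top g)
theorem spec (M : PM G Ω 64 H14.StE64.nets) (hN : Nat.card G = 1290240) : Set.range (orderOf : G → ℕ) = {d | ∃ e ∈ [7, 8, 10, 12, 15], d ∣ e} :=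
  spec_eq (up M hN) (fa_cons ⟨by decide, _, ord_of (F := F) (base0 M hN) (w := [nat_lit 1, nat_lit 19, nat_lit 3, nat_lit 11]) (e := 7) (by decide +kernel)⟩ (fa_cons ⟨by decide, _, ord_of (F := F) (base0 M hN) (w := [nat_lit 4, nat_lit 16, nat_lit 7, nat_lit 19, nat_lit 5, nat_lit 10, nat_lit 8, nat_lit 16, nat_lit 3, nat_lit 7, nat_lit 5, nat_lit 1]) (e := 8) (by decide +kernel)⟩ (fa_cons ⟨by decide, _, ord_of (F := F) (base0 M hN) (w := [nat_lit 3, nat_lit 6, nat_lit 4, nat_lit 7, nat_lit 19, nat_lit 21, nat_lit 5]) (e := 10) (by decide +kernel)⟩ (fa_cons ⟨by decide, _, ord_of (F := F) (base0 M hN) (w := [nat_lit 3, nat_lit 3, nat_lit 5, nat_lit 17, nat_lit 8, nat_lit 2, nat_lit 0, nat_lit 12]) (e := 12) (by decide +kernel)⟩ (fa_cons ⟨by decide, _, ord_of (F := F) (base0 M hN) (w := [nat_lit 16, nat_lit 13, nat_lit 15, nat_lit 21, nat_lit 13, nat_lit 3, nat_lit 13, nat_lit 14]) (e := 15) (by decide +kernel)⟩ fa_nil)))))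
noncomputable def w0 : Word := [nat_lit 11, nat_lit 2, nat_lit 4, nat_lit 3, nat_lit 10]
noncomputable def w1 : Word := [nat_lit 0, nat_lit 2, nat_lit 4, nat_lit 3, nat_lit 1]
noncomputable def w2 : Word := [nat_lit 0, nat_lit 4, nat_lit 1]
noncomputable def w3 : Word := [nat_lit 12, nat_lit 2, nat_lit 4, nat_lit 3, nat_lit 12]
noncomputable def w4 : Word := [nat_lit 16, nat_lit 1, nat_lit 4, nat_lit 0, nat_lit 16]
noncomputable def w5 : Word := [nat_lit 7, nat_lit 0, nat_lit 4, nat_lit 1, nat_lit 6]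
noncomputable def qz : List Word := [w0, w1, w2, w3, w4, w5]
noncomputable def qws : List Word := List.append qz []
theorem k6 : nrmRow F bs0 qws (nat_lit 6) (nat_lit 0) (nat_lit 1) [[nat_lit 2],
 [nat_lit 4],
 [nat_lit 6],
 [nat_lit 8],
 [nat_lit 10]] (nat_lit 127) = true := by decide +kernel
theorem k7 : nrmRow F bs0 qws (nat_lit 6) (nat_lit 1) (nat_lit 2) [[nat_lit 4],
 [nat_lit 6],
 [nat_lit 8],
 [nat_lit 10]] (nat_lit 127) = true := by decide +kernel
theorem k8 : nrmRow F bs0 qws (nat_lit 6) (nat_lit 2) (nat_lit 3) [[nat_lit 6],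
 [nat_lit 8],
 [nat_lit 10]] (nat_lit 127) = true := by decide +kernel
theorem k9 : nrmRow F bs0 qws (nat_lit 6) (nat_lit 3) (nat_lit 4) [[nat_lit 8],
 [nat_lit 10]] (nat_lit 127) = true := by decide +kernel
theorem k10 : nrmRow F bs0 qws (nat_lit 6) (nat_lit 4) (nat_lit 5) [[nat_lit 10]] (nat_lit 127) = true := by decide +kernel
theorem k11 : nrmRow F bs0 qws (nat_lit 6) (nat_lit 5) (nat_lit 6) [] (nat_lit 127) = true := by decide +kernel
noncomputable def qnm : List Nat := [nat_lit 127, nat_lit 127, nat_lit 127, nat_lit 127, nat_lit 127, nat_lit 127]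
theorem qhn (M : PM G Ω 64 H14.StE64.nets) (hN : Nat.card G = 1290240) : NrmL (loc M.gen qws) 6 0 qnm :=
  (nrm_cons (base0 M hN) k6 (nrm_cons (base0 M hN) k7 (nrm_cons (base0 M hN) k8 (nrm_cons (base0 M hN) k9 (nrm_cons (base0 M hN) k10 (nrm_cons (base0 M hN) k11 trivial))))))
noncomputable def c12 : Chn := [((nat_lit 0), (full (nat_lit 64)))]
noncomputable def d13 : List OD := [⟨[nat_lit 2, nat_lit 0, nat_lit 1, nat_lit 3, nat_lit 4, nat_lit 5], [dw (nat_lit 0x01), dw (nat_lit 0x03), dw (nat_lit 0x05), dw (nat_lit 0x07), dw (nat_lit 0x09), dw (nat_lit 0x0b)], []⟩]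
theorem k14 : ocChk (nat_lit 64) H14.StE64.nets F qz c12 d13 [] = true := by decide +kernel
theorem o15 (M : PM G Ω 64 H14.StE64.nets) (hN : Nat.card G = 1290240) : OC M (Nn (loc M.gen qws) 6 0) [] c12 :=
  oc_of (sub_le_Nn M.gen qz [] (m := 6) rfl) k14
theorem k16 : powChk F bs0 qws (nat_lit 2) (nat_lit 6) qnm [[],
 [],
 [],
 [],
 [],
 []] = true := by decide +kernel
theorem qpc (M : PM G Ω 64 H14.StE64.nets) (hN : Nat.card G = 1290240) : Pc (loc M.gen qws) 2 6 ∧ ∀ i ≤ 6, Nat.card (Nn (loc M.gen qws) 6 i) = 2 ^ (6 - i) :=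
  pc_of (base0 M hN) (by norm_num) (qhn M hN) k16 (OC.le_card' (o15 M hN) (by decide +kernel))
noncomputable def q : List Word := List.drop 0 qz
theorem q_card (M : PM G Ω 64 H14.StE64.nets) (hN : Nat.card G = 1290240) : Nat.card (sub M.gen q) = 2 ^ 6 :=
  Nn_eq_sub M.gen qz [] (m := 6) rfl 0 ▸ (qpc M hN).2 0 (by decide)
noncomputable def v17 : List Word := [dw (nat_lit 0x0f04010310), dw (nat_lit 0x0a04010309), dw (nat_lit 0x030104), dw (nat_lit 0x0b0401030b), dw (nat_lit 0x0603010405), dw (nat_lit 0x05030104050b)]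
theorem k18 : relK F bs0 (memRels StE64.ws0 q v17) = true := by decide +kernel
theorem q_le (M : PM G Ω 64 H14.StE64.nets) (hN : Nat.card G = 1290240) : (sub M.gen q) ≤ (sub M.gen StE64.ws0) :=
  (sub_le_of_memRels (rels_base (base0 M hN) k18))
noncomputable def v19 : List (List Word) := [[dw (nat_lit 0x01), dw (nat_lit 0x03), dw (nat_lit 0x05), dw (nat_lit 0x07), dw (nat_lit 0x09), dw (nat_lit 0x0b)],
 [dw (nat_lit 0x0709), dw (nat_lit 0x05090b), dw (nat_lit 0x010507), dw (nat_lit 0x0103090b), dw (nat_lit 0x010309), dw (nat_lit 0x0507090b)],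
 [dw (nat_lit 0x03050b), dw (nat_lit 0x0103070b), dw (nat_lit 0x0b), dw (nat_lit 0x0105), dw (nat_lit 0x05), dw (nat_lit 0x05090b)],
 [dw (nat_lit 0x0507090b), dw (nat_lit 0x05070b), dw (nat_lit 0x0107090b), dw (nat_lit 0x07), dw (nat_lit 0x0103), dw (nat_lit 0x0103090b)],
 [dw (nat_lit 0x0105), dw (nat_lit 0x0305), dw (nat_lit 0x0107090b), dw (nat_lit 0x07), dw (nat_lit 0x09), dw (nat_lit 0x0b)],
 [dw (nat_lit 0x01030507090b), dw (nat_lit 0x0507090b), dw (nat_lit 0x05090b), dw (nat_lit 0x0305), dw (nat_lit 0x0b), dw (nat_lit 0x09)],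
 [dw (nat_lit 0x01), dw (nat_lit 0x0109), dw (nat_lit 0x010507090b), dw (nat_lit 0x07), dw (nat_lit 0x0103), dw (nat_lit 0x0103090b)],
 [dw (nat_lit 0x05070b), dw (nat_lit 0x0507090b), dw (nat_lit 0x010507090b), dw (nat_lit 0x010509), dw (nat_lit 0x0103090b), dw (nat_lit 0x0103)],
 [dw (nat_lit 0x05070b), dw (nat_lit 0x0709), dw (nat_lit 0x0103090b), dw (nat_lit 0x01030507090b), dw (nat_lit 0x010507090b), dw (nat_lit 0x010507)],
 [dw (nat_lit 0x0305), dw (nat_lit 0x0105), dw (nat_lit 0x05), dw (nat_lit 0x01030507090b), dw (nat_lit 0x0b), dw (nat_lit 0x09)],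
 [dw (nat_lit 0x010509), dw (nat_lit 0x03050b), dw (nat_lit 0x05), dw (nat_lit 0x05070b), dw (nat_lit 0x09), dw (nat_lit 0x0b)]]
theorem k20 : relK F bs0 (nrR q q StE64.ws0 v19) = true := by decide +kernel
theorem q_nrm (M : PM G Ω 64 H14.StE64.nets) (hN : Nat.card G = 1290240) : (sub M.gen StE64.ws0) ≤ (Subgroup.normalizer (sub M.gen q : Set G)) :=
  (le_normalizer_of le_rfl (rels_base (base0 M hN) k20) (by decide +kernel))
theorem k21 : relK F bs0 (List.map (fun a => (powW a 2, [])) q) = true := by decide +kernel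
theorem k22 : relK F bs0 (commR q q) = true := by decide +kernel
theorem q_el (M : PM G Ω 64 H14.StE64.nets) (hN : Nat.card G = 1290240) : Cfsg.IsElementaryAbelian 2 (sub M.gen q) :=
  (elem_of (rels_base (base0 M hN) k22) (rels_base (base0 M hN) k21))

end L.SpE64
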