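import Cfsg.Agent.H14.EN
import Cfsg.Agent.H14.KhJ2

/-! Generated certificate (toolsL/cg.hpp). -/
set_option autoImplicit false
set_option maxRecDepth 200000
set_option Elab.async false
set_option linter.unusedVariables false
set_option linter.unusedSectionVars false

namespace L.SpJ2
open H14 L.KhJ2T L.KhJ2
variable {G Ω : Type*} [Group G] [Finite G] [MulAction G Ω]

noncomputable def T1 : List Word := [[], dw (nat_lit 0x09), dw (nat_lit 0x0a), dw (nat_lit 0x0b), dw (nat_lit 0x11), dw (nat_lit 0x12), dw (nat_lit 0x0909), dw (nat_lit 0x0b09)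
, dw (nat_lit 0x0d09), dw (nat_lit 0x0e09), dw (nat_lit 0x0f09), dw (nat_lit 0x1009), dw (nat_lit 0x1109), dw (nat_lit 0x1209), dw (nat_lit 0x1409), dw (nat_lit 0x1709)
, dw (nat_lit 0x0a0a), dw (nat_lit 0x0d0a), dw (nat_lit 0x0e0a), dw (nat_lit 0x0f0a), dw (nat_lit 0x130a), dw (nat_lit 0x0d0b), dw (nat_lit 0x140b), dw (nat_lit 0x170b)
, dw (nat_lit 0x0911), dw (nat_lit 0x1011), dw (nat_lit 0x1111), dw (nat_lit 0x0a12), dw (nat_lit 0x0e12), dw (nat_lit 0x1212), dw (nat_lit 0x090909), dw (nat_lit 0x0d0909)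
, dw (nat_lit 0x100909), dw (nat_lit 0x110b09), dw (nat_lit 0x0c0d09), dw (nat_lit 0x091409)]
noncomputable def ts : List (List Word) := [[[], dw (nat_lit 0x0d), dw (nat_lit 0x0e), dw (nat_lit 0x0d0d), dw (nat_lit 0x0f0d), dw (nat_lit 0x180d), dw (nat_lit 0x0e0e)],
[[], dw (nat_lit 0x0f), dw (nat_lit 0x10), dw (nat_lit 0x13), dw (nat_lit 0x14), dw (nat_lit 0x17), dw (nat_lit 0x18), dw (nat_lit 0x130f)
, dw (nat_lit 0x140f), dw (nat_lit 0x170f), dw (nat_lit 0x1410), dw (nat_lit 0x1710)],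
[[], dw (nat_lit 0x15)]]
theorem trv : band (ltb (nat_lit 0) (nat_lit 100)) (trvChk (nat_lit 100) (apK F) (List.tail L.KhJ2.c19) [nat_lit 0] (T1 :: ts)) = true := by decide +kernel
theorem ev0 (M : PM G Ω 100 H15.StdJ2.nets) (hN : Nat.card G = 604800) : Ev M ⊤ (nat_lit 8) (nat_lit 255) (apK F) (ev M.gen) :=
  Ev.top (by decide +kernel)
noncomputable def r2 : Word := [nat_lit 0, nat_lit 6, nat_lit 22]
noncomputable def r1 : Word := [nat_lit 0]
noncomputable def r0 : Word := []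
theorem cvr (M : PM G Ω 100 H15.StdJ2.nets) (hN : Nat.card G = 604800) : Cvr M ⊤ (ev M.gen) (nat_lit 0) (full (nat_lit 100)) [r0, r1, r2] :=
  ((ev0 M hN).cvr (r := r0) (O'' := (full (nat_lit 100))) (orb_bit ⊤ [nat_lit 0] (b := (nat_lit 0)) rfl) ((ev0 M hN).cvr (r := r1) (O'' := (nat_lit 0xffffffffffffffffffffffffe)) (L.KhJ2.o9 M hN) ((ev0 M hN).cvr (r := r2) (O'' := (nat_lit 0xcfffc363afb863ca76ffde720)) (L.KhJ2.o25 M hN) cvr_nil (by decide +kernel)) (by decide +kernel)) (by decide +kernel))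
theorem en2 : enTop (nat_lit 8) (nat_lit 255) (nat_lit 100) (apK F) (ordP (nat_lit 8) (nat_lit 255) (nat_lit 15) bs0 [nat_lit 7, nat_lit 8, nat_lit 10, nat_lit 12, nat_lit 15]) T1 ts r2 = true := by decide +kernel
theorem en1 : enTop (nat_lit 8) (nat_lit 255) (nat_lit 100) (apK F) (ordP (nat_lit 8) (nat_lit 255) (nat_lit 15) bs0 [nat_lit 7, nat_lit 8, nat_lit 10, nat_lit 12, nat_lit 15]) T1 ts r1 = true := by decide +kernel
theorem en0 : enTop (nat_lit 8) (nat_lit 255) (nat_lit 100) (apK F) (ordP (nat_lit 8) (nat_lit 255) (nat_lit 15) bs0 [nat_lit 7, nat_lit 8, nat_lit 10, nat_lit 12, nat_lit 15]) T1 ts r0 = true := by decide +kernel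
theorem up (M : PM G Ω 100 H15.StdJ2.nets) (hN : Nat.card G = 604800) : ∀ g : G, ∃ e ∈ [7, 8, 10, 12, 15], g ^ e = 1 :=
  fun g => (ev0 M hN).all (Q := fun g => ∃ e ∈ [7, 8, 10, 12, 15], g ^ e = 1) (ordP_spec (base0 M hN)) (fun x y _ => pow_swap x y) (b := (nat_lit 0)) (O := (full (nat_lit 100))) (c := List.tail L.KhJ2.c19) (L.KhJ2.e21 M hN).sc trv (cvr M hN) (fa_cons en0 (fa_cons en1 (fa_cons en2 fa_nil))) (Subgroup.mem_top g)
theorem spec (M : PM G Ω 100 H15.StdJ2.nets) (hN : Nat.card G = 604800) : Set.range (orderOf : G → ℕ) = {d | ∃ e ∈ [7, 8, 10, 12, 15], d ∣ e} :=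
  spec_eq (up M hN) (fa_cons ⟨by decide, _, ord_of (F := F) (base0 M hN) (w := [nat_lit 14, nat_lit 19, nat_lit 11, nat_lit 14]) (e := 7) (by decide +kernel)⟩ (fa_cons ⟨by decide, _, ord_of (F := F) (base0 M hN) (w := [nat_lit 5, nat_lit 10, nat_lit 17, nat_lit 8, nat_lit 1, nat_lit 3, nat_lit 19, nat_lit 15, nat_lit 11, nat_lit 13, nat_lit 0]) (e := 8) (by decide +kernel)⟩ (fa_cons ⟨by decide, _, ord_of (F := F) (base0 M hN) (w := [nat_lit 14, nat_lit 8, nat_lit 11, nat_lit 2, nat_lit 14, nat_lit 6]) (e := 10) (by decide +kernel)⟩ (fa_cons ⟨by decide, _, ord_of (F := F) (base0 M hN) (w := [nat_lit 6, nat_lit 14, nat_lit 9, nat_lit 20, nat_lit 9, nat_lit 2, nat_lit 1]) (e := 12) (by decide +kernel)⟩ (fa_cons ⟨by decide, _, ord_of (F := F) (base0 M hN) (w := [nat_lit 17, nat_lit 14, nat_lit 16, nat_lit 14, nat_lit 2, nat_lit 0, nat_lit 5, nat_lit 9, nat_lit 3, nat_lit 8, nat_lit 11]) (e := 15) (by decide +kernel)⟩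 fa_nil)))))

end L.SpJ2
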