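import Cfsg.Agent.H14.EN
import Cfsg.Agent.H14.KhS8

/-! Generated certificate (toolsL/cg.hpp). -/
set_option autoImplicit false
set_option maxRecDepth 200000
set_option Elab.async false
set_option linter.unusedVariables false
set_option linter.unusedSectionVars false

namespace L.SpS8
open H14 L.KhS8T L.KhS8
variable {G Ω : Type*} [Group G] [Finite G] [MulAction G Ω]

noncomputable def T1 : List Word := [[], dw (nat_lit 0x03), dw (nat_lit 0x0503), dw (nat_lit 0x070503), dw (nat_lit 0x09070503), dw (nat_lit 0x0b09070503), dw (nat_lit 0x0d0b09070503)]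
noncomputable def ts : List (List Word) := [[[], dw (nat_lit 0x05), dw (nat_lit 0x0705), dw (nat_lit 0x090705), dw (nat_lit 0x0b090705), dw (nat_lit 0x0d0b090705)],
[[], dw (nat_lit 0x07), dw (nat_lit 0x0907), dw (nat_lit 0x0b0907), dw (nat_lit 0x0d0b0907)],
[[], dw (nat_lit 0x09), dw (nat_lit 0x0b09), dw (nat_lit 0x0d0b09)],
[[], dw (nat_lit 0x0b), dw (nat_lit 0x0d0b)],
[[], dw (nat_lit 0x0d)]]
theorem trv : band (ltb (nat_lit 0) (nat_lit 8)) (trvChk (nat_lit 8) (apK F) (List.tail L.KhS8.c21) [nat_lit 0] (T1 :: ts)) = true := by decide +kernel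
theorem ev0 (M : PM G Ω 8 H15.StdSym8.nets) (hN : Nat.card G = 40320) : Ev M ⊤ (nat_lit 8) (nat_lit 255) (apK F) (ev M.gen) :=
  Ev.top (by decide +kernel)
noncomputable def r1 : Word := [nat_lit 0]
noncomputable def r0 : Word := []
theorem cvr (M : PM G Ω 8 H15.StdSym8.nets) (hN : Nat.card G = 40320) : Cvr M ⊤ (ev M.gen) (nat_lit 0) (full (nat_lit 8)) [r0, r1] :=
  ((ev0 M hN).cvr (r := r0) (O'' := (full (nat_lit 8))) (orb_bit ⊤ [nat_lit 0] (b := (nat_lit 0)) rfl) ((ev0 M hN).cvr (r := r1) (O'' := (nat_lit 0xfe)) (L.KhS8.o10 M hN) cvr_nil (by decide +kernel)) (by decide +kernel))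
theorem en1 : enTop (nat_lit 8) (nat_lit 255) (nat_lit 8) (apK F) (ordP (nat_lit 8) (nat_lit 255) (nat_lit 15) bs0 [nat_lit 7, nat_lit 8, nat_lit 10, nat_lit 12, nat_lit 15]) T1 ts r1 = true := by decide +kernel
theorem en0 : enTop (nat_lit 8) (nat_lit 255) (nat_lit 8) (apK F) (ordP (nat_lit 8) (nat_lit 255) (nat_lit 15) bs0 [nat_lit 7, nat_lit 8, nat_lit 10, nat_lit 12, nat_lit 15]) T1 ts r0 = true := by decide +kernel
theorem up (M : PM G Ω 8 H15.StdSym8.nets) (hN : Nat.card G = 40320) : ∀ g : G, ∃ e ∈ [7, 8, 10, 12, 15], g ^ e = 1 :=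
  fun g => (ev0 M hN).all (Q := fun g => ∃ e ∈ [7, 8, 10, 12, 15], g ^ e = 1) (ordP_spec (base0 M hN)) (fun x y _ => pow_swap x y) (b := (nat_lit 0)) (O := (full (nat_lit 8))) (c := List.tail L.KhS8.c21) (L.KhS8.e23 M hN).sc trv (cvr M hN) (fa_cons en0 (fa_cons en1 fa_nil)) (Subgroup.mem_top g)
theorem spec (M : PM G Ω 8 H15.StdSym8.nets) (hN : Nat.card G = 40320) : Set.range (orderOf : G → ℕ) = {d | ∃ e ∈ [7, 8, 10, 12, 15], d ∣ e} :=
  spec_eq (up M hN) (fa_cons ⟨by decide, _, ord_of (F := F) (base0 M hN) (w := [nat_lit 5, nat_lit 2, nat_lit 4, nat_lit 0, nat_lit 6, nat_lit 11, nat_lit 8, nat_lit 12]) (e := 7) (by decide +kernel)⟩ (fa_cons ⟨by decide, _, ord_of (F := F) (base0 M hN) (w := [nat_lit 11, nat_lit 3, nat_lit 7, nat_lit 12, nat_lit 8, nat_lit 4, nat_lit 1]) (e := 8) (by decide +kernel)⟩ (fa_cons ⟨by decide, _, ord_of (F := F) (base0 M hN) (w := [nat_lit 4, nat_lit 4, nat_lit 11, nat_lit 8, nat_lit 0,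 nat_lit 12, nat_lit 7, nat_lit 5, nat_lit 0, nat_lit 9, nat_lit 1]) (e := 10) (by decide +kernel)⟩ (fa_cons ⟨by decide, _, ord_of (F := F) (base0 M hN) (w := [nat_lit 8, nat_lit 6, nat_lit 0, nat_lit 6, nat_lit 12, nat_lit 3, nat_lit 11]) (e := 12) (by decide +kernel)⟩ (fa_cons ⟨by decide, _, ord_of (F := F) (base0 M hN) (w := [nat_lit 7, nat_lit 5, nat_lit 2, nat_lit 2, nat_lit 11, nat_lit 9, nat_lit 0, nat_lit 9, nat_lit 3, nat_lit 13]) (e := 15) (by decide +kernel)⟩ fa_nil)))))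

end L.SpS8
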