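import Cfsg.Agent.H14.Dw2
import Cfsg.Agent.H15.Std3
import Cfsg.Agent.L.KW

/-! Standard machine: the group 2^(1+6):L3(2) on 24 points
Generated certificate (tools14/pkgen) for the permutation group StTv of degree 24, order 21504, base 0 2 4 1. -/
set_option autoImplicit false
set_option maxRecDepth 100000

namespace H14.StTv
open H14

noncomputable def n0 : Net := (.cons (nat_lit 1) (nat_lit 0x111050)
(.cons (nat_lit 2) (nat_lit 0x130020)
(.cons (nat_lit 4) (nat_lit 0xe0300)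
(.cons (nat_lit 8) (nat_lit 0x54)
(.cons (nat_lit 16) (nat_lit 0x7d)
(.cons (nat_lit 8) (nat_lit 0x4b)
(.cons (nat_lit 4) (nat_lit 0xc0d00)
(.cons (nat_lit 2) (nat_lit 0x233312)
(.cons (nat_lit 1) (nat_lit 0x444541)
.nil)))))))))
theorem n0_ok : Net.ok 24 n0 = true := by decide +kernel
noncomputable def n1 : Net := (.cons (nat_lit 1) (nat_lit 0x441514)
(.cons (nat_lit 2) (nat_lit 0x12100)
(.cons (nat_lit 4) (nat_lit 0xb00)
(.cons (nat_lit 8) (nat_lit 0x58)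
(.cons (nat_lit 16) (nat_lit 0x58)
(.cons (nat_lit 8) (nat_lit 0xca)
(.cons (nat_lit 4) (nat_lit 0xc090a)
(.cons (nat_lit 2) (nat_lit 0x12012)
(.cons (nat_lit 1) (nat_lit 0x441044)
.nil)))))))))
theorem n1_ok : Net.ok 24 n1 = true := by decide +kernel
noncomputable def n2 : Net := (.cons (nat_lit 1) (nat_lit 0x114410)
(.cons (nat_lit 2) (nat_lit 0x103000)
(.cons (nat_lit 4) (nat_lit 0xc0800)
(.cons (nat_lit 8) (nat_lit 0x1e)
(.cons (nat_lit 16) (nat_lit 0xbe)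
(.cons (nat_lit 8) (nat_lit 0x5c)
(.cons (nat_lit 4) (nat_lit 0x80000)
(.cons (nat_lit 2) (nat_lit 0x101100)
(.cons (nat_lit 1) (nat_lit 0x104450)
.nil)))))))))
theorem n2_ok : Net.ok 24 n2 = true := by decide +kernel
noncomputable def n3 : Net := (.cons (nat_lit 1) (nat_lit 0x505050)
(.cons (nat_lit 2) (nat_lit 0x202000)
(.cons (nat_lit 4) (nat_lit 0x20000)
(.cons (nat_lit 16) (nat_lit 0x42)
(.cons (nat_lit 8) (nat_lit 0xe0)
(.cons (nat_lit 4) (nat_lit 0xa0b02)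
(.cons (nat_lit 2) (nat_lit 0x300120)
(.cons (nat_lit 1) (nat_lit 0x140110)
.nil))))))))
theorem n3_ok : Net.ok 24 n3 = true := by decide +kernel
noncomputable def n4 : Net := (.cons (nat_lit 1) (nat_lit 0x504400)
(.cons (nat_lit 2) (nat_lit 0x1200)
(.cons (nat_lit 4) (nat_lit 0xa0200)
(.cons (nat_lit 8) (nat_lit 0x20)
(.cons (nat_lit 16) (nat_lit 0xa0)
(.cons (nat_lit 8) (nat_lit 0x62)
(.cons (nat_lit 4) (nat_lit 0xf0a00)
(.cons (nat_lit 2) (nat_lit 0x111300)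
(.cons (nat_lit 1) (nat_lit 0x504400)
.nil)))))))))
theorem n4_ok : Net.ok 24 n4 = true := by decide +kernel
noncomputable def n5 : Net := (.cons (nat_lit 1) (nat_lit 0x540500)
(.cons (nat_lit 2) (nat_lit 0x101200)
(.cons (nat_lit 8) (nat_lit 0x5d)
(.cons (nat_lit 16) (nat_lit 0x5f)
(.cons (nat_lit 8) (nat_lit 0x5d)
(.cons (nat_lit 4) (nat_lit 0x40600)
(.cons (nat_lit 2) (nat_lit 0x101200)
(.cons (nat_lit 1) (nat_lit 0x540540)
.nil))))))))
theorem n5_ok : Net.ok 24 n5 = true := by decide +kernel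
noncomputable def n6 : Net := (.cons (nat_lit 1) (nat_lit 0x4400)
(.cons (nat_lit 2) (nat_lit 0x20)
(.cons (nat_lit 4) (nat_lit 0x80400)
(.cons (nat_lit 8) (nat_lit 0x8)
(.cons (nat_lit 16) (nat_lit 0x28)
(.cons (nat_lit 8) (nat_lit 0x4a)
(.cons (nat_lit 4) (nat_lit 0x80500)
(.cons (nat_lit 2) (nat_lit 0x2020)
(.cons (nat_lit 1) (nat_lit 0x54400)
.nil)))))))))
theorem n6_ok : Net.ok 24 n6 = true := by decide +kernel
noncomputable def nets : List Net := [n0, n1, n2, n3, n4, n5, n6]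
theorem nets_ok : netsOk 24 nets = true := List.all_eq_true.2 (fa_cons n0_ok (fa_cons n1_ok (fa_cons n2_ok (fa_cons n3_ok (fa_cons n4_ok (fa_cons n5_ok (fa_cons n6_ok (fa_nil))))))))
noncomputable def ws4 : List Word := []
noncomputable def lev3 : Level := ⟨nat_lit 1,
[⟨[nat_lit 8], [], [],
[⟨nat_lit 0, [], nat_lit 1, [], []⟩,
⟨nat_lit 1, [], nat_lit 0, [], []⟩,
⟨nat_lit 2, [], nat_lit 4, [], []⟩,
⟨nat_lit 3, [], nat_lit 5, [], []⟩,
⟨nat_lit 4, [], nat_lit 2, [], []⟩,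
⟨nat_lit 5, [], nat_lit 3, [], []⟩,
⟨nat_lit 6, [], nat_lit 7, [], []⟩,
⟨nat_lit 7, [], nat_lit 6, [], []⟩],
[]⟩,
⟨[nat_lit 10], [], [],
[⟨nat_lit 0, [], nat_lit 2, [], []⟩,
⟨nat_lit 1, [], nat_lit 4, [], []⟩,
⟨nat_lit 2, [], nat_lit 0, [], []⟩,
⟨nat_lit 3, [], nat_lit 6, [], []⟩,
⟨nat_lit 4, [], nat_lit 1, [], []⟩,
⟨nat_lit 5, [], nat_lit 7, [], []⟩,
⟨nat_lit 6, [], nat_lit 3, [], []⟩,
⟨nat_lit 7, [], nat_lit 5, [], []⟩],
[]⟩,
⟨[nat_lit 12], [], [],
[⟨nat_lit 0, [], nat_lit 3, [], []⟩,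
⟨nat_lit 1, [], nat_lit 5, [], []⟩,
⟨nat_lit 2, [], nat_lit 6, [], []⟩,
⟨nat_lit 3, [], nat_lit 0, [], []⟩,
⟨nat_lit 4, [], nat_lit 7, [], []⟩,
⟨nat_lit 5, [], nat_lit 1, [], []⟩,
⟨nat_lit 6, [], nat_lit 2, [], []⟩,
⟨nat_lit 7, [], nat_lit 4, [], []⟩],
[]⟩],
[⟨dw (nat_lit 0x01), (nat_lit 0x2000), [], .nil, []⟩,
⟨dw (nat_lit 0x03), (nat_lit 0x20000), [], .nil, []⟩,
⟨dw (nat_lit 0x05), (nat_lit 0x200), [], .nil, []⟩,
⟨dw (nat_lit 0x0301), (nat_lit 0x400), [], .nil, []⟩,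
⟨dw (nat_lit 0x0501), (nat_lit 0x4000), [], .nil, []⟩,
⟨dw (nat_lit 0x0503), (nat_lit 0x10000), [], .nil, []⟩,
⟨dw (nat_lit 0x050301), (nat_lit 0x800000), [], .nil, []⟩]⟩
noncomputable def ex3 : List Word := []
noncomputable def ws3 : List Word := List.append ex3 (lev3.gens ws4)
noncomputable def rels3 : List (Word × Word) := List.append (lev3.rels ws4) (memRels (lev3.gens ws4) ex3 [])
noncomputable def lev2 : Level := ⟨nat_lit 4,
[⟨[nat_lit 6], [], [],
[⟨nat_lit 0, [], nat_lit 1, [], []⟩,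
⟨nat_lit 1, [], nat_lit 1, dw (nat_lit 0x05), dw (nat_lit 0x05)⟩,
⟨nat_lit 2, [], nat_lit 1, dw (nat_lit 0x0501), dw (nat_lit 0x01)⟩,
⟨nat_lit 3, [], nat_lit 1, dw (nat_lit 0x03), []⟩,
⟨nat_lit 4, [], nat_lit 1, dw (nat_lit 0x050301), dw (nat_lit 0x0301)⟩,
⟨nat_lit 1, dw (nat_lit 0x01), nat_lit 2, [], []⟩,
⟨nat_lit 1, dw (nat_lit 0x03), nat_lit 1, dw (nat_lit 0x0503), dw (nat_lit 0x0503)⟩,
⟨nat_lit 1, dw (nat_lit 0x05), nat_lit 0, [], dw (nat_lit 0x05)⟩,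
⟨nat_lit 1, dw (nat_lit 0x0301), nat_lit 4, [], []⟩,
⟨nat_lit 1, dw (nat_lit 0x0501), nat_lit 1, dw (nat_lit 0x01), dw (nat_lit 0x01)⟩,
⟨nat_lit 1, dw (nat_lit 0x0503), nat_lit 3, [], dw (nat_lit 0x0503)⟩,
⟨nat_lit 1, dw (nat_lit 0x050301), nat_lit 1, dw (nat_lit 0x0301), dw (nat_lit 0x0301)⟩],
[]⟩],
[⟨dw (nat_lit 0x01), (nat_lit 0x2c19c0), [dw (nat_lit 0x01), dw (nat_lit 0x03), dw (nat_lit 0x05)], .nil, []⟩,
⟨dw (nat_lit 0x010301), (nat_lit 0x8000), [], (.cons (nat_lit 1) [dw (nat_lit 0x01), dw (nat_lit 0x05), dw (nat_lit 0x06030202)] [dw (nat_lit 0x01), dw (nat_lit 0x03), dw (nat_lit 0x05)]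
.nil), [dw (nat_lit 0x05), dw (nat_lit 0x01), dw (nat_lit 0x0301)]⟩,
⟨dw (nat_lit 0x020501), (nat_lit 0x100000), [], (.cons (nat_lit 1) [dw (nat_lit 0x01), dw (nat_lit 0x06), dw (nat_lit 0x0405)] [dw (nat_lit 0x01), dw (nat_lit 0x03), dw (nat_lit 0x05)]
.nil), [dw (nat_lit 0x0301), dw (nat_lit 0x0503), dw (nat_lit 0x05)]⟩,
⟨dw (nat_lit 0x01050301), (nat_lit 0x400000), [], (.cons (nat_lit 1) [dw (nat_lit 0x01), dw (nat_lit 0x05), dw (nat_lit 0x0604)] [dw (nat_lit 0x01), dw (nat_lit 0x03), dw (nat_lit 0x05)]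
.nil), [dw (nat_lit 0x0503), dw (nat_lit 0x0301), dw (nat_lit 0x01)]⟩]⟩
noncomputable def ex2 : List Word := [[nat_lit 4]]
noncomputable def ws2 : List Word := List.append ex2 (lev2.gens ws3)
noncomputable def rels2 : List (Word × Word) := List.append (lev2.rels ws3) (memRels (lev2.gens ws3) ex2 [dw (nat_lit 0x02050103)])
noncomputable def lev1 : Level := ⟨nat_lit 2,
[⟨[nat_lit 2], [dw (nat_lit 0x05), dw (nat_lit 0x08), dw (nat_lit 0x0a07)], [dw (nat_lit 0x0302030907), dw (nat_lit 0x0103090705), dw (nat_lit 0x02030905)],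
[⟨nat_lit 0, [], nat_lit 1, [], []⟩,
⟨nat_lit 1, [], nat_lit 1, dw (nat_lit 0x0301), dw (nat_lit 0x040905)⟩,
⟨nat_lit 2, [], nat_lit 1, dw (nat_lit 0x0401), dw (nat_lit 0x020305)⟩,
⟨nat_lit 1, dw (nat_lit 0x04), nat_lit 2, [], []⟩,
⟨nat_lit 1, dw (nat_lit 0x0301), nat_lit 0, [], dw (nat_lit 0x02040907)⟩,
⟨nat_lit 1, dw (nat_lit 0x0302), nat_lit 1, dw (nat_lit 0x07), dw (nat_lit 0x0107)⟩,
⟨nat_lit 1, dw (nat_lit 0x0104), nat_lit 1, dw (nat_lit 0x0402), dw (nat_lit 0x030203)⟩],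
[dw (nat_lit 0x01), dw (nat_lit 0x03), dw (nat_lit 0x05)]⟩],
[⟨dw (nat_lit 0x01), (nat_lit 0x7c99d0), [dw (nat_lit 0x01), dw (nat_lit 0x03), dw (nat_lit 0x01), dw (nat_lit 0x03), dw (nat_lit 0x01)], (.cons (nat_lit 4) [dw (nat_lit 0x0205), dw (nat_lit 0x04080907), dw (nat_lit 0x01090402)] [dw (nat_lit 0x01), dw (nat_lit 0x03), dw (nat_lit 0x05)]
.nil), [dw (nat_lit 0x09), dw (nat_lit 0x090705), dw (nat_lit 0x0907)]⟩,
⟨dw (nat_lit 0x010601), (nat_lit 0x20), [], (.cons (nat_lit 4) [dw (nat_lit 0x03)] [dw (nat_lit 0x01), dw (nat_lit 0x01), dw (nat_lit 0x03), dw (nat_lit 0x07), dw (nat_lit 0x01)]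
(.cons (nat_lit 1) [dw (nat_lit 0x05), dw (nat_lit 0x09), dw (nat_lit 0x08)] [dw (nat_lit 0x01), dw (nat_lit 0x03), dw (nat_lit 0x05)]
.nil)), [dw (nat_lit 0x020309), dw (nat_lit 0x04010905), dw (nat_lit 0x02030905), dw (nat_lit 0x0302030907)]⟩]⟩
noncomputable def ex1 : List Word := []
noncomputable def ws1 : List Word := List.append ex1 (lev1.gens ws2)
noncomputable def rels1 : List (Word × Word) := List.append (lev1.rels ws2) (memRels (lev1.gens ws2) ex1 [])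
noncomputable def lev0 : Level := ⟨nat_lit 0,
[⟨[nat_lit 0], [dw (nat_lit 0x040501), dw (nat_lit 0x0307), dw (nat_lit 0x06040509)], [dw (nat_lit 0x050205030b07), dw (nat_lit 0x05040507), dw (nat_lit 0x04060b0907)],
[⟨nat_lit 0, [], nat_lit 1, [], []⟩,
⟨nat_lit 1, dw (nat_lit 0x05), nat_lit 1, dw (nat_lit 0x06), dw (nat_lit 0x010601040509)⟩,
⟨nat_lit 2, [], nat_lit 1, dw (nat_lit 0x0504), dw (nat_lit 0x0406)⟩,
⟨nat_lit 1, dw (nat_lit 0x09), nat_lit 2, [], []⟩,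
⟨nat_lit 1, dw (nat_lit 0x0503), nat_lit 0, [], dw (nat_lit 0x0406)⟩],
[dw (nat_lit 0x03), dw (nat_lit 0x01), dw (nat_lit 0x05), dw (nat_lit 0x01), dw (nat_lit 0x01)]⟩],
[⟨dw (nat_lit 0x01), (nat_lit 0x7c99f4), [dw (nat_lit 0x03), dw (nat_lit 0x05), dw (nat_lit 0x03), dw (nat_lit 0x01), dw (nat_lit 0x05), dw (nat_lit 0x01)], (.cons (nat_lit 2) [dw (nat_lit 0x01)] [dw (nat_lit 0x01), dw (nat_lit 0x01), dw (nat_lit 0x03), dw (nat_lit 0x07), dw (nat_lit 0x01)]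
(.cons (nat_lit 4) [dw (nat_lit 0x0307), dw (nat_lit 0x06040509), dw (nat_lit 0x0305070604)] [dw (nat_lit 0x01), dw (nat_lit 0x03), dw (nat_lit 0x05)]
.nil)), [dw (nat_lit 0x01030b07), dw (nat_lit 0x05040507), dw (nat_lit 0x050b), dw (nat_lit 0x05030b0907)]⟩,
⟨dw (nat_lit 0x010b01), (nat_lit 0x8), [], (.cons (nat_lit 2) [dw (nat_lit 0x01)] [dw (nat_lit 0x01), dw (nat_lit 0x01), dw (nat_lit 0x03), dw (nat_lit 0x07), dw (nat_lit 0x03), dw (nat_lit 0x01)]
(.cons (nat_lit 4) [dw (nat_lit 0x05)] [dw (nat_lit 0x01), dw (nat_lit 0x0203), dw (nat_lit 0x05), dw (nat_lit 0x01), dw (nat_lit 0x01)]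
(.cons (nat_lit 1) [dw (nat_lit 0x07), dw (nat_lit 0x0a), dw (nat_lit 0x0a0b08)] [dw (nat_lit 0x01), dw (nat_lit 0x03), dw (nat_lit 0x05)]
.nil))), [dw (nat_lit 0x020301040507), dw (nat_lit 0x05030b09), dw (nat_lit 0x0b), dw (nat_lit 0x09), dw (nat_lit 0x0b0907)]⟩]⟩
noncomputable def ex0 : List Word := []
noncomputable def ws0 : List Word := List.append ex0 (lev0.gens ws1)
noncomputable def rels0 : List (Word × Word) := List.append (lev0.rels ws1) (memRels (lev0.gens ws1) ex0 [])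
noncomputable def rels : List (Word × Word) := List.append rels0 (List.append rels1 (List.append rels2 (List.append rels3 ([]))))
noncomputable def defs : List Word := [dw (nat_lit 0x020204020302), dw (nat_lit 0x040603060305040503), dw (nat_lit 0x080505080805), dw (nat_lit 0x0606), dw (nat_lit 0x060806080505070706060608)]
noncomputable def relsD : List (Word × Word) := defRels defs 2
noncomputable def relsO : List (Word × Word) := memRels ws0 (lets 2) [dw (nat_lit 0x01), dw (nat_lit 0x03)]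
noncomputable def relsS : List (Word × Word) := []
noncomputable def allRels : List (Word × Word) := List.append rels (List.append relsD (List.append relsO relsS))
theorem chk3 : lev3.chk 24 nets ws4 1 8 = true := by decide +kernel
theorem chk2 : lev2.chk 24 nets ws3 8 96 = true := by decide +kernel
theorem chk1 : lev1.chk 24 nets ws2 96 1344 = true := by decide +kernel
theorem chk0 : lev0.chk 24 nets ws1 1344 21504 = true := by decide +kernel
theorem rc0 : relsChk 24 nets 5 (idArr 24 5 5 0) allRels = true := by decide +kernel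
section
variable {Γ Ω : Type*} [Group Γ] [MulAction Γ Ω] (M : PM Γ Ω 24 nets)

theorem all_ok (hs : M.Sep 5 (idArr 24 5 5 0)) : Rels M.gen allRels := (M.rels_of_chk hs rc0)
theorem sep [FaithfulSMul Γ Ω] : M.Sep 5 (idArr 24 5 5 0) := M.sep_idArr (by decide)
theorem all_ok' [FaithfulSMul Γ Ω] : Rels M.gen allRels := all_ok M (sep M)
theorem rels_of_all {gen : ℕ → Γ} (h : Rels gen allRels) : Rels gen rels := Rels.left h
theorem relsD_of_all {gen : ℕ → Γ} (h : Rels gen allRels) : Rels gen relsD := Rels.left (Rels.right h)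
theorem relsO_of_all {gen : ℕ → Γ} (h : Rels gen allRels) : Rels gen relsO := Rels.left (Rels.right (Rels.right h))
theorem relsS_of_all {gen : ℕ → Γ} (h : Rels gen allRels) : Rels gen relsS := Rels.right (Rels.right (Rels.right h))
theorem card4 (_hR : Rels M.gen rels) : Nat.card (sub M.gen ws4) = 1 := M.card_nil
theorem fixw4 (_hR : Rels M.gen rels) : M.FixTriv ws4 [] := M.fixTriv_nil
theorem r3 (hR : Rels M.gen rels) : Rels M.gen rels3 := (Rels.left (Rels.right (Rels.right (Rels.right hR))))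
theorem res3 (hR : Rels M.gen rels) : M.LevelRes ws4 lev3 8 := M.level (card4 M hR) chk3 (Rels.left (r3 M hR))
theorem ext3 (hR : Rels M.gen rels) : sub M.gen ws3 = sub M.gen (lev3.gens ws4) := sub_extend (Rels.right (r3 M hR))
theorem card3 (hR : Rels M.gen rels) : Nat.card (sub M.gen ws3) = 8 := by rw [ext3 M hR]; exact (res3 M hR).card
theorem fix3 (hR : Rels M.gen rels) : M.FixTriv (lev3.gens ws4) [1] := (res3 M hR).fixTriv M (fixw4 M hR)
theorem fixw3 (hR : Rels M.gen rels) : M.FixTriv ws3 [1] := fun g hg => fix3 M hR g (ext3 M hR ▸ hg)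
theorem stab3 (hR : Rels M.gen rels) : sub M.gen ws3 ⊓ MulAction.stabilizer Γ (M.dec 1) = sub M.gen ws4 := by rw [ext3 M hR]; exact (res3 M hR).stab
theorem orb3 (hR : Rels M.gen rels) (y : Ω) : y ∈ M.S lev3.orb ↔ ∃ g ∈ sub M.gen ws3, g • M.dec 1 = y := by rw [ext3 M hR]; exact (res3 M hR).orb y
theorem r2 (hR : Rels M.gen rels) : Rels M.gen rels2 := (Rels.left (Rels.right (Rels.right hR)))
theorem res2 (hR : Rels M.gen rels) : M.LevelRes ws3 lev2 96 := M.level (card3 M hR) chk2 (Rels.left (r2 M hR))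
theorem ext2 (hR : Rels M.gen rels) : sub M.gen ws2 = sub M.gen (lev2.gens ws3) := sub_extend (Rels.right (r2 M hR))
theorem card2 (hR : Rels M.gen rels) : Nat.card (sub M.gen ws2) = 96 := by rw [ext2 M hR]; exact (res2 M hR).card
theorem fix2 (hR : Rels M.gen rels) : M.FixTriv (lev2.gens ws3) [4, 1] := (res2 M hR).fixTriv M (fixw3 M hR)
theorem fixw2 (hR : Rels M.gen rels) : M.FixTriv ws2 [4, 1] := fun g hg => fix2 M hR g (ext2 M hR ▸ hg)
theorem stab2 (hR : Rels M.gen rels) : sub M.gen ws2 ⊓ MulAction.stabilizer Γ (M.dec 4) = sub M.gen ws3 := by rw [ext2 M hR]; exact (res2 M hR).stab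
theorem orb2 (hR : Rels M.gen rels) (y : Ω) : y ∈ M.S lev2.orb ↔ ∃ g ∈ sub M.gen ws2, g • M.dec 4 = y := by rw [ext2 M hR]; exact (res2 M hR).orb y
theorem r1 (hR : Rels M.gen rels) : Rels M.gen rels1 := (Rels.left (Rels.right hR))
theorem res1 (hR : Rels M.gen rels) : M.LevelRes ws2 lev1 1344 := M.level (card2 M hR) chk1 (Rels.left (r1 M hR))
theorem ext1 (hR : Rels M.gen rels) : sub M.gen ws1 = sub M.gen (lev1.gens ws2) := sub_extend (Rels.right (r1 M hR))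
theorem card1 (hR : Rels M.gen rels) : Nat.card (sub M.gen ws1) = 1344 := by rw [ext1 M hR]; exact (res1 M hR).card
theorem fix1 (hR : Rels M.gen rels) : M.FixTriv (lev1.gens ws2) [2, 4, 1] := (res1 M hR).fixTriv M (fixw2 M hR)
theorem fixw1 (hR : Rels M.gen rels) : M.FixTriv ws1 [2, 4, 1] := fun g hg => fix1 M hR g (ext1 M hR ▸ hg)
theorem stab1 (hR : Rels M.gen rels) : sub M.gen ws1 ⊓ MulAction.stabilizer Γ (M.dec 2) = sub M.gen ws2 := by rw [ext1 M hR]; exact (res1 M hR).stab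
theorem orb1 (hR : Rels M.gen rels) (y : Ω) : y ∈ M.S lev1.orb ↔ ∃ g ∈ sub M.gen ws1, g • M.dec 2 = y := by rw [ext1 M hR]; exact (res1 M hR).orb y
theorem r0 (hR : Rels M.gen rels) : Rels M.gen rels0 := (Rels.left hR)
theorem res0 (hR : Rels M.gen rels) : M.LevelRes ws1 lev0 21504 := M.level (card1 M hR) chk0 (Rels.left (r0 M hR))
theorem ext0 (hR : Rels M.gen rels) : sub M.gen ws0 = sub M.gen (lev0.gens ws1) := sub_extend (Rels.right (r0 M hR))
theorem card0 (hR : Rels M.gen rels) : Nat.card (sub M.gen ws0) = 21504 := by rw [ext0 M hR]; exact (res0 M hR).card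
theorem fix0 (hR : Rels M.gen rels) : M.FixTriv (lev0.gens ws1) [0, 2, 4, 1] := (res0 M hR).fixTriv M (fixw1 M hR)
theorem fixw0 (hR : Rels M.gen rels) : M.FixTriv ws0 [0, 2, 4, 1] := fun g hg => fix0 M hR g (ext0 M hR ▸ hg)
theorem stab0 (hR : Rels M.gen rels) : sub M.gen ws0 ⊓ MulAction.stabilizer Γ (M.dec 0) = sub M.gen ws1 := by rw [ext0 M hR]; exact (res0 M hR).stab
theorem orb0 (hR : Rels M.gen rels) (y : Ω) : y ∈ M.S lev0.orb ↔ ∃ g ∈ sub M.gen ws0, g • M.dec 0 = y := by rw [ext0 M hR]; exact (res0 M hR).orb y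
theorem orig_eq {gen : ℕ → Γ} (h : Rels gen allRels) : sub gen (lets 2) = sub gen ws0 :=
  sub_lets_eq_of_rels (ds := defs) (by decide +kernel) (relsD_of_all h) (by decide +kernel) (relsO_of_all h)
theorem gen_mem {gen : ℕ → Γ} (h : Rels gen allRels) {X : Subgroup Γ} (h0 : ∀ l < 2, gen l ∈ X) : sub gen ws0 ≤ X :=
  sub_le_of_wsIn (lo := 0) (gen_mem_of_defRels (ds := defs) (fun l _ hl => h0 l hl) (by decide +kernel) (relsD_of_all h)) (by decide +kernel)

end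

/-- the permutation group -/
noncomputable abbrev P := permPM 24 nets (by decide) (by decide) nets_ok
theorem allP : Rels P.gen allRels := all_ok' P
/-- machines of this type -/
abbrev St (X : Type*) [Group X] := H15.Std X 24 nets ws0 21504 allRels
theorem hom {X : Type*} [Group X] (S : St X) {Δ : Type*} [Group Δ] (y : ℕ → Δ) (hy : Rels y rels) :
    ∃ φ : X →* Δ, φ.range = sub y ws0 ∧ ∀ w ∈ ws0, φ (H14.ev S.M.gen w) = H14.ev y w :=
  S.hom_ws y (card0 _ ((rels_of_all S.rels).prod hy))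
theorem pres {X : Type*} [Group X] (S : St X) : L.Pres X rels ws0 := L.Pres.of fun _ _ y hy => hom S y hy
/-- the group generated by the letters -/
noncomputable abbrev X0 := sub P.gen ws0
theorem std : Nonempty (St X0) :=
  let ⟨S, _⟩ := H15.std_of_hom (sub P.gen ws0).subtype (k := 2)
    (fun _ hl => ⟨⟨_, orig_eq allP ▸ gen_mem_lets hl⟩, rfl⟩) (ds := defs) (by decide +kernel) (by decide +kernel)
    (relsD_of_all allP) (H15.Bd.of_card (card0 P (rels_of_all allP)) (by decide)).top_sub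
    (card0 P (rels_of_all allP)) allP
  ⟨S⟩
theorem pres0 : L.Pres X0 rels ws0 := std.elim pres
theorem cardX : Nat.card X0 = 21504 := card0 P (rels_of_all allP)

end H14.StTv
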