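import Mathlib

/-! Bridge for S4181: Sylow subgroups of a subgroup containing a Sylow subgroup. -/

set_option autoImplicit false

namespace H14.SyA

theorem card_le {G : Type*} [Group G] [Finite G] (p : ℕ) [Fact p.Prime]
    (H : Subgroup G) (P : Sylow p G) (hP : (P : Subgroup G) ≤ H) :
    Nat.card (Sylow p ↥H) ≤ Nat.card {Q : Sylow p G // (Q : Subgroup G) ≤ H} := by
  classical
  have key : ∀ R : Sylow p H, ∃ Q : Sylow p G, (Q : Subgroup G) ≤ H ∧
      (Q : Subgroup G).subgroupOf H = R := by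
    intro R
    obtain ⟨h, hh⟩ := MulAction.exists_smul_eq H (P.subtype hP) R
    refine ⟨(h : G) • P, ?_, ?_⟩
    · intro x hx
      rw [Sylow.coe_subgroup_smul, Subgroup.mem_pointwise_smul_iff_inv_smul_mem] at hx
      have := hP hx
      simp only [MulAut.smul_def, MulAut.conj_inv_apply, ← map_inv, MulAut.conj_apply, inv_inv] at this
      have h2 := H.mul_mem (H.mul_mem h.2 this) (H.inv_mem h.2)
      simpa [mul_assoc] using h2
    · rw [← hh]
      ext x
      rw [Subgroup.mem_subgroupOf, Sylow.coe_subgroup_smul, Sylow.coe_subgroup_smul,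
        Subgroup.mem_pointwise_smul_iff_inv_smul_mem, Subgroup.mem_pointwise_smul_iff_inv_smul_mem,
        Sylow.coe_subtype, Subgroup.mem_subgroupOf]
      simp [MulAut.smul_def]
  choose f hf1 hf2 using key
  refine Nat.card_le_card_of_injective (fun R => (⟨f R, hf1 R⟩ : {Q : Sylow p G // (Q : Subgroup G) ≤ H})) ?_
  intro R R' h
  have h1 : f R = f R' := congrArg Subtype.val h
  apply Sylow.ext
  rw [← hf2 R, ← hf2 R', h1]

theorem s4181 {G : Type*} [Group G] [Finite G] (p : ℕ) [Fact p.Prime]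
    (hT : ∀ K : Subgroup G, Nat.card {P : Sylow p G // (P : Subgroup G) ≤ K} < Nat.card (Sylow p G) →
      (2 * p - 1) * Nat.card {P : Sylow p G // (P : Subgroup G) ≤ K} ≤ (p - 1) * Nat.card (Sylow p G))
    (hgen : Subgroup.closure {g : G | ∃ k : ℕ, orderOf g = p ^ k} = ⊤)
    (H : Subgroup G) (hH : H ≠ ⊤) (P : Sylow p G) (hP : (P : Subgroup G) ≤ H) :
    (2 * p - 1) * Nat.card (Sylow p ↥H) ≤ (p - 1) * Nat.card (Sylow p G) := by
  classical
  refine le_trans (Nat.mul_le_mul_left _ (card_le p H P hP)) (hT H ?_)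
  have hex : ∃ Q : Sylow p G, ¬ (Q : Subgroup G) ≤ H := by
    by_contra hc
    push Not at hc
    apply hH
    rw [eq_top_iff, ← hgen, Subgroup.closure_le]
    rintro g ⟨k, hk⟩
    have hz : IsPGroup p (Subgroup.zpowers g) := IsPGroup.of_card (by rw [Nat.card_zpowers, hk])
    obtain ⟨Q, hQ⟩ := hz.exists_le_sylow
    exact hc Q (hQ (Subgroup.mem_zpowers g))
  obtain ⟨Q, hQ⟩ := hex
  exact Finite.card_subtype_lt (p := fun Q : Sylow p G => (Q : Subgroup G) ≤ H) hQ

end H14.SyA
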