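import Cfsg.Agent.H14.ThL
import Cfsg.Agent.H14.ThS
import Cfsg.Agent.H15.Th
import Cfsg.Agent.L.Out2
import Cfsg.Agent.L.Br2

/-! Relations of the presented group `Th` checked in the faithful representation (`rels_rho`), and the
Schur multiplier (`schur_Th`). -/

set_option autoImplicit false
set_option maxRecDepth 100000

namespace H14.Th
open Cfsg L Cfsg.Spor H15.Th ThL

instance : Finite Spor.Th := fin_of_card main.2.2.2.1 (by decide)
instance : Finite Y' := fin_of_card cardY' (by decide)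

theorem hom_ext {Γ : Type*} [Group Γ] {φ ψ : Spor.Th →* Γ} (h : ∀ l < 8, φ (g l) = ψ (g l)) : φ = ψ :=
  PresentedGroup.ext fun a => by
    have := h (ix a) (by cases a <;> decide)
    rwa [g_ix] at this

theorem rels_rho {l : List (Word × Word)} (h : H15.ThM.c.rels H15.ThM.ms l = true)
    (h' : l.all (fun p => (p.1 ++ p.2).all (Nat.blt · 16)) = true) : Rels g l := fun p hp => by
  have h1 : ∀ a ∈ p.1 ++ p.2, a < 2 * 8 := fun a ha => by
    simpa using List.all_eq_true.1 (List.all_eq_true.1 h' p hp) a ha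
  refine main.2.1 ?_
  rw [map_ev, map_ev, ev_congr rho_g fun a ha => h1 a (List.mem_append_left _ ha),
    ev_congr rho_g fun a ha => h1 a (List.mem_append_right _ ha)]
  exact H15.BP.rels_of_chk H15.ThM.c_ok H15.ThM.hgen h p hp

theorem rels_pm {l : List (Word × Word)} (h : relsChk 819 H15.ThG.nets 10 (idArr 819 10 10 0) l = true)
    (h' : l.all (fun p => (p.1 ++ p.2).all (Nat.blt · 14)) = true) : Rels g l := fun p hp => by
  have h1 : ∀ a ∈ p.1 ++ p.2, a < 2 * 7 := fun a ha => by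
    simpa using List.all_eq_true.1 (List.all_eq_true.1 h' p hp) a ha
  rw [← ev_congr theta_gen' fun a ha => h1 a (List.mem_append_left _ ha),
    ← ev_congr theta_gen' fun a ha => h1 a (List.mem_append_right _ ha), ← map_ev, ← map_ev,
    M'.rels_of_idArr (by decide) h p hp]

theorem inj1 : Function.Injective theta' := Function.Injective.of_comp (f := rho) inj'

/-- the relators of the presentation -/
def RP : List Word := (H15.homW ix Th.edges Th.extra []).map Prod.fst
/-- all relators used -/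
noncomputable def RA : List Word := RP ++ (RH ++ RY)
/-- letters of the centraliser of `a` -/
def wsC : List Word := [[0], [4], [6], [8], [10], [12], [14]]
/-- letters of `G2(3):2` -/
def wsG : List Word := [[0], [2], [4], [6], [8], [14]]

theorem ra : ∀ w ∈ RA, ev g w = 1 := fun w hw => by
  rcases List.mem_append.1 hw with h | h
  · exact rel0.rels (w, []) ((by decide +kernel :
      ∀ w ∈ RP, (w, []) ∈ R0.map fun w => (w.reverse, ([] : Word))) w h)
  rcases List.mem_append.1 h with h | h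
  · exact (rels_pm rh (by decide +kernel)).of_toRels w h
  · exact (rels_rho ry (by decide +kernel)).of_toRels w h

section
variable {Γ : Type} [Group Γ] {σ : Γ →* Spor.Th} {p : ℕ} (h : CE σ p) {x : ℕ → Γ} (hx : ∀ l, σ (x l) = g l)
  {N : Subgroup Γ} (hN : ∀ n ∈ N, σ n = 1 → n = 1)
include hx

theorem sev (w : Word) : σ (ev x w) = ev g w := by rw [map_ev, funext hx]

include hN

theorem inN {k : ℕ} (hk : ∀ l < k, x l ∈ N) {v w : Word} (hv : (v ++ w).all (Nat.blt · (2 * k)) = true)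
    (e : ev g v = ev g w) : ev x v = ev x w := by
  have h1 : ∀ a ∈ v ++ w, a < 2 * k := fun a ha => by simpa using List.all_eq_true.1 hv a ha
  refine (inv_mul_eq_one.1 (hN _ (mul_mem (inv_mem (ev_mem hk fun a ha => h1 a (List.mem_append_right _ ha)))
    (ev_mem hk fun a ha => h1 a (List.mem_append_left _ ha))) ?_)).symm
  rw [map_mul, map_inv, sev hx, sev hx, e, inv_mul_cancel]

theorem fin (hk : ∀ l < 7, x l ∈ N) {R : List Word} (hR : ∀ w ∈ R, ev x w = 1)
    (hc : allL (fun w => bor (w.all (Nat.blt · 14)) (List.elem w R)) RP = true) : Sec σ ⊤ := by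
  obtain ⟨φ, hφ⟩ := H15.exists_hom (edges := Th.edges) (extra := Th.extra) ix x (ns := [])
    (fun x hx => by simp [coxNodes, Th.edges] at hx) fun q hq => by
      have a : q.1 ∈ RP := List.mem_map_of_mem hq
      rw [(by decide +kernel : ∀ q ∈ H15.homW ix Th.edges Th.extra [], q.2 = []) q hq]
      rcases bor_iff.1 (allL_iff.1 hc _ a) with b | b
      · exact inN hx hN hk (by rwa [List.append_nil]) (ra _ (List.mem_append_left _ a))
      · exact hR _ (List.mem_of_elem_eq_true b)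
  refine sec_of_hom φ fun a => DFunLike.congr_fun (hom_ext (φ := σ.comp φ) (ψ := MonoidHom.id _)
    fun l hl => ?_) a
  rw [MonoidHom.comp_apply, g, hφ, hx]
  congr 1
  revert l; decide

end

theorem app {Γ : Type} [Group Γ] {x : ℕ → Γ} {R R' : List Word} (h : ∀ w ∈ R, ev x w = 1)
    (h' : ∀ w ∈ R', ev x w = 1) : ∀ w ∈ R ++ R', ev x w = 1 := fun w hw =>
  (List.mem_append.1 hw).elim (h w) (h' w)

/-- the machine with the letters of the certificate -/
noncomputable def MS : PM Y' (H15.Pt pi') 819 H14ThS.nets := H14ThS.mach (encPM M') (real_take _ rfl)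

theorem MS_gen : ∀ l < 7, theta' (MS.gen l) = g l := fun l hl => by
  rw [gen_eq_take M' MS rfl (k := 7) rfl hl, theta_gen' l hl]

theorem sec_elim {Γ : Type} [Group Γ] {σ : Γ →* Spor.Th} {K : Subgroup Y'} (h : Sec σ (K.map theta')) {k : ℕ}
    (hk : ∀ l < k, M'.gen l ∈ K) (h7 : k ≤ 7) :
    ∃ N : Subgroup Γ, (∀ n ∈ N, σ n = 1 → n = 1) ∧ ∀ l < k, g l ∈ N.map σ := by
  obtain ⟨N, h1, h2⟩ := h
  refine ⟨N, fun n hn e => ?_, fun l hl => h2 ▸ ⟨_, hk l hl, theta_gen' l (by omega)⟩⟩
  have : n ∈ N ⊓ σ.ker := ⟨hn, e⟩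
  rwa [h1] at this

theorem ac : relsChk 819 H15.ThG.nets 10 (idArr 819 10 10 0)
    [([0, 4], [4, 0]), ([0, 6], [6, 0]), ([0, 8], [8, 0]), ([0, 10], [10, 0])] = true := by decide +kernel

theorem sec2 : SecTop g 2 [] := fun Γ _ _ σ h _ => by
  obtain ⟨N, hN, h1⟩ := sec_elim (sec_of_inj inj1 (K := ⊤) (fun Γ _ _ σ h => secTop_gas cardY'
    (H14ThS.UC MS) (H14ThS.LC MS) (by decide +kernel) (H14ThS.T2 MS) Γ σ h fa_nil) h) (k := 7)
    (fun _ _ => trivial) le_rfl
  obtain ⟨x, hx, hk, h2⟩ := exists_gauge h h1 (Gs := [(7, [15, 11, 15, 11, 15, 11, 4, 0], 1)])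
    (by decide +kernel) (fa_cons (ra _ (by decide +kernel)) fa_nil)
  replace h2 := h2 _ List.mem_cons_self
  have h3 := fun q hq => inN hx hN hk ((by decide : ∀ q ∈ [([0, 4], [4, 0]), ([0, 6], [6, 0]),
    ([0, 8], [8, 0]), ([0, 10], [10, 0])], (q.1 ++ q.2 : List ℕ).all (Nat.blt · (2 * 7)) = true) q hq)
    (rels_pm ac (by decide) q hq)
  simp only [List.forall_mem_cons] at h3
  obtain ⟨c2, c3, c4, c5, -⟩ := h3
  simp [letter] at c2 c3 c4 c5
  have c7 : x 7 * x 0 = x 0 * x 7 := by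
    have e1 := (sev hx _).trans (ra [0, 14, 1, 15] (by decide +kernel))
    have e2 : (x 7 * x 5) ^ 3 = x 0 * x 2 := by
      rw [eq_comm, ← mul_inv_eq_one, ← h2]; simp [letter, pow_succ, mul_assoc]
    have e3 : (x 0)⁻¹ * (x 7 * x 5) * (x 0)⁻¹⁻¹ = x 7 * x 5 * ev x [0, 14, 1, 15] := by
      rw [mul_assoc (x 7), CE_comm h e1, inv_inv, mul_assoc, mul_assoc, c5]; simp [letter, mul_assoc]
    have e4 := mul_pow_of h e1 (x 7 * x 5) 3
    rw [← e3, conj_pow, e2, inv_inv, inv_mul_cancel_left, c2, left_eq_mul] at e4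
    have e5 := eq_one_of_pow h (by decide) e1 e4
    rw [eq_comm, ← inv_mul_eq_one, ← e5]; simp [letter, mul_assoc]
  have cz' : ev x cz ∈ Subgroup.centralizer {x 0} := by
    have m := fun y => (Subgroup.mem_centralizer_singleton_iff (g := x 0) (k := y)).2
    rw [show cz = [6, 8, 15, 7, 5, 0] by decide +kernel]
    simp only [ev_cons, ev_nil, letter]
    norm_num
    exact mul_mem (mul_mem (mul_mem (mul_mem (mul_mem (m _ rfl) (inv_mem (m _ c2))) (inv_mem (m _ c3)))
      (inv_mem (m _ c7))) (m _ c4)) (m _ c3)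
  have h4 : ev x (commW cx cy) = 1 := by
    have a := rels_rho rc0 (by decide +kernel) _ List.mem_cons_self
    have b := rels_rho rc1 (by decide +kernel) _ List.mem_cons_self
    simp only [← sev hx, ev_append, ev_single x 0] at a b
    have c := Subgroup.mem_centralizer_singleton_iff.1 cz'
    rw [ev_commW]
    generalize ev x cx = X at *
    generalize ev x cy = Y at *
    generalize ev x cz = Z at *
    generalize ev x cg = G at *
    have a' := CE_comm h (c := (x 0 * G)⁻¹ * (G * X)) (by rw [map_mul, map_inv, a, inv_mul_cancel])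
    have b' := CE_comm h (c := (Z * G)⁻¹ * (G * Y)) (by rw [map_mul, map_inv, b, inv_mul_cancel])
    obtain ⟨d, rfl⟩ : ∃ d, X = G⁻¹ * (x 0 * G * d) := ⟨(x 0 * G)⁻¹ * (G * X), by group⟩
    obtain ⟨e, rfl⟩ : ∃ e, Y = G⁻¹ * (Z * G * e) := ⟨(Z * G)⁻¹ * (G * Y), by group⟩
    rw [mul_inv_cancel_left, inv_mul_cancel_left] at a' b'
    rw [mul_assoc, mul_assoc, inv_mul_eq_one, eq_inv_mul_iff_mul_eq]
    calc _ = G⁻¹ * (x 0 * G * (d * (G⁻¹ * (Z * G * e)))) := by simp only [mul_assoc]
      _ = G⁻¹ * (x 0 * Z) * G * e * d := by rw [← a']; group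
      _ = G⁻¹ * (Z * G * (G⁻¹ * (x 0 * G * d) * e)) := by rw [← c, mul_assoc _ e, ← b' d]; group
      _ = _ := by rw [b']; simp only [mul_assoc]
  have hR : ∀ w ∈ RA, σ (ev x w) = 1 := fun w hw => (sev hx w).trans (ra w hw)
  have RC := killC2.glob h hN hk (ws := wsC) (Kg := [[15, 11, 15, 11, 15, 11, 4, 0], commW cx cy])
    (fa_cons h2 (fa_cons h4 fa_nil)) hR (by decide +kernel)
  have h5 : ev x (xG ++ yi) = 1 := by
    have a := ra (xG ++ invW xC) (by decide +kernel)
    rw [ev_append, ev_invW, inv_mul_eq_one] at a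
    rw [ev_append, ← inN hx hN hk (by decide +kernel) a, ← ev_append]
    exact RC _ (by decide +kernel)
  have RC' := app RC (fa_cons h5 fa_nil : ∀ w ∈ [xG ++ yi], ev x w = 1)
  exact fin hx hN hk (app RC (killG2.glob h hN hk (ws := wsG) RC' hR (by decide +kernel))) (by decide +kernel)

theorem sec5 : SecTop g 5 [] := fun Γ _ _ σ h _ => by
  obtain ⟨N, hN, h1⟩ := sec_elim (sec_of_inj inj1 (K := ⊤) (fun Γ _ _ σ h => sec_of_coprime h
    (by rw [Subgroup.card_top, cardY']; decide)) h) (k := 7) (fun _ _ => trivial) le_rfl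
  obtain ⟨x, hx, hk, h2⟩ := exists_gauge h h1 (Gs := [(7, [1, 5, 14, 14], 3)])
    (by decide +kernel) (fa_cons (ra _ (by decide +kernel)) fa_nil)
  have hR : ∀ w ∈ RA, σ (ev x w) = 1 := fun w hw => (sev hx w).trans (ra w hw)
  have RC := killC5.glob h hN hk (ws := wsC) (Kg := [[1, 5, 14, 14]])
    (fa_cons (h2 _ List.mem_cons_self) fa_nil) hR (by decide +kernel)
  exact fin hx hN hk (app RC (killG5.glob h hN hk (ws := wsG) RC hR (by decide +kernel))) (by decide +kernel)

theorem UD : FinLe (sub MS.gen H14ThS.wsD) 211341312 := by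
  have h := bd6 (f := MS.gen) fun w hw => inj1 (by
    rw [H15.map_evL, H15.evL_congr MS_gen ((by decide +kernel :
      ∀ w ∈ R0.take 27, w.all (fun a => a.blt (2 * 7)) = true) w hw),
      rel0 w (List.mem_of_mem_take hw), map_one])
  exact ⟨inferInstance, h.2⟩

theorem sec3 : SecTop g 3 [] := fun Γ _ _ σ h _ => by
  obtain ⟨N, hN, h1⟩ := sec_elim (sec_of_inj inj1 (K := sub MS.gen H14ThS.wsD) (fun Γ _ _ σ h =>
    sec_gas h (H14ThS.PD MS) (cop_relIndex (H14ThS.PD MS) (H14ThS.UP MS) (H14ThS.LP MS)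
      (le_antisymm UD.2 (low_of_lv MS UD H14ThS.chcD)) (by decide +kernel)) (H14ThS.T3 MS Γ σ h fa_nil)) h)
    (k := 6) (fun l hl => by
      rw [← gen_eq_take M' MS rfl (k := 7) rfl (show l < 7 by omega), ← ev_single MS.gen]
      exact ev_mem_sub _ (by revert l; decide +kernel)) (by decide)
  obtain ⟨x, hx, hk, h2⟩ := exists_gauge h h1 (Gs := [(6, [12, 14, 12, 15], 2), (7, [1, 5, 14, 14], 2)])
    (by decide +kernel) (fa_cons (ra _ (by decide +kernel)) (fa_cons (ra _ (by decide +kernel)) fa_nil))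
  have h3 := h2 _ List.mem_cons_self
  replace h2 := h2 _ (List.mem_cons_of_mem _ List.mem_cons_self)
  have hR : ∀ w ∈ RA, σ (ev x w) = 1 := fun w hw => (sev hx w).trans (ra w hw)
  have r : ∀ w ∈ RP, w.all (Nat.blt · 12) = true → ev x w = 1 := fun w hw e =>
    inN hx hN hk (w := []) (by rwa [List.append_nil]) (ra _ (List.mem_append_left _ hw))
  have t3 : ev x [12, 12, 12] = 1 := by
    have a := hR [12, 12, 12] (by decide +kernel)
    refine eq_one_of_pow h (q := 2) (by decide) a ?_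
    have b : x 6 = ((x 7)⁻¹ * x 6 * (x 7)⁻¹⁻¹)⁻¹ := by
      rw [eq_inv_iff_mul_eq_one, mul_eq_one_comm, ← h3]; simp [letter, mul_assoc]
    have c : ev x [12, 12, 12] = x 6 ^ 3 := by simp [letter, pow_succ]
    rw [c] at a ⊢
    rw [sq]
    nth_rewrite 1 [b]
    rw [inv_pow, conj_pow, CE_comm h a (x 7)⁻¹, mul_inv_cancel_right, inv_mul_cancel]
  have tc : ∀ l < 5, ev x [2 * l, 12, 2 * l + 1, 13] = 1 := fun l hl => by
    have b := r [2 * l, 2 * l] (by revert l; decide +kernel) (by revert l; decide +kernel)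
    have a := hR [2 * l, 12, 2 * l + 1, 13] (by clear b; revert l; decide +kernel)
    simp only [ev_cons, ev_nil, letter_even, letter_odd, one_mul, letter_even x 6, letter_odd x 6] at a b ⊢
    rw [mul_eq_one_iff_eq_inv]
    refine eq_of_pow h (q := 2) (by decide) (by rwa [map_mul, mul_eq_one_iff_eq_inv, ← map_inv] at a) ?_ ?_
    · calc _ = (x 6)⁻¹ * (x l * x l)⁻¹ * x 6 := by simp [sq, mul_assoc]
        _ = 1 := by rw [b]; group
    · rw [inv_pow, sq, b, inv_one]
  have ts : ev x [11, 11, 12, 10, 13] = 1 := by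
    have a := hR [11, 11, 12, 10, 13] (by decide +kernel)
    have b : x 5 ^ 7 = 1 := by
      rw [← r [10, 10, 10, 10, 10, 10, 10] (by decide +kernel) (by decide)]; simp [letter, pow_succ]
    have c : ev x [11, 11, 12, 10, 13] = (x 6)⁻¹ * x 5 * (x 6)⁻¹⁻¹ * (x 5 ^ 2)⁻¹ := by
      simp [letter, sq, mul_assoc]
    rw [c] at a ⊢
    rw [mul_inv_eq_one]
    refine eq_of_pow h (q := 7) (by decide) (by rwa [map_mul, map_inv, mul_inv_eq_one] at a) ?_ ?_
    · rw [conj_pow, b]; group
    · rw [pow_right_comm, b, one_pow]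
  have hB := bd7 (f := x) fun w hw => by
    rw [← H15.ev14]
    rcases (by decide +kernel : ∀ w ∈ R0.take 27, w.reverse ∈ RP ∧ w.reverse.all (Nat.blt · 12) = true ∨
      w.reverse = [12, 12, 12] ∨ w.reverse = [11, 11, 12, 10, 13] ∨
      ∃ l < 5, w.reverse = [2 * l, 12, 2 * l + 1, 13]) w hw with a | a | a | ⟨l, hl, a⟩
    exacts [r _ a.1 a.2, a ▸ t3, a ▸ ts, a ▸ tc l hl]
  have : Finite (H15.Sw x (H15.lts 7)) := Nat.finite_of_card_ne_zero hB.1
  have hb := (H21.bijective_of_surjective_of_card_le _ (σ.subgroupMap_surjective (H15.Sw x (H15.lts 7))) (by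
    rw [H15.map_Sw, funext hx, ← range_theta', ← Nat.card_congr (MonoidHom.ofInjective inj1).toEquiv, cardY']
    exact hB.2)).1
  rw [injective_iff_map_eq_one] at hb
  have hN' : ∀ n ∈ H15.Sw x (H15.lts 7), σ n = 1 → n = 1 := fun n hn e =>
    congrArg Subtype.val (hb ⟨n, hn⟩ (Subtype.ext e))
  have hk' : ∀ l < 7, x l ∈ H15.Sw x (H15.lts 7) := fun l hl => H15.gen_mem_lts x hl
  have RC := killC3.glob h hN' hk' (ws := wsC) (Kg := [[12, 14, 12, 15], [1, 5, 14, 14]])
    (fa_cons h3 (fa_cons h2 fa_nil)) hR (by decide +kernel)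
  exact fin hx hN' hk' (app RC (killG3.glob h hN' hk' (ws := wsG) RC hR (by decide +kernel))) (by decide +kernel)

theorem sec7 : SecTop g 7 [] := fun Γ _ _ σ h _ => by
  have e : Nat.card ((sub MS.gen H14ThS.wsQ).map theta') = 3528 := by
    rw [Subgroup.card_map_of_injective inj1]; exact le_antisymm (H14ThS.UQ MS).2 (H14ThS.LQ MS)
  exact sec_gas h le_top (cop_relIndex le_top ⟨inferInstance, e.le⟩ e.ge
    (Subgroup.card_top.trans main.2.2.2.1) (by decide +kernel))
    (sec_of_inj inj1 (fun Γ _ _ σ h => H14ThS.T7 MS Γ σ h fa_nil) h)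

theorem schur_Th : HasCyclicSchurMultiplier Spor.Th 1 :=
  schur_triv' (gen := g) main.2.2.2.1 (ms := [2, 3, 5, 7]) (a := 11851370496000) (b := 7657) (k := 15) (B := 88)
    (by decide +kernel) (fa_cons sec2 (fa_cons sec3 (fa_cons sec5 (fa_cons sec7 fa_nil))))

end H14.Th
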