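import Cfsg.Agent.H14.ThA
import Cfsg.Agent.H14.ThO
import Cfsg.Agent.H14.OutC

/-! The outer automorphism group of the presented group `Th` is trivial (`out_Th`). -/

set_option autoImplicit false
set_option maxRecDepth 100000

namespace H14.Th
open Cfsg L Cfsg.Spor H15.Th H15.DC MulAction H14ThO

/-- the subgroup `3D4(2):3` -/
noncomputable abbrev HH : Subgroup Spor.Th := theta.range
theorem HH_eq : theta'.range = HH := range_theta'.trans range_theta.symm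

/-- the machine with the letters of the certificate -/
noncomputable def MO : PM Y' (H15.Pt pi') 819 nets := mach (encPM M') (real_take _ rfl)

/-- the element of `Th` given by a word of the certificate -/
noncomputable def el (w : Word) : Spor.Th := theta' (ev MO.gen w)

theorem el_mem (w : Word) : el w ∈ HH := HH_eq ▸ ⟨_, rfl⟩
theorem el_append (v w : Word) : el (v ++ w) = el w * el v := by rw [el, ev_append, map_mul]; rfl
theorem el_powW (w : Word) (k : ℕ) : el (powW w k) = el w ^ k := by rw [el, ev_powW, map_pow]; rfl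
theorem el_invW (w : Word) : el (invW w) = (el w)⁻¹ := by rw [el, ev_invW, map_inv]; rfl
theorem el_nil : el [] = 1 := map_one _

theorem el_eq {w : Word} (h : w.all (Nat.blt · 14) = true) : el w = ev g w := by
  rw [el, map_ev]
  exact ev_congr (k := 7) (fun l hl => by rw [gen_eq_take M' MO rfl (k := 7) rfl hl, theta_gen' l hl])
    fun a ha => by simpa using List.all_eq_true.1 h a ha

theorem rx : ∀ p ∈ XR, el p.1 = el p.2 := fun p hp => congrArg theta' (RX MO cardY' p hp)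

theorem fx : el wx = ev g dx ∧ el wg = ev g dg ∧ el wy = ev g dy ∧ el wz = ev g dz ∧ el s1 = el wx ^ 3 ∧
    el s2 = (el wg)⁻¹ * el s1 * el wg ∧ el r1 = el wy ^ 3 ∧ el r2 = (el wz)⁻¹ * el r1 * el wz ∧ el s1 ^ 7 = 1 ∧
    el s2 * el s1 = el s1 * el s2 ∧ el wg ^ 3 = 1 ∧ (el wg)⁻¹ * el s2 * el wg = el s1 ^ 5 * el s2 ^ 3 ∧
    el s1 * el wl = el wl * el s1 ∧ el w8 = el (flat [h0, h1] u8) ∧ el w8 ^ 7 = 1 := by
  have := rx
  simp only [XR, List.forall_mem_cons, el_append, el_powW, el_invW, el_nil, ← mul_assoc] at this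
  rw [el_eq (w := dx) (by decide +kernel), el_eq (w := dg) (by decide +kernel),
    el_eq (w := dy) (by decide +kernel), el_eq (w := dz) (by decide +kernel)] at this
  simpa only [List.not_mem_nil, IsEmpty.forall_iff, implies_true, and_true] using this

theorem nc0 : H15.ThM.c.rels H15.ThM.ms [(dn ++ dx, dy ++ dn)] = true := by decide +kernel
theorem nc1 : H15.ThM.c.rels H15.ThM.ms [(dn ++ dg, dz ++ dn)] = true := by decide +kernel

/-- the element interchanging the two classes of elements of order 7 -/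
noncomputable def nn : Spor.Th := ev g dn

theorem nx : nn⁻¹ * el wx * nn = el wy := by
  have := rels_rho nc0 (by decide +kernel) _ List.mem_cons_self
  rw [ev_append, ev_append] at this
  rw [fx.1, fx.2.2.1, mul_assoc, nn, this, inv_mul_cancel_left]

theorem ng : nn⁻¹ * el wg * nn = el wz := by
  have := rels_rho nc1 (by decide +kernel) _ List.mem_cons_self
  rw [ev_append, ev_append] at this
  rw [fx.2.1, fx.2.2.2.1, mul_assoc, nn, this, inv_mul_cancel_left]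

theorem cj (x y : Spor.Th) (k : ℕ) : x⁻¹ * y ^ k * x = (x⁻¹ * y * x) ^ k := by
  simpa using (conj_pow (a := x⁻¹) (b := y) (i := k)).symm

theorem n1 : nn⁻¹ * el s1 * nn = el r1 := by rw [fx.2.2.2.2.1, fx.2.2.2.2.2.2.1, cj, nx]

theorem n2 : nn⁻¹ * el s2 * nn = el r2 := by
  rw [fx.2.2.2.2.2.1, fx.2.2.2.2.2.2.2.1, ← n1, ← ng]; group

theorem p1 : el s1 ^ 7 = 1 := fx.2.2.2.2.2.2.2.2.1
theorem p2 : el s2 ^ 7 = 1 := by rw [fx.2.2.2.2.2.1, ← cj, p1]; group
theorem c12 : Commute (el s1) (el s2) := fx.2.2.2.2.2.2.2.2.2.1.symm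

/-- the Sylow 7-subgroup -/
noncomputable def V : Subgroup Spor.Th where
  carrier := {v | ∃ i j : ℕ, el s1 ^ i * el s2 ^ j = v}
  one_mem' := ⟨0, 0, by simp⟩
  mul_mem' := by
    rintro _ _ ⟨i, j, rfl⟩ ⟨k, l, rfl⟩
    exact ⟨i + k, j + l, by
      rw [pow_add, pow_add, mul_assoc, mul_assoc, ← mul_assoc (el s1 ^ k), (c12.pow_pow k j).eq, mul_assoc]⟩
  inv_mem' := by
    rintro _ ⟨i, j, rfl⟩
    refine ⟨6 * i, 6 * j, eq_inv_of_mul_eq_one_left ?_⟩
    rw [mul_assoc, ← mul_assoc (el s2 ^ _), ← (c12.pow_pow i _).eq, mul_assoc, ← mul_assoc, ← pow_add, ← pow_add,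
      show 6 * i + i = 7 * i by ring, show 6 * j + j = 7 * j by ring, pow_mul, pow_mul, p1, p2]
    simp

theorem memV {v : Spor.Th} (h : v ∈ V) : ∃ i < 7, ∃ j < 7, el s1 ^ i * el s2 ^ j = v := by
  obtain ⟨i, j, rfl⟩ := h
  exact ⟨i % 7, Nat.mod_lt _ (by decide), j % 7, Nat.mod_lt _ (by decide), by
    rw [← pow_eq_pow_mod _ p1, ← pow_eq_pow_mod _ p2]⟩

theorem s1V : el s1 ∈ V := ⟨1, 0, by simp⟩
theorem s2V : el s2 ∈ V := ⟨0, 1, by simp⟩

theorem V_le {K : Subgroup Spor.Th} (h1 : el s1 ∈ K) (h2 : el s2 ∈ K) : V ≤ K := by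
  rintro _ ⟨i, j, rfl⟩
  exact mul_mem (pow_mem h1 i) (pow_mem h2 j)

/-- the word of `a ^ i * b ^ j` -/
noncomputable def w2 (a b : Word) (i j : ℕ) : Word := powW b j ++ powW a i

theorem el_w2 (a b : Word) (i j : ℕ) : el (w2 a b i j) = el a ^ i * el b ^ j := by
  rw [w2, el_append, el_powW, el_powW]

theorem vc0 : allN (fun i => allN (fun j => allN (fun k => allN (fun l => bor (band (Nat.beq i k) (Nat.beq j l))
    (bnot (Nat.beq (apW F (w2 s1 s2 i j) 0) (apW F (w2 s1 s2 k l) 0)))) 7) 7) 7) 7 = true := by decide +kernel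

theorem vc : ∀ i < 7, ∀ j < 7, ∀ k < 7, ∀ l < 7, apW F (w2 s1 s2 i j) 0 = apW F (w2 s1 s2 k l) 0 → i = k ∧ j = l :=
  fun i hi j hj k hk l hl e =>
  (bor_iff.1 (allN_iff.1 (allN_iff.1 (allN_iff.1 (allN_iff.1 vc0 i hi) j hj) k hk) l hl)).elim
    (fun a => (band_iff.1 a).imp Nat.eq_of_beq_eq_true Nat.eq_of_beq_eq_true)
    fun a => absurd e (Nat.ne_of_beq_eq_false (bnot_iff.1 a))

theorem el_apW {v w : Word} (h : el v = el w) {x : ℕ} (hx : x < 819) : apW F v x = apW F w x := by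
  rw [← enc_ev_dec MO _ hx, ← enc_ev_dec MO _ hx, inj1 h]

theorem cardV : Nat.card V = 7 ^ 2 := by
  rw [← Nat.card_eq_of_bijective (fun p : Fin 7 × Fin 7 => (⟨_, p.1, p.2, rfl⟩ : V)) ⟨fun p q h => ?_, fun v => ?_⟩]
  · simp
  · have h1 : _ = _ := congrArg Subtype.val h
    simp only [← el_w2] at h1
    obtain ⟨a, b⟩ := vc _ p.1.2 _ p.2.2 _ q.1.2 _ q.2.2 (el_apW h1 (by decide))
    exact Prod.ext (Fin.ext a) (Fin.ext b)
  · obtain ⟨i, hi, j, hj, e⟩ := memV v.2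
    exact ⟨(⟨i, hi⟩, ⟨j, hj⟩), Subtype.ext e⟩

/-- `x` is in `HH` and fixes one of the 819 points -/
def A (x : Spor.Th) : Prop := ∃ y : Y', theta' y = x ∧ ∃ ω : H15.Pt pi', y • ω = ω

theorem A.conj {x h : Spor.Th} (a : A x) (hh : h ∈ HH) : A (h⁻¹ * x * h) := by
  obtain ⟨y, rfl, ω, e⟩ := a
  obtain ⟨k, rfl⟩ := HH_eq.ge hh
  exact ⟨k⁻¹ * y * k, by simp, k⁻¹ • ω, by simp [mul_smul, e]⟩

theorem A_conj {x h : Spor.Th} (hh : h ∈ HH) : A (h⁻¹ * x * h) ↔ A x :=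
  ⟨fun a => by simpa [mul_assoc] using a.conj (inv_mem hh), fun a => a.conj hh⟩

theorem A.mem {x : Spor.Th} (a : A x) : x ∈ HH := HH_eq.le ⟨_, a.choose_spec.1⟩

/-- the word fixes one of the listed points -/
noncomputable def hasF (w : Word) : Bool := anyL (fun x => band (Nat.blt x 819) (Nat.beq (apW F w x) x)) xs

theorem A_of {w : Word} (h : hasF w = true) : A (el w) := by
  obtain ⟨x, -, h⟩ := anyL_iff.1 h
  obtain ⟨h1, h2⟩ := band_iff.1 h
  exact ⟨_, rfl, MO.dec x, by rw [ev_dec MO _ (Nat.blt_eq.mp h1), Nat.eq_of_beq_eq_true h2]⟩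

theorem not_A {w : Word} (h : fpf 819 nets w = true) : ¬ A (el w) := fun ⟨_, e, ω, a⟩ =>
  fpf_spec MO h ω (inj1 e ▸ a)

theorem tc : allN (fun i => allN (fun j => bor (Nat.beq (Nat.add i j) 0)
    (bor (band (hasF (w2 s1 s2 i j)) (fpf 819 nets (w2 r1 r2 i j)))
      (band (hasF (w2 r1 r2 i j)) (fpf 819 nets (w2 s1 s2 i j))))) 7) 7 = true := by decide +kernel

theorem t8 : allN (fun i => bor (Nat.beq i 0) (fpf 819 nets (powW w8 i))) 7 = true := by decide +kernel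

theorem As1 : A (el s1) := A_of (by decide +kernel)

theorem s1_ne : el s1 ≠ 1 := fun h =>
  absurd (vc 1 (by decide) 0 (by decide) 0 (by decide) 0 (by decide) (el_apW (by simp [el_w2, h]) (by decide))).1
    (by decide)

/-- `x` interchanges the two classes of elements of order 7 -/
def Sw (x : Spor.Th) : Prop := ∀ y ∈ St HH x, y ^ 7 = 1 → y ≠ 1 → (A y ↔ ¬ A (x⁻¹ * y * x))

theorem zp7 {y : Spor.Th} (h : y ^ 7 = 1) : IsPGroup 7 (Subgroup.zpowers y) := fun ⟨_, k, rfl⟩ =>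
  ⟨1, Subtype.ext (show (y ^ k) ^ 7 = 1 by
    rw [← zpow_natCast, ← zpow_mul, mul_comm, zpow_mul, zpow_natCast, h, one_zpow])⟩

theorem n343 (K : Subgroup Spor.Th) : ¬ 7 ^ (2 + 1) ∣ Nat.card K := fun h =>
  absurd (h.trans (main.2.2.2.1 ▸ K.card_subgroup_dvd_card)) (by decide)

theorem V_St : V ≤ St HH nn :=
  V_le (mem_St.2 ⟨el_mem _, n1 ▸ el_mem _⟩) (mem_St.2 ⟨el_mem _, n2 ▸ el_mem _⟩)

theorem sw_n : Sw nn := fun y hy h7 h1 => by
  obtain ⟨k, hk, e⟩ := syl_conj (by norm_num) V_St cardV (n343 _) ((Subgroup.zpowers_le).2 hy) (zp7 h7)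
  obtain ⟨i, hi, j, hj, e⟩ := memV (e y (Subgroup.mem_zpowers y))
  have e' : (nn⁻¹ * k * nn)⁻¹ * (nn⁻¹ * y * nn) * (nn⁻¹ * k * nn) = el (w2 r1 r2 i j) := by
    rw [el_w2, ← n1, ← n2, ← cj, ← cj, show nn⁻¹ * el s1 ^ i * nn * (nn⁻¹ * el s2 ^ j * nn) =
      nn⁻¹ * (el s1 ^ i * el s2 ^ j) * nn by group, e]
    group
  rw [← A_conj (mem_St.1 hk).1, ← A_conj (x := nn⁻¹ * y * nn) (mem_St.1 hk).2, e', ← e, ← el_w2]
  rcases bor_iff.1 (allN_iff.1 (allN_iff.1 tc i hi) j hj) with a | a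
  · have : i + j = 0 := Nat.eq_of_beq_eq_true a
    obtain ⟨rfl, rfl⟩ : i = 0 ∧ j = 0 := by omega
    exact absurd (by simpa [mul_assoc, eq_comm, inv_mul_eq_one] using e) h1
  · rcases bor_iff.1 a with a | a
    · exact iff_of_true (A_of (band_iff.1 a).1) (not_A (band_iff.1 a).2)
    · exact iff_of_false (not_A (band_iff.1 a).2) (not_not.2 (A_of (band_iff.1 a).1))

theorem n_not : nn ∉ HH := fun h =>
  (sw_n _ (V_St s1V) p1 s1_ne).1 As1 (As1.conj h)

/-- the letters of the double coset machine -/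
noncomputable def vs8 : List Word := [[0], [2], [4], [6], [8], [10], [12], getL [] H15.ThH.defs 0]

theorem th_ev {w : Word} (h : w.all (Nat.blt · 16) = true) : theta (ev M.gen w) = el (flat vs8 w) := by
  rw [el, ev_flat, map_ev, map_ev]
  refine ev_congr (k := 8) (fun l hl => ?_) fun a ha => by simpa using List.all_eq_true.1 h a ha
  have h1 : ∀ l < 8, theta' (loc MO.gen vs8 l) = ev g (getL [] vs8 l) := fun l hl =>
    el_eq (by revert l; decide +kernel)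
  rw [h1 l hl]
  rcases Nat.lt_succ_iff_lt_or_eq.1 hl with hl | rfl
  · rw [theta_gen l hl, ← ev_single g l]; congr 1; revert l; decide +kernel
  · have : ev M.gen [2 * 7] = ev M.gen (getL [] vs8 7) := H15.ThH.relsD_ok M (_, _) (by decide +kernel)
    rw [← ev_single M.gen 7, this, map_ev]
    exact ev_congr theta_gen (by decide +kernel)

theorem hc : relsPt F (bas cha0) [(h0, flat vs8 (getL [] H15.ThX.c7.c.gens 0)),
    (h1, flat vs8 (getL [] H15.ThX.c7.c.gens 1))] = true := by decide +kernel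

theorem cl : (∀ X : Subgroup Spor.Th, HH ≤ X → X = HH ∨ X = ⊤) ∧ ∀ x, x ∈ HH ∨ Sw x ∨
    (¬ 7 ^ 2 ∣ Nat.card (St HH x) ∧ ∀ y ∈ St HH x, y ^ 7 = 1 → y ≠ 1 → ¬ A y) := by
  have := H15.ThX.hF
  obtain ⟨E, h⟩ := H15.ThX.ex_cl M cardY hyp.1 hyp.2 hgen
  obtain ⟨m, -, g1, h2⟩ := cl_st h main.1 (main.2.2.1.trans (by decide +kernel))
  have h3 : ∀ c ∈ H15.ThX.cs, (7 ∣ c.m ∨ c.i = 10) ∧ (7 ^ 2 ∣ c.m ∨ c.i = 10 ∨ c.i = 8 ∧ c.m = 5031936) := by
    decide +kernel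
  have h4 : ∃ a ∈ HH, ∃ b ∈ HH, nn = a * m 10 * b := by
    obtain ⟨c, hc, a, b⟩ := (h2 nn).resolve_left n_not
    rcases (h3 c hc).1 with d | d
    · exact absurd (a ▸ mul_dvd_mul (cardV ▸ Subgroup.card_dvd_of_le V_St) d) (by decide)
    · exact d ▸ b
  obtain ⟨k1, k2⟩ := g1 H15.ThX.c7 (by simp [H15.ThX.cs])
  change Nat.card (St HH (m 8)) * 5031936 = _ at k1
  have k3 : el w8 ∈ St HH (m 8) := by
    have r := rels_of_pt (M := MO) cardY' chca hc
    have a : sub MO.gen [h0, h1] ≤ (St HH (m 8)).comap theta' := (sub_le _).2 (fa_cons ?_ (fa_cons ?_ fa_nil))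
    · exact fx.2.2.2.2.2.2.2.2.2.2.2.2.2.1 ▸ a (ev_flat_mem _ _ _)
    · rw [r _ List.mem_cons_self, Subgroup.mem_comap, ← el, ← th_ev (by decide +kernel)]
      exact k2 _ (by decide +kernel)
    · rw [r _ (List.mem_cons_of_mem _ List.mem_cons_self), Subgroup.mem_comap, ← el, ← th_ev (by decide +kernel)]
      exact k2 _ (by decide +kernel)
  have k4 : ∀ i < 7, i ≠ 0 → ¬ A (el w8 ^ i) := fun i hi h0 => by
    rw [← el_powW]
    exact not_A ((bor_iff.1 (allN_iff.1 t8 i hi)).resolve_left fun a => h0 (Nat.eq_of_beq_eq_true a))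
  have k5 := fx.2.2.2.2.2.2.2.2.2.2.2.2.2.2
  have := Fact.mk (by norm_num : Nat.Prime 7)
  have k6 : orderOf (el w8) = 7 := orderOf_eq_prime k5 fun e => k4 1 (by decide) (by decide) (by
    rw [pow_one, e]; exact ⟨1, map_one _, MO.dec 0, one_smul _ _⟩)
  refine ⟨h.max, fun x => (h2 x).imp_right fun ⟨c, hc, a0, a, ha, b, hb, e⟩ => ?_⟩
  rcases (h3 c hc).2 with d | d | ⟨d, d'⟩
  · have a1 : ¬ 7 ∣ Nat.card (St HH x) := fun e => absurd (a0 ▸ mul_dvd_mul e d) (by decide)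
    exact Or.inr ⟨fun e => a1 ((by decide : 7 ∣ 7 ^ 2).trans e), fun y hy y7 y1 _ =>
      a1 (orderOf_eq_prime y7 y1 ▸ (St HH x).orderOf_dvd_natCard hy)⟩
  · obtain ⟨a', ha', b', hb', e'⟩ := h4
    have e1 : x = a * a'⁻¹ * nn * (b'⁻¹ * b) := by rw [e, e', d]; group
    have u1 := mul_mem ha (inv_mem ha')
    have u2 := mul_mem (inv_mem hb') hb
    generalize a * a'⁻¹ = p at *
    generalize b'⁻¹ * b = q at *
    refine Or.inl fun y hy y7 y1 => ?_
    rw [e1, mem_St_mul u1 u2] at hy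
    rw [← A_conj u1, sw_n _ hy (by rw [← cj, y7]; group) (by simpa [mul_assoc, inv_mul_eq_one] using y1),
      ← A_conj u2, e1]
    exact not_congr (iff_of_eq (congrArg A (by group)))
  · refine Or.inr ⟨fun e => ?_, fun y hy y7 y1 yA => ?_⟩
    · rw [d'] at a0
      exact absurd (a0 ▸ mul_dvd_mul e (by decide : 7 ∣ 5031936)) (by decide)
    rw [e, d, mem_St_mul ha hb] at hy
    obtain ⟨k, hk, e1⟩ := syl_conj (k := 1) (by norm_num) ((Subgroup.zpowers_le).2 k3)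
      (by rw [Nat.card_zpowers, k6, pow_one])
      (fun e => absurd (k1 ▸ mul_dvd_mul e (by decide : 7 ∣ 5031936)) (by decide))
      ((Subgroup.zpowers_le).2 hy) (zp7 (by rw [← cj, y7]; group))
    classical
    obtain ⟨i, hi, e2⟩ := Finset.mem_image.1 (mem_zpowers_iff_mem_range_orderOf.1 (e1 _ (Subgroup.mem_zpowers _)))
    rw [Finset.mem_range, k6] at hi
    refine k4 i hi (fun e3 => y1 ?_) (e2 ▸ (yA.conj ha).conj (St_le _ _ hk))
    rw [e3, pow_zero, eq_comm] at e2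
    simpa [mul_assoc, inv_mul_eq_one, inv_mul_eq_iff_eq_mul] using e2

theorem cent {x y : Spor.Th} (a : A y) (y7 : y ^ 7 = 1) (y1 : y ≠ 1) (h : Commute y x) : x ∈ HH := by
  have e : x⁻¹ * y * x = y := by rw [mul_assoc, h.eq, inv_mul_cancel_left]
  have hy : y ∈ St HH x := mem_St.2 ⟨a.mem, e.symm ▸ a.mem⟩
  rcases cl.2 x with b | b | b
  · exact b
  · exact absurd (e.symm ▸ a) ((b y hy y7 y1).1 a)
  · exact absurd a (b.2 y hy y7 y1)

theorem three {z y : Spor.Th} {W : Subgroup Spor.Th} (hz : z ^ 3 = 1) (hW : Nat.card W = 7 ^ 2) (h1 : W ≤ HH)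
    (h2 : ∀ w ∈ W, z⁻¹ * w * z ∈ W) (hy : y ∈ W) (y7 : y ^ 7 = 1) (y1 : y ≠ 1) : z ∈ HH := by
  have h3 : W ≤ St HH z := fun w hw => mem_St.2 ⟨h1 hw, h1 (h2 w hw)⟩
  rcases cl.2 z with b | b | b
  · exact b
  · have s : ∀ y, y ∈ W ∧ y ^ 7 = 1 ∧ y ≠ 1 → z⁻¹ * y * z ∈ W ∧ (z⁻¹ * y * z) ^ 7 = 1 ∧ z⁻¹ * y * z ≠ 1 :=
      fun y h => ⟨h2 y h.1, by rw [← cj, h.2.1]; group, by simpa [mul_assoc, inv_mul_eq_one] using h.2.2⟩
    have a1 := s y ⟨hy, y7, y1⟩
    have a2 := s _ a1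
    have b1 := b y (h3 hy) y7 y1
    have b2 := b _ (h3 a1.1) a1.2.1 a1.2.2
    have b3 := b _ (h3 a2.1) a2.2.1 a2.2.2
    rw [show z⁻¹ * (z⁻¹ * (z⁻¹ * y * z) * z) * z = (z ^ 3)⁻¹ * y * z ^ 3 by
      simp only [pow_succ, pow_zero, one_mul, mul_inv_rev, mul_assoc], hz, inv_one, one_mul, mul_one] at b3
    tauto
  · exact absurd (hW ▸ Subgroup.card_dvd_of_le h3) b.1

theorem gV : ∀ v ∈ V, (el wg)⁻¹ * v * el wg ∈ V := fun v hv => by
  have : V ≤ V.comap (MulAut.conj (el wg)⁻¹).toMonoidHom := V_le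
    (by simpa [← fx.2.2.2.2.2.1] using s2V)
    (by simpa [fx.2.2.2.2.2.2.2.2.2.2.2.1] using mul_mem (pow_mem s1V 5) (pow_mem s2V 3))
  simpa using this hv

theorem xgc : ∀ i < 21, apW F (powW wx i ++ wg) 0 = apW F (wg ++ powW wx i) 0 → i = 0 := by decide +kernel

theorem key (φ : MulAut Spor.Th) (h : A (φ (el s1))) : ∃ x, MulAut.conj x * φ = 1 := by
  have h7 : φ (el s1) ^ 7 = 1 := by rw [← map_pow, p1, map_one]
  have h1 : φ (el s1) ≠ 1 := fun e => s1_ne (φ.injective (e.trans (map_one φ).symm))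
  have hc : ∀ x, Commute (el s1) x → φ x ∈ HH := fun x hx => cent h h7 h1 (hx.map φ)
  have cx : Commute (el s1) (el wx) := fx.2.2.2.2.1 ▸ (Commute.refl _).pow_left 3
  have hg : φ (el wg) ∈ HH := three (W := V.map φ.toMonoidHom) (by rw [← map_pow, fx.2.2.2.2.2.2.2.2.2.2.1, map_one])
    (by rw [Subgroup.card_map_of_injective φ.injective, cardV])
    (Subgroup.map_le_iff_le_comap.2 (V_le (hc _ (Commute.refl _)) (hc _ c12)))
    (by rintro _ ⟨v, hv, rfl⟩; exact ⟨_, gV v hv, by simp⟩) ⟨_, s1V, rfl⟩ h7 h1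
  have ht : sub MO.gen [wl, wx, wg] ≤ (HH.comap φ.toMonoidHom).comap theta' := (sub_le _).2
    (fa_cons (hc _ fx.2.2.2.2.2.2.2.2.2.2.2.2.1) (fa_cons (hc _ cx) (fa_cons hg fa_nil)))
  rw [top_of_mem (top MO cardY') (R3 MO cardY')] at ht
  obtain ⟨x, hx⟩ := inner_on inj1 (fun α => by
    obtain ⟨y, q, hq, e⟩ := upper MO cardY' α
    rw [List.mem_singleton] at hq
    subst hq
    exact ⟨y, e.eq (maps_one _ _ _ _) (top MO cardY')⟩) φ fun y => HH_eq.ge (ht trivial)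
  refine ⟨x, ?_⟩
  generalize MulAut.conj x * φ = γ at hx
  have a : ∀ v w, nn⁻¹ * el v * nn = el w → Commute (el v) (γ nn * nn⁻¹) := fun v w e => by
    have e' := congrArg γ e
    rw [map_mul, map_mul, map_inv, el, el, hx, hx, ← el, ← el, ← e, mul_assoc, inv_mul_eq_iff_eq_mul] at e'
    rw [Commute, SemiconjBy, ← mul_assoc, e']
    group
  obtain ⟨c, e⟩ := HH_eq.ge (cent As1 p1 s1_ne (a _ _ n1))
  have b : ∀ v w, nn⁻¹ * el v * nn = el w → ev MO.gen v * c = c * ev MO.gen v := fun v w h => inj1 (by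
    rw [map_mul, map_mul, e]; exact a v w h)
  obtain ⟨t, ht, rfl⟩ := cenx MO cardY' c (b _ _ nx).symm
  obtain ⟨i, hi, rfl⟩ := List.mem_map.1 (List.mem_of_elem_eq_true (allL_iff.1 pwx t ht))
  obtain rfl := xgc i (List.mem_range.1 hi) (el_apW (congrArg theta' (by
    rw [ev_append, ev_append]; exact b _ _ ng)) (by decide))
  rw [ev_powW, pow_zero, map_one, eq_comm, mul_inv_eq_one] at e
  have hle : HH ≤ γ.toMonoidHom.eqLocus (MonoidHom.id _) := fun y hy => by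
    obtain ⟨z, rfl⟩ := HH_eq.ge hy
    exact hx z
  rcases cl.1 _ hle with d | d
  · exact absurd (d.le e) n_not
  · exact MulEquiv.ext fun y => d.ge (Subgroup.mem_top y)

theorem out_Th : Nat.card (Out Spor.Th) = 1 := out_one_of fun α => by
  have h7 : α (el s1) ^ 7 = 1 := by rw [← map_pow, p1, map_one]
  obtain ⟨k, -, e⟩ := syl_conj (K := ⊤) (by norm_num) le_top cardV (n343 _) le_top (zp7 h7)
  replace e := e _ (Subgroup.mem_zpowers _)
  have f : ∀ y, A (y⁻¹ * α (el s1) * y) → ∃ x, MulAut.conj x * α = 1 := fun y h => by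
    obtain ⟨x, hx⟩ := key (MulAut.conj y⁻¹ * α) (by simpa using h)
    exact ⟨x * y⁻¹, by rw [map_mul, mul_assoc, hx]⟩
  by_cases h : A (k⁻¹ * α (el s1) * k)
  · exact f k h
  · refine f (k * nn) (not_not.1 fun a => h ((sw_n _ (V_St e) (by rw [← cj, h7]; group) ?_).2 ?_))
    · simpa [mul_assoc, inv_mul_eq_one] using s1_ne
    · simpa [mul_assoc] using a

end H14.Th
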