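import Cfsg.Agent.H14.TvL52
import Cfsg.Agent.H15.StdL52
import Cfsg.Agent.H15.Std4

/-! The centralizer of a transvection of `SL₅(2)`. -/

set_option autoImplicit false

namespace H14
open Subgroup H15

theorem tv_cen (s : Matrix.SpecialLinearGroup (Fin 5) (ZMod 2))
    (hs : (s : Matrix (Fin 5) (Fin 5) (ZMod 2)) = Matrix.transvection 0 1 1) :
    Nat.card (centralizer {s}) = 21504 ∧ Nonempty (centralizer {s} ≃* StTv.X0) := by
  obtain ⟨S, g, h, -⟩ := StdL52.stdSL_spec (F := ZMod 2) (by simp) ok2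
  obtain ⟨h1, h2⟩ := h 0 (by norm_num)
  have e : s = ev S.M.gen L.TvL52.z := by
    rw [show ev S.M.gen L.TvL52.z = S.M.gen 0 by simp [L.TvL52.z, letter], h1]
    refine Subtype.ext (hs.trans (Eq.trans ?_ h2.symm))
    decide +kernel
  have := S.faithful
  exact e ▸ ⟨L.TvL52.card S.M S.card, L.TvL52.iso S.M S.card⟩

end H14
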