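import Cfsg.Agent.H14.CZ
import Cfsg.Agent.H14.StTv
import Cfsg.Agent.H14.KhHe

/-! Generated certificate (toolsL/cg.hpp). -/
set_option autoImplicit false
set_option maxRecDepth 200000
set_option Elab.async false
set_option linter.unusedVariables false
set_option linter.unusedSectionVars false

namespace L.TvHe
open H14 L.KhHeT L.KhHe
variable {G Ω : Type*} [Group G] [Finite G] [MulAction G Ω]

noncomputable def z : Word := [nat_lit 2, nat_lit 21, nat_lit 19, nat_lit 2, nat_lit 21, nat_lit 0, nat_lit 14, nat_lit 6]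
noncomputable def w0 : Word := [nat_lit 2]
noncomputable def w1 : Word := [nat_lit 4]
noncomputable def w2 : Word := [nat_lit 6]
noncomputable def w3 : Word := [nat_lit 10]
theorem k4 : orbChk (nat_lit 2058) H15.HeP.nets F [] (sel [w0, w1, w2, w3] [nat_lit 0, nat_lit 1, nat_lit 2, nat_lit 3]) [dw (nat_lit 0x03), dw (nat_lit 0x05), dw (nat_lit 0x07), dw (nat_lit 0x01), dw (nat_lit 0x03), dw (nat_lit 0x05), dw (nat_lit 0x03), dw (nat_lit 0x01)
, dw (nat_lit 0x05), dw (nat_lit 0x07), dw (nat_lit 0x03), dw (nat_lit 0x05), dw (nat_lit 0x01), dw (nat_lit 0x03), dw (nat_lit 0x07), dw (nat_lit 0x01)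
, dw (nat_lit 0x05), dw (nat_lit 0x07), dw (nat_lit 0x03), dw (nat_lit 0x05), dw (nat_lit 0x01), dw (nat_lit 0x07), dw (nat_lit 0x03), dw (nat_lit 0x05)
, dw (nat_lit 0x01), dw (nat_lit 0x03), dw (nat_lit 0x07)] (dn (nat_lit 20) (nat_lit 0x066820f0c40a882096c3067030a0c409184091820304209743097411b84109503095011b8010f80101f8101f4108b8305f8305b0105603187831b7810524308a8301fc10200105941014830e7030e7011b7c103681053030ab810dd01)) (bit (nat_lit 35)) (full (nat_lit 2058)) = true := by decide +kernel
theorem o5 (M : PM G Ω 2058 H15.HeP.nets) (hN : Nat.card G = 4030387200) : Orb M ⊤ [] (nat_lit 35) (full (nat_lit 2058)) :=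
  (Orb.ext le_top (orb_bit ⊤ [] (b := (nat_lit 35)) rfl) k4)
noncomputable def s6 : Nat := (nat_lit 0x3cbd79bdf4db5ac7f5543fffffebee9ff92f8ebb9b9b937fffef76df7dbfebcedd67ac197ff90c99ffd5dafabb3af4fe3feae65ffebcfe3aecdfffcf8d51fee877bbb7bdf7dfdcffdb7eb752ef73dfff7ea7f11be2ff751fac5e631e28ff1dd7dfb29fff6fbbd5c72447fdea5fefbef976abed7df295d7e97e9675fb0d7d9d37d9fff9f23d2de301eeff6e3f7bf57a9d0dfec3f3f423c7f7e65ebe9a7f73f5b7cb24b77fd9d4b1f745bf3cedbe176da3d3bf8ceed5253e6ce7cc3d368f3677b37fd3ccbf56ddd5bd2bd75d25d158bba7cd3ee7ddff2e7ab798ff7f2ff3d3c69a44f5ed07effcff3dcc5d8fb7a9ea3aca57cfeefe279d455f6ddb5035a46d74391bc)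
noncomputable def w7 : Word := [nat_lit 28]
noncomputable def w8 : Word := [nat_lit 0, nat_lit 19, nat_lit 15]
theorem k9 : orbChk (nat_lit 2058) H15.HeP.nets F [nat_lit 35] (sel [w0, w7, w8] [nat_lit 0, nat_lit 1, nat_lit 2]) [dw (nat_lit 0x01), dw (nat_lit 0x03), dw (nat_lit 0x05), dw (nat_lit 0x01), dw (nat_lit 0x03), dw (nat_lit 0x05), dw (nat_lit 0x01), dw (nat_lit 0x03)
, dw (nat_lit 0x05), dw (nat_lit 0x03), dw (nat_lit 0x01), dw (nat_lit 0x05), dw (nat_lit 0x03), dw (nat_lit 0x01), dw (nat_lit 0x05), dw (nat_lit 0x03)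
, dw (nat_lit 0x01)] (dn (nat_lit 20) (nat_lit 0x03d011ff830a7431cc031cc020bb020918115603186831714312f4309a8316203042831ce0316c83063031a183089031af03073031ef830fb430edc30ef030df8312943149c305b831bc031a0830ca030e1c30bf83106c312dc30884312f831b14302c4318b8313d030d4431ed4311bc314b831db03027c3186c314703071c309dc309cc317ec3165030a34312d83022031350308fc304b03)) (bit (nat_lit 96)) s6 = true := by decide +kernel
theorem o10 (M : PM G Ω 2058 H15.HeP.nets) (hN : Nat.card G = 4030387200) : Orb M ⊤ [nat_lit 35] (nat_lit 96) s6 :=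
  (Orb.ext le_top (orb_bit ⊤ [nat_lit 35] (b := (nat_lit 96)) rfl) k9)
noncomputable def s11 : Nat := (nat_lit 0x20102020004000000000000000000000000000080000000000000000400002000c2000000000001044011000000000000000045812000000000000000000400000000000000100000000000000400000080040000042000000000004000000000000000000000400040040800000080000000008000080002000010000000401000000000400200108110000000000000400002020000000000010000000002000000000800000020100000000000000100888808000000c040000000000000002004000000000000040000000002a02000000084402100200000000000000000404280400000000000000000002028050000000000000000000000020000001010)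
noncomputable def w12 : Word := [nat_lit 6, nat_lit 4, nat_lit 30, nat_lit 4]
noncomputable def w13 : Word := [nat_lit 19, nat_lit 28, nat_lit 8, nat_lit 18]
noncomputable def w14 : Word := [nat_lit 0, nat_lit 17, nat_lit 0, nat_lit 22, nat_lit 16]
noncomputable def w15 : Word := [nat_lit 2, nat_lit 30, nat_lit 4, nat_lit 6, nat_lit 4, nat_lit 2]
theorem k16 : orbChk (nat_lit 2058) H15.HeP.nets F [nat_lit 96, nat_lit 35] (sel [w12, w13, w14, w15] [nat_lit 0, nat_lit 1, nat_lit 2, nat_lit 3]) [dw (nat_lit 0x01), dw (nat_lit 0x03)] (dn (nat_lit 20) (nat_lit 0x1030214b810bac40bac30bac10da41059821c0430f1c30f1c11994118684186820ce0209384093820f641063441b4031b4011b18119bc3116c219a0419a03131811b284093c105744057420654109cc400a4400a4319d81056021fc411c18407e8307e8112e8215884158831588213584135831358110d0203f8105bc405bc3003030030103dc2091811f8841f881112422000110584105831058112cc412cc202543025420ef040ef02125c3125c203e4105344053421dbc10708407082024c4024c3024c10b3440b3430b34102744027430418404183)) (bit (nat_lit 262)) s11 = true :=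 by decide +kernel
theorem o17 (M : PM G Ω 2058 H15.HeP.nets) (hN : Nat.card G = 4030387200) : Orb M ⊤ [nat_lit 96, nat_lit 35] (nat_lit 262) s11 :=
  (Orb.ext le_top (orb_bit ⊤ [nat_lit 96, nat_lit 35] (b := (nat_lit 262)) rfl) k16)
noncomputable def s18 : Nat := (nat_lit 0x400000000000000000000000000000000000000000000000000000000000000000000000000000000000000000000000008010000000000000000000000000000000000000020000000000000000808000000000010000000000000000000000000000000000000000000000000000000220010000000000000000000000000000000000000040000000000000000001000000000000000000000000000000000000000000000000000800000000000000000000000000000000000000000000000000000000000000000000000000080000000000000000008000000000000000000000000000000000000000400000000000)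
noncomputable def w19 : Word := [nat_lit 16, nat_lit 20, nat_lit 25, nat_lit 6, nat_lit 21, nat_lit 17]
noncomputable def w20 : Word := [nat_lit 0, nat_lit 12, nat_lit 20, nat_lit 10, nat_lit 0, nat_lit 21, nat_lit 12, nat_lit 0]
noncomputable def w21 : Word := [nat_lit 2, nat_lit 18, nat_lit 10, nat_lit 20, nat_lit 8, nat_lit 21, nat_lit 2, nat_lit 0]
theorem k22 : orbChk (nat_lit 2058) H15.HeP.nets F [nat_lit 262, nat_lit 96, nat_lit 35] (sel [w19, w20, w21] [nat_lit 0, nat_lit 1, nat_lit 2]) [] (dn (nat_lit 20) (nat_lit 0x103430c60315a43046c31e5821e58110443092c2092c10d983149c3149c200b8300b8200b81)) (bit (nat_lit 46)) s18 = true := by decide +kernel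
theorem o23 (M : PM G Ω 2058 H15.HeP.nets) (hN : Nat.card G = 4030387200) : Orb M ⊤ [nat_lit 262, nat_lit 96, nat_lit 35] (nat_lit 46) s18 :=
  (Orb.ext le_top (orb_bit ⊤ [nat_lit 262, nat_lit 96, nat_lit 35] (b := (nat_lit 46)) rfl) k22)
noncomputable def c24 : Chn := [((nat_lit 35), (full (nat_lit 2058))), ((nat_lit 96), s6), ((nat_lit 262), s11), ((nat_lit 46), s18)]
theorem k25 : Nat.ble 4030387200 (cval (nat_lit 2058) c24) = true := by decide +kernel
theorem e26 (M : PM G Ω 2058 H15.HeP.nets) (hN : Nat.card G = 4030387200) : EC M ⊤ [] c24 :=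
  ec_top (c := c24) ⟨(o5 M hN), ⟨(o10 M hN), ⟨(o17 M hN), ⟨(o23 M hN), trivial⟩⟩⟩⟩ hN k25
noncomputable def p27 : Prs := [(z, z)]
noncomputable def s28 : Nat := (nat_lit 0x40080000800000000000000000000010000000000004000000000020000000000000000020800000000000008000000000100800010000200000000008000000040088000000000000000000000004000010000000000008000000040000040000000000800000400000000000000000000000000000000000100000000000020040000000040000000000800800000000400000000000000000000001004000800000000000000000000000000000040000000000010000000000000000000000400000000000100002000000004000000000000001000000000000000800000000)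
theorem k29 : band (Nat.ble (nat_lit 2058) (Nat.pow 2 (nat_lit 12))) (fsChk (nat_lit 2058) (nat_lit 12) H15.HeP.nets z s28 (full (nat_lit 2058)) 0 0 (nat_lit 12)) = true := by decide +kernel
theorem f30 (M : PM G Ω 2058 H15.HeP.nets) (hN : Nat.card G = 4030387200) : IsFix M z s28 :=
  fix_one k29
theorem k31 : relK F bs0 [(z, flat (fsts p27) [nat_lit 0]), (z, flat (snds p27) [nat_lit 0])] = true := by decide +kernel
noncomputable def b32 : List (Nat × Nat) := [(s28, s28)]
noncomputable def y33 : List Word := []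
theorem k34 : relK F bs0 (commR (snds p27) y33) = true := by decide +kernel
theorem x35 (M : PM G Ω 2058 H15.HeP.nets) (hN : Nat.card G = 4030387200) : Cx M (fun g => Pr M g p27) b32 [] p27 y33 :=
  cx_conj (tb_cons (f30 M hN) (f30 M hN) (rels_base (base0 M hN) k31) (fun _ _ => fa_nil)) (rels_base (base0 M hN) k34)
noncomputable def t36 : KT := KT.nil (SE.and (SE.lev (nat_lit 0)) (SE.tab (nat_lit 0))) [] [] []
theorem k37 : ktChk (nat_lit 2058) H15.HeP.nets F c24 b32 [] p27 y33 [] [] (nat_lit 0) (nat_lit 35) s28 0 t36 = true := by decide +kernel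
theorem l38 (M : PM G Ω 2058 H15.HeP.nets) (hN : Nat.card G = 4030387200) : Cl M (fun g => Pr M g p27) [] [] (nat_lit 35) s28 :=
  cl_tree (e26 M hN) (x35 M hN) (dd0 _ _ _ _) k37
noncomputable def s39 : Nat := (nat_lit 0x40000000800000000000000000000000000000000000000000000020000000000000000000000000000000000000000000000800000000000000000000000000040008000000000000000000000000000000000000000008000000040000000000000000000000000000000000000000000000000000000000000000000000020000000000040000000000800800000000000000000000000000000000004000000000000000000000000000000000000000000000000000000000000000000000400000000000100000000000000000000000000001000000000000000000000000)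
noncomputable def t40 : KT := KT.nil (SE.and (SE.lev (nat_lit 1)) (SE.tab (nat_lit 0))) [] [] []
theorem k41 : ktChk (nat_lit 2058) H15.HeP.nets F c24 b32 [] p27 y33 [] [nat_lit 35] (nat_lit 1) (nat_lit 96) s39 0 t40 = true := by decide +kernel
theorem l42 (M : PM G Ω 2058 H15.HeP.nets) (hN : Nat.card G = 4030387200) : Cl M (fun g => Pr M g p27) [] [nat_lit 35] (nat_lit 96) s39 :=
  cl_tree (e26 M hN) (x35 M hN) (dd0 _ _ _ _) k41
noncomputable def s43 : Nat := (nat_lit 0x20000000000000000000000000000000000000000000000000000000000000000000000000000000000000000000000000000000000000000000000000000000000400000000000000000000000000000000000000000000000000000000000000000)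
noncomputable def t44 : KT := KT.nil (SE.and (SE.lev (nat_lit 2)) (SE.tab (nat_lit 0))) [] [] []
theorem k45 : ktChk (nat_lit 2058) H15.HeP.nets F c24 b32 [] p27 y33 [] [nat_lit 96, nat_lit 35] (nat_lit 2) (nat_lit 262) s43 0 t44 = true := by decide +kernel
theorem l46 (M : PM G Ω 2058 H15.HeP.nets) (hN : Nat.card G = 4030387200) : Cl M (fun g => Pr M g p27) [] [nat_lit 96, nat_lit 35] (nat_lit 262) s43 :=
  cl_tree (e26 M hN) (x35 M hN) (dd0 _ _ _ _) k45
noncomputable def t47 : KT := KT.nil (SE.lev (nat_lit 3)) [] [] []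
theorem k48 : ktChk (nat_lit 2058) H15.HeP.nets F c24 b32 [] p27 y33 [] [nat_lit 262, nat_lit 96, nat_lit 35] (nat_lit 3) (nat_lit 46) s18 0 t47 = true := by decide +kernel
theorem l49 (M : PM G Ω 2058 H15.HeP.nets) (hN : Nat.card G = 4030387200) : Cl M (fun g => Pr M g p27) [] [nat_lit 262, nat_lit 96, nat_lit 35] (nat_lit 46) s18 :=
  cl_tree (e26 M hN) (x35 M hN) (dd0 _ _ _ _) k48
noncomputable def c50 : Chn := [((nat_lit 35), s28), ((nat_lit 96), s39), ((nat_lit 262), s43), ((nat_lit 46), s18)]
theorem e51 (M : PM G Ω 2058 H15.HeP.nets) (hN : Nat.card G = 4030387200) : SC M (cenP M p27 rfl) [] c50 :=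
  ⟨Cl.lev (l38 M hN), ⟨Cl.lev (l42 M hN), ⟨Cl.lev (l46 M hN), ⟨Cl.lev (l49 M hN), (EC.sc_end (e26 M hN) (by decide +kernel))⟩⟩⟩⟩
theorem up (M : PM G Ω 2058 H15.HeP.nets) (hN : Nat.card G = 4030387200) : Nat.card (Subgroup.centralizer (sub M.gen [z] : Set G)) ≤ 21504 :=
  (cenP_eq (M := M) (ps := p27) rfl ▸ SC.card_le' (e51 M hN) (by decide +kernel) : Nat.card (Subgroup.centralizer (sub M.gen (fsts p27) : Set G)) ≤ _)
noncomputable def w52 : Word := [nat_lit 4, nat_lit 18, nat_lit 20, nat_lit 28, nat_lit 2, nat_lit 16, nat_lit 30, nat_lit 4, nat_lit 18]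
noncomputable def w53 : Word := [nat_lit 10, nat_lit 24, nat_lit 10, nat_lit 4, nat_lit 16, nat_lit 19, nat_lit 17, nat_lit 18, nat_lit 15]
noncomputable def w54 : Word := [nat_lit 27, nat_lit 19, nat_lit 8, nat_lit 30, nat_lit 18, nat_lit 26]
noncomputable def w55 : Word := [nat_lit 30, nat_lit 18, nat_lit 28, nat_lit 19, nat_lit 30]
noncomputable def w56 : Word := [nat_lit 28, nat_lit 26, nat_lit 0, nat_lit 18, nat_lit 18, nat_lit 27, nat_lit 19]
noncomputable def ks : List Word := [w52, w53, w54, w55, w56]
noncomputable def s57 : Nat := (nat_lit 0x3cffbdddda6f76ced5d1b3f3fd891cfbab376fb73ab9bb7fde5374defbdbd5f3d54ff934de5b9498f8d5af667576ecff3e6bbe0f7fbcedffdeff7d65c6552fce9f16a76cf7f3c9ebd72cffd6ad1dff9e76bf7fbaa4b1f54c747e778f6fdf77bdb0e575fefb5ba07dee61bd495ba3a439bae6aa7bfddfbf387df07710affa8ffae7bdb463f97ff974e38dafdf7f3973ddfb7ce7febc9ac2a78edfed813d9b37cb7baf7b97dcb7f9133837e7b7659fef2ff2ffc6e5fb1d1ba8d3d6fface529d132f3d23bfcded1ff797793ff69ef3bff2be95611e6fb048f06ed377fafbb77ffad6ab6f3376f3dfebfcd0fb4836fe8bf5a4deef53ebb2b9bdfeba8f1bf7f771f9661f)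
noncomputable def s58 : Nat := (nat_lit 0x400000000000000000000000010000000100000000000000000000000000000000000000000000000000000000000000000000000000000200000000000000000000000000000000000000000080000000000000000000000000004000000000000000000000000000000000000000000000000000000000000000020000000000000000000000000400000000000000000000000000000000000000000000000000000000000000000000000000002000000000000000000000000000000000000000000000000010000000000000000000000000000000000000000000000000000000000000000000000100000000200000300000000000400000000000002)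
noncomputable def c59 : Chn := [((nat_lit 0), s57), ((nat_lit 1), s58), ((nat_lit 106), (bit (nat_lit 106))), ((nat_lit 8), (bit (nat_lit 8)))]
noncomputable def d60 : List OD := [⟨[nat_lit 3, nat_lit 4, nat_lit 0], [dw (nat_lit 0x05), dw (nat_lit 0x01), dw (nat_lit 0x03), dw (nat_lit 0x01), dw (nat_lit 0x05), dw (nat_lit 0x03), dw (nat_lit 0x01), dw (nat_lit 0x05)
, dw (nat_lit 0x01), dw (nat_lit 0x03), dw (nat_lit 0x01), dw (nat_lit 0x05), dw (nat_lit 0x01), dw (nat_lit 0x03), dw (nat_lit 0x05), dw (nat_lit 0x01)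
, dw (nat_lit 0x03)], (dn (nat_lit 20) (nat_lit 0x1d38103543023c10a8031bdc30e8030254200a0200a010794314e021fa811ccc31658300e021338313382045431c18301543104c31f2030328302843012431a8430d34318643025831bf8317ac307f431ffc31d5430f40303a4310283069031c4430efc316dc30ad4318c831ff83099031c403046c31a0831b58303d4300e830a243196830ca0308cc31c80309b830fe4317183037031e58315e030fec30fd8305a831ec43061031d3430ffc3101830240313c03))⟩,
 ⟨[nat_lit 3, nat_lit 2, nat_lit 4], [], (dn (nat_lit 20) (nat_lit 0x1df031df010204302041070030700100e8314a8314a8110943166c3166c2000430004200041))⟩,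
 ⟨[], [], []⟩,
 ⟨[], [], []⟩]
theorem k61 : ocChk (nat_lit 2058) H15.HeP.nets F ks c59 d60 [] = true := by decide +kernel
theorem o62 (M : PM G Ω 2058 H15.HeP.nets) (hN : Nat.card G = 4030387200) : OC M (sub M.gen ks) [] c59 :=
  oc_of le_rfl k61
theorem ks_low (M : PM G Ω 2058 H15.HeP.nets) (hN : Nat.card G = 4030387200) : 21504 ≤ Nat.card (sub M.gen ks) :=
  (OC.le_card' (N := 21504) (o62 M hN) (by decide +kernel))
theorem k63 : relK F bs0 (commR [z] ks) = true := by decide +kernel
theorem cen (M : PM G Ω 2058 H15.HeP.nets) (hN : Nat.card G = 4030387200) : (sub M.gen ks) ≤ (Subgroup.centralizer (sub M.gen [z] : Set G)) :=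
  (le_cent_of (rels_base (base0 M hN) k63))
theorem eqC (M : PM G Ω 2058 H15.HeP.nets) (hN : Nat.card G = 4030387200) : Subgroup.centralizer {ev M.gen z} = (sub M.gen ks) ∧ Nat.card (sub M.gen ks) = 21504 :=
  cent_single M.gen z ▸ eq_of_cards (cen M hN) (up M hN) (ks_low M hN)
noncomputable def w64 : Word := [nat_lit 25, nat_lit 10, nat_lit 22, nat_lit 16, nat_lit 6, nat_lit 16, nat_lit 27, nat_lit 2]
noncomputable def w65 : Word := [nat_lit 8, nat_lit 20, nat_lit 6, nat_lit 2, nat_lit 16, nat_lit 21, nat_lit 22, nat_lit 26, nat_lit 22]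
noncomputable def w66 : Word := [nat_lit 26, nat_lit 26, nat_lit 8, nat_lit 21, nat_lit 2, nat_lit 18, nat_lit 25, nat_lit 12]
noncomputable def w67 : Word := [nat_lit 22, nat_lit 6, nat_lit 20, nat_lit 16, nat_lit 10, nat_lit 18, nat_lit 10]
noncomputable def w68 : Word := [nat_lit 0, nat_lit 18, nat_lit 25, nat_lit 28, nat_lit 15, nat_lit 19, nat_lit 10, nat_lit 20]
noncomputable def w69 : Word := [nat_lit 14, nat_lit 0, nat_lit 24, nat_lit 27, nat_lit 17, nat_lit 25, nat_lit 26, nat_lit 10, nat_lit 17]
noncomputable def w70 : Word := [nat_lit 0, nat_lit 24, nat_lit 24, nat_lit 21, nat_lit 10, nat_lit 22, nat_lit 15, nat_lit 19, nat_lit 10]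
noncomputable def iys : List Word := [w64, w65, w66, w67, w68, w69, w70]
noncomputable def v71 : List Word := [dw (nat_lit 0x09090401090905), dw (nat_lit 0x09070301090905), dw (nat_lit 0x01030a04020a05), dw (nat_lit 0x020a020a), dw (nat_lit 0x010702070105), dw (nat_lit 0x0404020705), dw (nat_lit 0x040204040105)]
theorem k72 : relK F bs0 (memRels ks iys v71) = true := by decide +kernel
theorem ihy (M : PM G Ω 2058 H15.HeP.nets) (hN : Nat.card G = 4030387200) : (sub M.gen iys) ≤ (sub M.gen ks) :=
  (sub_le_of_memRels (rels_base (base0 M hN) k72))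
noncomputable def v73 : List Word := [[], [], [], [], [], [], [], []
, [], [], [], [], [], [], [], []
, [], [], [], [], [], [], [], []
, [], [], [], [], [], [], [], []
, [], [], [], [], [], [], [], []
, [], [], [], [], [], [], [], []
, [], [], [], [], [], [], [], []
, [], [], [], [], [], [], [], []
, [], [], [], [], [], [], [], []
, [], [], [], [], [], [], [], []
]
theorem k74 : relK F bs0 (qR iys [] H14.StTv.rels v73) = true := by decide +kernel
noncomputable def v75 : Prs := [(dw (nat_lit 0x0704010b), []),
 (dw (nat_lit 0x07020308050d), []),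
 (dw (nat_lit 0x070106070d), []),
 (dw (nat_lit 0x0109050105), []),
 (dw (nat_lit 0x09070104), [])]
theorem k76 : relK F bs0 (sR iys [] H14.StTv.ws0 ks v75) = true := by decide +kernel
theorem iqs (M : PM G Ω 2058 H15.HeP.nets) (hN : Nat.card G = 4030387200) : ∀ {X : Type*} [Group X], PresF G X H14.StTv.rels H14.StTv.ws0 → QS X (sub M.gen ks) (sub M.gen []) :=
  fun hP _ => quot_surj hP ((sub_le _).2 fa_nil) (ihy M hN) le_rfl le_rfl (rels_base (base0 M hN) k74) (rels_base (base0 M hN) k76) (by decide +kernel)
theorem k77 : relK F bs0 [(powW z 2, [])] = true := by decide +kernel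
theorem r78 (M : PM G Ω 2058 H15.HeP.nets) (hN : Nat.card G = 4030387200) : orderOf (ev M.gen z) = 2 :=
  order_of_rel (F := F) (b := 0) (by norm_num) (rels_base (base0 M hN) k77) (by decide +kernel)
theorem ord (M : PM G Ω 2058 H15.HeP.nets) (hN : Nat.card G = 4030387200) : orderOf (ev M.gen z) = 2 :=
  (r78 M hN)
theorem card (M : PM G Ω 2058 H15.HeP.nets) (hN : Nat.card G = 4030387200) : Nat.card (Subgroup.centralizer {ev M.gen z}) = 21504 :=
  (eqC M hN).1 ▸ (eqC M hN).2
theorem iso (M : PM G Ω 2058 H15.HeP.nets) (hN : Nat.card G = 4030387200) : Nonempty (Subgroup.centralizer {ev M.gen z} ≃* StTv.X0) :=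
  (eqC M hN).1 ▸ ((iqs M hN) StTv.pres0).iso_bot StTv.cardX (ks_low M hN) (by norm_num)

end L.TvHe
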