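import Cfsg.Agent.H14.CZ
import Cfsg.Agent.H14.StTv
import Cfsg.Agent.H14.KhL52

/-! Generated certificate (toolsL/cg.hpp). -/
set_option autoImplicit false
set_option maxRecDepth 200000
set_option Elab.async false
set_option linter.unusedVariables false
set_option linter.unusedSectionVars false

namespace L.TvL52
open H14 L.KhL52T L.KhL52
variable {G Ω : Type*} [Group G] [Finite G] [MulAction G Ω]

noncomputable def z : Word := [nat_lit 0]
noncomputable def w0 : Word := [nat_lit 2]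
noncomputable def w1 : Word := [nat_lit 4]
noncomputable def w2 : Word := [nat_lit 6]
noncomputable def w3 : Word := [nat_lit 8]
noncomputable def w4 : Word := [nat_lit 10]
noncomputable def w5 : Word := [nat_lit 12]
noncomputable def w6 : Word := [nat_lit 14]
theorem k7 : orbChk (nat_lit 31) H15.StdL52.nets F [] (sel [z, w0, w1, w2, w3, w4, w5, w6] [nat_lit 0, nat_lit 1, nat_lit 2, nat_lit 3, nat_lit 4, nat_lit 5, nat_lit 6, nat_lit 7]) [dw (nat_lit 0x01), dw (nat_lit 0x0b), dw (nat_lit 0x03), dw (nat_lit 0x0d), dw (nat_lit 0x05), dw (nat_lit 0x0f), dw (nat_lit 0x07)] (dn (nat_lit 12) (nat_lit 0x045)) (bit (nat_lit 1)) (full (nat_lit 31)) = true := by decide +kernel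
theorem o8 (M : PM G Ω 31 H15.StdL52.nets) (hN : Nat.card G = 9999360) : Orb M ⊤ [] (nat_lit 1) (full (nat_lit 31)) :=
  (Orb.ext le_top (orb_bit ⊤ [] (b := (nat_lit 1)) rfl) k7)
noncomputable def w9 : Word := [nat_lit 16]
noncomputable def w10 : Word := [nat_lit 8, nat_lit 10, nat_lit 8]
theorem k11 : orbChk (nat_lit 31) H15.StdL52.nets F [nat_lit 1] (sel [w0, w6, w9, w10] [nat_lit 0, nat_lit 1, nat_lit 2, nat_lit 3]) [dw (nat_lit 0x07), dw (nat_lit 0x01), dw (nat_lit 0x05), dw (nat_lit 0x03), dw (nat_lit 0x05), dw (nat_lit 0x03)] (dn (nat_lit 12) (nat_lit 0x6014437431442832827837035c33c3303683543404244)) (bit (nat_lit 2)) (nat_lit 0x7ffffffd) = true := by decide +kernel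
theorem o12 (M : PM G Ω 31 H15.StdL52.nets) (hN : Nat.card G = 9999360) : Orb M ⊤ [nat_lit 1] (nat_lit 2) (nat_lit 0x7ffffffd) :=
  (Orb.ext le_top (orb_bit ⊤ [nat_lit 1] (b := (nat_lit 2)) rfl) k11)
theorem k13 : orbChk (nat_lit 31) H15.StdL52.nets F [nat_lit 2, nat_lit 1] (sel [w0, w6, w9] [nat_lit 0, nat_lit 1, nat_lit 2]) [dw (nat_lit 0x01), dw (nat_lit 0x05), dw (nat_lit 0x03), dw (nat_lit 0x05), dw (nat_lit 0x03)] (dn (nat_lit 12) (nat_lit 0x7037835436833433424c34c27436432431835c3443)) (bit (nat_lit 3)) (nat_lit 0x7ffffff8) = true := by decide +kernel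
theorem o14 (M : PM G Ω 31 H15.StdL52.nets) (hN : Nat.card G = 9999360) : Orb M ⊤ [nat_lit 2, nat_lit 1] (nat_lit 3) (nat_lit 0x7ffffff8) :=
  (Orb.ext le_top (orb_bit ⊤ [nat_lit 2, nat_lit 1] (b := (nat_lit 3)) rfl) k13)
noncomputable def w15 : Word := [nat_lit 18]
noncomputable def w16 : Word := [nat_lit 20]
theorem k17 : orbChk (nat_lit 31) H15.StdL52.nets F [nat_lit 3, nat_lit 2, nat_lit 1] (sel [w1, w2, w6, w15, w16] [nat_lit 0, nat_lit 1, nat_lit 2, nat_lit 3, nat_lit 4]) [dw (nat_lit 0x01), dw (nat_lit 0x05), dw (nat_lit 0x03), dw (nat_lit 0x07), dw (nat_lit 0x09), dw (nat_lit 0x03)] [] (bit (nat_lit 6)) (nat_lit 0x7fffff40) = true := by decide +kernel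
theorem o18 (M : PM G Ω 31 H15.StdL52.nets) (hN : Nat.card G = 9999360) : Orb M ⊤ [nat_lit 3, nat_lit 2, nat_lit 1] (nat_lit 6) (nat_lit 0x7fffff40) :=
  (Orb.ext le_top (orb_bit ⊤ [nat_lit 3, nat_lit 2, nat_lit 1] (b := (nat_lit 6)) rfl) k17)
noncomputable def w19 : Word := [nat_lit 22]
noncomputable def w20 : Word := [nat_lit 24]
noncomputable def w21 : Word := [nat_lit 26]
theorem k22 : orbChk (nat_lit 31) H15.StdL52.nets F [nat_lit 6, nat_lit 3, nat_lit 2, nat_lit 1] (sel [w2, w19, w20, w21] [nat_lit 0, nat_lit 1, nat_lit 2, nat_lit 3]) [dw (nat_lit 0x01), dw (nat_lit 0x03), dw (nat_lit 0x05), dw (nat_lit 0x07)] [] (bit (nat_lit 16)) (nat_lit 0x7ff74800) = true := by decide +kernel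
theorem o23 (M : PM G Ω 31 H15.StdL52.nets) (hN : Nat.card G = 9999360) : Orb M ⊤ [nat_lit 6, nat_lit 3, nat_lit 2, nat_lit 1] (nat_lit 16) (nat_lit 0x7ff74800) :=
  (Orb.ext le_top (orb_bit ⊤ [nat_lit 6, nat_lit 3, nat_lit 2, nat_lit 1] (b := (nat_lit 16)) rfl) k22)
noncomputable def c24 : Chn := [((nat_lit 1), (full (nat_lit 31))), ((nat_lit 2), (nat_lit 0x7ffffffd)), ((nat_lit 3), (nat_lit 0x7ffffff8)), ((nat_lit 6), (nat_lit 0x7fffff40)), ((nat_lit 16), (nat_lit 0x7ff74800))]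
theorem k25 : Nat.ble 9999360 (cval (nat_lit 31) c24) = true := by decide +kernel
theorem e26 (M : PM G Ω 31 H15.StdL52.nets) (hN : Nat.card G = 9999360) : EC M ⊤ [] c24 :=
  ec_top (c := c24) ⟨(o8 M hN), ⟨(o12 M hN), ⟨(o14 M hN), ⟨(o18 M hN), ⟨(o23 M hN), trivial⟩⟩⟩⟩⟩ hN k25
noncomputable def p27 : Prs := [(z, z)]
theorem k28 : band (Nat.ble (nat_lit 31) (Nat.pow 2 (nat_lit 5))) (fsChk (nat_lit 31) (nat_lit 5) H15.StdL52.nets z (nat_lit 0x6d9992a1) (full (nat_lit 31)) 0 0 (nat_lit 5)) = true := by decide +kernel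
theorem f29 (M : PM G Ω 31 H15.StdL52.nets) (hN : Nat.card G = 9999360) : IsFix M z (nat_lit 0x6d9992a1) :=
  fix_one k28
theorem k30 : relK F bs0 [(z, flat (fsts p27) [nat_lit 0]), (z, flat (snds p27) [nat_lit 0])] = true := by decide +kernel
noncomputable def b31 : List (Nat × Nat) := [((nat_lit 0x6d9992a1), (nat_lit 0x6d9992a1))]
noncomputable def y32 : List Word := []
theorem k33 : relK F bs0 (commR (snds p27) y32) = true := by decide +kernel
theorem x34 (M : PM G Ω 31 H15.StdL52.nets) (hN : Nat.card G = 9999360) : Cx M (fun g => Pr M g p27) b31 [] p27 y32 :=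
  cx_conj (tb_cons (f29 M hN) (f29 M hN) (rels_base (base0 M hN) k30) (fun _ _ => fa_nil)) (rels_base (base0 M hN) k33)
noncomputable def t35 : KT := KT.nil (SE.dif (SE.lev (nat_lit 0)) (SE.tab (nat_lit 0))) [] [] []
theorem k36 : ktChk (nat_lit 31) H15.StdL52.nets F c24 b31 [] p27 y32 [] [] (nat_lit 0) (nat_lit 1) (nat_lit 0x12666d5e) 0 t35 = true := by decide +kernel
theorem l37 (M : PM G Ω 31 H15.StdL52.nets) (hN : Nat.card G = 9999360) : Cl M (fun g => Pr M g p27) [] [] (nat_lit 1) (nat_lit 0x12666d5e) :=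
  cl_tree (e26 M hN) (x34 M hN) (dd0 _ _ _ _) k36
noncomputable def t38 : KT := KT.liv (nat_lit 1) [nat_lit 0]
theorem k39 : ktChk (nat_lit 31) H15.StdL52.nets F c24 b31 [] p27 y32 [] [nat_lit 1] (nat_lit 1) (nat_lit 2) (bit (nat_lit 2)) 0 t38 = true := by decide +kernel
theorem l40 (M : PM G Ω 31 H15.StdL52.nets) (hN : Nat.card G = 9999360) : Cl M (fun g => Pr M g p27) [] [nat_lit 1] (nat_lit 2) (bit (nat_lit 2)) :=
  cl_tree (e26 M hN) (x34 M hN) (dd0 _ _ _ _) k39
noncomputable def t41 : KT := KT.nil (SE.dif (SE.lev (nat_lit 2)) (SE.tab (nat_lit 0))) [] [] []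
theorem k42 : ktChk (nat_lit 31) H15.StdL52.nets F c24 b31 [] p27 y32 [] [nat_lit 2, nat_lit 1] (nat_lit 2) (nat_lit 3) (nat_lit 0x12666d58) 0 t41 = true := by decide +kernel
theorem l43 (M : PM G Ω 31 H15.StdL52.nets) (hN : Nat.card G = 9999360) : Cl M (fun g => Pr M g p27) [] [nat_lit 2, nat_lit 1] (nat_lit 3) (nat_lit 0x12666d58) :=
  cl_tree (e26 M hN) (x34 M hN) (dd0 _ _ _ _) k42
noncomputable def t44 : KT := KT.nil (SE.dif (SE.lev (nat_lit 3)) (SE.tab (nat_lit 0))) [] [] []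
theorem k45 : ktChk (nat_lit 31) H15.StdL52.nets F c24 b31 [] p27 y32 [] [nat_lit 3, nat_lit 2, nat_lit 1] (nat_lit 3) (nat_lit 6) (nat_lit 0x12666d40) 0 t44 = true := by decide +kernel
theorem l46 (M : PM G Ω 31 H15.StdL52.nets) (hN : Nat.card G = 9999360) : Cl M (fun g => Pr M g p27) [] [nat_lit 3, nat_lit 2, nat_lit 1] (nat_lit 6) (nat_lit 0x12666d40) :=
  cl_tree (e26 M hN) (x34 M hN) (dd0 _ _ _ _) k45
noncomputable def t47 : KT := KT.nil (SE.and (SE.lev (nat_lit 4)) (SE.tab (nat_lit 0))) [] [] []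
theorem k48 : ktChk (nat_lit 31) H15.StdL52.nets F c24 b31 [] p27 y32 [] [nat_lit 6, nat_lit 3, nat_lit 2, nat_lit 1] (nat_lit 4) (nat_lit 16) (nat_lit 0x6d910000) 0 t47 = true := by decide +kernel
theorem l49 (M : PM G Ω 31 H15.StdL52.nets) (hN : Nat.card G = 9999360) : Cl M (fun g => Pr M g p27) [] [nat_lit 6, nat_lit 3, nat_lit 2, nat_lit 1] (nat_lit 16) (nat_lit 0x6d910000) :=
  cl_tree (e26 M hN) (x34 M hN) (dd0 _ _ _ _) k48
noncomputable def c50 : Chn := [((nat_lit 1), (nat_lit 0x12666d5e)), ((nat_lit 2), (bit (nat_lit 2))), ((nat_lit 3), (nat_lit 0x12666d58)), ((nat_lit 6), (nat_lit 0x12666d40)), ((nat_lit 16), (nat_lit 0x6d910000))]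
theorem e51 (M : PM G Ω 31 H15.StdL52.nets) (hN : Nat.card G = 9999360) : SC M (cenP M p27 rfl) [] c50 :=
  ⟨Cl.lev (l37 M hN), ⟨Cl.lev (l40 M hN), ⟨Cl.lev (l43 M hN), ⟨Cl.lev (l46 M hN), ⟨Cl.lev (l49 M hN), (EC.sc_end (e26 M hN) (by decide +kernel))⟩⟩⟩⟩⟩
theorem up (M : PM G Ω 31 H15.StdL52.nets) (hN : Nat.card G = 9999360) : Nat.card (Subgroup.centralizer (sub M.gen [z] : Set G)) ≤ 21504 :=
  (cenP_eq (M := M) (ps := p27) rfl ▸ SC.card_le' (e51 M hN) (by decide +kernel) : Nat.card (Subgroup.centralizer (sub M.gen (fsts p27) : Set G)) ≤ _)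
noncomputable def w52 : Word := [nat_lit 22, nat_lit 14, nat_lit 17, nat_lit 14, nat_lit 10, nat_lit 18, nat_lit 0]
noncomputable def w53 : Word := [nat_lit 14, nat_lit 6, nat_lit 12, nat_lit 14, nat_lit 24, nat_lit 4]
noncomputable def w54 : Word := [nat_lit 6, nat_lit 4, nat_lit 14]
noncomputable def w55 : Word := [nat_lit 22, nat_lit 24, nat_lit 26]
noncomputable def w56 : Word := [nat_lit 22, nat_lit 26]
noncomputable def w57 : Word := [nat_lit 17, nat_lit 6, nat_lit 16]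
noncomputable def ks : List Word := [w52, w53, w54, w55, w56, w57]
noncomputable def c58 : Chn := [((nat_lit 0), (bit (nat_lit 0))), ((nat_lit 1), (nat_lit 0x12666d5e)), ((nat_lit 3), (nat_lit 0x12666d58)), ((nat_lit 6), (nat_lit 0x12666d40)), ((nat_lit 11), (nat_lit 0x12664800))]
noncomputable def d59 : List OD := [⟨[], [], []⟩,
 ⟨[nat_lit 4, nat_lit 3, nat_lit 0], [], (dn (nat_lit 12) (nat_lit 0x1830834434412035834816435435422c32c22c1103043))⟩,
 ⟨[nat_lit 4, nat_lit 1], [], (dn (nat_lit 12) (nat_lit 0x5412024827027013821824424416425825810c2))⟩,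
 ⟨[nat_lit 4, nat_lit 2, nat_lit 3], [], (dn (nat_lit 12) (nat_lit 0x702583582482643383382443442441182))⟩,
 ⟨[nat_lit 4, nat_lit 3, nat_lit 5], [], (dn (nat_lit 12) (nat_lit 0x5836435435422c32c22c1))⟩]
theorem k60 : ocChk (nat_lit 31) H15.StdL52.nets F ks c58 d59 [] = true := by decide +kernel
theorem o61 (M : PM G Ω 31 H15.StdL52.nets) (hN : Nat.card G = 9999360) : OC M (sub M.gen ks) [] c58 :=
  oc_of le_rfl k60
theorem ks_low (M : PM G Ω 31 H15.StdL52.nets) (hN : Nat.card G = 9999360) : 21504 ≤ Nat.card (sub M.gen ks) :=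
  (OC.le_card' (N := 21504) (o61 M hN) (by decide +kernel))
theorem k62 : relK F bs0 (commR [z] ks) = true := by decide +kernel
theorem cen (M : PM G Ω 31 H15.StdL52.nets) (hN : Nat.card G = 9999360) : (sub M.gen ks) ≤ (Subgroup.centralizer (sub M.gen [z] : Set G)) :=
  (le_cent_of (rels_base (base0 M hN) k62))
theorem eqC (M : PM G Ω 31 H15.StdL52.nets) (hN : Nat.card G = 9999360) : Subgroup.centralizer {ev M.gen z} = (sub M.gen ks) ∧ Nat.card (sub M.gen ks) = 21504 :=
  cent_single M.gen z ▸ eq_of_cards (cen M hN) (up M hN) (ks_low M hN)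
noncomputable def w63 : Word := [nat_lit 18, nat_lit 14, nat_lit 16, nat_lit 10, nat_lit 16, nat_lit 2, nat_lit 0]
noncomputable def w64 : Word := [nat_lit 24, nat_lit 16, nat_lit 14, nat_lit 10, nat_lit 17, nat_lit 14, nat_lit 0]
noncomputable def w65 : Word := [nat_lit 6, nat_lit 4, nat_lit 6, nat_lit 14]
noncomputable def w66 : Word := [nat_lit 17, nat_lit 12, nat_lit 14, nat_lit 6, nat_lit 16, nat_lit 10]
noncomputable def w67 : Word := [nat_lit 6, nat_lit 4, nat_lit 6]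
noncomputable def w68 : Word := [nat_lit 18, nat_lit 10, nat_lit 18]
noncomputable def iys : List Word := [w63, w64, w65, w66, w67, w1, w68]
noncomputable def v69 : List Word := [dw (nat_lit 0x0405020b030b), dw (nat_lit 0x03020703050907), dw (nat_lit 0x0507), dw (nat_lit 0x03010106040907), dw (nat_lit 0x0507050b07), dw (nat_lit 0x05070507), dw (nat_lit 0x0301010405070509)]
theorem k70 : relK F bs0 (memRels ks iys v69) = true := by decide +kernel
theorem ihy (M : PM G Ω 31 H15.StdL52.nets) (hN : Nat.card G = 9999360) : (sub M.gen iys) ≤ (sub M.gen ks) :=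
  (sub_le_of_memRels (rels_base (base0 M hN) k70))
noncomputable def v71 : List Word := [[], [], [], [], [], [], [], []
, [], [], [], [], [], [], [], []
, [], [], [], [], [], [], [], []
, [], [], [], [], [], [], [], []
, [], [], [], [], [], [], [], []
, [], [], [], [], [], [], [], []
, [], [], [], [], [], [], [], []
, [], [], [], [], [], [], [], []
, [], [], [], [], [], [], [], []
, [], [], [], [], [], [], [], []
]
theorem k72 : relK F bs0 (qR iys [] H14.StTv.rels v71) = true := by decide +kernel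
noncomputable def v73 : Prs := [(dw (nat_lit 0x0b0401), []),
 (dw (nat_lit 0x05090103), []),
 (dw (nat_lit 0x030d020308), []),
 (dw (nat_lit 0x07010b0703), []),
 (dw (nat_lit 0x010902), []),
 (dw (nat_lit 0x0b09), [])]
theorem k74 : relK F bs0 (sR iys [] H14.StTv.ws0 ks v73) = true := by decide +kernel
theorem iqs (M : PM G Ω 31 H15.StdL52.nets) (hN : Nat.card G = 9999360) : ∀ {X : Type*} [Group X], PresF G X H14.StTv.rels H14.StTv.ws0 → QS X (sub M.gen ks) (sub M.gen []) :=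
  fun hP _ => quot_surj hP ((sub_le _).2 fa_nil) (ihy M hN) le_rfl le_rfl (rels_base (base0 M hN) k72) (rels_base (base0 M hN) k74) (by decide +kernel)
theorem k75 : relK F bs0 [(powW z 2, [])] = true := by decide +kernel
theorem r76 (M : PM G Ω 31 H15.StdL52.nets) (hN : Nat.card G = 9999360) : orderOf (ev M.gen z) = 2 :=
  order_of_rel (F := F) (b := 1) (by norm_num) (rels_base (base0 M hN) k75) (by decide +kernel)
theorem ord (M : PM G Ω 31 H15.StdL52.nets) (hN : Nat.card G = 9999360) : orderOf (ev M.gen z) = 2 :=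
  (r76 M hN)
theorem card (M : PM G Ω 31 H15.StdL52.nets) (hN : Nat.card G = 9999360) : Nat.card (Subgroup.centralizer {ev M.gen z}) = 21504 :=
  (eqC M hN).1 ▸ (eqC M hN).2
theorem iso (M : PM G Ω 31 H15.StdL52.nets) (hN : Nat.card G = 9999360) : Nonempty (Subgroup.centralizer {ev M.gen z} ≃* StTv.X0) :=
  (eqC M hN).1 ▸ ((iqs M hN) StTv.pres0).iso_bot StTv.cardX (ks_low M hN) (by norm_num)

end L.TvL52
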