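import Cfsg.Agent.H14.CZ
import Cfsg.Agent.H14.StTv
import Cfsg.Agent.H14.KhM24
import Cfsg.Agent.H15.StdL32

/-! Generated certificate (toolsL/cg.hpp). -/
set_option autoImplicit false
set_option maxRecDepth 200000
set_option Elab.async false
set_option linter.unusedVariables false
set_option linter.unusedSectionVars false

namespace L.TvM24
open H14 L.KhM24T L.KhM24
variable {G Ω : Type*} [Group G] [Finite G] [MulAction G Ω]

noncomputable def z : Word := [nat_lit 17, nat_lit 20, nat_lit 18]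
noncomputable def w0 : Word := [nat_lit 0]
noncomputable def w1 : Word := [nat_lit 2]
theorem k2 : orbChk (nat_lit 24) H14.M24c.nets F [] (sel [w0, w1] [nat_lit 0, nat_lit 1]) [dw (nat_lit 0x01), dw (nat_lit 0x03), dw (nat_lit 0x01)] (dn (nat_lit 12) (nat_lit 0x4c11c11823423414024411421413023013c11021012c10c20c1082081)) (bit (nat_lit 0)) (full (nat_lit 24)) = true := by decide +kernel
theorem o3 (M : PM G Ω 24 H14.M24c.nets) (hN : Nat.card G = 244823040) : Orb M ⊤ [] (nat_lit 0) (full (nat_lit 24)) :=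
  (Orb.ext le_top (orb_bit ⊤ [] (b := (nat_lit 0)) rfl) k2)
noncomputable def w4 : Word := [nat_lit 0, nat_lit 2, nat_lit 0]
theorem k5 : orbChk (nat_lit 24) H14.M24c.nets F [nat_lit 0] (sel [w4] [nat_lit 0]) [dw (nat_lit 0x01)] (dn (nat_lit 12) (nat_lit 0x5812c13c14412414c13415011414010815411c14810c1281101381181201301)) (bit (nat_lit 1)) (nat_lit 0xfffffe) = true := by decide +kernel
theorem o6 (M : PM G Ω 24 H14.M24c.nets) (hN : Nat.card G = 244823040) : Orb M ⊤ [nat_lit 0] (nat_lit 1) (nat_lit 0xfffffe) :=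
  (Orb.ext le_top (orb_bit ⊤ [nat_lit 0] (b := (nat_lit 1)) rfl) k5)
noncomputable def w7 : Word := [nat_lit 8]
noncomputable def w8 : Word := [nat_lit 2, nat_lit 14, nat_lit 0, nat_lit 2]
theorem k9 : orbChk (nat_lit 24) H14.M24c.nets F [nat_lit 1, nat_lit 0] (sel [w7, w8] [nat_lit 0, nat_lit 1]) [dw (nat_lit 0x01), dw (nat_lit 0x01), dw (nat_lit 0x0202), dw (nat_lit 0x01)] (dn (nat_lit 12) (nat_lit 0x1c15c24824423823812423c23c14c21821810c22c2302082)) (bit (nat_lit 2)) (nat_lit 0xfffffc) = true := by decide +kernel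
theorem o10 (M : PM G Ω 24 H14.M24c.nets) (hN : Nat.card G = 244823040) : Orb M ⊤ [nat_lit 1, nat_lit 0] (nat_lit 2) (nat_lit 0xfffffc) :=
  (Orb.ext le_top (orb_bit ⊤ [nat_lit 1, nat_lit 0] (b := (nat_lit 2)) rfl) k9)
noncomputable def w11 : Word := [nat_lit 12]
noncomputable def w12 : Word := [nat_lit 2, nat_lit 0, nat_lit 10, nat_lit 5, nat_lit 1, nat_lit 2]
theorem k13 : orbChk (nat_lit 24) H14.M24c.nets F [nat_lit 2, nat_lit 1, nat_lit 0] (sel [w11, w12] [nat_lit 0, nat_lit 1]) [dw (nat_lit 0x01), dw (nat_lit 0x01), dw (nat_lit 0x0101)] (dn (nat_lit 12) (nat_lit 0x2023c23c15815025014c24c11c21c1182181142282542382)) (bit (nat_lit 4)) (nat_lit 0xfffff8) = true := by decide +kernel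
theorem o14 (M : PM G Ω 24 H14.M24c.nets) (hN : Nat.card G = 244823040) : Orb M ⊤ [nat_lit 2, nat_lit 1, nat_lit 0] (nat_lit 4) (nat_lit 0xfffff8) :=
  (Orb.ext le_top (orb_bit ⊤ [nat_lit 2, nat_lit 1, nat_lit 0] (b := (nat_lit 4)) rfl) k13)
noncomputable def w15 : Word := [nat_lit 16]
noncomputable def w16 : Word := [nat_lit 0, nat_lit 19, nat_lit 17, nat_lit 1]
noncomputable def w17 : Word := [nat_lit 2, nat_lit 8, nat_lit 10, nat_lit 0, nat_lit 0, nat_lit 2]
theorem k18 : orbChk (nat_lit 24) H14.M24c.nets F [nat_lit 4, nat_lit 2, nat_lit 1, nat_lit 0] (sel [w15, w16, w17] [nat_lit 0, nat_lit 1, nat_lit 2]) [dw (nat_lit 0x01), dw (nat_lit 0x01)] (dn (nat_lit 12) (nat_lit 0x2c23c24424c34c1483482481403401383382381543542243203)) (bit (nat_lit 8)) (nat_lit 0xffffe8) = true := by decide +kernel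
theorem o19 (M : PM G Ω 24 H14.M24c.nets) (hN : Nat.card G = 244823040) : Orb M ⊤ [nat_lit 4, nat_lit 2, nat_lit 1, nat_lit 0] (nat_lit 8) (nat_lit 0xffffe8) :=
  (Orb.ext le_top (orb_bit ⊤ [nat_lit 4, nat_lit 2, nat_lit 1, nat_lit 0] (b := (nat_lit 8)) rfl) k18)
noncomputable def w20 : Word := [nat_lit 12, nat_lit 20, nat_lit 13]
noncomputable def w21 : Word := [nat_lit 0, nat_lit 2, nat_lit 0, nat_lit 15, nat_lit 5, nat_lit 10, nat_lit 18]
noncomputable def w22 : Word := [nat_lit 2, nat_lit 1, nat_lit 1, nat_lit 1, nat_lit 20, nat_lit 2, nat_lit 17]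
theorem k23 : orbChk (nat_lit 24) H14.M24c.nets F [nat_lit 8, nat_lit 4, nat_lit 2, nat_lit 1, nat_lit 0] (sel [w20, w21, w22] [nat_lit 0, nat_lit 1, nat_lit 2]) [dw (nat_lit 0x01)] (dn (nat_lit 12) (nat_lit 0x3c34c34434424415432c32c11412432422410c30c2)) (bit (nat_lit 3)) (nat_lit 0xefbea8) = true := by decide +kernel
theorem o24 (M : PM G Ω 24 H14.M24c.nets) (hN : Nat.card G = 244823040) : Orb M ⊤ [nat_lit 8, nat_lit 4, nat_lit 2, nat_lit 1, nat_lit 0] (nat_lit 3) (nat_lit 0xefbea8) :=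
  (Orb.ext le_top (orb_bit ⊤ [nat_lit 8, nat_lit 4, nat_lit 2, nat_lit 1, nat_lit 0] (b := (nat_lit 3)) rfl) k23)
noncomputable def w25 : Word := [nat_lit 5, nat_lit 17, nat_lit 2, nat_lit 10, nat_lit 16, nat_lit 1, nat_lit 12, nat_lit 2]
theorem k26 : orbChk (nat_lit 24) H14.M24c.nets F [nat_lit 3, nat_lit 8, nat_lit 4, nat_lit 2, nat_lit 1, nat_lit 0] (sel [w25] [nat_lit 0]) [] (dn (nat_lit 12) (nat_lit 0x5415c1)) (bit (nat_lit 23)) (nat_lit 0xa00200) = true := by decide +kernel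
theorem o27 (M : PM G Ω 24 H14.M24c.nets) (hN : Nat.card G = 244823040) : Orb M ⊤ [nat_lit 3, nat_lit 8, nat_lit 4, nat_lit 2, nat_lit 1, nat_lit 0] (nat_lit 23) (nat_lit 0xa00200) :=
  (Orb.ext le_top (orb_bit ⊤ [nat_lit 3, nat_lit 8, nat_lit 4, nat_lit 2, nat_lit 1, nat_lit 0] (b := (nat_lit 23)) rfl) k26)
noncomputable def c28 : Chn := [((nat_lit 0), (full (nat_lit 24))), ((nat_lit 1), (nat_lit 0xfffffe)), ((nat_lit 2), (nat_lit 0xfffffc)), ((nat_lit 4), (nat_lit 0xfffff8)), ((nat_lit 8), (nat_lit 0xffffe8)), ((nat_lit 3), (nat_lit 0xefbea8)), ((nat_lit 23), (nat_lit 0xa00200))]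
theorem k29 : Nat.ble 244823040 (cval (nat_lit 24) c28) = true := by decide +kernel
theorem e30 (M : PM G Ω 24 H14.M24c.nets) (hN : Nat.card G = 244823040) : EC M ⊤ [] c28 :=
  ec_top (c := c28) ⟨(o3 M hN), ⟨(o6 M hN), ⟨(o10 M hN), ⟨(o14 M hN), ⟨(o19 M hN), ⟨(o24 M hN), ⟨(o27 M hN), trivial⟩⟩⟩⟩⟩⟩⟩ hN k29
noncomputable def p31 : Prs := [(z, z)]
theorem k32 : band (Nat.ble (nat_lit 24) (Nat.pow 2 (nat_lit 5))) (fsChk (nat_lit 24) (nat_lit 5) H14.M24c.nets z (nat_lit 0x82402f) (full (nat_lit 24)) 0 0 (nat_lit 5)) = true := by decide +kernel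
theorem f33 (M : PM G Ω 24 H14.M24c.nets) (hN : Nat.card G = 244823040) : IsFix M z (nat_lit 0x82402f) :=
  fix_one k32
theorem k34 : relK F bs0 [(z, flat (fsts p31) [nat_lit 0]), (z, flat (snds p31) [nat_lit 0])] = true := by decide +kernel
noncomputable def b35 : List (Nat × Nat) := [((nat_lit 0x82402f), (nat_lit 0x82402f))]
noncomputable def y36 : List Word := []
theorem k37 : relK F bs0 (commR (snds p31) y36) = true := by decide +kernel
theorem x38 (M : PM G Ω 24 H14.M24c.nets) (hN : Nat.card G = 244823040) : Cx M (fun g => Pr M g p31) b35 [] p31 y36 :=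
  cx_conj (tb_cons (f33 M hN) (f33 M hN) (rels_base (base0 M hN) k34) (fun _ _ => fa_nil)) (rels_base (base0 M hN) k37)
noncomputable def t39 : KT := KT.nil (SE.and (SE.lev (nat_lit 0)) (SE.tab (nat_lit 0))) [] [] []
theorem k40 : ktChk (nat_lit 24) H14.M24c.nets F c28 b35 [] p31 y36 [] [] (nat_lit 0) (nat_lit 0) (nat_lit 0x82402f) 0 t39 = true := by decide +kernel
theorem l41 (M : PM G Ω 24 H14.M24c.nets) (hN : Nat.card G = 244823040) : Cl M (fun g => Pr M g p31) [] [] (nat_lit 0) (nat_lit 0x82402f) :=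
  cl_tree (e30 M hN) (x38 M hN) (dd0 _ _ _ _) k40
noncomputable def t42 : KT := KT.nil (SE.and (SE.lev (nat_lit 1)) (SE.tab (nat_lit 0))) [] [] []
theorem k43 : ktChk (nat_lit 24) H14.M24c.nets F c28 b35 [] p31 y36 [] [nat_lit 0] (nat_lit 1) (nat_lit 1) (nat_lit 0x82402e) 0 t42 = true := by decide +kernel
theorem l44 (M : PM G Ω 24 H14.M24c.nets) (hN : Nat.card G = 244823040) : Cl M (fun g => Pr M g p31) [] [nat_lit 0] (nat_lit 1) (nat_lit 0x82402e) :=
  cl_tree (e30 M hN) (x38 M hN) (dd0 _ _ _ _) k43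
noncomputable def t45 : KT := KT.nil (SE.and (SE.lev (nat_lit 2)) (SE.tab (nat_lit 0))) [] [] []
theorem k46 : ktChk (nat_lit 24) H14.M24c.nets F c28 b35 [] p31 y36 [] [nat_lit 1, nat_lit 0] (nat_lit 2) (nat_lit 2) (nat_lit 0x82402c) 0 t45 = true := by decide +kernel
theorem l47 (M : PM G Ω 24 H14.M24c.nets) (hN : Nat.card G = 244823040) : Cl M (fun g => Pr M g p31) [] [nat_lit 1, nat_lit 0] (nat_lit 2) (nat_lit 0x82402c) :=
  cl_tree (e30 M hN) (x38 M hN) (dd0 _ _ _ _) k46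
noncomputable def t48 : KT := KT.nil (SE.dif (SE.lev (nat_lit 3)) (SE.tab (nat_lit 0))) [] [] []
theorem k49 : ktChk (nat_lit 24) H14.M24c.nets F c28 b35 [] p31 y36 [] [nat_lit 2, nat_lit 1, nat_lit 0] (nat_lit 3) (nat_lit 4) (nat_lit 0x7dbfd0) 0 t48 = true := by decide +kernel
theorem l50 (M : PM G Ω 24 H14.M24c.nets) (hN : Nat.card G = 244823040) : Cl M (fun g => Pr M g p31) [] [nat_lit 2, nat_lit 1, nat_lit 0] (nat_lit 4) (nat_lit 0x7dbfd0) :=
  cl_tree (e30 M hN) (x38 M hN) (dd0 _ _ _ _) k49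
noncomputable def t51 : KT := KT.liv (nat_lit 4) [nat_lit 0]
theorem k52 : ktChk (nat_lit 24) H14.M24c.nets F c28 b35 [] p31 y36 [] [nat_lit 4, nat_lit 2, nat_lit 1, nat_lit 0] (nat_lit 4) (nat_lit 8) (bit (nat_lit 8)) 0 t51 = true := by decide +kernel
theorem l53 (M : PM G Ω 24 H14.M24c.nets) (hN : Nat.card G = 244823040) : Cl M (fun g => Pr M g p31) [] [nat_lit 4, nat_lit 2, nat_lit 1, nat_lit 0] (nat_lit 8) (bit (nat_lit 8)) :=
  cl_tree (e30 M hN) (x38 M hN) (dd0 _ _ _ _) k52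
noncomputable def t54 : KT := KT.nil (SE.and (SE.lev (nat_lit 5)) (SE.tab (nat_lit 0))) [] [] []
theorem k55 : ktChk (nat_lit 24) H14.M24c.nets F c28 b35 [] p31 y36 [] [nat_lit 8, nat_lit 4, nat_lit 2, nat_lit 1, nat_lit 0] (nat_lit 5) (nat_lit 3) (nat_lit 0x820028) 0 t54 = true := by decide +kernel
theorem l56 (M : PM G Ω 24 H14.M24c.nets) (hN : Nat.card G = 244823040) : Cl M (fun g => Pr M g p31) [] [nat_lit 8, nat_lit 4, nat_lit 2, nat_lit 1, nat_lit 0] (nat_lit 3) (nat_lit 0x820028) :=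
  cl_tree (e30 M hN) (x38 M hN) (dd0 _ _ _ _) k55
noncomputable def t57 : KT := KT.nil (SE.and (SE.lev (nat_lit 6)) (SE.tab (nat_lit 0))) [] [] []
theorem k58 : ktChk (nat_lit 24) H14.M24c.nets F c28 b35 [] p31 y36 [] [nat_lit 3, nat_lit 8, nat_lit 4, nat_lit 2, nat_lit 1, nat_lit 0] (nat_lit 6) (nat_lit 23) (bit (nat_lit 23)) 0 t57 = true := by decide +kernel
theorem l59 (M : PM G Ω 24 H14.M24c.nets) (hN : Nat.card G = 244823040) : Cl M (fun g => Pr M g p31) [] [nat_lit 3, nat_lit 8, nat_lit 4, nat_lit 2, nat_lit 1, nat_lit 0] (nat_lit 23) (bit (nat_lit 23)) :=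
  cl_tree (e30 M hN) (x38 M hN) (dd0 _ _ _ _) k58
noncomputable def c60 : Chn := [((nat_lit 0), (nat_lit 0x82402f)), ((nat_lit 1), (nat_lit 0x82402e)), ((nat_lit 2), (nat_lit 0x82402c)), ((nat_lit 4), (nat_lit 0x7dbfd0)), ((nat_lit 8), (bit (nat_lit 8))), ((nat_lit 3), (nat_lit 0x820028)), ((nat_lit 23), (bit (nat_lit 23)))]
theorem e61 (M : PM G Ω 24 H14.M24c.nets) (hN : Nat.card G = 244823040) : SC M (cenP M p31 rfl) [] c60 :=
  ⟨Cl.lev (l41 M hN), ⟨Cl.lev (l44 M hN), ⟨Cl.lev (l47 M hN), ⟨Cl.lev (l50 M hN), ⟨Cl.lev (l53 M hN), ⟨Cl.lev (l56 M hN), ⟨Cl.lev (l59 M hN), (EC.sc_end (e30 M hN) (by decide +kernel))⟩⟩⟩⟩⟩⟩⟩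
theorem up (M : PM G Ω 24 H14.M24c.nets) (hN : Nat.card G = 244823040) : Nat.card (Subgroup.centralizer (sub M.gen [z] : Set G)) ≤ 21504 :=
  (cenP_eq (M := M) (ps := p31) rfl ▸ SC.card_le' (e61 M hN) (by decide +kernel) : Nat.card (Subgroup.centralizer (sub M.gen (fsts p31) : Set G)) ≤ _)
noncomputable def w62 : Word := [nat_lit 1, nat_lit 16, nat_lit 9, nat_lit 2, nat_lit 0, nat_lit 0, nat_lit 4, nat_lit 1]
noncomputable def w63 : Word := [nat_lit 8, nat_lit 16, nat_lit 10, nat_lit 1, nat_lit 15, nat_lit 21]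
noncomputable def w64 : Word := [nat_lit 13, nat_lit 13, nat_lit 8, nat_lit 7, nat_lit 13]
noncomputable def w65 : Word := [nat_lit 10, nat_lit 13, nat_lit 10]
noncomputable def w66 : Word := [nat_lit 9, nat_lit 17, nat_lit 19, nat_lit 8]
noncomputable def w67 : Word := [nat_lit 18, nat_lit 17, nat_lit 20]
noncomputable def w68 : Word := [nat_lit 17, nat_lit 21]
noncomputable def w69 : Word := [nat_lit 16, nat_lit 18]
noncomputable def ks : List Word := [w62, w63, w64, w65, w66, w67, w68, z, w69]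
noncomputable def c70 : Chn := [((nat_lit 23), (nat_lit 0x82402f)), ((nat_lit 0), (nat_lit 0x2402f)), ((nat_lit 1), (nat_lit 0x2402e)), ((nat_lit 2), (nat_lit 0x2400c)), ((nat_lit 3), (bit (nat_lit 3))), ((nat_lit 4), (nat_lit 0x7dbfd0)), ((nat_lit 5), (bit (nat_lit 5)))]
noncomputable def d71 : List OD := [⟨[nat_lit 3, nat_lit 0], [], (dn (nat_lit 12) (nat_lit 0x3824410c20820811425c2))⟩,
 ⟨[nat_lit 3, nat_lit 1], [], (dn (nat_lit 12) (nat_lit 0x082081382442441002))⟩,
 ⟨[nat_lit 3, nat_lit 2], [], (dn (nat_lit 12) (nat_lit 0x082382442441042))⟩,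
 ⟨[nat_lit 3, nat_lit 4], [], (dn (nat_lit 12) (nat_lit 0x0c2082081))⟩,
 ⟨[], [], []⟩,
 ⟨[nat_lit 6, nat_lit 8, nat_lit 5, nat_lit 7], [dw (nat_lit 0x01), dw (nat_lit 0x03)], (dn (nat_lit 12) (nat_lit 0x2c42843042441c41c3584583184183104103))⟩,
 ⟨[], [], []⟩]
theorem k72 : ocChk (nat_lit 24) H14.M24c.nets F ks c70 d71 [] = true := by decide +kernel
theorem o73 (M : PM G Ω 24 H14.M24c.nets) (hN : Nat.card G = 244823040) : OC M (sub M.gen ks) [] c70 :=
  oc_of le_rfl k72
theorem ks_low (M : PM G Ω 24 H14.M24c.nets) (hN : Nat.card G = 244823040) : 21504 ≤ Nat.card (sub M.gen ks) :=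
  (OC.le_card' (N := 21504) (o73 M hN) (by decide +kernel))
theorem k74 : relK F bs0 (commR [z] ks) = true := by decide +kernel
theorem cen (M : PM G Ω 24 H14.M24c.nets) (hN : Nat.card G = 244823040) : (sub M.gen ks) ≤ (Subgroup.centralizer (sub M.gen [z] : Set G)) :=
  (le_cent_of (rels_base (base0 M hN) k74))
theorem eqC (M : PM G Ω 24 H14.M24c.nets) (hN : Nat.card G = 244823040) : Subgroup.centralizer {ev M.gen z} = (sub M.gen ks) ∧ Nat.card (sub M.gen ks) = 21504 :=
  cent_single M.gen z ▸ eq_of_cards (cen M hN) (up M hN) (ks_low M hN)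
noncomputable def w75 : Word := [nat_lit 15, nat_lit 4, nat_lit 8, nat_lit 1, nat_lit 2, nat_lit 1, nat_lit 1, nat_lit 19, nat_lit 2]
noncomputable def w76 : Word := [nat_lit 4, nat_lit 12, nat_lit 10, nat_lit 21, nat_lit 10, nat_lit 5]
noncomputable def w77 : Word := [nat_lit 1, nat_lit 16, nat_lit 18, nat_lit 1, nat_lit 12, nat_lit 2, nat_lit 1, nat_lit 7, nat_lit 9, nat_lit 1]
noncomputable def w78 : Word := [nat_lit 19, nat_lit 8, nat_lit 10, nat_lit 9, nat_lit 0]
noncomputable def w79 : Word := [nat_lit 19, nat_lit 13, nat_lit 1, nat_lit 8, nat_lit 2, nat_lit 8, nat_lit 0]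
noncomputable def w80 : Word := [nat_lit 1, nat_lit 8, nat_lit 16, nat_lit 4, nat_lit 1, nat_lit 2, nat_lit 1, nat_lit 6, nat_lit 21, nat_lit 6]
noncomputable def w81 : Word := [nat_lit 16, nat_lit 10, nat_lit 5, nat_lit 10, nat_lit 0, nat_lit 2, nat_lit 1, nat_lit 7, nat_lit 10, nat_lit 0]
noncomputable def iys : List Word := [w75, w76, w77, w78, w79, w80, w81]
noncomputable def v82 : List Word := [dw (nat_lit 0x01010407030706090711), dw (nat_lit 0x0507110f0b), dw (nat_lit 0x03010307060f0d0b), dw (nat_lit 0x0406070509110b), dw (nat_lit 0x0205030705110d), dw (nat_lit 0x040207030705110f0d), dw (nat_lit 0x03010407030509070f)]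
theorem k83 : relK F bs0 (memRels ks iys v82) = true := by decide +kernel
theorem ihy (M : PM G Ω 24 H14.M24c.nets) (hN : Nat.card G = 244823040) : (sub M.gen iys) ≤ (sub M.gen ks) :=
  (sub_le_of_memRels (rels_base (base0 M hN) k83))
noncomputable def v84 : List Word := [[], [], [], [], [], [], [], []
, [], [], [], [], [], [], [], []
, [], [], [], [], [], [], [], []
, [], [], [], [], [], [], [], []
, [], [], [], [], [], [], [], []
, [], [], [], [], [], [], [], []
, [], [], [], [], [], [], [], []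
, [], [], [], [], [], [], [], []
, [], [], [], [], [], [], [], []
, [], [], [], [], [], [], [], []
]
theorem k85 : relK F bs0 (qR iys [] H14.StTv.rels v84) = true := by decide +kernel
noncomputable def v86 : Prs := [(dw (nat_lit 0x0208010405), []),
 (dw (nat_lit 0x04070b0209), []),
 (dw (nat_lit 0x040206010508), []),
 (dw (nat_lit 0x0107040d09), []),
 (dw (nat_lit 0x080b0209), []),
 (dw (nat_lit 0x01080b0107), []),
 (dw (nat_lit 0x01090601050d), []),
 (dw (nat_lit 0x020706010709), []),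
 (dw (nat_lit 0x010607010607), [])]
theorem k87 : relK F bs0 (sR iys [] H14.StTv.ws0 ks v86) = true := by decide +kernel
theorem iqs (M : PM G Ω 24 H14.M24c.nets) (hN : Nat.card G = 244823040) : ∀ {X : Type*} [Group X], PresF G X H14.StTv.rels H14.StTv.ws0 → QS X (sub M.gen ks) (sub M.gen []) :=
  fun hP _ => quot_surj hP ((sub_le _).2 fa_nil) (ihy M hN) le_rfl le_rfl (rels_base (base0 M hN) k85) (rels_base (base0 M hN) k87) (by decide +kernel)
theorem k88 : relK F bs0 [(powW z 2, [])] = true := by decide +kernel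
theorem r89 (M : PM G Ω 24 H14.M24c.nets) (hN : Nat.card G = 244823040) : orderOf (ev M.gen z) = 2 :=
  order_of_rel (F := F) (b := 4) (by norm_num) (rels_base (base0 M hN) k88) (by decide +kernel)
theorem ord (M : PM G Ω 24 H14.M24c.nets) (hN : Nat.card G = 244823040) : orderOf (ev M.gen z) = 2 :=
  (r89 M hN)
theorem card (M : PM G Ω 24 H14.M24c.nets) (hN : Nat.card G = 244823040) : Nat.card (Subgroup.centralizer {ev M.gen z}) = 21504 :=
  (eqC M hN).1 ▸ (eqC M hN).2
theorem iso (M : PM G Ω 24 H14.M24c.nets) (hN : Nat.card G = 244823040) : Nonempty (Subgroup.centralizer {ev M.gen z} ≃* StTv.X0) :=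
  (eqC M hN).1 ▸ ((iqs M hN) StTv.pres0).iso_bot StTv.cardX (ks_low M hN) (by norm_num)
noncomputable def w90 : Word := [nat_lit 17, nat_lit 20, nat_lit 18, nat_lit 15, nat_lit 8, nat_lit 12, nat_lit 0, nat_lit 2, nat_lit 0, nat_lit 0, nat_lit 0]
noncomputable def w91 : Word := [nat_lit 17, nat_lit 19, nat_lit 12, nat_lit 6, nat_lit 1, nat_lit 7, nat_lit 2, nat_lit 1, nat_lit 17, nat_lit 9]
noncomputable def w92 : Word := [nat_lit 5, nat_lit 9, nat_lit 0, nat_lit 2, nat_lit 1, nat_lit 6, nat_lit 1, nat_lit 21]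
noncomputable def w93 : Word := [nat_lit 8, nat_lit 8, nat_lit 8, nat_lit 4, nat_lit 8, nat_lit 0, nat_lit 2, nat_lit 1, nat_lit 5, nat_lit 1, nat_lit 2]
noncomputable def w94 : Word := [nat_lit 13, nat_lit 4, nat_lit 18, nat_lit 0, nat_lit 4, nat_lit 7, nat_lit 2, nat_lit 0, nat_lit 6, nat_lit 5, nat_lit 1]
noncomputable def w95 : Word := [nat_lit 16, nat_lit 18, nat_lit 13, nat_lit 1, nat_lit 2, nat_lit 1, nat_lit 9, nat_lit 1, nat_lit 2]
noncomputable def qz : List Word := [w90, w91, w92, w93, w94, w95, z]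
noncomputable def qws : List Word := List.append qz []
theorem k96 : nrmRow F bs0 qws (nat_lit 7) (nat_lit 0) (nat_lit 1) [[nat_lit 2],
 [nat_lit 4],
 [nat_lit 6],
 [nat_lit 12, nat_lit 8],
 [nat_lit 12, nat_lit 10],
 [nat_lit 12]] (nat_lit 255) = true := by decide +kernel
theorem k97 : nrmRow F bs0 qws (nat_lit 7) (nat_lit 1) (nat_lit 2) [[nat_lit 4],
 [nat_lit 12, nat_lit 6],
 [nat_lit 8],
 [nat_lit 10],
 [nat_lit 12]] (nat_lit 255) = true := by decide +kernel
theorem k98 : nrmRow F bs0 qws (nat_lit 7) (nat_lit 2) (nat_lit 3) [[nat_lit 6],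
 [nat_lit 8],
 [nat_lit 12, nat_lit 10],
 [nat_lit 12]] (nat_lit 255) = true := by decide +kernel
theorem k99 : nrmRow F bs0 qws (nat_lit 7) (nat_lit 3) (nat_lit 4) [[nat_lit 8],
 [nat_lit 12, nat_lit 10],
 [nat_lit 12]] (nat_lit 255) = true := by decide +kernel
theorem k100 : nrmRow F bs0 qws (nat_lit 7) (nat_lit 4) (nat_lit 5) [[nat_lit 12, nat_lit 10],
 [nat_lit 12]] (nat_lit 255) = true := by decide +kernel
theorem k101 : nrmRow F bs0 qws (nat_lit 7) (nat_lit 5) (nat_lit 6) [[nat_lit 12]] (nat_lit 255) = true := by decide +kernel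
theorem k102 : nrmRow F bs0 qws (nat_lit 7) (nat_lit 6) (nat_lit 7) [] (nat_lit 255) = true := by decide +kernel
noncomputable def qnm : List Nat := [nat_lit 255, nat_lit 255, nat_lit 255, nat_lit 255, nat_lit 255, nat_lit 255, nat_lit 255]
theorem qhn (M : PM G Ω 24 H14.M24c.nets) (hN : Nat.card G = 244823040) : NrmL (loc M.gen qws) 7 0 qnm :=
  (nrm_cons (base0 M hN) k96 (nrm_cons (base0 M hN) k97 (nrm_cons (base0 M hN) k98 (nrm_cons (base0 M hN) k99 (nrm_cons (base0 M hN) k100 (nrm_cons (base0 M hN) k101 (nrm_cons (base0 M hN) k102 trivial)))))))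
noncomputable def c103 : Chn := [((nat_lit 4), (nat_lit 0x7dbfd0)), ((nat_lit 0), (nat_lit 0x82402f))]
noncomputable def d104 : List OD := [⟨[nat_lit 5, nat_lit 3, nat_lit 4], [], (dn (nat_lit 12) (nat_lit 0x2431c33c32032022014c15435412c32c22c1103102101))⟩,
 ⟨[nat_lit 2, nat_lit 1, nat_lit 0], [], (dn (nat_lit 12) (nat_lit 0x1433830c30c2003002001))⟩]
theorem k105 : ocChk (nat_lit 24) H14.M24c.nets F qz c103 d104 [] = true := by decide +kernel
theorem o106 (M : PM G Ω 24 H14.M24c.nets) (hN : Nat.card G = 244823040) : OC M (Nn (loc M.gen qws) 7 0) [] c103 :=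
  oc_of (sub_le_Nn M.gen qz [] (m := 7) rfl) k105
theorem k107 : powChk F bs0 qws (nat_lit 2) (nat_lit 7) qnm [[],
 [],
 [],
 [nat_lit 12],
 [nat_lit 12],
 [nat_lit 12],
 []] = true := by decide +kernel
theorem qpc (M : PM G Ω 24 H14.M24c.nets) (hN : Nat.card G = 244823040) : Pc (loc M.gen qws) 2 7 ∧ ∀ i ≤ 7, Nat.card (Nn (loc M.gen qws) 7 i) = 2 ^ (7 - i) :=
  pc_of (base0 M hN) (by norm_num) (qhn M hN) k107 (OC.le_card' (o106 M hN) (by decide +kernel))
noncomputable def q : List Word := List.drop 0 qz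
theorem q_card (M : PM G Ω 24 H14.M24c.nets) (hN : Nat.card G = 244823040) : Nat.card (sub M.gen q) = 2 ^ 7 :=
  Nn_eq_sub M.gen qz [] (m := 7) rfl 0 ▸ (qpc M hN).2 0 (by decide)
noncomputable def v108 : List Word := [dw (nat_lit 0x0202050307060907110f0b), dw (nat_lit 0x0402030705), dw (nat_lit 0x010107050307050f), dw (nat_lit 0x030107030607050d0b), dw (nat_lit 0x03010703060705110d0b), dw (nat_lit 0x010503070609070d0b), dw (nat_lit 0x0f)]
theorem k109 : relK F bs0 (memRels ks q v108) = true := by decide +kernel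
theorem q_le (M : PM G Ω 24 H14.M24c.nets) (hN : Nat.card G = 244823040) : (sub M.gen q) ≤ (sub M.gen ks) :=
  (sub_le_of_memRels (rels_base (base0 M hN) k109))
noncomputable def v110 : List (List Word) := [[dw (nat_lit 0x01050d), dw (nat_lit 0x030d), dw (nat_lit 0x010d), dw (nat_lit 0x0107), dw (nat_lit 0x03090b), dw (nat_lit 0x09), dw (nat_lit 0x0d)],
 [dw (nat_lit 0x010d), dw (nat_lit 0x0305), dw (nat_lit 0x0103), dw (nat_lit 0x090b0d), dw (nat_lit 0x070b0d), dw (nat_lit 0x09), dw (nat_lit 0x0d)],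
 [dw (nat_lit 0x0305), dw (nat_lit 0x010d), dw (nat_lit 0x0103), dw (nat_lit 0x070b), dw (nat_lit 0x090b), dw (nat_lit 0x07), dw (nat_lit 0x0d)],
 [dw (nat_lit 0x050d), dw (nat_lit 0x010305), dw (nat_lit 0x01), dw (nat_lit 0x010507), dw (nat_lit 0x0107090b0d), dw (nat_lit 0x0b), dw (nat_lit 0x0d)],
 [dw (nat_lit 0x030d), dw (nat_lit 0x010d), dw (nat_lit 0x0103050d), dw (nat_lit 0x0103050b), dw (nat_lit 0x01030507090b), dw (nat_lit 0x05070d), dw (nat_lit 0x0d)],
 [dw (nat_lit 0x01), dw (nat_lit 0x030d), dw (nat_lit 0x05), dw (nat_lit 0x070d), dw (nat_lit 0x090d), dw (nat_lit 0x0b0d), dw (nat_lit 0x0d)],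
 [dw (nat_lit 0x01), dw (nat_lit 0x03), dw (nat_lit 0x050d), dw (nat_lit 0x070d), dw (nat_lit 0x090d), dw (nat_lit 0x0b), dw (nat_lit 0x0d)],
 [dw (nat_lit 0x01), dw (nat_lit 0x03), dw (nat_lit 0x05), dw (nat_lit 0x07), dw (nat_lit 0x09), dw (nat_lit 0x0b), dw (nat_lit 0x0d)],
 [dw (nat_lit 0x010d), dw (nat_lit 0x030d), dw (nat_lit 0x05), dw (nat_lit 0x07), dw (nat_lit 0x09), dw (nat_lit 0x0b), dw (nat_lit 0x0d)]]
theorem k111 : relK F bs0 (nrR q q ks v110) = true := by decide +kernel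
theorem q_nrm (M : PM G Ω 24 H14.M24c.nets) (hN : Nat.card G = 244823040) : (sub M.gen ks) ≤ (Subgroup.normalizer (sub M.gen q : Set G)) :=
  (le_normalizer_of le_rfl (rels_base (base0 M hN) k111) (by decide +kernel))
noncomputable def w112 : Word := [nat_lit 16, nat_lit 10, nat_lit 4, nat_lit 1, nat_lit 13, nat_lit 2, nat_lit 0, nat_lit 5, nat_lit 11, nat_lit 4]
noncomputable def w113 : Word := [nat_lit 16, nat_lit 9, nat_lit 14, nat_lit 2, nat_lit 0, nat_lit 0, nat_lit 2, nat_lit 0, nat_lit 12]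
noncomputable def w114 : Word := [nat_lit 4, nat_lit 8, nat_lit 8, nat_lit 8, nat_lit 14, nat_lit 2]
noncomputable def w115 : Word := [nat_lit 4, nat_lit 21, nat_lit 19, nat_lit 4, nat_lit 8, nat_lit 1, nat_lit 2, nat_lit 0, nat_lit 7, nat_lit 1]
noncomputable def w116 : Word := [nat_lit 12, nat_lit 10, nat_lit 9, nat_lit 4, nat_lit 1, nat_lit 9, nat_lit 2, nat_lit 0, nat_lit 2, nat_lit 6]
noncomputable def extys : List Word := [w112, w113, w114, w115, w116]
noncomputable def v117 : List Word := [dw (nat_lit 0x0402030907110f0d), dw (nat_lit 0x010503070609110d0b), dw (nat_lit 0x03020407030509070f0d0b), dw (nat_lit 0x01030705070f0b), dw (nat_lit 0x020205030609070b)]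
theorem k118 : relK F bs0 (memRels ks extys v117) = true := by decide +kernel
theorem exthy (M : PM G Ω 24 H14.M24c.nets) (hN : Nat.card G = 244823040) : (sub M.gen extys) ≤ (sub M.gen ks) :=
  (sub_le_of_memRels (rels_base (base0 M hN) k118))
noncomputable def v119 : List Word := [[], dw (nat_lit 0x01050d), [], dw (nat_lit 0x01050d), [], [], [], dw (nat_lit 0x01030d)
, [], [], [], [], [], [], [], []
, [], [], [], [], [], [], [], []
, []]
theorem k120 : relK F bs0 (qR extys q H15.StdL32.rels v119) = true := by decide +kernel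
noncomputable def v121 : Prs := [(dw (nat_lit 0x0107050109), dw (nat_lit 0x07)),
 (dw (nat_lit 0x050103), dw (nat_lit 0x01030507090d)),
 (dw (nat_lit 0x0103), dw (nat_lit 0x05)),
 (dw (nat_lit 0x07), dw (nat_lit 0x05090d)),
 (dw (nat_lit 0x01), dw (nat_lit 0x01050d)),
 ([], dw (nat_lit 0x01030507)),
 ([], dw (nat_lit 0x05090b)),
 ([], dw (nat_lit 0x0d)),
 ([], dw (nat_lit 0x07090d))]
theorem k122 : relK F bs0 (sR extys q H15.StdL32.ws0 ks v121) = true := by decide +kernel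
theorem extqs (M : PM G Ω 24 H14.M24c.nets) (hN : Nat.card G = 244823040) : ∀ {X : Type*} [Group X], PresF G X H15.StdL32.rels H15.StdL32.ws0 → QS X (sub M.gen ks) (sub M.gen q) :=
  fun hP _ => quot_surj hP (q_le M hN) (exthy M hN) le_rfl le_rfl (rels_base (base0 M hN) k120) (rels_base (base0 M hN) k122) (by decide +kernel)
theorem k123 : relK F bs0 [(powW z 2, [])] = true := by decide +kernel
theorem r124 (M : PM G Ω 24 H14.M24c.nets) (hN : Nat.card G = 244823040) : orderOf (ev M.gen z) = 2 :=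
  order_of_rel (F := F) (b := 4) (by norm_num) (rels_base (base0 M hN) k123) (by decide +kernel)
noncomputable def v125 : List Word := [dw (nat_lit 0x0d)]
theorem k126 : relK F bs0 (memRels q [z] v125) = true := by decide +kernel
theorem exthz (M : PM G Ω 24 H14.M24c.nets) (hN : Nat.card G = 244823040) : (sub M.gen [z]) ≤ (sub M.gen q) :=
  (sub_le_of_memRels (rels_base (base0 M hN) k126))
theorem k127 : orbChk (nat_lit 24) H14.M24c.nets F [] (sel [w0, w1] [nat_lit 0, nat_lit 1]) [dw (nat_lit 0x01), dw (nat_lit 0x03), dw (nat_lit 0x01), dw (nat_lit 0x01), dw (nat_lit 0x03)] (dn (nat_lit 12) (nat_lit 0x0025825813815414c10811c1)) (bit (nat_lit 9)) (full (nat_lit 24)) = true := by decide +kernel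
theorem o128 (M : PM G Ω 24 H14.M24c.nets) (hN : Nat.card G = 244823040) : Orb M ⊤ [] (nat_lit 9) (full (nat_lit 24)) :=
  (Orb.ext le_top (orb_bit ⊤ [] (b := (nat_lit 9)) rfl) k127)
noncomputable def w129 : Word := [nat_lit 14, nat_lit 7]
noncomputable def w130 : Word := [nat_lit 0, nat_lit 2, nat_lit 20]
theorem k131 : orbChk (nat_lit 24) H14.M24c.nets F [nat_lit 9] (sel [w129, w130] [nat_lit 0, nat_lit 1]) [dw (nat_lit 0x01), dw (nat_lit 0x03)] (dn (nat_lit 12) (nat_lit 0x5c23424c25025820c20c13c23c11821815423823813010821c21c1281)) (bit (nat_lit 4)) (nat_lit 0xfffdff) = true := by decide +kernel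
theorem o132 (M : PM G Ω 24 H14.M24c.nets) (hN : Nat.card G = 244823040) : Orb M ⊤ [nat_lit 9] (nat_lit 4) (nat_lit 0xfffdff) :=
  (Orb.ext le_top (orb_bit ⊤ [nat_lit 9] (b := (nat_lit 4)) rfl) k131)
noncomputable def w133 : Word := [nat_lit 1, nat_lit 11, nat_lit 6, nat_lit 1]
noncomputable def w134 : Word := [nat_lit 7, nat_lit 5, nat_lit 16, nat_lit 2]
theorem k135 : orbChk (nat_lit 24) H14.M24c.nets F [nat_lit 4, nat_lit 9] (sel [w133, w134] [nat_lit 0, nat_lit 1]) [dw (nat_lit 0x01), dw (nat_lit 0x03)] (dn (nat_lit 12) (nat_lit 0x4810c11813814c12812c15823c23c1002402401042041442441341)) (bit (nat_lit 7)) (nat_lit 0xfffdef) = true := by decide +kernel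
theorem o136 (M : PM G Ω 24 H14.M24c.nets) (hN : Nat.card G = 244823040) : Orb M ⊤ [nat_lit 4, nat_lit 9] (nat_lit 7) (nat_lit 0xfffdef) :=
  (Orb.ext le_top (orb_bit ⊤ [nat_lit 4, nat_lit 9] (b := (nat_lit 7)) rfl) k135)
noncomputable def w137 : Word := [nat_lit 7, nat_lit 5, nat_lit 19, nat_lit 2]
noncomputable def w138 : Word := [nat_lit 10, nat_lit 5, nat_lit 0, nat_lit 8]
theorem k139 : orbChk (nat_lit 24) H14.M24c.nets F [nat_lit 7, nat_lit 4, nat_lit 9] (sel [w137, w138] [nat_lit 0, nat_lit 1]) [dw (nat_lit 0x01)] (dn (nat_lit 12) (nat_lit 0x0012c23820820420415425415825815013c23c11810c20c1402401202)) (bit (nat_lit 8)) (nat_lit 0xfffd6f) = true := by decide +kernel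
theorem o140 (M : PM G Ω 24 H14.M24c.nets) (hN : Nat.card G = 244823040) : Orb M ⊤ [nat_lit 7, nat_lit 4, nat_lit 9] (nat_lit 8) (nat_lit 0xfffd6f) :=
  (Orb.ext le_top (orb_bit ⊤ [nat_lit 7, nat_lit 4, nat_lit 9] (b := (nat_lit 8)) rfl) k139)
noncomputable def w141 : Word := [nat_lit 2, nat_lit 15, nat_lit 0, nat_lit 5, nat_lit 7, nat_lit 1]
noncomputable def w142 : Word := [nat_lit 2, nat_lit 18, nat_lit 1, nat_lit 1, nat_lit 4, nat_lit 0]
theorem k143 : orbChk (nat_lit 24) H14.M24c.nets F [nat_lit 8, nat_lit 7, nat_lit 4, nat_lit 9] (sel [w141, w142] [nat_lit 0, nat_lit 1]) [] (dn (nat_lit 12) (nat_lit 0x5010423823c23422c21425425414024014424415c2482481001282281)) (bit (nat_lit 10)) (nat_lit 0xfffc6f) = true := by decide +kernel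
theorem o144 (M : PM G Ω 24 H14.M24c.nets) (hN : Nat.card G = 244823040) : Orb M ⊤ [nat_lit 8, nat_lit 7, nat_lit 4, nat_lit 9] (nat_lit 10) (nat_lit 0xfffc6f) :=
  (Orb.ext le_top (orb_bit ⊤ [nat_lit 8, nat_lit 7, nat_lit 4, nat_lit 9] (b := (nat_lit 10)) rfl) k143)
noncomputable def w145 : Word := [nat_lit 8, nat_lit 15, nat_lit 16, nat_lit 5, nat_lit 14, nat_lit 2]
noncomputable def w146 : Word := [nat_lit 0, nat_lit 0, nat_lit 20, nat_lit 11, nat_lit 6, nat_lit 0, nat_lit 19]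
noncomputable def w147 : Word := [nat_lit 1, nat_lit 2, nat_lit 14, nat_lit 13, nat_lit 15, nat_lit 0, nat_lit 2]
theorem k148 : orbChk (nat_lit 24) H14.M24c.nets F [nat_lit 10, nat_lit 8, nat_lit 7, nat_lit 4, nat_lit 9] (sel [w145, w146, w147] [nat_lit 0, nat_lit 1, nat_lit 2]) [] (dn (nat_lit 12) (nat_lit 0x0013013c34834813810430420410c11831822c32c22c1)) (bit (nat_lit 11)) (nat_lit 0xeff84b) = true := by decide +kernel
theorem o149 (M : PM G Ω 24 H14.M24c.nets) (hN : Nat.card G = 244823040) : Orb M ⊤ [nat_lit 10, nat_lit 8, nat_lit 7, nat_lit 4, nat_lit 9] (nat_lit 11) (nat_lit 0xeff84b) :=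
  (Orb.ext le_top (orb_bit ⊤ [nat_lit 10, nat_lit 8, nat_lit 7, nat_lit 4, nat_lit 9] (b := (nat_lit 11)) rfl) k148)
noncomputable def w150 : Word := [nat_lit 12, nat_lit 20, nat_lit 2, nat_lit 18, nat_lit 1, nat_lit 8, nat_lit 2, nat_lit 0]
theorem k151 : orbChk (nat_lit 24) H14.M24c.nets F [nat_lit 11, nat_lit 10, nat_lit 8, nat_lit 7, nat_lit 4, nat_lit 9] (sel [w150] [nat_lit 0]) [] (dn (nat_lit 12) (nat_lit 0x181301)) (bit (nat_lit 12)) (nat_lit 0x401040) = true := by decide +kernel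
theorem o152 (M : PM G Ω 24 H14.M24c.nets) (hN : Nat.card G = 244823040) : Orb M ⊤ [nat_lit 11, nat_lit 10, nat_lit 8, nat_lit 7, nat_lit 4, nat_lit 9] (nat_lit 12) (nat_lit 0x401040) :=
  (Orb.ext le_top (orb_bit ⊤ [nat_lit 11, nat_lit 10, nat_lit 8, nat_lit 7, nat_lit 4, nat_lit 9] (b := (nat_lit 12)) rfl) k151)
noncomputable def c153 : Chn := [((nat_lit 9), (full (nat_lit 24))), ((nat_lit 4), (nat_lit 0xfffdff)), ((nat_lit 7), (nat_lit 0xfffdef)), ((nat_lit 8), (nat_lit 0xfffd6f)), ((nat_lit 10), (nat_lit 0xfffc6f)), ((nat_lit 11), (nat_lit 0xeff84b)), ((nat_lit 12), (nat_lit 0x401040))]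
theorem k154 : Nat.ble 244823040 (cval (nat_lit 24) c153) = true := by decide +kernel
theorem e155 (M : PM G Ω 24 H14.M24c.nets) (hN : Nat.card G = 244823040) : EC M ⊤ [] c153 :=
  ec_top (c := c153) ⟨(o128 M hN), ⟨(o132 M hN), ⟨(o136 M hN), ⟨(o140 M hN), ⟨(o144 M hN), ⟨(o149 M hN), ⟨(o152 M hN), trivial⟩⟩⟩⟩⟩⟩⟩ hN k154
noncomputable def p156 : Prs := [(w90, w90), (w91, w91), (w92, w92), (w93, w93), (w94, w94), (w95, w95), (z, z)]
theorem k157 : band (Nat.ble (nat_lit 24) (Nat.pow 2 (nat_lit 5))) (fsChk (nat_lit 24) (nat_lit 5) H14.M24c.nets w90 (nat_lit 0x311350) (full (nat_lit 24)) 0 0 (nat_lit 5)) = true := by decide +kernel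
theorem f158 (M : PM G Ω 24 H14.M24c.nets) (hN : Nat.card G = 244823040) : IsFix M w90 (nat_lit 0x311350) :=
  fix_one k157
theorem k159 : relK F bs0 [(w90, flat (fsts p156) [nat_lit 0]), (w90, flat (snds p156) [nat_lit 0])] = true := by decide +kernel
theorem k160 : band (Nat.ble (nat_lit 24) (Nat.pow 2 (nat_lit 5))) (fsChk (nat_lit 24) (nat_lit 5) H14.M24c.nets w91 (nat_lit 0x182d50) (full (nat_lit 24)) 0 0 (nat_lit 5)) = true := by decide +kernel
theorem f161 (M : PM G Ω 24 H14.M24c.nets) (hN : Nat.card G = 244823040) : IsFix M w91 (nat_lit 0x182d50) :=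
  fix_one k160
theorem k162 : relK F bs0 [(w91, flat (fsts p156) [nat_lit 2]), (w91, flat (snds p156) [nat_lit 2])] = true := by decide +kernel
theorem k163 : band (Nat.ble (nat_lit 24) (Nat.pow 2 (nat_lit 5))) (fsChk (nat_lit 24) (nat_lit 5) H14.M24c.nets w92 (nat_lit 0x6c0710) (full (nat_lit 24)) 0 0 (nat_lit 5)) = true := by decide +kernel
theorem f164 (M : PM G Ω 24 H14.M24c.nets) (hN : Nat.card G = 244823040) : IsFix M w92 (nat_lit 0x6c0710) :=
  fix_one k163
theorem k165 : relK F bs0 [(w92, flat (fsts p156) [nat_lit 4]), (w92, flat (snds p156) [nat_lit 4])] = true := by decide +kernel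
theorem k166 : relK F bs0 [(z, flat (fsts p156) [nat_lit 12]), (z, flat (snds p156) [nat_lit 12])] = true := by decide +kernel
noncomputable def b167 : List (Nat × Nat) := [((nat_lit 0x311350), (nat_lit 0x311350)), ((nat_lit 0x182d50), (nat_lit 0x182d50)), ((nat_lit 0x6c0710), (nat_lit 0x6c0710)), ((nat_lit 0x82402f), (nat_lit 0x82402f))]
noncomputable def y168 : List Word := []
theorem k169 : relK F bs0 (commR (snds p156) y168) = true := by decide +kernel
theorem x170 (M : PM G Ω 24 H14.M24c.nets) (hN : Nat.card G = 244823040) : Cx M (fun g => Pr M g p156) b167 [] p156 y168 :=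
  cx_conj (tb_cons (f158 M hN) (f158 M hN) (rels_base (base0 M hN) k159) (tb_cons (f161 M hN) (f161 M hN) (rels_base (base0 M hN) k162) (tb_cons (f164 M hN) (f164 M hN) (rels_base (base0 M hN) k165) (tb_cons (f33 M hN) (f33 M hN) (rels_base (base0 M hN) k166) (fun _ _ => fa_nil))))) (rels_base (base0 M hN) k169)
noncomputable def t171 : KT := KT.nil (SE.and (SE.dif (SE.and (SE.lev (nat_lit 0)) (SE.tab (nat_lit 0))) (SE.tab (nat_lit 1))) (SE.tab (nat_lit 2))) [] [] []
theorem k172 : ktChk (nat_lit 24) H14.M24c.nets F c153 b167 [] p156 y168 [] [] (nat_lit 0) (nat_lit 9) (nat_lit 0x200200) 0 t171 = true := by decide +kernel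
theorem l173 (M : PM G Ω 24 H14.M24c.nets) (hN : Nat.card G = 244823040) : Cl M (fun g => Pr M g p156) [] [] (nat_lit 9) (nat_lit 0x200200) :=
  cl_tree (e155 M hN) (x170 M hN) (dd0 _ _ _ _) k172
noncomputable def t174 : KT := KT.liv (nat_lit 9) [nat_lit 6]
theorem k175 : ktChk (nat_lit 24) H14.M24c.nets F c153 b167 [] p156 y168 [] [nat_lit 9] (nat_lit 1) (nat_lit 4) (bit (nat_lit 4)) 0 t174 = true := by decide +kernel
theorem l176 (M : PM G Ω 24 H14.M24c.nets) (hN : Nat.card G = 244823040) : Cl M (fun g => Pr M g p156) [] [nat_lit 9] (nat_lit 4) (bit (nat_lit 4)) :=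
  cl_tree (e155 M hN) (x170 M hN) (dd0 _ _ _ _) k175
noncomputable def t177 : KT := KT.liv (nat_lit 9) [nat_lit 11]
theorem k178 : ktChk (nat_lit 24) H14.M24c.nets F c153 b167 [] p156 y168 [] [nat_lit 4, nat_lit 9] (nat_lit 2) (nat_lit 7) (bit (nat_lit 7)) 0 t177 = true := by decide +kernel
theorem l179 (M : PM G Ω 24 H14.M24c.nets) (hN : Nat.card G = 244823040) : Cl M (fun g => Pr M g p156) [] [nat_lit 4, nat_lit 9] (nat_lit 7) (bit (nat_lit 7)) :=
  cl_tree (e155 M hN) (x170 M hN) (dd0 _ _ _ _) k178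
noncomputable def t180 : KT := KT.liv (nat_lit 9) [nat_lit 7]
theorem k181 : ktChk (nat_lit 24) H14.M24c.nets F c153 b167 [] p156 y168 [] [nat_lit 7, nat_lit 4, nat_lit 9] (nat_lit 3) (nat_lit 8) (bit (nat_lit 8)) 0 t180 = true := by decide +kernel
theorem l182 (M : PM G Ω 24 H14.M24c.nets) (hN : Nat.card G = 244823040) : Cl M (fun g => Pr M g p156) [] [nat_lit 7, nat_lit 4, nat_lit 9] (nat_lit 8) (bit (nat_lit 8)) :=
  cl_tree (e155 M hN) (x170 M hN) (dd0 _ _ _ _) k181
noncomputable def t183 : KT := KT.liv (nat_lit 4) [nat_lit 9]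
theorem k184 : ktChk (nat_lit 24) H14.M24c.nets F c153 b167 [] p156 y168 [] [nat_lit 8, nat_lit 7, nat_lit 4, nat_lit 9] (nat_lit 4) (nat_lit 10) (bit (nat_lit 10)) 0 t183 = true := by decide +kernel
theorem l185 (M : PM G Ω 24 H14.M24c.nets) (hN : Nat.card G = 244823040) : Cl M (fun g => Pr M g p156) [] [nat_lit 8, nat_lit 7, nat_lit 4, nat_lit 9] (nat_lit 10) (bit (nat_lit 10)) :=
  cl_tree (e155 M hN) (x170 M hN) (dd0 _ _ _ _) k184
noncomputable def t186 : KT := KT.liv (nat_lit 4) [nat_lit 10]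
theorem k187 : ktChk (nat_lit 24) H14.M24c.nets F c153 b167 [] p156 y168 [] [nat_lit 10, nat_lit 8, nat_lit 7, nat_lit 4, nat_lit 9] (nat_lit 5) (nat_lit 11) (bit (nat_lit 11)) 0 t186 = true := by decide +kernel
theorem l188 (M : PM G Ω 24 H14.M24c.nets) (hN : Nat.card G = 244823040) : Cl M (fun g => Pr M g p156) [] [nat_lit 10, nat_lit 8, nat_lit 7, nat_lit 4, nat_lit 9] (nat_lit 11) (bit (nat_lit 11)) :=
  cl_tree (e155 M hN) (x170 M hN) (dd0 _ _ _ _) k187
noncomputable def t189 : KT := KT.liv (nat_lit 7) [nat_lit 8]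
theorem k190 : ktChk (nat_lit 24) H14.M24c.nets F c153 b167 [] p156 y168 [] [nat_lit 11, nat_lit 10, nat_lit 8, nat_lit 7, nat_lit 4, nat_lit 9] (nat_lit 6) (nat_lit 12) (bit (nat_lit 12)) 0 t189 = true := by decide +kernel
theorem l191 (M : PM G Ω 24 H14.M24c.nets) (hN : Nat.card G = 244823040) : Cl M (fun g => Pr M g p156) [] [nat_lit 11, nat_lit 10, nat_lit 8, nat_lit 7, nat_lit 4, nat_lit 9] (nat_lit 12) (bit (nat_lit 12)) :=
  cl_tree (e155 M hN) (x170 M hN) (dd0 _ _ _ _) k190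
noncomputable def c192 : Chn := [((nat_lit 9), (nat_lit 0x200200)), ((nat_lit 4), (bit (nat_lit 4))), ((nat_lit 7), (bit (nat_lit 7))), ((nat_lit 8), (bit (nat_lit 8))), ((nat_lit 10), (bit (nat_lit 10))), ((nat_lit 11), (bit (nat_lit 11))), ((nat_lit 12), (bit (nat_lit 12)))]
theorem e193 (M : PM G Ω 24 H14.M24c.nets) (hN : Nat.card G = 244823040) : SC M (cenP M p156 rfl) [] c192 :=
  ⟨Cl.lev (l173 M hN), ⟨Cl.lev (l176 M hN), ⟨Cl.lev (l179 M hN), ⟨Cl.lev (l182 M hN), ⟨Cl.lev (l185 M hN), ⟨Cl.lev (l188 M hN), ⟨Cl.lev (l191 M hN), (EC.sc_end (e155 M hN) (by decide +kernel))⟩⟩⟩⟩⟩⟩⟩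
theorem extcq (M : PM G Ω 24 H14.M24c.nets) (hN : Nat.card G = 244823040) : Nat.card (Subgroup.centralizer (sub M.gen q : Set G)) ≤ 2 :=
  (cenP_eq (M := M) (ps := p156) rfl ▸ SC.card_le' (e193 M hN) (by decide +kernel) : Nat.card (Subgroup.centralizer (sub M.gen (fsts p156) : Set G)) ≤ _)
noncomputable def v194 : List (List Word) := [[[], [], [], [], dw (nat_lit 0x01), dw (nat_lit 0x01), []],
 [[], [], [], dw (nat_lit 0x01), [], [], []],
 [[], [], [], [], [], dw (nat_lit 0x01), []],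
 [[], dw (nat_lit 0x01), [], [], [], dw (nat_lit 0x01), []],
 [dw (nat_lit 0x01), [], [], [], [], dw (nat_lit 0x01), []],
 [dw (nat_lit 0x01), [], dw (nat_lit 0x01), dw (nat_lit 0x01), dw (nat_lit 0x01), [], []],
 [[], [], [], [], [], [], []]]
theorem k195 : relK F bs0 (cmR q q [z] v194) = true := by decide +kernel
theorem extcm (M : PM G Ω 24 H14.M24c.nets) (hN : Nat.card G = 244823040) : ⁅(sub M.gen q), (sub M.gen q)⁆ ≤ (sub M.gen [z]) :=
  (comm_le_of le_rfl (((q_le M hN).trans (cen M hN)).trans (Subgroup.centralizer_le_normalizer _)) (((q_le M hN).trans (cen M hN)).trans (Subgroup.centralizer_le_normalizer _)) (rels_base (base0 M hN) k195) (by decide +kernel))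
theorem ext (M : PM G Ω 24 H14.M24c.nets) (hN : Nat.card G = 244823040) : ∀ {X : Type*} [Group X], PresF G X H15.StdL32.rels H15.StdL32.ws0 → Nat.card X = 168 → Ext 2 (ev M.gen z) (sub M.gen q) X 7 :=
  fun hP hX => ext_of (by norm_num) (r124 M hN) (eqC M hN) (q_le M hN) (q_nrm M hN) (q_card M hN) (exthz M hN) (extcq M hN) (extcm M hN) ((extqs M hN) hP) hX (by norm_num)
noncomputable def w196 : Word := [nat_lit 1, nat_lit 10, nat_lit 6, nat_lit 0, nat_lit 6, nat_lit 2, nat_lit 1, nat_lit 16, nat_lit 2, nat_lit 10]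
noncomputable def w197 : Word := [nat_lit 1, nat_lit 16, nat_lit 1, nat_lit 7, nat_lit 19, nat_lit 11]
noncomputable def w198 : Word := [nat_lit 7, nat_lit 17, nat_lit 21, nat_lit 6]
noncomputable def w199 : Word := [nat_lit 7, nat_lit 16, nat_lit 18, nat_lit 6]
noncomputable def ls : List Word := [w196, w197, w198, w199]
noncomputable def c200 : Chn := [((nat_lit 23), (nat_lit 0x80402f)), ((nat_lit 0), (nat_lit 0x402f)), ((nat_lit 1), (nat_lit 0x2e)), ((nat_lit 2), (bit (nat_lit 2))), ((nat_lit 3), (bit (nat_lit 3))), ((nat_lit 4), (bit (nat_lit 4))), ((nat_lit 5), (bit (nat_lit 5)))]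
noncomputable def d201 : List OD := [⟨[nat_lit 2, nat_lit 0], [], (dn (nat_lit 12) (nat_lit 0x0420411420c20c15c2))⟩,
 ⟨[nat_lit 2, nat_lit 3, nat_lit 1], [], (dn (nat_lit 12) (nat_lit 0x043042082081003))⟩,
 ⟨[nat_lit 2, nat_lit 3], [], (dn (nat_lit 12) (nat_lit 0x082042041))⟩,
 ⟨[], [], []⟩,
 ⟨[], [], []⟩,
 ⟨[], [], []⟩,
 ⟨[], [], []⟩]
theorem k202 : ocChk (nat_lit 24) H14.M24c.nets F ls c200 d201 [] = true := by decide +kernel
theorem o203 (M : PM G Ω 24 H14.M24c.nets) (hN : Nat.card G = 244823040) : OC M (sub M.gen ls) [] c200 :=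
  oc_of le_rfl k202
theorem ls_low (M : PM G Ω 24 H14.M24c.nets) (hN : Nat.card G = 244823040) : 168 ≤ Nat.card (sub M.gen ls) :=
  (OC.le_card' (N := 168) (o203 M hN) (by decide +kernel))
noncomputable def v204 : List Word := [dw (nat_lit 0x02020306070507110f0d0b), dw (nat_lit 0x0705030507110f), dw (nat_lit 0x07060907110f0d), dw (nat_lit 0x060705070f)]
theorem k205 : relK F bs0 (memRels ks ls v204) = true := by decide +kernel
theorem ls_le (M : PM G Ω 24 H14.M24c.nets) (hN : Nat.card G = 244823040) : (sub M.gen ls) ≤ (sub M.gen ks) :=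
  (sub_le_of_memRels (rels_base (base0 M hN) k205))
noncomputable def w206 : Word := [nat_lit 2, nat_lit 5, nat_lit 14, nat_lit 1, nat_lit 8, nat_lit 5, nat_lit 2]
noncomputable def w207 : Word := [nat_lit 10, nat_lit 5, nat_lit 14, nat_lit 2, nat_lit 0, nat_lit 0, nat_lit 6, nat_lit 12, nat_lit 2]
noncomputable def w208 : Word := [nat_lit 21, nat_lit 9, nat_lit 14, nat_lit 1, nat_lit 2, nat_lit 1, nat_lit 9, nat_lit 1, nat_lit 2]
noncomputable def w209 : Word := [nat_lit 15, nat_lit 10, nat_lit 1, nat_lit 2, nat_lit 1, nat_lit 17, nat_lit 11, nat_lit 4]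
noncomputable def w210 : Word := [nat_lit 1, nat_lit 20, nat_lit 17, nat_lit 1, nat_lit 13, nat_lit 2, nat_lit 1, nat_lit 6, nat_lit 1]
noncomputable def lys : List Word := [w206, w207, w208, w209, w210]
noncomputable def v211 : List Word := [dw (nat_lit 0x020705030705), dw (nat_lit 0x050107050307), dw (nat_lit 0x05010307), dw (nat_lit 0x0101), dw (nat_lit 0x070107050305)]
theorem k212 : relK F bs0 (memRels ls lys v211) = true := by decide +kernel
theorem lhy (M : PM G Ω 24 H14.M24c.nets) (hN : Nat.card G = 244823040) : (sub M.gen lys) ≤ (sub M.gen ls) :=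
  (sub_le_of_memRels (rels_base (base0 M hN) k212))
noncomputable def v213 : List Word := [[], [], [], [], [], [], [], []
, [], [], [], [], [], [], [], []
, [], [], [], [], [], [], [], []
, []]
theorem k214 : relK F bs0 (qR lys [] H15.StdL32.rels v213) = true := by decide +kernel
noncomputable def v215 : Prs := [(dw (nat_lit 0x01050103), []),
 (dw (nat_lit 0x0905010509), []),
 (dw (nat_lit 0x090509), []),
 (dw (nat_lit 0x070507), [])]
theorem k216 : relK F bs0 (sR lys [] H15.StdL32.ws0 ls v215) = true := by decide +kernel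
theorem lqs (M : PM G Ω 24 H14.M24c.nets) (hN : Nat.card G = 244823040) : ∀ {X : Type*} [Group X], PresF G X H15.StdL32.rels H15.StdL32.ws0 → QS X (sub M.gen ls) (sub M.gen []) :=
  fun hP _ => quot_surj hP ((sub_le _).2 fa_nil) (lhy M hN) le_rfl le_rfl (rels_base (base0 M hN) k214) (rels_base (base0 M hN) k216) (by decide +kernel)
noncomputable def w217 : Word := [nat_lit 16, nat_lit 20]
noncomputable def w218 : Word := [nat_lit 20, nat_lit 17, nat_lit 18]
noncomputable def w219 : Word := [nat_lit 19, nat_lit 20]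
noncomputable def w220 : Word := [nat_lit 17, nat_lit 18, nat_lit 17]
noncomputable def es : List Word := [w217, w218, w219, w220]
noncomputable def c221 : Chn := [((nat_lit 23), (bit (nat_lit 23))), ((nat_lit 0), (bit (nat_lit 0))), ((nat_lit 1), (bit (nat_lit 1))), ((nat_lit 2), (bit (nat_lit 2))), ((nat_lit 3), (bit (nat_lit 3))), ((nat_lit 4), (nat_lit 0x7dbfd0)), ((nat_lit 5), (bit (nat_lit 5)))]
noncomputable def d222 : List OD := [⟨[], [], []⟩,
 ⟨[], [], []⟩,
 ⟨[], [], []⟩,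
 ⟨[], [], []⟩,
 ⟨[], [], []⟩,
 ⟨[nat_lit 0, nat_lit 2, nat_lit 1, nat_lit 3], [dw (nat_lit 0x01), dw (nat_lit 0x03)], (dn (nat_lit 12) (nat_lit 0x1844842041c45845835045033c43c3104103))⟩,
 ⟨[], [], []⟩]
theorem k223 : ocChk (nat_lit 24) H14.M24c.nets F es c221 d222 [] = true := by decide +kernel
theorem o224 (M : PM G Ω 24 H14.M24c.nets) (hN : Nat.card G = 244823040) : OC M (sub M.gen es) [] c221 :=
  oc_of le_rfl k223
theorem es_low (M : PM G Ω 24 H14.M24c.nets) (hN : Nat.card G = 244823040) : 16 ≤ Nat.card (sub M.gen es) :=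
  (OC.le_card' (N := 16) (o224 M hN) (by decide +kernel))
noncomputable def v225 : List Word := [dw (nat_lit 0x05070b0d), dw (nat_lit 0x05070b), dw (nat_lit 0x05090b0d), dw (nat_lit 0x010307090b0d)]
theorem k226 : relK F bs0 (memRels q es v225) = true := by decide +kernel
theorem es_le (M : PM G Ω 24 H14.M24c.nets) (hN : Nat.card G = 244823040) : (sub M.gen es) ≤ (sub M.gen q) :=
  (sub_le_of_memRels (rels_base (base0 M hN) k226))
theorem k227 : relK F bs0 (List.map (fun a => (powW a 2, [])) es) = true := by decide +kernel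
theorem k228 : relK F bs0 (commR es es) = true := by decide +kernel
theorem es_el (M : PM G Ω 24 H14.M24c.nets) (hN : Nat.card G = 244823040) : Cfsg.IsElementaryAbelian 2 (sub M.gen es) :=
  (elem_of (rels_base (base0 M hN) k228) (rels_base (base0 M hN) k227))
noncomputable def ez : List Word := [w220, w219, w218, w217]
noncomputable def ews : List Word := List.append ez []
theorem k229 : nrmRow F bs0 ews (nat_lit 4) (nat_lit 0) (nat_lit 1) [[nat_lit 2],
 [nat_lit 4],
 [nat_lit 6]] (nat_lit 31) = true := by decide +kernel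
theorem k230 : nrmRow F bs0 ews (nat_lit 4) (nat_lit 1) (nat_lit 2) [[nat_lit 4],
 [nat_lit 6]] (nat_lit 31) = true := by decide +kernel
theorem k231 : nrmRow F bs0 ews (nat_lit 4) (nat_lit 2) (nat_lit 3) [[nat_lit 6]] (nat_lit 31) = true := by decide +kernel
theorem k232 : nrmRow F bs0 ews (nat_lit 4) (nat_lit 3) (nat_lit 4) [] (nat_lit 31) = true := by decide +kernel
noncomputable def enm : List Nat := [nat_lit 31, nat_lit 31, nat_lit 31, nat_lit 31]
theorem ehn (M : PM G Ω 24 H14.M24c.nets) (hN : Nat.card G = 244823040) : NrmL (loc M.gen ews) 4 0 enm :=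
  (nrm_cons (base0 M hN) k229 (nrm_cons (base0 M hN) k230 (nrm_cons (base0 M hN) k231 (nrm_cons (base0 M hN) k232 trivial))))
noncomputable def c233 : Chn := [((nat_lit 4), (nat_lit 0x7dbfd0))]
noncomputable def d234 : List OD := [⟨[nat_lit 1, nat_lit 3, nat_lit 0, nat_lit 2], [dw (nat_lit 0x01), dw (nat_lit 0x03)], (dn (nat_lit 12) (nat_lit 0x3442842444045845833c43c3504503104103))⟩]
theorem k235 : ocChk (nat_lit 24) H14.M24c.nets F ez c233 d234 [] = true := by decide +kernel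
theorem o236 (M : PM G Ω 24 H14.M24c.nets) (hN : Nat.card G = 244823040) : OC M (Nn (loc M.gen ews) 4 0) [] c233 :=
  oc_of (sub_le_Nn M.gen ez [] (m := 4) rfl) k235
theorem k237 : powChk F bs0 ews (nat_lit 2) (nat_lit 4) enm [[],
 [],
 [],
 []] = true := by decide +kernel
theorem epc (M : PM G Ω 24 H14.M24c.nets) (hN : Nat.card G = 244823040) : Pc (loc M.gen ews) 2 4 ∧ ∀ i ≤ 4, Nat.card (Nn (loc M.gen ews) 4 i) = 2 ^ (4 - i) :=
  pc_of (base0 M hN) (by norm_num) (ehn M hN) k237 (OC.le_card' (o236 M hN) (by decide +kernel))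
noncomputable def e : List Word := List.drop 0 ez
theorem e_card (M : PM G Ω 24 H14.M24c.nets) (hN : Nat.card G = 244823040) : Nat.card (sub M.gen e) = 2 ^ 4 :=
  Nn_eq_sub M.gen ez [] (m := 4) rfl 0 ▸ (epc M hN).2 0 (by decide)
noncomputable def v238 : List Word := [dw (nat_lit 0x07), dw (nat_lit 0x05), dw (nat_lit 0x03), dw (nat_lit 0x01)]
theorem k239 : relK F bs0 (memRels es e v238) = true := by decide +kernel
theorem e_le (M : PM G Ω 24 H14.M24c.nets) (hN : Nat.card G = 244823040) : (sub M.gen e) ≤ (sub M.gen es) :=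
  (sub_le_of_memRels (rels_base (base0 M hN) k239))
noncomputable def v240 : List (List Word) := [[dw (nat_lit 0x01), dw (nat_lit 0x03), dw (nat_lit 0x05), dw (nat_lit 0x07)],
 [dw (nat_lit 0x01), dw (nat_lit 0x03), dw (nat_lit 0x05), dw (nat_lit 0x07)],
 [dw (nat_lit 0x01), dw (nat_lit 0x03), dw (nat_lit 0x05), dw (nat_lit 0x07)],
 [dw (nat_lit 0x01), dw (nat_lit 0x03), dw (nat_lit 0x05), dw (nat_lit 0x07)]]
theorem k241 : relK F bs0 (nrR e e es v240) = true := by decide +kernel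
theorem e_nrm (M : PM G Ω 24 H14.M24c.nets) (hN : Nat.card G = 244823040) : (sub M.gen es) ≤ (Subgroup.normalizer (sub M.gen e : Set G)) :=
  (le_normalizer_of le_rfl (rels_base (base0 M hN) k241) (by decide +kernel))
noncomputable def g : Word := [nat_lit 1, nat_lit 10, nat_lit 5, nat_lit 1, nat_lit 4, nat_lit 0, nat_lit 2]
noncomputable def b : Word := [nat_lit 17, nat_lit 19]
noncomputable def v242 : List Word := [dw (nat_lit 0x01030b)]
theorem k243 : relK F bs0 (memRels q [b] v242) = true := by decide +kernel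
theorem b_le (M : PM G Ω 24 H14.M24c.nets) (hN : Nat.card G = 244823040) : sub M.gen [b] ≤ (sub M.gen q) :=
  (sub_le_of_memRels (rels_base (base0 M hN) k243))
theorem gz (M : PM G Ω 24 H14.M24c.nets) (hN : Nat.card G = 244823040) : ev M.gen g * ev M.gen z * (ev M.gen g)⁻¹ = ev M.gen b :=
  conj_base (F := F) (base0 M hN) _ _ _ (by decide +kernel)
theorem gb (M : PM G Ω 24 H14.M24c.nets) (hN : Nat.card G = 244823040) : ev M.gen g * ev M.gen b * (ev M.gen g)⁻¹ = ev M.gen z :=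
  conj_base (F := F) (base0 M hN) _ _ _ (by decide +kernel)
theorem bz (M : PM G Ω 24 H14.M24c.nets) (hN : Nat.card G = 244823040) : ev M.gen b ≠ ev M.gen z :=
  ne_base1 (F := F) (base0 M hN) (by decide +kernel)

end L.TvM24
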