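import Cfsg.Agent.H14.FixK
import Cfsg.Agent.L.Out2

/-! Words in elements of `Co0` evaluated on lattice vectors modulo 3 (`VM`, `runV`): relations
(`VM.rel`), non-relations modulo the centre (`VM.kill`), monomial elements (`VM.mon`), enumeration of
centralisers (`VM.cent`). -/

set_option autoImplicit false

namespace H14
open Cfsg MulAction Finset H18

def r3 (m q : Nat) : Nat := Nat.mod (byt m q) 3
noncomputable def red3 (m : Nat) : Nat := H15.pack 8 (r3 m) 24

/-- The bytes of `m` are the coordinates of `x` modulo 3. -/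
def Rv3 (x : Λ) (m : ℕ) : Prop := ∀ p, ((x.1 p : ℤ) : ZMod 3) = (byt m (gi p) : ℕ)

/-- The columns of the matrix of `g` modulo 3. -/
def Col (g : Co0) (C : List ℕ) : Prop := C.length = 24 ∧ ∀ q, red3 (getL 0 C (gi q)) = getL 0 C (gi q) ∧
  ∀ p, (((g • fr q : Λ).1 p : ℤ) : ZMod 3) = 8 * (byt (getL 0 C (gi q)) (gi p) : ℕ)

noncomputable def vstep (C : List Nat) : Nat → Nat :=
  @List.rec Nat (fun _ => Nat → Nat) (fun _ => 0)
    (fun c _ ih m => Nat.add (Nat.mul (Nat.mod (Nat.mod m 256) 3) c)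
      ((fun y => frc y (ih y)) (Nat.shiftRight m 8))) C

theorem vstep_eq (C : List ℕ) (m : ℕ) :
    vstep C m = ∑ q ∈ range C.length, r3 m q * getL 0 C q := by
  induction C generalizing m with
  | nil => rfl
  | cons c C ih =>
    have e : vstep (c :: C) m = m % 256 % 3 * c + vstep C (m >>> 8) :=
      congrArg (m % 256 % 3 * c + ·) (frc_eq _ _)
    rw [e, ih, List.length_cons, sum_range_succ', add_comm]
    congr 1
    refine sum_congr rfl fun q _ => ?_
    congr 1
    show m >>> 8 >>> (8 * q) % 256 % 3 = m >>> (8 * (q + 1)) % 256 % 3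
    rw [← Nat.shiftRight_add]; congr 3; ring

theorem sum_pack {ι : Type*} (s : Finset ι) (a : ι → ℕ) (f : ι → ℕ → ℕ) (n : ℕ) :
    ∑ q ∈ s, a q * H15.pack 8 (f q) n = H15.pack 8 (fun p => ∑ q ∈ s, a q * f q p) n := by
  induction n with
  | zero => exact sum_eq_zero fun _ _ => rfl
  | succ n ih =>
    simp only [H15.pack_succ, ← ih, mul_add, sum_add_distrib, sum_mul, mul_assoc]

theorem byt_pack {f : ℕ → ℕ} (h : ∀ t, f t < 256) {t : ℕ} (ht : t < 24) :
    byt (H15.pack 8 f 24) t = f t := H15.fld_pack (W := 8) h ht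

theorem r3_le (m q : ℕ) : r3 m q ≤ 2 := Nat.le_of_lt_succ (Nat.mod_lt _ (by norm_num))
theorem cast_r3 (m q : ℕ) : (r3 m q : ZMod 3) = (byt m q : ℕ) := ZMod.natCast_mod _ 3

theorem Rv3.step {g : Co0} {C : List ℕ} (h : Col g C) {x : Λ} {m : ℕ} (hx : Rv3 x m) :
    Rv3 (g • x) (vstep C m) := fun p => by
  have e1 : vstep C m = H15.pack 8 (fun t => ∑ q : GolayPt, r3 m (gi q) * r3 (getL 0 C (gi q)) t) 24 := by
    rw [vstep_eq, h.1, ← sum_gi, ← sum_pack]
    exact sum_congr rfl fun q _ => by rw [← red3, (h.2 q).1]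
  rw [e1, byt_pack (fun t => lt_of_le_of_lt (sum_le_card_nsmul _ _ 4 fun q _ =>
    Nat.mul_le_mul (r3_le _ _) (r3_le _ _)) (by decide)) (gi_lt p)]
  have e2 := congrArg (fun y : Λ => ((g • y : Λ).1 p : ZMod 3)) (eight_smul_eq x)
  simp only [smul_zsmul, smul_sum] at e2
  simp only [AddSubgroup.coe_zsmul, AddSubgroup.val_finsetSum, Pi.smul_apply, Finset.sum_apply,
    smul_eq_mul, Int.cast_mul, Int.cast_sum, (h.2 _).2, hx _] at e2
  push_cast
  simp only [cast_r3]
  refine mul_left_cancel₀ (a := (8 : ZMod 3)) (by decide) ?_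
  rw [mul_sum]
  exact e2.trans (sum_congr rfl fun q _ => by ring)

/-- The canonical code of a vector. -/
noncomputable def code3 (x : Λ) : ℕ := H15.pack 8 (fun i => ((x.1 (gp i) : ℤ) : ZMod 3).val) 24

theorem pack8_congr {f g : ℕ → ℕ} {n : ℕ} (h : ∀ i < n, f i = g i) : H15.pack 8 f n = H15.pack 8 g n := by
  induction n with
  | zero => rfl
  | succ n ih => rw [H15.pack_succ, H15.pack_succ, ih fun i hi => h i (by omega), h n (by omega)]

theorem Rv3.red {x : Λ} {m : ℕ} (h : Rv3 x m) : red3 m = code3 x := pack8_congr fun i hi => by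
  rw [h, gi_gp _ hi, ZMod.val_natCast]; rfl

theorem eq_of_code3 {x y : Λ} (hx : sqNorm x.1 ≤ 64) (hy : sqNorm y.1 ≤ 64) (h : code3 x = code3 y) :
    x = y := eq_of_mod3 hx hy fun p => by
  have h1 := congrArg (byt · (gi p)) h
  have l : ∀ a : ZMod 3, a.val < 256 := by decide
  simp only [code3, byt_pack (fun _ => l _) (gi_lt p), gp_gi] at h1
  exact (ZMod.intCast_eq_intCast_iff_dvd_sub _ _ 3).1 (ZMod.val_injective _ h1).symm

noncomputable def colB1 (F : Nat → Nat → Int) (C : List Nat) : Bool :=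
  Nat.beq C.length 24 && allLt (fun q => Nat.beq (red3 (getL 0 C q)) (getL 0 C q) && allLt (fun p =>
    eqZ (Int.emod (Int.sub (F p q) (Int.ofNat (Nat.mul 8 (byt (getL 0 C q) p)))) 3) 0) 24) 24
noncomputable def colB (F : Nat → Nat → Int) (C C' : List Nat) : Bool :=
  colB1 F C && colB1 (fun p q => F q p) C'

theorem col_of1 {g : Co0} {F : ℕ → ℕ → ℤ} (hg : ∀ q p, (g • fr q : Λ).1 p = F (gi p) (gi q))
    {C : List ℕ} (h : colB1 F C = true) : Col g C := by
  rw [colB1, Bool.and_eq_true] at h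
  refine ⟨Nat.eq_of_beq_eq_true h.1, fun q => ?_⟩
  have h1 := all24 h.2 q
  rw [Bool.and_eq_true] at h1
  refine ⟨Nat.eq_of_beq_eq_true h1.1, fun p => ?_⟩
  have h2 : (F (gi p) (gi q) - (8 * byt (getL 0 C (gi q)) (gi p) : ℕ)) % 3 = 0 :=
    of_decide_eq_true (all24 h1.2 p)
  have := (ZMod.intCast_eq_intCast_iff_dvd_sub _ _ 3).2 (Int.dvd_of_emod_eq_zero h2)
  rw [hg, ← this]; push_cast; rfl

theorem inv_fr (g : Co0) (p q : GolayPt) : (g⁻¹ • fr q : Λ).1 p = (g • fr p : Λ).1 q := by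
  have := dot_smul g (fr p) (g⁻¹ • fr q)
  rw [smul_inv_smul, dot_fr, dot_comm, dot_fr] at this
  omega

noncomputable def idC : List Nat := List.map (fun q => Nat.shiftLeft 1 (Nat.mul 8 q)) (List.range 24)

/-- A machine: the columns of all letters. -/
def VM (gs : List Co0) (L : List (List ℕ)) : Prop := ∀ a, Col (letter (getL 1 gs) a) (getL idC L a)

theorem col_one : Col 1 idC := col_of1 (F := fun p q => ite' (Nat.beq p q) 8 0)
  (fun q p => by rw [one_smul, ite'_beq, fr_apply]) (by decide +kernel)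

theorem vm_nil : VM [] [] := fun a => by
  unfold letter; simp only [getL_nil, inv_one, ite_self]; exact col_one

theorem VM.cons {gs : List Co0} {L : List (List ℕ)} (h : VM gs L) {g : Co0} {F : ℕ → ℕ → ℤ}
    (hg : ∀ q p, (g • fr q : Λ).1 p = F (gi p) (gi q)) {C C' : List ℕ} (hc : colB F C C' = true) :
    VM (g :: gs) (C :: C' :: L) := by
  rw [colB, Bool.and_eq_true] at hc
  intro a
  rcases a with _ | _ | a
  · exact col_of1 hg hc.1
  · exact col_of1 (g := g⁻¹) (fun q p => by rw [inv_fr, hg]) hc.2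
  · have := h a
    unfold letter at this ⊢
    rwa [show a + 1 + 1 = a + 2 from rfl, Nat.add_mod_right, Nat.add_div_right _ two_pos]

noncomputable def permF (T p q : Nat) : Int := ite' (Nat.beq p (byt T q)) 8 0
noncomputable def sgnF (c p q : Nat) : Int := ite' (Nat.beq p q) (ite' (tb c p) (-8) 8) 0
noncomputable def matF (R : List Nat) (p q : Nat) : Int := bv (getL 0 R p) q

theorem IsTab.permF {σ : M24} {T : ℕ} (h : IsTab σ T) (q p : GolayPt) :
    (permH σ • fr q : Λ).1 p = permF T (gi p) (gi q) := by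
  rw [permH_fr, H14.permF, ← h q, ite'_beq, fr_apply]

theorem sgn_sgnF {c : ℕ} (hc : bset c ∈ GC) (q p : GolayPt) :
    (sgn _ hc • fr q : Λ).1 p = sgnF c (gi p) (gi q) := by
  rw [sgn_apply, sgnF, ite'_beq, fr_apply, tb_eq]
  simp only [mem_bset]
  cases c.testBit (gi p) <;> split_ifs <;> simp_all [ite']

theorem coOf_matF {R : List ℕ} (h : coChk R = true) (q p : GolayPt) :
    (coOf R h • fr q : Λ).1 p = matF R (gi p) (gi q) := coOf_fr h q p

noncomputable def runV (L : List (List Nat)) (w : Word) : Nat → Nat :=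
  @List.rec Nat (fun _ => Nat → Nat) (fun m => m)
    (fun a _ ih m => (fun y => frc y (ih y)) (vstep (getL idC L a) m)) w
noncomputable def evV (L : List (List Nat)) (w : Word) (m : Nat) : Nat :=
  (fun y => frc y (red3 y)) (runV L w m)
def e2 (q : Nat) : Nat := Nat.shiftLeft 2 (Nat.mul 8 q)
def e1 (q : Nat) : Nat := Nat.shiftLeft 1 (Nat.mul 8 q)
noncomputable def relV (L : List (List Nat)) (w : Word) : Bool :=
  allLt (fun q => Nat.beq (evV L w (e2 q)) (e2 q)) 24
noncomputable def killV (L : List (List Nat)) (m m' : Nat) (w : Word) : Bool :=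
  (fun y => !Nat.beq y m && !Nat.beq y m') (evV L w m)
noncomputable def monV (L : List (List Nat)) (w : Word) (q : Nat) : Bool :=
  Nat.ble (Nat.succ q) 24 && (fun y => Nat.beq y (e2 q) || Nat.beq y (e1 q)) (evV L w 2)

theorem rp_fr (q : GolayPt) : Rv3 (fr q) (e2 (gi q)) := by
  intro p; rw [fr_apply]; revert p q; decide +kernel
theorem code_fr (q : GolayPt) : code3 (fr q) = e2 (gi q) := by
  rw [← (rp_fr q).red]; revert q; decide +kernel
theorem code_nfr (q : GolayPt) : code3 (-fr q) = e1 (gi q) := by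
  have : Rv3 (-fr q) (e1 (gi q)) := by
    intro p; rw [AddSubgroup.coe_neg, Pi.neg_apply, fr_apply]; revert p q; decide +kernel
  rw [← this.red]; clear this; revert q; decide +kernel

/-- The codes of `x` and `-x`. -/
structure PMv (x : Λ) (m m' : ℕ) : Prop where
  rv : Rv3 x m
  c : code3 x = m
  c' : code3 (-x) = m'

noncomputable def pmB (y m m' : Nat) : Bool :=
  leechB (bv y) && (Nat.beq (red3 m) m && (Nat.beq (red3 m') m' && allLt (fun p =>
    eqZ (Int.emod (Int.sub (bv y p) (Int.ofNat (byt m p))) 3) 0 &&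
    eqZ (Int.emod (Int.sub (Int.neg (bv y p)) (Int.ofNat (byt m' p))) 3) 0) 24))

theorem exists_pmv {y m m' : ℕ} (h : pmB y m m' = true) : ∃ x, PMv x m m' := by
  simp only [pmB, Bool.and_eq_true, Nat.beq_eq] at h
  have h1 := fun p => Bool.and_eq_true_iff.1 (all24 h.2.2.2 p)
  have h2 : Rv3 (lv y h.1) m := fun p => ((ZMod.intCast_eq_intCast_iff_dvd_sub _ _ 3).2
    (Int.dvd_of_emod_eq_zero (of_decide_eq_true (h1 p).1))).symm.trans (Int.cast_natCast _)
  have h3 : Rv3 (-lv y h.1) m' := fun p => ((ZMod.intCast_eq_intCast_iff_dvd_sub _ _ 3).2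
    (Int.dvd_of_emod_eq_zero (of_decide_eq_true (h1 p).2))).symm.trans (Int.cast_natCast _)
  exact ⟨_, h2, h2.red ▸ h.2.1, h3.red ▸ h.2.2.1⟩

/-- The images in `Co1`. -/
noncomputable def gq (gs : List Co0) (l : ℕ) : Spor.Co1 := (getL 1 gs l : Co0)

theorem ev_gq (gs : List Co0) (w : Word) : ev (gq gs) w = (ev (getL 1 gs) w : Co0) :=
  (map_ev (QuotientGroup.mk' (Subgroup.center Co0)) w).symm

noncomputable def relsV (L : List (List Nat)) (k : Nat) (Rs : List Word) : Bool :=
  Rs.all fun r => _root_.L.allL (fun a => Nat.ble (Nat.succ (Nat.div a 2)) k) r && relV L r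
noncomputable def killsV (L : List (List Nat)) (m m' : Nat) (Rs vs : List Word) : Bool :=
  Rs.any fun r => killV L m m' (flat vs r)

namespace VM
variable {gs : List Co0} {L : List (List ℕ)} (V : VM gs L)
include V

theorem run (w : Word) {x : Λ} {m : ℕ} (hx : Rv3 x m) : Rv3 (ev (getL 1 gs) w • x) (runV L w m) := by
  induction w generalizing x m with
  | nil => rwa [ev_nil, one_smul]
  | cons a w ih =>
    have e : runV L (a :: w) m = runV L w (vstep (getL idC L a) m) := frc_eq _ _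
    rw [e, ev_cons, mul_smul]
    exact ih (hx.step (V a))

theorem evV_eq (w : Word) {x : Λ} {m : ℕ} (hx : Rv3 x m) :
    evV L w m = code3 (ev (getL 1 gs) w • x) := (frc_eq _ _).trans (V.run w hx).red

theorem rel {w : Word} (h : relV L w = true) : ev (getL 1 gs) w = 1 :=
  eq_one_of_fix_frame fun q => eq_of_code3 (by rw [sqNorm_smul, norm_fr]) (norm_fr q).le (by
    rw [← V.evV_eq w (rp_fr q), code_fr]; exact Nat.eq_of_beq_eq_true (all24 h q))

theorem kill {x : Λ} {m m' : ℕ} (X : PMv x m m') {w : Word} (h : killV L m m' w = true) :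
    ev (gq gs) w ≠ 1 := fun e => by
  have h1 := V.evV_eq w X.rv
  simp only [killV, Bool.and_eq_true, Bool.not_eq_true'] at h
  rcases mem_center_Co0.1 ((QuotientGroup.eq_one_iff _).1 (ev_gq gs w ▸ e)) with e | e
  · rw [e, one_smul, X.c] at h1
    exact Nat.ne_of_beq_eq_false h.1 h1
  · rw [e, negOne_smul, X.c'] at h1
    exact Nat.ne_of_beq_eq_false h.2 h1

theorem kills {x : Λ} {m m' : ℕ} (X : PMv x m m') {k : ℕ} {Rs vs : List Word}
    (hR : relsV L k Rs = true) {β : MulAut Spor.Co1} (h : ∀ l < k, β (gq gs l) = _root_.L.loc (gq gs) vs l) :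
    killsV L m m' Rs vs ≠ true := fun hk => by
  obtain ⟨r, hr, h1⟩ := List.any_eq_true.1 hk
  have h2 := Bool.and_eq_true_iff.1 (List.all_eq_true.1 hR r hr)
  refine V.kill X h1 ((_root_.L.map_ev_lt (φ := β.toMonoidHom) h h2.1).symm.trans ?_)
  rw [ev_gq, V.rel h2.2]; exact map_one _

theorem mon {w : Word} {q : ℕ} (h : monV L w q = true) : ev (getL 1 gs) w ∈ Mon := by
  have h1 : evV L w 2 = _ := V.evV_eq w (rp_fr (gp 0))
  simp only [monV, Bool.and_eq_true, Bool.or_eq_true, Nat.ble_eq, h1] at h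
  have hn : sqNorm (ev (getL 1 gs) w • fr (gp 0) : Λ).1 ≤ 64 := by rw [sqNorm_smul, norm_fr]
  refine (mem_Mon_iff_E2 (gp 0)).2 (E2_fr_of (q := gp q) (h.2.imp (fun e => ?_) fun e => ?_))
  · exact eq_of_code3 hn (norm_fr _).le (by rw [code_fr, gi_gp _ h.1]; exact Nat.eq_of_beq_eq_true e)
  · exact eq_of_code3 hn (by rw [AddSubgroup.coe_neg, sqNorm_neg, norm_fr])
      (by rw [code_nfr, gi_gp _ h.1]; exact Nat.eq_of_beq_eq_true e)

/-- A subgroup of order at most `E.length` that contains the distinct elements `E`. -/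
theorem enum {H : Subgroup Co0} {E : List Word} (h1 : Nat.card H ≤ E.length)
    (h2 : ∀ t ∈ E, ev (getL 1 gs) t ∈ H) {x : Λ} {m : ℕ} (hx : Rv3 x m)
    (h3 : (E.map fun t => evV L t m).Nodup) {g : Co0} (hg : g ∈ H) : ∃ t ∈ E, ev (getL 1 gs) t = g := by
  classical
  have h4 : (E.map (ev (getL 1 gs))).Nodup := (List.pairwise_map.2 ((List.pairwise_map.1 h3).imp
    fun {a b} h e => h (by rw [V.evV_eq a hx, V.evV_eq b hx, e])))
  have h5 : ((E.map (ev (getL 1 gs))).toFinset : Set Co0) = H :=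
    Set.eq_of_subset_of_ncard_le (fun a ha => by
      obtain ⟨t, ht, rfl⟩ := List.mem_map.1 (List.mem_toFinset.1 ha); exact h2 t ht)
      (by rw [Set.ncard_coe_finset, List.toFinset_card_of_nodup h4, List.length_map]; exact h1)
  exact List.mem_map.1 (List.mem_toFinset.1 (h5.ge hg))

/-- The centraliser in `Co1` of an element of odd order. -/
theorem cent {a : Co0} {p j : ℕ} (hp : Odd p) (ha : a ^ p = 1) {E : List Word}
    (h1 : Nat.card C1(a) ≤ 2 * E.length) (h2 : ∀ t ∈ E, ev (getL 1 gs) t ∈ C1(a))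
    (hj : getL 1 gs j = negOne) {x : Λ} {m : ℕ} (hx : Rv3 x m)
    (h3 : ((E ++ E.map (2 * j :: ·)).map fun t => evV L t m).Nodup) {g : Spor.Co1}
    (hg : g * a = a * g) : ∃ t ∈ E, g = ev (gq gs) t := by
  obtain ⟨g, rfl⟩ := QuotientGroup.mk_surjective g
  have e : ∀ t, ev (getL 1 gs) (2 * j :: t) = ev (getL 1 gs) t * negOne := fun t => by
    rw [← hj, ← ev_single (getL 1 gs) j, ← ev_append]; rfl
  have hc : g ∈ C1(a) := Subgroup.mem_centralizer_singleton_iff.2 <|
    ((mk_eq_mk_Co1 (g := g * a) (h := a * g)).1 hg).elim Eq.symm fun h => by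
      have h4 : (g⁻¹ * a * g) ^ p = (a * negOne) ^ p := by
        rw [mul_assoc, h, mul_assoc, inv_mul_cancel_left]
      obtain ⟨k, rfl⟩ := hp
      rw [← inv_inv g, inv_inv g⁻¹, conj_pow, ha, Commute.mul_pow (negOne_comm a), ha, pow_succ, pow_mul, sq,
        show negOne * negOne = 1 from sgn_mul_self _] at h4
      exact absurd (by simpa using h4.symm) negOne_ne_one
  obtain ⟨t, ht, e1⟩ := V.enum (E := E ++ E.map (2 * j :: ·)) (by simp; omega) (fun t ht => by
    rcases List.mem_append.1 ht with h | h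
    · exact h2 t h
    · obtain ⟨t, h', rfl⟩ := List.mem_map.1 h
      exact e t ▸ mul_mem (h2 t h') (Subgroup.mem_centralizer_singleton_iff.2 (negOne_comm a).symm))
    hx h3 hc
  rcases List.mem_append.1 ht with h | h
  · exact ⟨t, h, by rw [ev_gq, e1]⟩
  · obtain ⟨t, h', rfl⟩ := List.mem_map.1 h
    exact ⟨t, h', by rw [ev_gq]; exact (mk_eq_mk_Co1.2 (Or.inr (e1 ▸ e t))).symm⟩

end VM

/-- A subgroup containing the monomial group and Conway's element is everything. -/
theorem eq_top_of_Mon {X : Subgroup Co0} (h1 : Mon ≤ X) (h2 : coOf _ LB.co3 ∈ X) : X = ⊤ := by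
  have h3 : sub bg (lets 5) ≤ X := sub_lets_le fun l hl => by
    interval_cases l
    · exact h1 (coOf_perm LB.co0 (by decide +kernel) (Pe.spec 0) ▸ permH_mem _ :)
    · exact h1 (coOf_perm LB.co1 (by decide +kernel) (Pe.spec 1) ▸ permH_mem _ :)
    · exact h1 (coOf_sgn LB.co2 (c := 0x200f68) (by decide +kernel)
        (bset_mem_octads (by decide +kernel)).1 ▸ Sg_le_Mon (sgn_mem_Sg _) :)
    · exact h2
    · exact h1 (coOf_perm LB.co4 (by decide +kernel) (Pe.spec 2) ▸ permH_mem _ :)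
  refine eq_top_iff.2 fun g _ => ?_
  obtain ⟨a, ha, e1⟩ := min_std ((sqNorm_smul g U).trans norm_U)
  have e2 : (a⁻¹ * g) • U = U := by rw [mul_smul, ← e1, inv_smul_smul]
  obtain ⟨b, hb, e3⟩ := cls_trans0 ((sqNorm_smul (a⁻¹ * g) U').trans norm_U') norm_U'
    (dot_smul_of_fix e2 U')
  have e4 : b * (a⁻¹ * g) ∈ stabilizer Co0 (fr none) := by
    rw [mem_stabilizer_iff, show fr none = U + U' by decide +kernel, smul_add, mul_smul, mul_smul b, e2, e3,
      bg_le_C2 hb]
  exact (mul_mem_cancel_left (inv_mem (h3 ha))).1 ((mul_mem_cancel_left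
    (h3 (sub_lets_le (fun l hl => gen_mem_lets (by omega)) hb))).1 (h1 (stab_fr_le _ e4)))

end H14
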