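import Cfsg.Agent.H14.Dw2

/-! Generated certificate (tools14/pkgen) for the permutation group XE of degree 506, order 20891566080, base 0 12 4 36 2 14 40 66 104 160 240. -/
set_option autoImplicit false
set_option maxRecDepth 100000
set_option maxHeartbeats 0

namespace H14.XE
open H14

noncomputable def n0 : Net := (.cons (nat_lit 2) (nat_lit 0x330330303303333033003333033300333330333330300030003330303000033303000333030033030330030330003003003030000300300003000333000300)
(.cons (nat_lit 4) (nat_lit 0xf0000030f0f0f0f0c030c00030f000f0c00030c000c03030c0c0c0f00030f000c0c0f0f03030300000c03030c0c00030c0f00000c0f000300000003030f00)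
(.cons (nat_lit 8) (nat_lit 0x30033000f000c00f0000000c0003f000c000000f3003f003c0000000300030030003f003000c30000000c00ff00300033003f0030000f00f0000300c00000)
(.cons (nat_lit 16) (nat_lit 0x3cc0000f0fc0000f03f0000c03300000330000033300000f0cc0000f3000000cff000003ccf00003f0c0000cc0c00000cf30000ffff00003c300000c000)
(.cons (nat_lit 32) (nat_lit 0x3cc0ccf00000000c3ff3ff0000000000c3ccc3f000000000fc3f00c0000000003f00f0f000000000cffc00300000000cf030c0300000000fc000000)
(.cons (nat_lit 64) (nat_lit 0xcf3c3fcc0303cc000000000000000000f30fc33330cc0c00000000000000003303c0033000c0c000000000000000000c00000000000000)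
(.cons (nat_lit 128) (nat_lit 0xc000f300033f003c3330003033cf000000000000000000000000000000000030000000000000000000000000000000)
(.cons (nat_lit 256) (nat_lit 0x300f3fcfff33303cccfcc30fc03fc33ffcc003f000cccfcfff3c0cf0fccc3)
(.cons (nat_lit 128) (nat_lit 0xffccf333cfc330ffcc3c330003fcff00000000000000000000000000000000000fc0c30c0cc0c30c3303ccc3300000)
(.cons (nat_lit 64) (nat_lit 0xf0f0f333cfff000000000000000000c30cfc330f0033c000000000000000000ccf3030cff0cfff00000000000000000fcc0f30cf00f3ff)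
(.cons (nat_lit 32) (nat_lit 0x3ff03fc00000000ccf0f0c0000000003f300c0f00000000f30fcccc00000000c3fc0f0000000000333303cc000000000c3c033300000000cc3fcf03)
(.cons (nat_lit 16) (nat_lit 0x30000fc3000003f0f0000ccf000000c3f00003f3300003cc3000003c000000fc300003cf00000ff0c0000fccf0000fcff00003fff0000c0cf0000f000)
(.cons (nat_lit 8) (nat_lit 0x300c300cc00cf003f000f000000f3003f000000f300fc00cc00f300c00003003f00cc000000330033003300fc000000c0003000f000f3000f00c300c000f3)
(.cons (nat_lit 4) (nat_lit 0x3030f03000f0c030f0c0c000f00000303030c030c0c00030c0f00030f000f0c000f0f030000030c00030c03030c0c0f0300030f03000f0f030f00030f0303)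
(.cons (nat_lit 2) (nat_lit 0x3000333300003000300333300303333330030030300330033300003030330333033033300330000033003330303030003030333330033333303000330033)
(.cons (nat_lit 1) (nat_lit 0x100000000040000000000000000000000000000000000000000000000000000000000000000000000000000000000000000000000)
.nil))))))))))))))))
theorem n0_ok : Net.ok 506 n0 = true := by decide +kernel
noncomputable def n1 : Net := (.cons (nat_lit 2) (nat_lit 0x303330033033300033003003000033300330000030300033330030330030000000033303300333303000003300300330333300003000000000303333003303)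
(.cons (nat_lit 4) (nat_lit 0x30f0303000f0f00000c0f0c03000c0c030f0c0000030f0f0300000f0c000f0f0c03030c0f00000c0c0f0f03030c030303030300000f0f0303000003000000)
(.cons (nat_lit 8) (nat_lit 0x3300c00000000c00cf00fc00cc0000003c000c0003003300fc00fc000300fc003c00ff00cc00f000c300c300ff00c000c000cc00c300030030000c0000)
(.cons (nat_lit 16) (nat_lit 0xc000030f00000c3c00000cf0000000f030000cf0c0000fcf0000003c0000000fc000003ff000033c00000c0330000ff0300000f300000c03f00000000)
(.cons (nat_lit 32) (nat_lit 0x3003cf000000000033cffc300000000c0f300c300000000f00000c00000000003f3ff3c00000000fc3c30f30000000000c00ffc0000000030000000)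
(.cons (nat_lit 64) (nat_lit 0x300330c03ffc00000000000000003c033c03c3cfcc000000000000000000f030f003c000300c00000000000000000000000000000000)
(.cons (nat_lit 128) (nat_lit 0x3c0fcf0fc300f000ffc000000fcfc3c0000000000000000000000000000000030000000000000000000000000000000)
(.cons (nat_lit 256) (nat_lit 0x330300f3cccc3c0ffff3330ffc0c00cf0cfcffcc3fffcffc0003c0f033c3c33)
(.cons (nat_lit 128) (nat_lit 0x30fcc0cf3c00333cc3cffffc3f3ffc3000000000000000000000000000000003f0ff03ffccc000c333f3c333ff03fcf)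
(.cons (nat_lit 64) (nat_lit 0x30cf0f000f00f000000000000000000fc3303f0000c33330000000000000000f00cfc33c003c30f000000000000000000f3cc3ffcfcc0f3)
(.cons (nat_lit 32) (nat_lit 0x30cf03f00000000cff3cf33000000000ffc3cf300000000fcfcf30c000000003f3cf0cc000000003f30303f00000000cfc03cc300000000ff3fccc0)
(.cons (nat_lit 16) (nat_lit 0xc0000033f0000033f00003cfc0000c0c30000fcff00000c300000ff030000c300000000000000f3c30000030f0000f03c00000cc00000c3c300000c33)
(.cons (nat_lit 8) (nat_lit 0x300cf00cc00f30030003c00c3003f00fc00030000003c00fc0000003c0000000f003000c3003c00c300cc000f003f00f300cf00f000c300ff003300c3000f)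
(.cons (nat_lit 4) (nat_lit 0xf03000c0c0f030c0c0300030c0c0c000c00000f0f0c0003030f0000000c030f0f030c030c0c0c030003030c0f0c030f0f0c0f0c0c0c0f0c000f0003000f0f)
(.cons (nat_lit 2) (nat_lit 0x300003303033033000300303333300333303303333030000333003300033000030000330303300300003303003330033003303003000300303033330030)
(.cons (nat_lit 1) (nat_lit 0x10010145000404141055400400151005500150000110400055040444545440014400050015150411410401440140405401054454044114100100545141100)
.nil))))))))))))))))
theorem n1_ok : Net.ok 506 n1 = true := by decide +kernel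
noncomputable def n2 : Net := (.cons (nat_lit 1) (nat_lit 0x1544545505545514551515541154551515015111554545455511441545445515504551544504554554150541514514551115155454510451154410545511144)
.nil)
theorem n2_ok : Net.ok 506 n2 = true := by decide +kernel
noncomputable def n3 : Net := (.cons (nat_lit 1) (nat_lit 0x555515445455511454445505545155115150545544551150455455145511541541154514455455445450451555155141444544554145044551411514451441)
.nil)
theorem n3_ok : Net.ok 506 n3 = true := by decide +kernel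
noncomputable def n4 : Net := (.cons (nat_lit 1) (nat_lit 0x1545115551154145554514515551451445154414551515145554451514544541154155541515515051111155145515054150511551541045545445444505414)
.nil)
theorem n4_ok : Net.ok 506 n4 = true := by decide +kernel
noncomputable def n5 : Net := (.cons (nat_lit 1) (nat_lit 0x1155455145151554514505455455115444455144555550451515145415151144554515154454505505145154455550554410515544544511511445511504141)
.nil)
theorem n5_ok : Net.ok 506 n5 = true := by decide +kernel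
noncomputable def n6 : Net := (.cons (nat_lit 1) (nat_lit 0x1154555550454551541455055514445451155145455145145455115540551414554445554515055510445154515545154145045511544511544115511051414)
.nil)
theorem n6_ok : Net.ok 506 n6 = true := by decide +kernel
noncomputable def n7 : Net := (.cons (nat_lit 1) (nat_lit 0x1514551455151505545155514455454151415505115555051544551551114454505454545551514504515415154451550505445445054155145055054540550)
.nil)
theorem n7_ok : Net.ok 506 n7 = true := by decide +kernel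
noncomputable def n8 : Net := (.cons (nat_lit 1) (nat_lit 0x1451555515054515115545550511510551550155151541555155045150515155015511515155155415015505115145415501554545401555015501550155500)
.nil)
theorem n8_ok : Net.ok 506 n8 = true := by decide +kernel
noncomputable def n9 : Net := (.cons (nat_lit 1) (nat_lit 0x1455445451545455544454554451545514541115445515415545455511450115451514551511541555404545544544504455154114515105155145145510411)
.nil)
theorem n9_ok : Net.ok 506 n9 = true := by decide +kernel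
noncomputable def n10 : Net := (.cons (nat_lit 1) (nat_lit 0x1515145155415555150555444545401155445455450554551151514555554051510555105550451111555445501454145551414455455415450554504140505)
.nil)
theorem n10_ok : Net.ok 506 n10 = true := by decide +kernel
noncomputable def n11 : Net := (.cons (nat_lit 1) (nat_lit 0x1515415514554454455151545554504545551401555111555054554451055555140554055155415154541504545115515514055050151554541504150154055)
.nil)
theorem n11_ok : Net.ok 506 n11 = true := by decide +kernel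
noncomputable def n12 : Net := (.cons (nat_lit 1) (nat_lit 0x555551111555445511511154505555514514445551055415550155445505445451451151445551555451015551151051455151441515110455145145045144)
.nil)
theorem n12_ok : Net.ok 506 n12 = true := by decide +kernel
noncomputable def n13 : Net := (.cons (nat_lit 1) (nat_lit 0x1545450555415555405555111550154415445455145154544551544555554504045555450545104451555445454101545551441155455415450551051415050)
.nil)
theorem n13_ok : Net.ok 506 n13 = true := by decide +kernel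
noncomputable def n14 : Net := (.cons (nat_lit 1) (nat_lit 0x1455151544551155451451551155515050544511555454154545115115145515111545511451154155144515051554511154455151114445415114415445111)
.nil)
theorem n14_ok : Net.ok 506 n14 = true := by decide +kernel
noncomputable def n15 : Net := (.cons (nat_lit 1) (nat_lit 0x555544554155154145154451515155154111455515504545105555055541451445505445545451445554111551551445544115115450154104554451414505)
.nil)
theorem n15_ok : Net.ok 506 n15 = true := by decide +kernel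
noncomputable def n16 : Net := (.cons (nat_lit 1) (nat_lit 0x1541555054551451155554145155054545504155415451554514554504455550415151455554145154514054550455515041550505151554514051405154055)
.nil)
theorem n16_ok : Net.ok 506 n16 = true := by decide +kernel
noncomputable def n17 : Net := (.cons (nat_lit 1) (nat_lit 0x1511554541545151515551415444551541501554545445555441511455415150155455415154550541501551445445455015551515005541501550155001555)
.nil)
theorem n17_ok : Net.ok 506 n17 = true := by decide +kernel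
noncomputable def n18 : Net := (.cons (nat_lit 1) (nat_lit 0x1155154415545545055145155141545540055555154415515415550154155005555145155141545540055555415415400555505500555540055550000555555)
.nil)
theorem n18_ok : Net.ok 506 n18 = true := by decide +kernel
noncomputable def n19 : Net := (.cons (nat_lit 1) (nat_lit 0x1454514155515540555540555015540015555554514155514155505554000555555540555015540015555550155400155555500055555540000005555555555)
.nil)
theorem n19_ok : Net.ok 506 n19 = true := by decide +kernel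
noncomputable def n20 : Net := (.cons (nat_lit 1) (nat_lit 0x1151501555515015555015555000015555555551501555501555500001555555555015555000015555555550000155555555500000000015555555555555555)
.nil)
theorem n20_ok : Net.ok 506 n20 = true := by decide +kernel
noncomputable def n21 : Net := (.cons (nat_lit 1) (nat_lit 0x550055555500555555000000555555555555550055555500000055555555555555000000555555555555550000000000000055555555555555555555555555)
.nil)
theorem n21_ok : Net.ok 506 n21 = true := by decide +kernel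
noncomputable def n22 : Net := (.cons (nat_lit 1) (nat_lit 0x5555555500000000555555555555555555550000000055555555555555555555000000000000000000005555555555555555555555555555555555555555)
.nil)
theorem n22_ok : Net.ok 506 n22 = true := by decide +kernel
noncomputable def n23 : Net := (.cons (nat_lit 1) (nat_lit 0x55555555555555555555555555550000000000000000000000000000555555555555555555555555555555555555555555555555555555555555)
.nil)
theorem n23_ok : Net.ok 506 n23 = true := by decide +kernel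
noncomputable def n24 : Net := (.cons (nat_lit 1) (nat_lit 0x5555555555555555555555555555555555555555555555555555555555555555555555555555555555555555)
.nil)
theorem n24_ok : Net.ok 506 n24 = true := by decide +kernel
noncomputable def n25 : Net := (.cons (nat_lit 2) (nat_lit 0x333300303300000333333003000303300030000333300303333300300330003330333030000303030003030330333330330030330003000303033303330030)
(.cons (nat_lit 4) (nat_lit 0xc0f0303030c000f0003030f0300030f03000300000c0c0000030f03030c000c000f0c0f0c030c030f030c00030c0c0f0300030f0c0f00030c03000c030c00)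
(.cons (nat_lit 8) (nat_lit 0x3000f00c3003f00cf00f30033003300f000ff003f00ff003c00f300cf00cc003c003c00cc00cf00cc00c3003f00f00000000300ff000f003c003f00fc0000)
(.cons (nat_lit 16) (nat_lit 0xf000003fff0000300c0000ccc00000cffc00000c03000000fc0000ff030000c3f30000f3000000003f00003c3f0000033c0000330c0000ff0000003000)
(.cons (nat_lit 32) (nat_lit 0x3333330000000003cf00f300000000c03f30cc0000000000c0f3c000000000c03ccccf000000003fc03ccf000000000ff003000000000030000000)
(.cons (nat_lit 64) (nat_lit 0x30c30fc0fff0c30000000000000000f00003f0cc0f33cc0000000000000000c000cf3f03ff03300000000000000000c000000000000000)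
(.cons (nat_lit 128) (nat_lit 0xc03000c330030cfcf0330330fc300000000000000000000000000000000003c000000000000000000000000000000)
(.cons (nat_lit 256) (nat_lit 0x3c00c3330f3c3f0303ff00ccf00303c0cc3c30c030c300fcf0000f300f30f)
(.cons (nat_lit 128) (nat_lit 0x3ccf33000c03f030fcf003ff000f3c300000000000000000000000000000000f3ffc3f3c0cc0cf30300ffcc3c330c03)
(.cons (nat_lit 64) (nat_lit 0x300c30ff33c0c000000000000000000fccc0330330ccc0f0000000000000000ccc0fc333f03f0c30000000000000000f00f30c3cf0ffcc3)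
(.cons (nat_lit 32) (nat_lit 0x3fff030000000000cccfc03000000000fff333c0000000033cfccfc000000000ff3ff3f00000000cccc3f0f000000003f0330cc0000000003c00c3c)
(.cons (nat_lit 16) (nat_lit 0x3030000f3ff000033fc0000f3c000000fff0000cf3f0000f03f000003f000000ff30000c3f00000fc3f00000f0300003ffc0000cc0f0000c0330000c3c3)
(.cons (nat_lit 8) (nat_lit 0x3003300f3003c0000003f00ff00ff0030003300cc003000cf0033000f00c300cc00f3000c003300c300ff003f00cc000c00fc00cc000c00cf000f0003000f)
(.cons (nat_lit 4) (nat_lit 0xf030000000f030c030003030f0c0c0c0f0f0f0f0c0c0f0303030f0c0c0c03030f00000c03000c000f0f000c00000f0f0f0f0f030303030c0c0c00030c0c03)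
(.cons (nat_lit 2) (nat_lit 0x330000033300300300000030330300300333333303330300300303033030330003030000033003333300333330330000030033333030303003333003)
(.cons (nat_lit 1) (nat_lit 0x1004511404050151145411441444011015415540411005411411005040541400004145451011540441145044514510544545404004050005454505505504105)
.nil))))))))))))))))
theorem n25_ok : Net.ok 506 n25 = true := by decide +kernel
noncomputable def n26 : Net := (.cons (nat_lit 2) (nat_lit 0x3003030033000000333030033000300330300330300033003000000003303330000030330303303000000033000033303003303000030303333033033000)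
(.cons (nat_lit 4) (nat_lit 0x3030f0c0c030f03030f0f030f03000f0c0300000c000c0c000c030f03000f0c030f00000f000f000c030f0c0c0f0f00000300000f0f0300030303000c0c00)
(.cons (nat_lit 8) (nat_lit 0x300cc000f003000c3003c00cf0003000c00c30033000f000f00c3000c00cc003000f000ff000f000c00c3000f0030000000c300c0000c00000030000c0000)
(.cons (nat_lit 16) (nat_lit 0x3f0000fcc30000ccff00000f3c0000c03c0000300000003f0000003c0c000003000000c0300000ffc000003c3c0000c0f3000030c000000fc000003000)
(.cons (nat_lit 32) (nat_lit 0x3c03ccf00000000303cf33f0000000030cfccc000000000fc30003000000000f0cc00fc00000000330c000f00000000fc0cf0c300000000c0000000)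
(.cons (nat_lit 64) (nat_lit 0x3fcf0033003cc330000000000000000000f0003c03c300c0000000000000000000cccc000f3c00000000000000000000000000000000000)
(.cons (nat_lit 128) (nat_lit 0x3cc0033300ccf03300000300cf0333c000000000000000000000000000000000c000000000000000000000000000000)
(.cons (nat_lit 256) (nat_lit 0x30f03cfc0c00000c030f0c3fc300c0cffc000f00c0cfc33030c033303c333c)
(.cons (nat_lit 128) (nat_lit 0xcf0fc0f3f3f3cf303cc0030c3c30fc00000000000000000000000000000000f330fc00cff0c00300fff3f3f3033ff0)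
(.cons (nat_lit 64) (nat_lit 0x30c33303cc0cff300000000000000003cc0cf303fcc33cc0000000000000000c030fcc03ff3ff0c00000000000000000cfcf3f330f3f0cc)
(.cons (nat_lit 32) (nat_lit 0x3c0c30f000000000cf3fcf3000000003ccfcfc00000000030fc3f0f00000000ffcc3ccf00000000003000c000000000f3fcf0f000000000330fc3f0)
(.cons (nat_lit 16) (nat_lit 0x30f00003cc30000cc0f0000cfcc0000fc000000fcff00003f03000000330000c3000000ccf00000033f0000ffff0000f3cc0000330c0000030f0000c030)
(.cons (nat_lit 8) (nat_lit 0x33003000f000000033003c00c000f0003c00f0003300f000c00000000f00f300ff00cf003f00c0000c00fc00cc00fc00ff0033003f00f30033000f00c0)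
(.cons (nat_lit 4) (nat_lit 0xf0c0f0c0c0f0c00030c0c000c03000f0c030c0c0c0c03030f0c030f03030f0c0f0f03030c0f030303030f0f000c0f03000f00000f030000000303030f0f0c)
(.cons (nat_lit 2) (nat_lit 0x330030333330303033333300330333033030033003030303330003300033333330303303000000033000003003000000030300030333330333303333003300)
(.cons (nat_lit 1) (nat_lit 0x1140145105140145014555141541041101404544401410114410014401104441555545550045554050140150050555554411155551010055455000555101100)
.nil))))))))))))))))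
theorem n26_ok : Net.ok 506 n26 = true := by decide +kernel
noncomputable def n27 : Net := (.cons (nat_lit 2) (nat_lit 0x333300303300000333333003000303300030000333300303333300300330003330333030000303030003030330333330330030330003000303033303330030)
(.cons (nat_lit 4) (nat_lit 0xc0f0303030c000f0003030f0300030f03000300000c0c0000030f03030c000c000f0c0f0c030c030f030c00030c0c0f0300030f0c0f00030c03000c030c00)
(.cons (nat_lit 8) (nat_lit 0x3000f00c3003f00cf00f30033003300f000ff003f00ff003c00f300cf00cc003c003c00cc00cf00cc00c3003f00f00000000300ff000f003c003f00fc0000)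
(.cons (nat_lit 16) (nat_lit 0xf000003fff0000300c0000ccc00000cffc00000c03000000fc0000ff030000c3f30000f3000000003f00003c3f0000033c0000330c0000ff0000003000)
(.cons (nat_lit 32) (nat_lit 0x3333330000000003cf00f300000000c03f30cc0000000000c0f3c000000000c03ccccf000000003fc03ccf000000000ff003000000000030000000)
(.cons (nat_lit 64) (nat_lit 0x30c30fc0fff0c30000000000000000f00003f0cc0f33cc0000000000000000c000cf3f03ff03300000000000000000c000000000000000)
(.cons (nat_lit 128) (nat_lit 0xc03000c330030cfcf0330330fc300000000000000000000000000000000003c000000000000000000000000000000)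
(.cons (nat_lit 256) (nat_lit 0x3c00c3330f3c3f0303ff00ccf00303c0cc3c30c030c300fcf0000f300f30f)
(.cons (nat_lit 128) (nat_lit 0x3ccf33000c03f030fcf003ff000f3c300000000000000000000000000000000f3ffc3f3c0cc0cf30300ffcc3c330c03)
(.cons (nat_lit 64) (nat_lit 0x300c30ff33c0c000000000000000000fccc0330330ccc0f0000000000000000ccc0fc333f03f0c30000000000000000f00f30c3cf0ffcc3)
(.cons (nat_lit 32) (nat_lit 0x3fff030000000000cccfc03000000000fff333c0000000033cfccfc000000000ff3ff3f00000000cccc3f0f000000003f0330cc0000000003c00c3c)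
(.cons (nat_lit 16) (nat_lit 0x3030000f3ff000033fc0000f3c000000fff0000cf3f0000f03f000003f000000ff30000c3f00000fc3f00000f0300003ffc0000cc0f0000c0330000c3c3)
(.cons (nat_lit 8) (nat_lit 0x3003300f3003c0000003f00ff00ff0030003300cc003000cf0033000f00c300cc00f3000c003300c300ff003f00cc000c00fc00cc000c00cf000f0003000f)
(.cons (nat_lit 4) (nat_lit 0xf030000000f030c030003030f0c0c0c0f0f0f0f0c0c0f0303030f0c0c0c03030f00000c03000c000f0f000c00000f0f0f0f0f030303030c0c0c00030c0c03)
(.cons (nat_lit 2) (nat_lit 0x330000033300300300000030330300300333333303330300300303033030330003030000033003333300333330330000030033333030303003333003)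
(.cons (nat_lit 1) (nat_lit 0x1004511404050151145411441444011015415540411005411411005040541400004145451011540441145044514510544545404004050005454505505504105)
.nil))))))))))))))))
theorem n27_ok : Net.ok 506 n27 = true := by decide +kernel
noncomputable def n28 : Net := (.cons (nat_lit 2) (nat_lit 0x3003030033000000333030033000300330300330300033003000000003303330000030330303303000000033000033303003303000030303333033033000)
(.cons (nat_lit 4) (nat_lit 0x3030f0c0c030f03030f0f030f03000f0c0300000c000c0c000c030f03000f0c030f00000f000f000c030f0c0c0f0f00000300000f0f0300030303000c0c00)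
(.cons (nat_lit 8) (nat_lit 0x300cc000f003000c3003c00cf0003000c00c30033000f000f00c3000c00cc003000f000ff000f000c00c3000f0030000000c300c0000c00000030000c0000)
(.cons (nat_lit 16) (nat_lit 0x3f0000fcc30000ccff00000f3c0000c03c0000300000003f0000003c0c000003000000c0300000ffc000003c3c0000c0f3000030c000000fc000003000)
(.cons (nat_lit 32) (nat_lit 0x3c03ccf00000000303cf33f0000000030cfccc000000000fc30003000000000f0cc00fc00000000330c000f00000000fc0cf0c300000000c0000000)
(.cons (nat_lit 64) (nat_lit 0x3fcf0033003cc330000000000000000000f0003c03c300c0000000000000000000cccc000f3c00000000000000000000000000000000000)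
(.cons (nat_lit 128) (nat_lit 0x3cc0033300ccf03300000300cf0333c000000000000000000000000000000000c000000000000000000000000000000)
(.cons (nat_lit 256) (nat_lit 0x30f03cfc0c00000c030f0c3fc300c0cffc000f00c0cfc33030c033303c333c)
(.cons (nat_lit 128) (nat_lit 0xcf0fc0f3f3f3cf303cc0030c3c30fc00000000000000000000000000000000f330fc00cff0c00300fff3f3f3033ff0)
(.cons (nat_lit 64) (nat_lit 0x30c33303cc0cff300000000000000003cc0cf303fcc33cc0000000000000000c030fcc03ff3ff0c00000000000000000cfcf3f330f3f0cc)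
(.cons (nat_lit 32) (nat_lit 0x3c0c30f000000000cf3fcf3000000003ccfcfc00000000030fc3f0f00000000ffcc3ccf00000000003000c000000000f3fcf0f000000000330fc3f0)
(.cons (nat_lit 16) (nat_lit 0x30f00003cc30000cc0f0000cfcc0000fc000000fcff00003f03000000330000c3000000ccf00000033f0000ffff0000f3cc0000330c0000030f0000c030)
(.cons (nat_lit 8) (nat_lit 0x33003000f000000033003c00c000f0003c00f0003300f000c00000000f00f300ff00cf003f00c0000c00fc00cc00fc00ff0033003f00f30033000f00c0)
(.cons (nat_lit 4) (nat_lit 0xf0c0f0c0c0f0c00030c0c000c03000f0c030c0c0c0c03030f0c030f03030f0c0f0f03030c0f030303030f0f000c0f03000f00000f030000000303030f0f0c)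
(.cons (nat_lit 2) (nat_lit 0x330030333330303033333300330333033030033003030303330003300033333330303303000000033000003003000000030300030333330333303333003300)
(.cons (nat_lit 1) (nat_lit 0x1140145105140145014555141541041101404544401410114410014401104441555545550045554050140150050555554411155551010055455000555101100)
.nil))))))))))))))))
theorem n28_ok : Net.ok 506 n28 = true := by decide +kernel
noncomputable def n29 : Net := (.cons (nat_lit 2) (nat_lit 0x303303333303330000030300300300000333333303030000003033300000000303000333330330003330000330000330000333033330300333030000000)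
(.cons (nat_lit 4) (nat_lit 0xc03030f000c03000c0f000f030f0c0f0c0c0f0c030c0c03030003030f00000f000c0c000c0f000303000c0f0f0c030003000c0c0303030c0c00000f030000)
(.cons (nat_lit 8) (nat_lit 0x300cc003000cf000c003000f00033003f000c00fc003f0003000c0030003c000000cf00cf00030003000300c000c000c00030003000c0000c003000c00000)
(.cons (nat_lit 16) (nat_lit 0x30c0000c003000030f000003033000000c30000033f00003cf00000300c0000f00c00003c0c0000f3300000330f000030330000c3300000030c00000000)
(.cons (nat_lit 32) (nat_lit 0xcf0000000003ff000f000000000c00c0cf30000000000300cff0000000003cfc03c0000000000fc33c0000000000c0fccc300000000f0000000)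
(.cons (nat_lit 64) (nat_lit 0x3cfc0ffcf00f000000000000000000fc3f330fc00c3fc00000000000000000f03f333fff000fc00000000000000000000000000000000)
(.cons (nat_lit 128) (nat_lit 0x3c000000030cfc00303c3cc03000f00000000000000000000000000000000000000000000000000000000000000000)
(.cons (nat_lit 256) (nat_lit 0x3fcf000f000f000fcc30c30033fcfc3c00000c000300fc0ff3cf3cf0000000)
(.cons (nat_lit 128) (nat_lit 0xf3303f0033cf3f0c333f303cfc300f00000000000000000000000000000000fff0300303fc0f0c000fc03cfc0cf3cc)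
(.cons (nat_lit 64) (nat_lit 0xc3cccfcf300f000000000000000003f0fcccfc33f00f00000000000000000030cc30f3fc30f30000000000000000003fc0c3c0c300f0)
(.cons (nat_lit 32) (nat_lit 0xcc0fcc00000000ccf3f0cc00000000c03c3fc30000000000c00fcf0000000033f3cc0f000000000ff0cfcf000000000f0ccccf00000000c003f0fc)
(.cons (nat_lit 16) (nat_lit 0x3000000f00f00000cfc00000c330000cc330000f33300003cf000000c000000c0000000c00f0000ff3c00003f030000033c0000f3fc0000ff0c00003cfc)
(.cons (nat_lit 8) (nat_lit 0x300cc000000c3000f003300f0003f00ff003300fc000f000f000c0000003c000300c000fc00c000c300cf00f300f000c3000f003c00c000c000f000cc00f0)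
(.cons (nat_lit 4) (nat_lit 0xc030f0f000c0c000f0f000f03000c0f0f0f000c030c0003030003030f000c0f000c0c00000c0f0c03000c0f0f0c03000300000f0f0303000f030c0f030f00)
(.cons (nat_lit 2) (nat_lit 0x303303333333303000030300003333303333333300030003003003300300000303000000000333000330000330000330030303033030003003330033330)
(.cons (nat_lit 1) (nat_lit 0x1551511441050501444440105440045004140541544040101555515044151111441555010554501151400104154400000000010450155441411551110145004)
.nil))))))))))))))))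
theorem n29_ok : Net.ok 506 n29 = true := by decide +kernel
noncomputable def n30 : Net := (.cons (nat_lit 2) (nat_lit 0x303300330033000333303003333000003000003030033330033330033033333300330003300003000000000300000003030030030330330330030030000000)
(.cons (nat_lit 4) (nat_lit 0x30f000f0f000f000c0003000000030c03030c0c000f0f0f00000300030c000f0c030f03030c0300000300030c0f000003000c0f0000000003000000030000)
(.cons (nat_lit 8) (nat_lit 0x33003000cc003000c000c000300033003000cf000f0000003300f000c3003f0003000300c3003000fc00cf003f00000030003300c00030003300030000)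
(.cons (nat_lit 16) (nat_lit 0xf000003300000c0f30000c03c0000c0c300003f330000f33000000f0c0000f0c300000f300000cc000000fccf0000c0300000f3f300000c0000000c00)
(.cons (nat_lit 32) (nat_lit 0x300f30c00000000f300003c00000000c003f300000000000cc00fc3000000000f33fff000000000f030cf300000000030c00c0f000000000c000000)
(.cons (nat_lit 64) (nat_lit 0x300f03fc30f3c300000000000000000cf030c3f0003000c000000000000000000003000000c0c3300000000000000000000000000000000)
(.cons (nat_lit 128) (nat_lit 0x3fc03003f00c3cf3000030c0cf3c300000000000000000000000000000000030000000000000000000000000000000)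
(.cons (nat_lit 256) (nat_lit 0x3c0fc03c0cf3ff3330f300cccf003cfffff303cf333330fc03f00f33f0fff3c)
(.cons (nat_lit 128) (nat_lit 0x3ffc30f3030fc0f3c3cfc33f0c0c33c000000000000000000000000000000003f00f0f30c30cc033fccccc33030030c)
(.cons (nat_lit 64) (nat_lit 0x30cf3f0fc3f00fc0000000000000000fcc3c0f00fc3c0c00000000000000000cf03f0f330ff3fc30000000000000000003cccffcf3c3ccc)
(.cons (nat_lit 32) (nat_lit 0xc0300c00000000f3033c0c00000000f333330000000000000cf3cf00000000c3f3cfc000000000c03ff30c000000003cc0000f00000000f30c0c0c)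
(.cons (nat_lit 16) (nat_lit 0x33300000c300000f3cf00000c300000f0030000c0330000c00c000033fc0000c0c300003c000000c30c0000ccc30000f00c0000f3ff0000c03c0000fc0c)
(.cons (nat_lit 8) (nat_lit 0x33003000c0003000c000cc0030003300fc00cf00030000003300fc000f003f003000030003003c00fc00cf0033000000300033000c003000f300030000)
(.cons (nat_lit 4) (nat_lit 0x30f000f00030f030c0003000000030c03030f0c030f0f0c00000300030c0c0f0c000c03000c0000000300030c0c000003000c0f000c00030300000f030000)
(.cons (nat_lit 2) (nat_lit 0x303300330033000333300003333000003000003030033330033330033033333300030033300003000000000300030003030030030330330330030030000000)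
(.cons (nat_lit 1) (nat_lit 0x1544445150015515415440041054015505540101104501401145104500000115400550504114015051405501554454415554001011041005514050554411044)
.nil))))))))))))))))
theorem n30_ok : Net.ok 506 n30 = true := by decide +kernel
noncomputable def n31 : Net := (.cons (nat_lit 2) (nat_lit 0x300000333030000330003003003303330000303303000030003030303033300000000003330000303030003330300033300033300333000033303003330000)
(.cons (nat_lit 4) (nat_lit 0x3000f0000030f000000030003000300000300000f0000030f0c030c00000c0000030c00030f0c00000000030c00030c0000000003000c0f0f000000030c00)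
(.cons (nat_lit 8) (nat_lit 0xc00cc00f00000003300cc00030000000000f00030000f003f000000c00000000f003c00cc00cc003f000f00f3003f003000fc00cf00c000ff00ff0000)
(.cons (nat_lit 16) (nat_lit 0x3cf0000cf0000003cc00000303c000030000000c0ff0000fcc00000f000000030ff0000003f00000f300000c0330000fccf0000c30c0000f0cc00000000)
(.cons (nat_lit 32) (nat_lit 0x3c3c0c0000000000c003c0f0000000030cc0fc0000000003c000c00000000003cc0ccc000000000f30cc30f00000000000c0000000000003c000000)
(.cons (nat_lit 64) (nat_lit 0x3f00c30c3fc0f300000000000000000303c033000cfcf000000000000000000cc30cccf0300c00c0000000000000000f000000000000000)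
(.cons (nat_lit 128) (nat_lit 0x3f03000330000cc330033f00c030f000000000000000000000000000000000000000000000000000000000000000000)
(.cons (nat_lit 256) (nat_lit 0x3003c303cfc00c3cc0f003fc000fff0c0f0c00f0300000c330033c00c030000)
(.cons (nat_lit 128) (nat_lit 0x3cc0fcfc3ff30c0fc03ff000ffff00000000000000000000000000000000c0f0c00f0303c30c33003fc03cff0000)
(.cons (nat_lit 64) (nat_lit 0x3f300f0fc00ff3f0000000000000000c0f0cc0f33fc000f0000000000000000ff0f0fcff0fc3c3000000000000000000003ffccf0cc30f0)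
(.cons (nat_lit 32) (nat_lit 0x330f30c00000000fffcf03f000000000f33c0c000000000f0fcf303000000003cfff33f000000003cffc3c000000000330fc30c000000000cff0000)
(.cons (nat_lit 16) (nat_lit 0x333000000330000cc000000cf0000000f300000fcc30000c30300000fcc0000cf0000000000000030000000f3330000cc000000fc0c0000c0cc00003f00)
(.cons (nat_lit 8) (nat_lit 0x3003000fc00fc000000cc00cf00f0003f003f00c0000c00c00033000f003f003300cc003f00c300c300fc003c00f000cf00cc00fc00c3000f000000ff000c)
(.cons (nat_lit 4) (nat_lit 0xc0f000f00030303000c0c030c03000c0f0c0f03000f0c0c00030c0c0f00030f0f000c03000c030c0f0f030f03000300030f030303000c030f0f0f0c030c00)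
(.cons (nat_lit 2) (nat_lit 0x300000300030303033030033000003000030003300000333033300303000333300303030033003303303000303003030330030030303003300303333330330)
(.cons (nat_lit 1) (nat_lit 0x15005014550450041415441501014105110050004055410140510515510415505454110011510541411041414004545055155541554111510015115554440)
.nil))))))))))))))))
theorem n31_ok : Net.ok 506 n31 = true := by decide +kernel
noncomputable def n32 : Net := (.cons (nat_lit 2) (nat_lit 0x300300000333300033300003030033033300003030300003000030303333303033033003333003303030300033033030003003330030333033300000030300)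
(.cons (nat_lit 4) (nat_lit 0xc0303030f0c000c00000f000c000f000f030f0c0c0c0c030c03030f0c00000c000f030c0000000c000c0f000f000c00030300030c0f0f0c00000c0000)
(.cons (nat_lit 8) (nat_lit 0x3003f000f00f0000c00cf00f3000000f3000f00c0000f003c000c00f0000300330003003f003f00cc000f0033003f00f00000000c00c300f3003c00fc0000)
(.cons (nat_lit 16) (nat_lit 0x3f3000003300000f0c3000000c00000f30c00000fcf00000fcc00003cfc00003c300000fcfc0000333f0000f3c00000000300003cc00000000c00000000)
(.cons (nat_lit 32) (nat_lit 0x300f300000000f30303c300000000cfcc000f00000000003fffc000000000300c30ff000000000033033c00000000cf0000000000000030000000)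
(.cons (nat_lit 64) (nat_lit 0x3cc0f0cfff000c00000000000000000330c3f00f0cc030f00000000000000003303ccccf00000c000000000000000003000000000000000)
(.cons (nat_lit 128) (nat_lit 0x3000c0c3cc000000000c3330ccff0c000000000000000000000000000000000c000000000000000000000000000000)
(.cons (nat_lit 256) (nat_lit 0xf0c30cf303cc30f3cffccfc0ffc003f3fc3f03cfffccf0330f033c0c003cc)
(.cons (nat_lit 128) (nat_lit 0x3fcff00ff00ccfff03c33033fcf000000000000000000000000000000000000f3fcc3cc0f3fcff00cf33cc003fc00cc)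
(.cons (nat_lit 64) (nat_lit 0xccc3f0c30cf3300000000000000000c3ccf33fc0c3c3cf00000000000000000330c030000300c300000000000000003303c0f003c003c0)
(.cons (nat_lit 32) (nat_lit 0x33cf3c00000000033cfc3fc00000000ccc303cf00000000333c03300000000000cccff000000000033c033c00000000303c3f3f00000000c3cc03c0)
(.cons (nat_lit 16) (nat_lit 0xc000000cff0000f00f0000300c000000030000033f0000ffcf000030cf0000333f00000fc00000fffc0000cccf0000303f000003fc000030c30000c00c)
(.cons (nat_lit 8) (nat_lit 0xf000f300cf000c000f00c0003c00ff000300ff0000003000330033000000c300c0003c00ff000c000300ff00cc003f000f00300030003f00f3000300c0)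
(.cons (nat_lit 4) (nat_lit 0xf030c0c030f000f0f030303000c0c000f0c030c0c0300000c03030f00000f03000c0f0c030c0f0c0c000f0f000c000c0c0c030c0c00030c0000030c030000)
(.cons (nat_lit 2) (nat_lit 0x333300330333003303300000030003030303330033033303300033030300033300300330003330003303003300303003330330330030333030030333330300)
(.cons (nat_lit 1) (nat_lit 0x1145141015411100051551441141044455510451445415411405501541004515410544145050405550555104515050110055500401000010144415540100110)
.nil))))))))))))))))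
theorem n32_ok : Net.ok 506 n32 = true := by decide +kernel
noncomputable def n33 : Net := (.cons (nat_lit 2) (nat_lit 0x303030333333000003030033003003000030303030333303000003300000003030333030330000330000000030300033030000300303003030000000030030)
(.cons (nat_lit 4) (nat_lit 0x30c000f000c030003000f03030f0f030000000c03030f03030000000300000f0003000303030c0f0f0000030c0000030000000c0c0c000000000c00030c00)
(.cons (nat_lit 8) (nat_lit 0xcf000f000f00330003003c003000c000cf000300f300ff00ff003000f0000000cc00cf00c3003c00fc00ff003f00ff00f0000000c000c000c000c00000)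
(.cons (nat_lit 16) (nat_lit 0x33c00000f03000003300000f3c00000ffc0000000c300003f3c0000f00c0000003c0000f30300003f330000003300000cc00000000c00003f0000000000)
(.cons (nat_lit 32) (nat_lit 0x30ff03c0000000033cfff0f000000000330330c00000000ccc3c30c00000000030f3c0c0000000033000030000000000c303000000000000c000000)
(.cons (nat_lit 64) (nat_lit 0x30f0330300c00c000000000000000033fccff3c0003cf00000000000000000c0c03c30c0f000000000000000000000c000000000000000)
(.cons (nat_lit 128) (nat_lit 0xc33030c03cf0003000cc0c30c30cc000000000000000000000000000000000c0000000000000000000000000000000)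
(.cons (nat_lit 256) (nat_lit 0x3f0ff300ccccff0300c0303c03fffffcc3fc0cff330300f0cc0ff3f33c00000)
(.cons (nat_lit 128) (nat_lit 0x330fc00c3c0f00fc0ff3f00cc3f3ff300000000000000000000000000000000003fc0cff03030033f3fffcc3fc00000)
(.cons (nat_lit 64) (nat_lit 0xf33f3ccff0cccc00000000000000000f30c03f33c0c30c00000000000000003f3f00c30f03c0cc000000000000000033cc0f330c000000)
(.cons (nat_lit 32) (nat_lit 0x3cc3fc00000000030ffc3330000000033f00300000000000f3cc30f000000000cc0f03c000000000303cc0c000000000300300c0000000033c00000)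
(.cons (nat_lit 16) (nat_lit 0xc0000ff3f00000f330000f3f000003fc00000c003000030fc0000c30f000000c000000fc00000ffc3000030ff0000c303000000cc0000f0030000c03c)
(.cons (nat_lit 8) (nat_lit 0xf3003f00cf00f0000c000f000c000300ff00ff003f000300c000cf003c00f30000003000300000003c00c00003003c003c000c003000cf00cf00c0000c)
(.cons (nat_lit 4) (nat_lit 0x30003030c000c000f00030c0c0000030c00030f0c0c0c0300000c0f0000000c0c03000c030f0c0c0c030f0f0f00030c000c0c0c000f0f000000030c00)
(.cons (nat_lit 2) (nat_lit 0x33303030330003033000303030003333333033303033333000030030303030303300303300300330300030003003303030303333000033300330030300)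
(.cons (nat_lit 1) (nat_lit 0x1154140015505544540041141015001510415155104000005115054555115410010551400104014540050411104551555004055540040115515115455000500)
.nil))))))))))))))))
theorem n33_ok : Net.ok 506 n33 = true := by decide +kernel
noncomputable def n34 : Net := (.cons (nat_lit 2) (nat_lit 0x303033333303300003030333003000330300003333333000000300033300303033300000300003300300330003300300000330300300003303000333300300)
(.cons (nat_lit 4) (nat_lit 0x30f0c0003030c0300030f030c000c030c0f0300000c00000c00000003000c0300030c000f0c0c0c0c0f0c030f03000c0c0c0f0f000c000c0c0c0300000300)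
(.cons (nat_lit 8) (nat_lit 0xc3000f003c00cf00c3000300300003003c003c003f00cf000c003f00c300cf000f00cf000c00cc00cc0000000f00ff003f000c0000000c003c00c00000)
(.cons (nat_lit 16) (nat_lit 0xc00000003f00000cf0000000f30000000000003fc30000303000003ffc000030f300003c330000c0300000303000003cc30000c0c00000033000000000)
(.cons (nat_lit 32) (nat_lit 0x3ccf0f3000000003c0c3c300000000030cf30cc00000000030f0fcf000000003cc00ccc00000000c3cc30ff000000003c0c03c00000000030000000)
(.cons (nat_lit 64) (nat_lit 0xc000300030000000000000000000cc0c33c030f3330c0000000000000000f030fc000330c33300000000000000000000000000000000)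
(.cons (nat_lit 128) (nat_lit 0x3300cc000000c330ccc330f00c33000000000000000000000000000000000cc000000000000000000000000000000)
(.cons (nat_lit 256) (nat_lit 0x3300cc000000c330ccc330f00c330fccc03c03ff3ff300000000000000000)
(.cons (nat_lit 128) (nat_lit 0x333fc3cc00c000cff0ccf333fc3f33000000000000000000000000000000000f03c03f3cc3f3ccff00cffc3ffc0000c)
(.cons (nat_lit 64) (nat_lit 0xcccc330f30c3cc0000000000000000cccc0300f3c33c3f0000000000000000f3cf0cf30c33c3300000000000000000cc33030c0f03fcf0)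
(.cons (nat_lit 32) (nat_lit 0x330003c00000000f3cfcf0c0000000030cf30cc000000003ffff33000000000c3030cff0000000033f0cc30000000000ccccc3c00000000f3c3fc3c)
(.cons (nat_lit 16) (nat_lit 0xffff0000f3030000f0cf00000f00000030cc00000ff000003ffc0000333c000000fc0000c3fc0000f03c0000f00c0000c00f00003f300000cc3c)
(.cons (nat_lit 8) (nat_lit 0xf300f30000000c00ff00030000003c0000003300fc00f300cf00f3000300cf00c300f0000f0033003300c3003f00f3003300ff00f000f3003c00f0000c)
(.cons (nat_lit 4) (nat_lit 0xf030c0c0c0c000f000f0f030000030c0c0c03030c00030c0303000003030f030f03030c0c0c0c0f0f03000000000c0f0c0f00030c0f0f0f0c0f0c0f03030c)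
(.cons (nat_lit 2) (nat_lit 0x3333003330003333333330030300000000030000330003333030033303333333330033333000330030000003000000030330033330330003303000300300)
(.cons (nat_lit 1) (nat_lit 0x1545510050010105555510000445510004555555010100110541050540514041550055454045454044151404051104450554041440145545541504541140510)
.nil))))))))))))))))
theorem n34_ok : Net.ok 506 n34 = true := by decide +kernel
noncomputable def n35 : Net := (.cons (nat_lit 2) (nat_lit 0x333030003033033033333030003000300303300333033303330003303300330000003033003300030000330333030030030330000003303000000000000)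
(.cons (nat_lit 4) (nat_lit 0xf000f000c0c0c0f030300000000000c000300030c0000000c000f0c0c0c0000000f03030c0f0f00000000000c000f00030c0c0c0c0c00000c000000000000)
(.cons (nat_lit 8) (nat_lit 0x3c00cc00f300cc003c000f00ff00fc00f0003300cf00fc00cf0030003000000000000c00f300f000c3000300cc003c00c000cc000c00330030000c0000)
(.cons (nat_lit 16) (nat_lit 0x3cc0000fc0f000033ff00003c0c0000f00f0000ff0000000c3000000300000003f000000f3c000003c0000030330000000000000ff30000f0c300000000)
(.cons (nat_lit 32) (nat_lit 0xcf33000000000030cff03f00000000030f0f0c00000000c0c303f3000000003c30003c00000000c3cc0c3c000000000000000c0000000030000000)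
(.cons (nat_lit 64) (nat_lit 0x3c003c003cc00c3000000000000000000c003cc330c00000000000000000000f00cfcc30000003c00000000000000003000000000000000)
(.cons (nat_lit 128) (nat_lit 0x30c000000000c000c30c0cf300c00000000000000000000000000000000000030000000000000000000000000000000)
(.cons (nat_lit 256) (nat_lit 0x303003fc00c03c00f3ff0cc3c03fcf33c00300003030c0cf0c00f30000000)
(.cons (nat_lit 128) (nat_lit 0xc30cc0cffcfcf3300f3ff0cc3fffff00000000000000000000000000000000003cc003300c0cfcc3cf3ff0f30c0000)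
(.cons (nat_lit 64) (nat_lit 0x333cf03ffc03f3c0000000000000000ff3cf0c300c003f300000000000000000f3f300ff33c030f0000000000000000fc003ff00ff3c000)
(.cons (nat_lit 32) (nat_lit 0xfc30f300000000c300f300000000003cf0f03300000000cffc303f00000000cf0cfcfc000000003f0ff00c00000000330c00fc00000000f00c0000)
(.cons (nat_lit 16) (nat_lit 0x330000030cf0000c0330000f03c0000fc0f00003cc000003fff0000cf0c00000cf0000003fc0000f00c00003003000003ff00000ff000003f0c00000cc0)
(.cons (nat_lit 8) (nat_lit 0xff0000000f00cf00cc00f0000000fc003c000000c0003000cf00c0003c0003000000f3003c000f0003003c00c30000003c00cc00ff003f00c0000f000c)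
(.cons (nat_lit 4) (nat_lit 0xc000c03030c00000f0c030f0c030c000f0c030300000c0c0c0c0f0c0c030303030c000c00000c000000030f030c03000c0c0c0c0003030f000c0c0c0c)
(.cons (nat_lit 2) (nat_lit 0x30000030000300030003300030033303330030003330033000000030000300003330033303030333300000330003033000300033000003003333000000000)
(.cons (nat_lit 1) (nat_lit 0x114154145501450105041404145141045554550540144415110510154451444110500405554510154544515541515000455011051554114514455151454400)
.nil))))))))))))))))
theorem n35_ok : Net.ok 506 n35 = true := by decide +kernel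
noncomputable def n36 : Net := (.cons (nat_lit 2) (nat_lit 0x33303330333303303300000303003030333330033033303300033300000033300300330030030003303003300303003330303003300033030030333030300)
(.cons (nat_lit 4) (nat_lit 0xf03030c0303000f03030f0c000f0c000f0c030c030303000c030c0f0c000c03000c03000c030f0c000c000f00000c0000000c030f0000000000030c0c0000)
(.cons (nat_lit 8) (nat_lit 0x300cf00c0003c00fc00f000ff00fc00ff003300f000f3000f000c000f00f000f0003f0003003c000c000f00c000f3000000f000c300c300cf0030003f0000)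
(.cons (nat_lit 16) (nat_lit 0xf300000c3c00000030000033ff0000c0f00000003f0000c00300003003000030cf00000f000000333300003c300000cccf0000c0030000003c00000000)
(.cons (nat_lit 32) (nat_lit 0x333f300000000000c3c0f0000000000f3ccccc30000000003c000cf0000000030f3cf3000000000c00c30000000000033300f0c00000000cc000000)
(.cons (nat_lit 64) (nat_lit 0x300c303c030030000000000000000000033f33fc0030c0c0000000000000000c3f0c0000cc0000c0000000000000000c000000000000000)
(.cons (nat_lit 128) (nat_lit 0xfcf0f00ff300f3c33c30300ffcc000000000000000000000000000000000f0000000000000000000000000000000)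
(.cons (nat_lit 256) (nat_lit 0xf0f00fccffffc003c3000fffffff3fc0ff0ff03f00003f3f3cf3ccc000000)
(.cons (nat_lit 128) (nat_lit 0x3f3c0cf0c0cc33f00fc0f3cc33333c00000000000000000000000000000000fff3f03f3c03ffffcc303cc33fc0c000)
(.cons (nat_lit 64) (nat_lit 0x30c33cc33c0ccc30000000000000000cff3ff3cff0cf33c0000000000000000330c0003c00f00330000000000000000c3f0c00033c0c000)
(.cons (nat_lit 32) (nat_lit 0x3030cf300000000ccc3f0c000000000fc0cf0c3000000000c33ff3f000000003f0c0fff0000000033cccc0300000000cfcf30c300000000c33003cc)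
(.cons (nat_lit 16) (nat_lit 0xff0000c30f000000fc0000303f000033f3000000300000c3f30000ff0f0000cf3f0000ff0000000f3c000003c3000000f300000fc00000ccc30000c0c0)
(.cons (nat_lit 8) (nat_lit 0xfc003f00fc0033000300f000f000cf00ff003000c3003300cf00f00000000f000c003c00c000cf003f000c00f300f0003f00300003000c00f00000)
(.cons (nat_lit 4) (nat_lit 0xc000c0f0f0c0f0c0003000003000c000f0c0f030f00000c0c030c030f03000c0f030003030c000c0c0c030300000f000f03000303030c030f0c0c0f0c0000)
(.cons (nat_lit 2) (nat_lit 0x300300000330000033303330330033033300003030300003000030303333303033000330333003003030333333303300333003330030333033300000030300)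
(.cons (nat_lit 1) (nat_lit 0x105505400155110140454110040041551114100410405540015145104111400054414541404041015041410104410410405415044145550111451115450044)
.nil))))))))))))))))
theorem n36_ok : Net.ok 506 n36 = true := by decide +kernel
noncomputable def n37 : Net := (.cons (nat_lit 2) (nat_lit 0x303300330003033030030033003303030000003030033333000030303003000303000030333330030030333300033330030000330303300003333330000000)
(.cons (nat_lit 4) (nat_lit 0xc030f00000f0c000f000c000c0300000000000c0c0c030000000c0f03000c0f000f00030c00030003000303000f0c0c000003000c00000c0c0c0000000c00)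
(.cons (nat_lit 8) (nat_lit 0xc000c000f0003f00f0000000c00030000000f300f3003300000003000000cf00fc00c000c30030000000f000f0003f003f0030000000c000ff00000000)
(.cons (nat_lit 16) (nat_lit 0x3c0000003000000cc0f000030000000cc000000f3f00000c03000003f3c0000300c000033000000330c0000ff0f00003ffc0000330f00000c0300000000)
(.cons (nat_lit 32) (nat_lit 0xc30f0c00000000cc0c000c0000000030ccccf300000000033000000000000033c00f33000000003c30ff030000000003300c0000000000c0000000)
(.cons (nat_lit 64) (nat_lit 0x300c00000c000000000000000000cc0000000330cf3000000000000000000f00ccf0000c03c300000000000000000c00000000000000)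
(.cons (nat_lit 128) (nat_lit 0xccc00c030cc3000c3000ccf0030000000000000000000000000000000000030000000000000000000000000000000)
(.cons (nat_lit 256) (nat_lit 0xccc00c030cc3000c3000ccf003000fcc000300f03330c0300ff0030000000)
(.cons (nat_lit 128) (nat_lit 0xffc0cf0fccc30ccc3000ccf003c0000000000000000000000000000000000c3f30cfcffccf3f3fcccc0000f330000)
(.cons (nat_lit 64) (nat_lit 0xc30cfcc330ffc0000000000000000cc0000f30003cc300000000000000000fff03fc0cf0c03fc0000000000000000c03cc00303fc0c00)
(.cons (nat_lit 32) (nat_lit 0x3c3cf0c00000000fccccc0c0000000030ccccf300000000cf3f0030000000000f30cff300000000c0cc33f000000000ccccccf0000000003f3cc0cc)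
(.cons (nat_lit 16) (nat_lit 0x3c0000003300000cf3f000033330000cf0000000fc00000c0000000fffc0000003c0000c3330000ffcc0000c33f0000fffc00000c3c00000cc30000c000)
(.cons (nat_lit 8) (nat_lit 0x300f000c000fc003f00f0000300c30030000000f0003f00f3000000000000003f00fc00c000c300f300c3003000c0003f00ff003f000c0000003f00f000c0)
(.cons (nat_lit 4) (nat_lit 0xc030f00000f0c000f000c0c0c030000000c000c0c0c000000030c0f03030c0f030f03030c00030003030c03030f0f0c000f00000f00000f0f0c03030f0c00)
(.cons (nat_lit 2) (nat_lit 0x303330330303033330030033003303030300003030033330000030303003000303000030333330300030003300033330030000030300030003333330000000)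
(.cons (nat_lit 1) (nat_lit 0x1511514001000400505040555455110004555555541051000101440440055155405554101455145500400400045451104005110044144515041454151150004)
.nil))))))))))))))))
theorem n37_ok : Net.ok 506 n37 = true := by decide +kernel
noncomputable def n38 : Net := (.cons (nat_lit 1) (nat_lit 0x545004541410151041404001505050511041414441401005115041010045111400111050411400444510511414511401150404114450115114415110444)
.nil)
theorem n38_ok : Net.ok 506 n38 = true := by decide +kernel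
noncomputable def n39 : Net := (.cons (nat_lit 1) (nat_lit 0x1104004404501150404054404014045045044510400514140405110515010510444140444510404140444510444014444154405104114445440444415110444)
.nil)
theorem n39_ok : Net.ok 506 n39 = true := by decide +kernel
noncomputable def n40 : Net := (.cons (nat_lit 1) (nat_lit 0x1545414001540154015154015045001541554005150450001454044055540400155505540000555014001554105450100015501515550014001550155554000)
.nil)
theorem n40_ok : Net.ok 506 n40 = true := by decide +kernel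
noncomputable def n41 : Net := (.cons (nat_lit 1) (nat_lit 0x414450550541004144455411511044511045045045544101104451015005110511445451505404414445041141444411414404444111104114444540444444)
.nil)
theorem n41_ok : Net.ok 506 n41 = true := by decide +kernel
noncomputable def n42 : Net := (.cons (nat_lit 1) (nat_lit 0x1545151005054011411440144511051044510511011544155104404541005110511105451050144414445044414044411414451111444444114444540444444)
.nil)
theorem n42_ok : Net.ok 506 n42 = true := by decide +kernel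
noncomputable def n43 : Net := (.cons (nat_lit 1) (nat_lit 0x411105005041004144100144044511044510510510011401104451015005110511110104050151141110511141444411414404444111104114444540444444)
.nil)
theorem n43_ok : Net.ok 506 n43 = true := by decide +kernel
noncomputable def n44 : Net := (.cons (nat_lit 1) (nat_lit 0x1404001555540015555015555555540000000001554000054000000001555555555540000000015555555550000155555555555555555540000000000000000)
.nil)
theorem n44_ok : Net.ok 506 n44 = true := by decide +kernel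
noncomputable def n45 : Net := (.cons (nat_lit 1) (nat_lit 0x411440001500414015141540045014014001551104450000101544054015155400510015000540541554001450050100015554040005554001550155554000)
.nil)
theorem n45_ok : Net.ok 506 n45 = true := by decide +kernel
noncomputable def n46 : Net := (.cons (nat_lit 1) (nat_lit 0x5555555500000000555555555555555555555555555500000000000000000000555555555555555555550000000000000000000000000000000000000000)
.nil)
theorem n46_ok : Net.ok 506 n46 = true := by decide +kernel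
noncomputable def n47 : Net := (.cons (nat_lit 1) (nat_lit 0x441155401500414540141015050541554001554144505540054041501540155400045015540540554001554050050055540054015550001554000155554000)
.nil)
theorem n47_ok : Net.ok 506 n47 = true := by decide +kernel
noncomputable def n48 : Net := (.cons (nat_lit 1) (nat_lit 0x1451041400015540555015000540015540000004514155541400050001555000000540555015540015555555400155400000055500000015555550000000000)
.nil)
theorem n48_ok : Net.ok 506 n48 = true := by decide +kernel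
noncomputable def n49 : Net := (.cons (nat_lit 1) (nat_lit 0x505015400055000555000555540000015555550540155540155550000000555555555000015555540000000155555400000000055555555555550000000000)
.nil)
theorem n49_ok : Net.ok 506 n49 = true := by decide +kernel
noncomputable def n50 : Net := (.cons (nat_lit 1) (nat_lit 0x50515400000000555000555015555540000005040155540155505555555000000555000540000015555555400000155555500055555555555550000000000)
.nil)
theorem n50_ok : Net.ok 506 n50 = true := by decide +kernel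
noncomputable def n51 : Net := (.cons (nat_lit 1) (nat_lit 0x550055555555000000555555000000000000000055555500000055555555555555555555000000000000005555555555555500000000000000000000000000)
.nil)
theorem n51_ok : Net.ok 506 n51 = true := by decide +kernel
noncomputable def n52 : Net := (.cons (nat_lit 1) (nat_lit 0x5555555555555555000000000000000000000000000055555555555555555555555555555555555555550000000000000000000000000000000000000000)
.nil)
theorem n52_ok : Net.ok 506 n52 = true := by decide +kernel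
noncomputable def n53 : Net := (.cons (nat_lit 1) (nat_lit 0x55555555555555555555555555555555555555555555555555555555000000000000000000000000000000000000000000000000000000000000)
.nil)
theorem n53_ok : Net.ok 506 n53 = true := by decide +kernel
noncomputable def nets : List Net := [n0, n1, n2, n3, n4, n5, n6, n7, n8, n9, n10, n11, n12, n13, n14, n15, n16, n17, n18, n19, n20, n21, n22, n23, n24, n25, n26, n27, n28, n29, n30, n31, n32, n33, n34, n35, n36, n37, n38, n39, n40, n41, n42, n43, n44, n45, n46, n47, n48, n49, n50, n51, n52, n53]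
theorem nets_ok : netsOk 506 nets = true := List.all_eq_true.2 (fa_cons n0_ok (fa_cons n1_ok (fa_cons n2_ok (fa_cons n3_ok (fa_cons n4_ok (fa_cons n5_ok (fa_cons n6_ok (fa_cons n7_ok (fa_cons n8_ok (fa_cons n9_ok (fa_cons n10_ok (fa_cons n11_ok (fa_cons n12_ok (fa_cons n13_ok (fa_cons n14_ok (fa_cons n15_ok (fa_cons n16_ok (fa_cons n17_ok (fa_cons n18_ok (fa_cons n19_ok (fa_cons n20_ok (fa_cons n21_ok (fa_cons n22_ok (fa_cons n23_ok (fa_cons n24_ok (fa_cons n25_ok (fa_cons n26_ok (fa_cons n27_ok (fa_cons n28_ok (fa_cons n29_ok (fa_cons n30_ok (fa_cons n31_ok (fa_cons n32_ok (fa_cons n33_ok (fa_cons n34_ok (fa_cons n35_ok (fa_cons n36_ok (fa_cons n37_ok (fa_cons n38_ok (fa_cons n39_ok (fa_cons n40_ok (fa_cons n41_ok (fa_cons n42_ok (fa_cons n43_ok (fa_cons n44_ok (fa_cons n45_ok (fa_cons n46_ok (fa_cons n47_ok (fa_cons n48_ok (fa_cons n49_ok (fa_cons n50_ok (fa_cons n51_ok (fa_cons n52_ok (fa_cons n53_ok (fa_nil)))))))))))))))))))))))))))))))))))))))))))))))))))))))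
noncomputable def ws11 : List Word := []
noncomputable def lev10 : Level := ⟨nat_lit 240,
[⟨[nat_lit 106], [], [],
[⟨nat_lit 0, [], nat_lit 1, [], []⟩,
⟨nat_lit 1, [], nat_lit 0, [], []⟩],
[]⟩],
[⟨dw (nat_lit 0x01), (nat_lit 0x2000000000000000000000000000000000000000000000000000000000000), [], .nil, []⟩]⟩
noncomputable def ex10 : List Word := []
noncomputable def ws10 : List Word := List.append ex10 (lev10.gens ws11)
noncomputable def rels10 : List (Word × Word) := List.append (lev10.rels ws11) (memRels (lev10.gens ws11) ex10 [])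
noncomputable def lev9 : Level := ⟨nat_lit 160,
[⟨[nat_lit 92], [dw (nat_lit 0x01)], [dw (nat_lit 0x01)],
[⟨nat_lit 0, [], nat_lit 1, [], []⟩,
⟨nat_lit 1, [], nat_lit 0, [], []⟩],
[]⟩],
[⟨dw (nat_lit 0x01), (nat_lit 0x20000000000000000000000000000000000000000), [], (.cons (nat_lit 240) [dw (nat_lit 0x01)] [dw (nat_lit 0x01)]
.nil), [dw (nat_lit 0x01)]⟩]⟩
noncomputable def ex9 : List Word := [[nat_lit 104]]
noncomputable def ws9 : List Word := List.append ex9 (lev9.gens ws10)
noncomputable def rels9 : List (Word × Word) := List.append (lev9.rels ws10) (memRels (lev9.gens ws10) ex9 [dw (nat_lit 0x0103)])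
noncomputable def lev8 : Level := ⟨nat_lit 104,
[⟨[nat_lit 102], [dw (nat_lit 0x01), dw (nat_lit 0x05)], [dw (nat_lit 0x01), dw (nat_lit 0x05)],
[⟨nat_lit 0, [], nat_lit 1, [], []⟩,
⟨nat_lit 1, [], nat_lit 0, [], []⟩],
[]⟩],
[⟨dw (nat_lit 0x01), (nat_lit 0x200000000000000000000000000), [], (.cons (nat_lit 160) [dw (nat_lit 0x01)] [dw (nat_lit 0x01)]
(.cons (nat_lit 240) [dw (nat_lit 0x05)] [dw (nat_lit 0x01)]
.nil)), [dw (nat_lit 0x01), dw (nat_lit 0x05)]⟩]⟩
noncomputable def ex8 : List Word := []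
noncomputable def ws8 : List Word := List.append ex8 (lev8.gens ws9)
noncomputable def rels8 : List (Word × Word) := List.append (lev8.rels ws9) (memRels (lev8.gens ws9) ex8 [])
noncomputable def lev7 : Level := ⟨nat_lit 66,
[⟨[nat_lit 88], [dw (nat_lit 0x01), dw (nat_lit 0x03), dw (nat_lit 0x07)], [dw (nat_lit 0x01), dw (nat_lit 0x03), dw (nat_lit 0x07)],
[⟨nat_lit 0, [], nat_lit 1, [], []⟩,
⟨nat_lit 1, [], nat_lit 0, [], []⟩],
[]⟩],
[⟨dw (nat_lit 0x01), (nat_lit 0x80000000000000000), [], (.cons (nat_lit 104) [dw (nat_lit 0x01)] [dw (nat_lit 0x01)]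
(.cons (nat_lit 160) [dw (nat_lit 0x03)] [dw (nat_lit 0x01)]
(.cons (nat_lit 240) [dw (nat_lit 0x07)] [dw (nat_lit 0x01)]
.nil))), [dw (nat_lit 0x01), dw (nat_lit 0x03), dw (nat_lit 0x07)]⟩]⟩
noncomputable def ex7 : List Word := []
noncomputable def ws7 : List Word := List.append ex7 (lev7.gens ws8)
noncomputable def rels7 : List (Word × Word) := List.append (lev7.rels ws8) (memRels (lev7.gens ws8) ex7 [])
noncomputable def lev6 : Level := ⟨nat_lit 40,
[⟨[nat_lit 96], [dw (nat_lit 0x01), dw (nat_lit 0x03), dw (nat_lit 0x05)], [dw (nat_lit 0x01), dw (nat_lit 0x03), dw (nat_lit 0x05)],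
[⟨nat_lit 0, [], nat_lit 1, [], []⟩,
⟨nat_lit 1, [], nat_lit 0, [], []⟩],
[]⟩],
[⟨dw (nat_lit 0x01), (nat_lit 0x20000000000), [], (.cons (nat_lit 66) [dw (nat_lit 0x01)] [dw (nat_lit 0x01)]
(.cons (nat_lit 104) [dw (nat_lit 0x03)] [dw (nat_lit 0x01)]
(.cons (nat_lit 160) [dw (nat_lit 0x05)] [dw (nat_lit 0x01)]
(.cons (nat_lit 240) [dw (nat_lit 0x09)] [dw (nat_lit 0x01)]
.nil)))), [dw (nat_lit 0x01), dw (nat_lit 0x03), dw (nat_lit 0x05), dw (nat_lit 0x09)]⟩]⟩
noncomputable def ex6 : List Word := [[nat_lit 98], [nat_lit 100]]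
noncomputable def ws6 : List Word := List.append ex6 (lev6.gens ws7)
noncomputable def rels6 : List (Word × Word) := List.append (lev6.rels ws7) (memRels (lev6.gens ws7) ex6 [dw (nat_lit 0x0103050b), dw (nat_lit 0x010307)])
noncomputable def lev5 : Level := ⟨nat_lit 14,
[⟨[nat_lit 80], [dw (nat_lit 0x01), dw (nat_lit 0x07), dw (nat_lit 0x09)], [dw (nat_lit 0x01), dw (nat_lit 0x07), dw (nat_lit 0x09)],
[⟨nat_lit 0, [], nat_lit 1, [], []⟩,
⟨nat_lit 1, [], nat_lit 0, [], []⟩],
[]⟩],
[⟨dw (nat_lit 0x01), (nat_lit 0x8000), [], (.cons (nat_lit 40) [dw (nat_lit 0x01)] [dw (nat_lit 0x01)]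
(.cons (nat_lit 66) [dw (nat_lit 0x07)] [dw (nat_lit 0x01)]
(.cons (nat_lit 104) [dw (nat_lit 0x09)] [dw (nat_lit 0x01)]
(.cons (nat_lit 160) [dw (nat_lit 0x0b)] [dw (nat_lit 0x01)]
(.cons (nat_lit 240) [dw (nat_lit 0x0f)] [dw (nat_lit 0x01)]
.nil))))), [dw (nat_lit 0x01), dw (nat_lit 0x07), dw (nat_lit 0x09), dw (nat_lit 0x0b), dw (nat_lit 0x0f)]⟩]⟩
noncomputable def ex5 : List Word := [[nat_lit 90], [nat_lit 94]]
noncomputable def ws5 : List Word := List.append ex5 (lev5.gens ws6)
noncomputable def rels5 : List (Word × Word) := List.append (lev5.rels ws6) (memRels (lev5.gens ws6) ex5 [dw (nat_lit 0x01090b11), dw (nat_lit 0x0103090d)])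
noncomputable def lev4 : Level := ⟨nat_lit 2,
[⟨[nat_lit 76], [dw (nat_lit 0x01), dw (nat_lit 0x07), dw (nat_lit 0x0d)], [dw (nat_lit 0x01), dw (nat_lit 0x07), dw (nat_lit 0x0d)],
[⟨nat_lit 0, [], nat_lit 1, [], []⟩,
⟨nat_lit 1, [], nat_lit 0, [], []⟩],
[]⟩],
[⟨dw (nat_lit 0x01), (nat_lit 0x8), [], (.cons (nat_lit 14) [dw (nat_lit 0x01)] [dw (nat_lit 0x01)]
(.cons (nat_lit 40) [dw (nat_lit 0x07)] [dw (nat_lit 0x01)]
(.cons (nat_lit 66) [dw (nat_lit 0x0d)] [dw (nat_lit 0x01)]
(.cons (nat_lit 104) [dw (nat_lit 0x0f)] [dw (nat_lit 0x01)]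
(.cons (nat_lit 160) [dw (nat_lit 0x11)] [dw (nat_lit 0x01)]
(.cons (nat_lit 240) [dw (nat_lit 0x15)] [dw (nat_lit 0x01)]
.nil)))))), [dw (nat_lit 0x01), dw (nat_lit 0x07), dw (nat_lit 0x0d), dw (nat_lit 0x0f), dw (nat_lit 0x11), dw (nat_lit 0x15)]⟩]⟩
noncomputable def ex4 : List Word := [[nat_lit 78], [nat_lit 82], [nat_lit 84], [nat_lit 86]]
noncomputable def ws4 : List Word := List.append ex4 (lev4.gens ws5)
noncomputable def rels4 : List (Word × Word) := List.append (lev4.rels ws5) (memRels (lev4.gens ws5) ex4 [dw (nat_lit 0x01090f13), dw (nat_lit 0x01031317), dw (nat_lit 0x01030f11), dw (nat_lit 0x0103)])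
noncomputable def lev3 : Level := ⟨nat_lit 36,
[⟨[nat_lit 70], [dw (nat_lit 0x07), dw (nat_lit 0x11), dw (nat_lit 0x1b)], [dw (nat_lit 0x0b), dw (nat_lit 0x01171b), dw (nat_lit 0x191f)],
[⟨nat_lit 0, [], nat_lit 1, [], []⟩,
⟨nat_lit 1, [], nat_lit 2, dw (nat_lit 0x01), dw (nat_lit 0x1119)⟩,
⟨nat_lit 2, [], nat_lit 0, [], []⟩,
⟨nat_lit 3, [], nat_lit 6, dw (nat_lit 0x01), dw (nat_lit 0x011719)⟩,
⟨nat_lit 4, [], nat_lit 7, dw (nat_lit 0x0d), dw (nat_lit 0x1117191f)⟩,
⟨nat_lit 5, [], nat_lit 11, dw (nat_lit 0x05), dw (nat_lit 0x010b191b)⟩,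
⟨nat_lit 6, [], nat_lit 9, dw (nat_lit 0x11), dw (nat_lit 0x11191b1f)⟩,
⟨nat_lit 7, [], nat_lit 10, [], dw (nat_lit 0x0111191b1f)⟩,
⟨nat_lit 8, [], nat_lit 5, dw (nat_lit 0x01), dw (nat_lit 0x01171b1f)⟩,
⟨nat_lit 9, [], nat_lit 3, dw (nat_lit 0x01), dw (nat_lit 0x0b171b1f)⟩,
⟨nat_lit 10, [], nat_lit 4, dw (nat_lit 0x01), dw (nat_lit 0x1117191b1f)⟩,
⟨nat_lit 11, [], nat_lit 8, dw (nat_lit 0x01), dw (nat_lit 0x010b1b)⟩,
⟨nat_lit 12, [], nat_lit 17, dw (nat_lit 0x01), dw (nat_lit 0x1117)⟩,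
⟨nat_lit 13, [], nat_lit 18, dw (nat_lit 0x01), dw (nat_lit 0x0b111719)⟩,
⟨nat_lit 14, [], nat_lit 1, dw (nat_lit 0x01), dw (nat_lit 0x011119)⟩,
⟨nat_lit 15, [], nat_lit 12, dw (nat_lit 0x01), dw (nat_lit 0x11171f)⟩,
⟨nat_lit 16, [], nat_lit 13, dw (nat_lit 0x03), dw (nat_lit 0x11191b)⟩,
⟨nat_lit 17, [], nat_lit 15, [], dw (nat_lit 0x0b171b1f)⟩,
⟨nat_lit 18, [], nat_lit 16, dw (nat_lit 0x01), dw (nat_lit 0x0b17191b1f)⟩,
⟨nat_lit 2, dw (nat_lit 0x01), nat_lit 14, [], dw (nat_lit 0x1119)⟩],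
[dw (nat_lit 0x03), dw (nat_lit 0x05)]⟩,
⟨[nat_lit 72], [dw (nat_lit 0x03), dw (nat_lit 0x1217), dw (nat_lit 0x181b), dw (nat_lit 0x19)], [dw (nat_lit 0x111b1f), dw (nat_lit 0x0117), dw (nat_lit 0x19), dw (nat_lit 0x17191b)],
[⟨nat_lit 0, [], nat_lit 3, [], []⟩,
⟨nat_lit 1, [], nat_lit 6, [], []⟩,
⟨nat_lit 2, [], nat_lit 9, [], []⟩,
⟨nat_lit 3, [], nat_lit 4, dw (nat_lit 0x01), dw (nat_lit 0x191b1f)⟩,
⟨nat_lit 4, [], nat_lit 0, [], []⟩,
⟨nat_lit 5, [], nat_lit 13, [], dw (nat_lit 0x0b191b)⟩,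
⟨nat_lit 6, [], nat_lit 7, dw (nat_lit 0x0d), dw (nat_lit 0x19)⟩,
⟨nat_lit 7, [], nat_lit 1, [], []⟩,
⟨nat_lit 8, [], nat_lit 16, [], dw (nat_lit 0x010b191b1f)⟩,
⟨nat_lit 9, [], nat_lit 10, [], dw (nat_lit 0x0b111719)⟩,
⟨nat_lit 10, [], nat_lit 2, [], []⟩,
⟨nat_lit 11, [], nat_lit 18, [], dw (nat_lit 0x011f)⟩,
⟨nat_lit 12, [], nat_lit 5, dw (nat_lit 0x01), dw (nat_lit 0x01191b)⟩,
⟨nat_lit 13, [], nat_lit 12, [], dw (nat_lit 0x11171b1f)⟩,
⟨nat_lit 14, [], nat_lit 3, dw (nat_lit 0x01), dw (nat_lit 0x011119)⟩,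
⟨nat_lit 15, [], nat_lit 8, [], dw (nat_lit 0x011117191f)⟩,
⟨nat_lit 16, [], nat_lit 15, [], dw (nat_lit 0x191b)⟩,
⟨nat_lit 17, [], nat_lit 11, dw (nat_lit 0x05), dw (nat_lit 0x0b171b)⟩,
⟨nat_lit 18, [], nat_lit 17, [], dw (nat_lit 0x1117191f)⟩,
⟨nat_lit 4, dw (nat_lit 0x01), nat_lit 14, [], dw (nat_lit 0x1119)⟩],
[dw (nat_lit 0x01), dw (nat_lit 0x07), dw (nat_lit 0x03), dw (nat_lit 0x05)]⟩,
⟨[nat_lit 74], [dw (nat_lit 0x11), dw (nat_lit 0x17), dw (nat_lit 0x19)], [dw (nat_lit 0x01171b), dw (nat_lit 0x0b1117), dw (nat_lit 0x0b1119)],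
[⟨nat_lit 0, [], nat_lit 5, [], []⟩,
⟨nat_lit 1, [], nat_lit 8, [], []⟩,
⟨nat_lit 2, [], nat_lit 11, [], []⟩,
⟨nat_lit 3, [], nat_lit 12, [], []⟩,
⟨nat_lit 4, [], nat_lit 13, [], []⟩,
⟨nat_lit 5, [], nat_lit 0, [], dw (nat_lit 0x0111171b)⟩,
⟨nat_lit 6, [], nat_lit 15, [], []⟩,
⟨nat_lit 7, [], nat_lit 16, [], []⟩,
⟨nat_lit 8, [], nat_lit 1, [], dw (nat_lit 0x0b)⟩,
⟨nat_lit 9, [], nat_lit 17, [], []⟩,
⟨nat_lit 10, [], nat_lit 18, [], []⟩,
⟨nat_lit 11, [], nat_lit 2, [], dw (nat_lit 0x010b11171b)⟩,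
⟨nat_lit 12, [], nat_lit 3, [], dw (nat_lit 0x010b11171b)⟩,
⟨nat_lit 13, [], nat_lit 4, [], dw (nat_lit 0x0b)⟩,
⟨nat_lit 14, [], nat_lit 5, dw (nat_lit 0x01), dw (nat_lit 0x011119)⟩,
⟨nat_lit 15, [], nat_lit 6, [], dw (nat_lit 0x0111171b)⟩,
⟨nat_lit 16, [], nat_lit 7, [], dw (nat_lit 0x010b11171b)⟩,
⟨nat_lit 17, [], nat_lit 9, [], dw (nat_lit 0x0b)⟩,
⟨nat_lit 18, [], nat_lit 10, [], dw (nat_lit 0x0111171b)⟩,
⟨nat_lit 5, dw (nat_lit 0x01), nat_lit 14, [], dw (nat_lit 0x17191b)⟩],
[dw (nat_lit 0x01), dw (nat_lit 0x0406)]⟩],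
[⟨dw (nat_lit 0x01), (nat_lit 0x300000000000000000000000000000000000000000000000000000000000000000000000), [dw (nat_lit 0x01)], (.cons (nat_lit 2) [dw (nat_lit 0x03)] [dw (nat_lit 0x01)]
(.cons (nat_lit 14) [dw (nat_lit 0x0b)] [dw (nat_lit 0x01)]
(.cons (nat_lit 40) [dw (nat_lit 0x11)] [dw (nat_lit 0x01)]
(.cons (nat_lit 66) [dw (nat_lit 0x17)] [dw (nat_lit 0x01)]
(.cons (nat_lit 104) [dw (nat_lit 0x1a1b)] [dw (nat_lit 0x01)]
(.cons (nat_lit 160) [dw (nat_lit 0x1d)] [dw (nat_lit 0x01)]
.nil)))))), [dw (nat_lit 0x01191f), dw (nat_lit 0x010b11171b), dw (nat_lit 0x0b11), dw (nat_lit 0x0b171f), dw (nat_lit 0x1117191f), dw (nat_lit 0x1117191b1f)]⟩,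
⟨dw (nat_lit 0x02), (nat_lit 0xc0000000000000000000000000000000000000000000000000000000000000000000000000000000000000000000000000), [dw (nat_lit 0x01)], (.cons (nat_lit 2) [dw (nat_lit 0x07)] [dw (nat_lit 0x01)]
(.cons (nat_lit 14) [dw (nat_lit 0x0b)] [dw (nat_lit 0x01)]
(.cons (nat_lit 40) [dw (nat_lit 0x11)] [dw (nat_lit 0x01)]
(.cons (nat_lit 66) [dw (nat_lit 0x181d)] [dw (nat_lit 0x01)]
(.cons (nat_lit 104) [dw (nat_lit 0x19)] [dw (nat_lit 0x01)]
(.cons (nat_lit 160) [dw (nat_lit 0x1b)] [dw (nat_lit 0x01)]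
.nil)))))), [dw (nat_lit 0x0b), dw (nat_lit 0x0111171b), dw (nat_lit 0x01171b), dw (nat_lit 0x0111191b1f), dw (nat_lit 0x1117191b), dw (nat_lit 0x191f)]⟩,
⟨dw (nat_lit 0x03), (nat_lit 0xc000000000000000000000000000000000000000000000000), [dw (nat_lit 0x01)], (.cons (nat_lit 2) [dw (nat_lit 0x07)] [dw (nat_lit 0x01)]
(.cons (nat_lit 14) [dw (nat_lit 0x0b)] [dw (nat_lit 0x01)]
(.cons (nat_lit 40) [dw (nat_lit 0x13)] [dw (nat_lit 0x01)]
(.cons (nat_lit 66) [dw (nat_lit 0x181b)] [dw (nat_lit 0x01)]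
(.cons (nat_lit 104) [dw (nat_lit 0x19)] [dw (nat_lit 0x01)]
(.cons (nat_lit 240) [dw (nat_lit 0x1f)] [dw (nat_lit 0x01)]
.nil)))))), [dw (nat_lit 0x0b), dw (nat_lit 0x0111171b), dw (nat_lit 0x010b111b1f), dw (nat_lit 0x17191b), dw (nat_lit 0x171b), dw (nat_lit 0x11171b1f)]⟩,
⟨dw (nat_lit 0x04), (nat_lit 0xc00000000000000000000000000000000000000000000000000000000000000000000000000000000000000000000000000000000000000), [dw (nat_lit 0x01)], (.cons (nat_lit 2) [dw (nat_lit 0x03)] [dw (nat_lit 0x01)]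
(.cons (nat_lit 14) [dw (nat_lit 0x0b)] [dw (nat_lit 0x01)]
(.cons (nat_lit 40) [dw (nat_lit 0x1217)] [dw (nat_lit 0x01)]
(.cons (nat_lit 66) [dw (nat_lit 0x181b)] [dw (nat_lit 0x01)]
(.cons (nat_lit 104) [dw (nat_lit 0x19)] [dw (nat_lit 0x01)]
(.cons (nat_lit 160) [dw (nat_lit 0x1d)] [dw (nat_lit 0x01)]
.nil)))))), [dw (nat_lit 0x111b1f), dw (nat_lit 0x010b11171b), dw (nat_lit 0x0117), dw (nat_lit 0x19), dw (nat_lit 0x17191b), dw (nat_lit 0x01171f)]⟩,
⟨dw (nat_lit 0x05), (nat_lit 0xc00000000000000000000000000000000000000000000000000000000000000000000000000000), [dw (nat_lit 0x01)], (.cons (nat_lit 2) [dw (nat_lit 0x03)] [dw (nat_lit 0x01)]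
(.cons (nat_lit 14) [dw (nat_lit 0x0b)] [dw (nat_lit 0x01)]
(.cons (nat_lit 40) [dw (nat_lit 0x11)] [dw (nat_lit 0x01)]
(.cons (nat_lit 66) [dw (nat_lit 0x17)] [dw (nat_lit 0x01)]
(.cons (nat_lit 104) [dw (nat_lit 0x19)] [dw (nat_lit 0x01)]
(.cons (nat_lit 160) [dw (nat_lit 0x1d)] [dw (nat_lit 0x01)]
.nil)))))), [dw (nat_lit 0x0b17191b1f), dw (nat_lit 0x010b11171b), dw (nat_lit 0x01171b), dw (nat_lit 0x0b1117), dw (nat_lit 0x0b1119), dw (nat_lit 0x17191b1f)]⟩,
⟨dw (nat_lit 0x0301), (nat_lit 0xc0000000000000000000000000000000000000000000000000000000000), [dw (nat_lit 0x01)], (.cons (nat_lit 2) [dw (nat_lit 0x05)] [dw (nat_lit 0x01)]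
(.cons (nat_lit 14) [dw (nat_lit 0x0b)] [dw (nat_lit 0x01)]
(.cons (nat_lit 40) [dw (nat_lit 0x1217)] [dw (nat_lit 0x01)]
(.cons (nat_lit 66) [dw (nat_lit 0x1819)] [dw (nat_lit 0x01)]
(.cons (nat_lit 104) [dw (nat_lit 0x1a1b)] [dw (nat_lit 0x01)]
(.cons (nat_lit 240) [dw (nat_lit 0x1f)] [dw (nat_lit 0x01)]
.nil)))))), [dw (nat_lit 0x0b111b1f), dw (nat_lit 0x0b), dw (nat_lit 0x010b11191b1f), dw (nat_lit 0x01171f), dw (nat_lit 0x010b1117191f), dw (nat_lit 0x191b)]⟩,
⟨dw (nat_lit 0x0401), (nat_lit 0xc0000000000000000000000000000000000000000000000000000000000000000000000000000), [dw (nat_lit 0x0d)], (.cons (nat_lit 2) [dw (nat_lit 0x01)] [dw (nat_lit 0x01)]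
(.cons (nat_lit 14) [dw (nat_lit 0x0b)] [dw (nat_lit 0x01)]
(.cons (nat_lit 40) [dw (nat_lit 0x15)] [dw (nat_lit 0x01)]
(.cons (nat_lit 66) [dw (nat_lit 0x17)] [dw (nat_lit 0x01)]
(.cons (nat_lit 104) [dw (nat_lit 0x19)] [dw (nat_lit 0x01)]
(.cons (nat_lit 160) [dw (nat_lit 0x1d)] [dw (nat_lit 0x01)]
.nil)))))), [dw (nat_lit 0x01), dw (nat_lit 0x0111171b), dw (nat_lit 0x1f), dw (nat_lit 0x0b11191b1f), dw (nat_lit 0x0b1119), dw (nat_lit 0x17191b1f)]⟩,
⟨dw (nat_lit 0x0501), (nat_lit 0xc00000000000000000000000000000000000000000000000000000000), [dw (nat_lit 0x01)], (.cons (nat_lit 2) [dw (nat_lit 0x07)] [dw (nat_lit 0x01)]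
(.cons (nat_lit 14) [dw (nat_lit 0x0b)] [dw (nat_lit 0x01)]
(.cons (nat_lit 40) [dw (nat_lit 0x11)] [dw (nat_lit 0x01)]
(.cons (nat_lit 66) [dw (nat_lit 0x17)] [dw (nat_lit 0x01)]
(.cons (nat_lit 104) [dw (nat_lit 0x1a1b)] [dw (nat_lit 0x01)]
(.cons (nat_lit 240) [dw (nat_lit 0x1f)] [dw (nat_lit 0x01)]
.nil)))))), [dw (nat_lit 0x010b11171b), dw (nat_lit 0x0111171b), dw (nat_lit 0x11), dw (nat_lit 0x010b1b1f), dw (nat_lit 0x010b1117191f), dw (nat_lit 0x1f)]⟩,
⟨dw (nat_lit 0x0302), (nat_lit 0x3000000000000000000000000000000000), [dw (nat_lit 0x11)], (.cons (nat_lit 2) [dw (nat_lit 0x01)] [dw (nat_lit 0x01)]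
(.cons (nat_lit 14) [dw (nat_lit 0x0b)] [dw (nat_lit 0x01)]
(.cons (nat_lit 40) [dw (nat_lit 0x13)] [dw (nat_lit 0x01)]
(.cons (nat_lit 66) [dw (nat_lit 0x1819)] [dw (nat_lit 0x01)]
(.cons (nat_lit 160) [dw (nat_lit 0x1b)] [dw (nat_lit 0x01)]
(.cons (nat_lit 240) [dw (nat_lit 0x1f)] [dw (nat_lit 0x01)]
.nil)))))), [dw (nat_lit 0x01), dw (nat_lit 0x010b11171b), dw (nat_lit 0x010b111b), dw (nat_lit 0x17191b1f), dw (nat_lit 0x111f), dw (nat_lit 0x1117191f)]⟩,
⟨dw (nat_lit 0x0402), (nat_lit 0xc00000000000000000000000000000000000000000000000000000000000000000000000000000000000000000000000000000000000000000000000), [dw (nat_lit 0x01)], (.cons (nat_lit 2) [dw (nat_lit 0x05)] [dw (nat_lit 0x01)]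
(.cons (nat_lit 14) [dw (nat_lit 0x0b)] [dw (nat_lit 0x01)]
(.cons (nat_lit 40) [dw (nat_lit 0x1217)] [dw (nat_lit 0x01)]
(.cons (nat_lit 66) [dw (nat_lit 0x1819)] [dw (nat_lit 0x01)]
(.cons (nat_lit 104) [dw (nat_lit 0x1a1b)] [dw (nat_lit 0x01)]
(.cons (nat_lit 240) [dw (nat_lit 0x1f)] [dw (nat_lit 0x01)]
.nil)))))), [dw (nat_lit 0x010b191f), dw (nat_lit 0x0b), dw (nat_lit 0x0b11191f), dw (nat_lit 0x1117191b1f), dw (nat_lit 0x1f), dw (nat_lit 0x010b1117191f)]⟩,
⟨dw (nat_lit 0x0502), (nat_lit 0x3000000000000000000000000000000000000000000000000000000000000000000000000000000000000000000000000000000000000000), [dw (nat_lit 0x05)], (.cons (nat_lit 2) [dw (nat_lit 0x01)] [dw (nat_lit 0x01)]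
(.cons (nat_lit 14) [dw (nat_lit 0x0b)] [dw (nat_lit 0x01)]
(.cons (nat_lit 40) [dw (nat_lit 0x11)] [dw (nat_lit 0x01)]
(.cons (nat_lit 66) [dw (nat_lit 0x181b)] [dw (nat_lit 0x01)]
(.cons (nat_lit 104) [dw (nat_lit 0x19)] [dw (nat_lit 0x01)]
(.cons (nat_lit 160) [dw (nat_lit 0x1d)] [dw (nat_lit 0x01)]
.nil)))))), [dw (nat_lit 0x01), dw (nat_lit 0x0b), dw (nat_lit 0x0b11), dw (nat_lit 0x171b), dw (nat_lit 0x17191b), dw (nat_lit 0x01171f)]⟩,
⟨dw (nat_lit 0x0503), (nat_lit 0xc000000000000000000000000000000000000), [dw (nat_lit 0x01)], (.cons (nat_lit 2) [dw (nat_lit 0x03)] [dw (nat_lit 0x01)]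
(.cons (nat_lit 14) [dw (nat_lit 0x0b)] [dw (nat_lit 0x01)]
(.cons (nat_lit 40) [dw (nat_lit 0x13)] [dw (nat_lit 0x01)]
(.cons (nat_lit 66) [dw (nat_lit 0x17)] [dw (nat_lit 0x01)]
(.cons (nat_lit 160) [dw (nat_lit 0x1b)] [dw (nat_lit 0x01)]
(.cons (nat_lit 240) [dw (nat_lit 0x1f)] [dw (nat_lit 0x01)]
.nil)))))), [dw (nat_lit 0x01191f), dw (nat_lit 0x0b), dw (nat_lit 0x0b11191f), dw (nat_lit 0x0b11191b), dw (nat_lit 0x1b), dw (nat_lit 0x1117191f)]⟩,
⟨dw (nat_lit 0x0504), (nat_lit 0x30000000000000000000000000000000000000000000000000000000000000000000000000000000000000000000000000000000000000000000000000), [dw (nat_lit 0x03)], (.cons (nat_lit 2) [dw (nat_lit 0x01)] [dw (nat_lit 0x01)]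
(.cons (nat_lit 14) [dw (nat_lit 0x0b)] [dw (nat_lit 0x01)]
(.cons (nat_lit 40) [dw (nat_lit 0x15)] [dw (nat_lit 0x01)]
(.cons (nat_lit 66) [dw (nat_lit 0x17)] [dw (nat_lit 0x01)]
(.cons (nat_lit 104) [dw (nat_lit 0x1a1b)] [dw (nat_lit 0x01)]
(.cons (nat_lit 240) [dw (nat_lit 0x1f)] [dw (nat_lit 0x01)]
.nil)))))), [dw (nat_lit 0x01), dw (nat_lit 0x0111171b), dw (nat_lit 0x11171b1f), dw (nat_lit 0x0b111b), dw (nat_lit 0x191b), dw (nat_lit 0x010b1117191f)]⟩,
⟨dw (nat_lit 0x010101), (nat_lit 0x2000000000), [], (.cons (nat_lit 2) [dw (nat_lit 0x01)] [dw (nat_lit 0x01)]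
(.cons (nat_lit 14) [dw (nat_lit 0x0b)] [dw (nat_lit 0x01)]
(.cons (nat_lit 40) [dw (nat_lit 0x11)] [dw (nat_lit 0x01)]
(.cons (nat_lit 66) [dw (nat_lit 0x17)] [dw (nat_lit 0x01)]
(.cons (nat_lit 104) [dw (nat_lit 0x19)] [dw (nat_lit 0x01)]
(.cons (nat_lit 160) [dw (nat_lit 0x1b)] [dw (nat_lit 0x01)]
(.cons (nat_lit 240) [dw (nat_lit 0x1f)] [dw (nat_lit 0x01)]
.nil))))))), [dw (nat_lit 0x01), dw (nat_lit 0x0b), dw (nat_lit 0x11), dw (nat_lit 0x17), dw (nat_lit 0x19), dw (nat_lit 0x1b), dw (nat_lit 0x1f)]⟩,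
⟨dw (nat_lit 0x050301), (nat_lit 0x3000000000000000000000000000000000000000000000000000), [dw (nat_lit 0x03)], (.cons (nat_lit 2) [dw (nat_lit 0x01)] [dw (nat_lit 0x01)]
(.cons (nat_lit 14) [dw (nat_lit 0x0b)] [dw (nat_lit 0x01)]
(.cons (nat_lit 40) [dw (nat_lit 0x13)] [dw (nat_lit 0x01)]
(.cons (nat_lit 66) [dw (nat_lit 0x17)] [dw (nat_lit 0x01)]
(.cons (nat_lit 104) [dw (nat_lit 0x19)] [dw (nat_lit 0x01)]
(.cons (nat_lit 240) [dw (nat_lit 0x1f)] [dw (nat_lit 0x01)]
.nil)))))), [dw (nat_lit 0x01), dw (nat_lit 0x010b11171b), dw (nat_lit 0x0117), dw (nat_lit 0x0111191b1f), dw (nat_lit 0x1117191b), dw (nat_lit 0x11171b1f)]⟩,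
⟨dw (nat_lit 0x050401), (nat_lit 0xc00000000000000000000000000000000000000000000000000000000000000000), [dw (nat_lit 0x01)], (.cons (nat_lit 2) [dw (nat_lit 0x03)] [dw (nat_lit 0x01)]
(.cons (nat_lit 14) [dw (nat_lit 0x0b)] [dw (nat_lit 0x01)]
(.cons (nat_lit 40) [dw (nat_lit 0x13)] [dw (nat_lit 0x01)]
(.cons (nat_lit 66) [dw (nat_lit 0x1819)] [dw (nat_lit 0x01)]
(.cons (nat_lit 104) [dw (nat_lit 0x1a1b)] [dw (nat_lit 0x01)]
(.cons (nat_lit 160) [dw (nat_lit 0x1d)] [dw (nat_lit 0x01)]
.nil)))))), [dw (nat_lit 0x0111191b), dw (nat_lit 0x0b), dw (nat_lit 0x1117), dw (nat_lit 0x1b1f), dw (nat_lit 0x1117191f), dw (nat_lit 0x1719)]⟩,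
⟨dw (nat_lit 0x050302), (nat_lit 0xc0000000000000), [dw (nat_lit 0x01)], (.cons (nat_lit 2) [dw (nat_lit 0x03)] [dw (nat_lit 0x01)]
(.cons (nat_lit 14) [dw (nat_lit 0x0b)] [dw (nat_lit 0x01)]
(.cons (nat_lit 66) [dw (nat_lit 0x17)] [dw (nat_lit 0x01)]
(.cons (nat_lit 104) [dw (nat_lit 0x19)] [dw (nat_lit 0x01)]
(.cons (nat_lit 160) [dw (nat_lit 0x1b)] [dw (nat_lit 0x01)]
(.cons (nat_lit 240) [dw (nat_lit 0x1f)] [dw (nat_lit 0x01)]
.nil)))))), [dw (nat_lit 0x010b11171f), dw (nat_lit 0x0111171b), dw (nat_lit 0x171b1f), dw (nat_lit 0x19), dw (nat_lit 0x191f), dw (nat_lit 0x191b)]⟩,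
⟨dw (nat_lit 0x050402), (nat_lit 0x3000000000000000000000000000000000000000000000000000000000000000000000000000000000000000000000), [dw (nat_lit 0x01)], (.cons (nat_lit 2) [dw (nat_lit 0x05)] [dw (nat_lit 0x01)]
(.cons (nat_lit 14) [dw (nat_lit 0x0b)] [dw (nat_lit 0x01)]
(.cons (nat_lit 40) [dw (nat_lit 0x13)] [dw (nat_lit 0x01)]
(.cons (nat_lit 66) [dw (nat_lit 0x17)] [dw (nat_lit 0x01)]
(.cons (nat_lit 104) [dw (nat_lit 0x19)] [dw (nat_lit 0x01)]
(.cons (nat_lit 160) [dw (nat_lit 0x1b)] [dw (nat_lit 0x01)]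
.nil)))))), [dw (nat_lit 0x0b1117191b1f), dw (nat_lit 0x010b11171b), dw (nat_lit 0x11171f), dw (nat_lit 0x11191f), dw (nat_lit 0x171b), dw (nat_lit 0x111f)]⟩]⟩
noncomputable def ex3 : List Word := []
noncomputable def ws3 : List Word := List.append ex3 (lev3.gens ws4)
noncomputable def rels3 : List (Word × Word) := List.append (lev3.rels ws4) (memRels (lev3.gens ws4) ex3 [])
noncomputable def lev2 : Level := ⟨nat_lit 4,
[⟨[nat_lit 66], [dw (nat_lit 0x060301), dw (nat_lit 0x07), dw (nat_lit 0x17)], [dw (nat_lit 0x0405111d), dw (nat_lit 0x11), dw (nat_lit 0x1d)],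
[⟨nat_lit 0, [], nat_lit 1, [], []⟩,
⟨nat_lit 1, [], nat_lit 1, dw (nat_lit 0x0901), dw (nat_lit 0x070107171d25)⟩,
⟨nat_lit 2, [], nat_lit 1, dw (nat_lit 0x07), dw (nat_lit 0x01011725)⟩,
⟨nat_lit 3, [], nat_lit 1, dw (nat_lit 0x0301), dw (nat_lit 0x050401112125)⟩,
⟨nat_lit 4, [], nat_lit 3, dw (nat_lit 0x0103), dw (nat_lit 0x010101111d1f)⟩,
⟨nat_lit 5, [], nat_lit 3, dw (nat_lit 0x0301), dw (nat_lit 0x0502171d1f21)⟩,
⟨nat_lit 1, dw (nat_lit 0x01), nat_lit 2, [], []⟩,
⟨nat_lit 1, dw (nat_lit 0x03), nat_lit 3, [], []⟩,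
⟨nat_lit 1, dw (nat_lit 0x04), nat_lit 3, dw (nat_lit 0x04), dw (nat_lit 0x0503020711171d1f21)⟩,
⟨nat_lit 3, dw (nat_lit 0x01), nat_lit 1, dw (nat_lit 0x0302), dw (nat_lit 0x11171d21)⟩,
⟨nat_lit 3, dw (nat_lit 0x02), nat_lit 3, dw (nat_lit 0x01), dw (nat_lit 0x050104111f)⟩,
⟨nat_lit 3, dw (nat_lit 0x03), nat_lit 3, dw (nat_lit 0x03), dw (nat_lit 0x032125)⟩,
⟨nat_lit 1, dw (nat_lit 0x0301), nat_lit 1, dw (nat_lit 0x03), dw (nat_lit 0x05010411171f25)⟩,
⟨nat_lit 1, dw (nat_lit 0x0901), nat_lit 0, [], dw (nat_lit 0x0101071d1f)⟩,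
⟨nat_lit 3, dw (nat_lit 0x0302), nat_lit 4, [], dw (nat_lit 0x0307111d1f2125)⟩,
⟨nat_lit 3, dw (nat_lit 0x0306), nat_lit 5, [], dw (nat_lit 0x0703112125)⟩],
[dw (nat_lit 0x03), dw (nat_lit 0x01), dw (nat_lit 0x05)]⟩],
[⟨dw (nat_lit 0x01), (nat_lit 0x300000000000000000000000000003000000000000000000c0000000000000c0000000000c000300000c0c00c0), [dw (nat_lit 0x01), dw (nat_lit 0x03), dw (nat_lit 0x05), dw (nat_lit 0x03), dw (nat_lit 0x01)], (.cons (nat_lit 36) [dw (nat_lit 0x0405)] [dw (nat_lit 0x01), dw (nat_lit 0x05), dw (nat_lit 0x01)]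
(.cons (nat_lit 14) [dw (nat_lit 0x11)] [dw (nat_lit 0x01)]
(.cons (nat_lit 40) [dw (nat_lit 0x17)] [dw (nat_lit 0x01)]
(.cons (nat_lit 66) [dw (nat_lit 0x1d)] [dw (nat_lit 0x01)]
(.cons (nat_lit 104) [dw (nat_lit 0x1f)] [dw (nat_lit 0x01)]
(.cons (nat_lit 160) [dw (nat_lit 0x21)] [dw (nat_lit 0x01)]
(.cons (nat_lit 240) [dw (nat_lit 0x25)] [dw (nat_lit 0x01)]
.nil))))))), [dw (nat_lit 0x0503011d21), dw (nat_lit 0x07), dw (nat_lit 0x010101071125), dw (nat_lit 0x17), dw (nat_lit 0x171d1f21), dw (nat_lit 0x171d1f2125), dw (nat_lit 0x01010107111d1f25)]⟩,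
⟨dw (nat_lit 0x010301), (nat_lit 0x20), [], (.cons (nat_lit 36) [dw (nat_lit 0x01), dw (nat_lit 0x1b0413), dw (nat_lit 0x101f061b2009)] [dw (nat_lit 0x01), dw (nat_lit 0x0213), dw (nat_lit 0x01), dw (nat_lit 0x03), dw (nat_lit 0x03), dw (nat_lit 0x05)]
(.cons (nat_lit 2) [dw (nat_lit 0x07)] [dw (nat_lit 0x01)]
(.cons (nat_lit 14) [dw (nat_lit 0x11)] [dw (nat_lit 0x01)]
(.cons (nat_lit 40) [dw (nat_lit 0x17)] [dw (nat_lit 0x01)]
(.cons (nat_lit 66) [dw (nat_lit 0x1d)] [dw (nat_lit 0x01)]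
(.cons (nat_lit 104) [dw (nat_lit 0x1f)] [dw (nat_lit 0x01)]
(.cons (nat_lit 160) [dw (nat_lit 0x21)] [dw (nat_lit 0x01)]
(.cons (nat_lit 240) [dw (nat_lit 0x25)] [dw (nat_lit 0x01)]
.nil)))))))), [dw (nat_lit 0x010711171d1f25), dw (nat_lit 0x04071f25), dw (nat_lit 0x020507111d1f25), dw (nat_lit 0x010101171f), dw (nat_lit 0x07171d21), dw (nat_lit 0x071d21), dw (nat_lit 0x0101011125), dw (nat_lit 0x171d1f21)
, dw (nat_lit 0x1f25), dw (nat_lit 0x0101010711172125)]⟩,
⟨dw (nat_lit 0x010501), (nat_lit 0xc00000000000000000000000000300000000000000000000030000000000000c0000000c000000030030c00c00), [dw (nat_lit 0x01), dw (nat_lit 0x03), dw (nat_lit 0x05), dw (nat_lit 0x0f), dw (nat_lit 0x01)], (.cons (nat_lit 36) [dw (nat_lit 0x0105)] [dw (nat_lit 0x01), dw (nat_lit 0x0101)]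
(.cons (nat_lit 2) [dw (nat_lit 0x07)] [dw (nat_lit 0x01)]
(.cons (nat_lit 14) [dw (nat_lit 0x11)] [dw (nat_lit 0x01)]
(.cons (nat_lit 40) [dw (nat_lit 0x19)] [dw (nat_lit 0x01)]
(.cons (nat_lit 66) [dw (nat_lit 0x1e1f)] [dw (nat_lit 0x01)]
(.cons (nat_lit 104) [dw (nat_lit 0x2021)] [dw (nat_lit 0x01)]
(.cons (nat_lit 160) [dw (nat_lit 0x23)] [dw (nat_lit 0x01)]
.nil))))))), [dw (nat_lit 0x050402171f21), dw (nat_lit 0x01010107171f), dw (nat_lit 0x07171d21), dw (nat_lit 0x010101111f2125), dw (nat_lit 0x171d1f21), dw (nat_lit 0x2125), dw (nat_lit 0x25)]⟩,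
⟨dw (nat_lit 0x0107010601), (nat_lit 0x100), [], (.cons (nat_lit 36) [dw (nat_lit 0x01), dw (nat_lit 0x0c040c), dw (nat_lit 0x06)] [dw (nat_lit 0x01), dw (nat_lit 0x05), dw (nat_lit 0x01), dw (nat_lit 0x07), dw (nat_lit 0x03), dw (nat_lit 0x05), dw (nat_lit 0x01)]
(.cons (nat_lit 2) [dw (nat_lit 0x07)] [dw (nat_lit 0x01)]
(.cons (nat_lit 14) [dw (nat_lit 0x11)] [dw (nat_lit 0x01)]
(.cons (nat_lit 40) [dw (nat_lit 0x17)] [dw (nat_lit 0x01)]
(.cons (nat_lit 66) [dw (nat_lit 0x1d)] [dw (nat_lit 0x01)]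
(.cons (nat_lit 104) [dw (nat_lit 0x1f)] [dw (nat_lit 0x01)]
(.cons (nat_lit 160) [dw (nat_lit 0x21)] [dw (nat_lit 0x01)]
(.cons (nat_lit 240) [dw (nat_lit 0x25)] [dw (nat_lit 0x01)]
.nil)))))))), [dw (nat_lit 0x0407171d2125), dw (nat_lit 0x02071117), dw (nat_lit 0x020507111721), dw (nat_lit 0x07171d21), dw (nat_lit 0x07), dw (nat_lit 0x11171d2125), dw (nat_lit 0x07111d1f), dw (nat_lit 0x0711171d1f25)
, dw (nat_lit 0x01010107171d25), dw (nat_lit 0x11171f)]⟩,
⟨dw (nat_lit 0x0107020602), (nat_lit 0x200), [], (.cons (nat_lit 36) [dw (nat_lit 0x01), dw (nat_lit 0x211303), dw (nat_lit 0x02060c0d)] [dw (nat_lit 0x01), dw (nat_lit 0x0101), dw (nat_lit 0x07), dw (nat_lit 0x03), dw (nat_lit 0x05), dw (nat_lit 0x03)]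
(.cons (nat_lit 2) [dw (nat_lit 0x07)] [dw (nat_lit 0x01)]
(.cons (nat_lit 14) [dw (nat_lit 0x11)] [dw (nat_lit 0x01)]
(.cons (nat_lit 40) [dw (nat_lit 0x17)] [dw (nat_lit 0x01)]
(.cons (nat_lit 66) [dw (nat_lit 0x1d)] [dw (nat_lit 0x01)]
(.cons (nat_lit 104) [dw (nat_lit 0x1f)] [dw (nat_lit 0x01)]
(.cons (nat_lit 160) [dw (nat_lit 0x21)] [dw (nat_lit 0x01)]
(.cons (nat_lit 240) [dw (nat_lit 0x25)] [dw (nat_lit 0x01)]
.nil)))))))), [dw (nat_lit 0x07030721), dw (nat_lit 0x0207111f), dw (nat_lit 0x04051121), dw (nat_lit 0x0711171d21), dw (nat_lit 0x07), dw (nat_lit 0x01010107111d), dw (nat_lit 0x01010107171d1f2125), dw (nat_lit 0x171d1f25)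
, dw (nat_lit 0x01010107171d25), dw (nat_lit 0x171d1f21)]⟩]⟩
noncomputable def ex2 : List Word := [[nat_lit 14], [nat_lit 64], [nat_lit 68]]
noncomputable def ws2 : List Word := List.append ex2 (lev2.gens ws3)
noncomputable def rels2 : List (Word × Word) := List.append (lev2.rels ws3) (memRels (lev2.gens ws3) ex2 [dw (nat_lit 0x010301031323), dw (nat_lit 0x01030106031319), dw (nat_lit 0x0206020306)])
noncomputable def lev1 : Level := ⟨nat_lit 12,
[⟨[nat_lit 52], [dw (nat_lit 0x0213), dw (nat_lit 0x0c0507), dw (nat_lit 0x060a030601)], [dw (nat_lit 0x01090909252d), dw (nat_lit 0x03060a1f272d), dw (nat_lit 0x06070d090f1f25)],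
[⟨nat_lit 0, [], nat_lit 1, [], []⟩,
⟨nat_lit 1, [], nat_lit 1, dw (nat_lit 0x0a0803), dw (nat_lit 0x0c070d0c0a191f292d)⟩,
⟨nat_lit 2, [], nat_lit 1, dw (nat_lit 0x01), []⟩,
⟨nat_lit 3, [], nat_lit 4, dw (nat_lit 0x0903), dw (nat_lit 0x0c050d0b0f1925292d)⟩,
⟨nat_lit 4, [], nat_lit 4, dw (nat_lit 0x080d), dw (nat_lit 0x0308090b0f1f2529)⟩,
⟨nat_lit 1, dw (nat_lit 0x0c), nat_lit 1, dw (nat_lit 0x0607), dw (nat_lit 0x07060d0a0c0f191f292d)⟩,
⟨nat_lit 1, dw (nat_lit 0x04), nat_lit 3, [], []⟩,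
⟨nat_lit 1, dw (nat_lit 0x0608), nat_lit 1, dw (nat_lit 0x0b), dw (nat_lit 0x0b070d0919292d)⟩,
⟨nat_lit 1, dw (nat_lit 0x06), nat_lit 1, dw (nat_lit 0x0704), dw (nat_lit 0x04080d090f2729)⟩,
⟨nat_lit 1, dw (nat_lit 0x07), nat_lit 4, [], []⟩,
⟨nat_lit 1, dw (nat_lit 0x0d), nat_lit 0, [], dw (nat_lit 0x0c060d090f27)⟩,
⟨nat_lit 1, dw (nat_lit 0x0e), nat_lit 2, [], dw (nat_lit 0x03060a0d0f2527292d)⟩,
⟨nat_lit 3, dw (nat_lit 0x0a), nat_lit 1, dw (nat_lit 0x0501), dw (nat_lit 0x05010c0d0a0f191f25272d)⟩,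
⟨nat_lit 3, dw (nat_lit 0x05), nat_lit 4, dw (nat_lit 0x0a), dw (nat_lit 0x04060d0b0b0f1f252729)⟩,
⟨nat_lit 3, dw (nat_lit 0x06), nat_lit 1, dw (nat_lit 0x0b08), dw (nat_lit 0x0c070c1f25)⟩,
⟨nat_lit 4, dw (nat_lit 0x03), nat_lit 3, dw (nat_lit 0x0604), dw (nat_lit 0x03080c0d0a2529)⟩,
⟨nat_lit 4, dw (nat_lit 0x04), nat_lit 4, dw (nat_lit 0x0709), dw (nat_lit 0x0c060d0b0f272d)⟩,
⟨nat_lit 4, dw (nat_lit 0x05), nat_lit 4, dw (nat_lit 0x0501), dw (nat_lit 0x070c090f1f272d)⟩,
⟨nat_lit 4, dw (nat_lit 0x06), nat_lit 1, dw (nat_lit 0x060b), dw (nat_lit 0x09050c090f2527)⟩,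
⟨nat_lit 4, dw (nat_lit 0x09), nat_lit 3, dw (nat_lit 0x0903), dw (nat_lit 0x0b050d090c0f191f29)⟩,
⟨nat_lit 4, dw (nat_lit 0x0d), nat_lit 1, dw (nat_lit 0x070601), dw (nat_lit 0x010f27)⟩,
⟨nat_lit 1, dw (nat_lit 0x070b), nat_lit 4, dw (nat_lit 0x09), dw (nat_lit 0x05080a0d0f292d)⟩,
⟨nat_lit 1, dw (nat_lit 0x0603), nat_lit 1, dw (nat_lit 0x0e05), dw (nat_lit 0x0c070a0b0f19252729)⟩,
⟨nat_lit 1, dw (nat_lit 0x070c), nat_lit 4, dw (nat_lit 0x06), dw (nat_lit 0x04070c0d0f292d)⟩,
⟨nat_lit 1, dw (nat_lit 0x0a05), nat_lit 3, dw (nat_lit 0x09), dw (nat_lit 0x0c06090d2527)⟩,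
⟨nat_lit 1, dw (nat_lit 0x0809), nat_lit 1, dw (nat_lit 0x0c), dw (nat_lit 0x0608010f0d0f1f272d)⟩,
⟨nat_lit 1, dw (nat_lit 0x0a04), nat_lit 1, dw (nat_lit 0x07), dw (nat_lit 0x08010a0f19)⟩,
⟨nat_lit 4, dw (nat_lit 0x0507), nat_lit 1, dw (nat_lit 0x060c), dw (nat_lit 0x010d0f191f25272d)⟩],
[dw (nat_lit 0x03), dw (nat_lit 0x01), dw (nat_lit 0x03), dw (nat_lit 0x05), dw (nat_lit 0x03), dw (nat_lit 0x01), dw (nat_lit 0x05)]⟩],
[⟨dw (nat_lit 0x01), (nat_lit 0x330c03000303c03003330000cf003303c0003000cf000cc00033c030cc0c00c0c0f0000333cc0003300303c0030f03030c3cc30000030cc0030c0000000), [dw (nat_lit 0x01), dw (nat_lit 0x03), dw (nat_lit 0x05), dw (nat_lit 0x07), dw (nat_lit 0x03), dw (nat_lit 0x05), dw (nat_lit 0x0d), dw (nat_lit 0x07)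
, dw (nat_lit 0x03)], (.cons (nat_lit 4) [dw (nat_lit 0x0215), dw (nat_lit 0x09050b), dw (nat_lit 0x070c090d)] [dw (nat_lit 0x01), dw (nat_lit 0x03), dw (nat_lit 0x05), dw (nat_lit 0x03)]
(.cons (nat_lit 36) [dw (nat_lit 0x0a0f09)] [dw (nat_lit 0x01)]
(.cons (nat_lit 2) [dw (nat_lit 0x0f)] [dw (nat_lit 0x01)]
(.cons (nat_lit 14) [dw (nat_lit 0x19)] [dw (nat_lit 0x01)]
(.cons (nat_lit 40) [dw (nat_lit 0x1f)] [dw (nat_lit 0x01)]
(.cons (nat_lit 66) [dw (nat_lit 0x25)] [dw (nat_lit 0x01)]
(.cons (nat_lit 104) [dw (nat_lit 0x2829)] [dw (nat_lit 0x01)]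
(.cons (nat_lit 240) [dw (nat_lit 0x2d)] [dw (nat_lit 0x01)]
.nil)))))))), [dw (nat_lit 0x0909090f19252729), dw (nat_lit 0x08060f0b29), dw (nat_lit 0x07050c090f191f), dw (nat_lit 0x0f191f2529), dw (nat_lit 0x01090909252729), dw (nat_lit 0x0909090f1f27), dw (nat_lit 0x010f19252d), dw (nat_lit 0x0909091925272d)
, dw (nat_lit 0x090909192527292d), dw (nat_lit 0x010909091f252d)]⟩,
⟨dw (nat_lit 0x020301), (nat_lit 0x2000), [], (.cons (nat_lit 4) [dw (nat_lit 0x05)] [dw (nat_lit 0x01), dw (nat_lit 0x0101), dw (nat_lit 0x03), dw (nat_lit 0x0b), dw (nat_lit 0x01), dw (nat_lit 0x03), dw (nat_lit 0x01), dw (nat_lit 0x03)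
, dw (nat_lit 0x01)]
(.cons (nat_lit 36) [dw (nat_lit 0x09), dw (nat_lit 0x270e0e0b), dw (nat_lit 0x2c2d0d)] [dw (nat_lit 0x01), dw (nat_lit 0x1201), dw (nat_lit 0x01), dw (nat_lit 0x05), dw (nat_lit 0x03), dw (nat_lit 0x05)]
(.cons (nat_lit 2) [dw (nat_lit 0x0f)] [dw (nat_lit 0x01)]
(.cons (nat_lit 14) [dw (nat_lit 0x19)] [dw (nat_lit 0x01)]
(.cons (nat_lit 40) [dw (nat_lit 0x1f)] [dw (nat_lit 0x01)]
(.cons (nat_lit 66) [dw (nat_lit 0x25)] [dw (nat_lit 0x01)]
(.cons (nat_lit 104) [dw (nat_lit 0x27)] [dw (nat_lit 0x01)]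
(.cons (nat_lit 160) [dw (nat_lit 0x29)] [dw (nat_lit 0x01)]
(.cons (nat_lit 240) [dw (nat_lit 0x2d)] [dw (nat_lit 0x01)]
.nil))))))))), [dw (nat_lit 0x05), dw (nat_lit 0x0919), dw (nat_lit 0x0b192529), dw (nat_lit 0x0f0d0f191f29), dw (nat_lit 0x0f), dw (nat_lit 0x19), dw (nat_lit 0x1f), dw (nat_lit 0x25)
, dw (nat_lit 0x27), dw (nat_lit 0x29), dw (nat_lit 0x2d)]⟩,
⟨dw (nat_lit 0x010601), (nat_lit 0xc000030000c000000c00000300000c000000000c000000c030000000c0000000000300000c000030000000000300000000000000c00000000000000000000), [dw (nat_lit 0x03), dw (nat_lit 0x05), dw (nat_lit 0x09), dw (nat_lit 0x0d), dw (nat_lit 0x05), dw (nat_lit 0x05)], (.cons (nat_lit 4) [dw (nat_lit 0x07), dw (nat_lit 0x040a0b05)] [dw (nat_lit 0x01), dw (nat_lit 0x01), dw (nat_lit 0x09), dw (nat_lit 0x03), dw (nat_lit 0x01), dw (nat_lit 0x01), dw (nat_lit 0x03), dw (nat_lit 0x01)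
]
(.cons (nat_lit 36) [dw (nat_lit 0x090909), dw (nat_lit 0x090c0d0b)] [dw (nat_lit 0x01), dw (nat_lit 0x03)]
(.cons (nat_lit 2) [dw (nat_lit 0x0f)] [dw (nat_lit 0x01)]
(.cons (nat_lit 14) [dw (nat_lit 0x19)] [dw (nat_lit 0x01)]
(.cons (nat_lit 40) [dw (nat_lit 0x23)] [dw (nat_lit 0x01)]
(.cons (nat_lit 66) [dw (nat_lit 0x2627)] [dw (nat_lit 0x01)]
(.cons (nat_lit 104) [dw (nat_lit 0x282b)] [dw (nat_lit 0x01)]
(.cons (nat_lit 160) [dw (nat_lit 0x29)] [dw (nat_lit 0x01)]
.nil)))))))), [dw (nat_lit 0x0a07010f090f), dw (nat_lit 0x07050c0d191f272d), dw (nat_lit 0x0909090f2729), dw (nat_lit 0x03060c091f29), dw (nat_lit 0x011f2529), dw (nat_lit 0x010909090f191f27), dw (nat_lit 0x010f191f252d), dw (nat_lit 0x0f192529)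
, dw (nat_lit 0x010909090f25272d), dw (nat_lit 0x010909090f1f2729)]⟩,
⟨dw (nat_lit 0x010901), (nat_lit 0x3f0ccc30300f0c0c30033c000c3000000000000f0333000c33000c0c00000000000c300c0f0000000000000c300000000000000000000030000000000000000), [dw (nat_lit 0x01), dw (nat_lit 0x03), dw (nat_lit 0x05), dw (nat_lit 0x07), dw (nat_lit 0x03), dw (nat_lit 0x07), dw (nat_lit 0x09), dw (nat_lit 0x09)
], (.cons (nat_lit 4) [dw (nat_lit 0x090701)] [dw (nat_lit 0x01), dw (nat_lit 0x09), dw (nat_lit 0x05), dw (nat_lit 0x01), dw (nat_lit 0x05)]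
(.cons (nat_lit 36) [dw (nat_lit 0x090909), dw (nat_lit 0x090d0c)] [dw (nat_lit 0x01), dw (nat_lit 0x03)]
(.cons (nat_lit 2) [dw (nat_lit 0x0f)] [dw (nat_lit 0x01)]
(.cons (nat_lit 14) [dw (nat_lit 0x1a25)] [dw (nat_lit 0x01)]
(.cons (nat_lit 40) [dw (nat_lit 0x1f)] [dw (nat_lit 0x01)]
(.cons (nat_lit 66) [dw (nat_lit 0x2629)] [dw (nat_lit 0x01)]
(.cons (nat_lit 104) [dw (nat_lit 0x27)] [dw (nat_lit 0x01)]
(.cons (nat_lit 160) [dw (nat_lit 0x2b)] [dw (nat_lit 0x01)]
.nil)))))))), [dw (nat_lit 0x060f0d0f19), dw (nat_lit 0x2729), dw (nat_lit 0x07010c0d0a0f192527292d), dw (nat_lit 0x0f191f2529), dw (nat_lit 0x010909090f2527292d), dw (nat_lit 0x010f252729), dw (nat_lit 0x252729), dw (nat_lit 0x0909090f191f2527)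
, dw (nat_lit 0x0f192529)]⟩]⟩
noncomputable def ex1 : List Word := [[nat_lit 4], [nat_lit 8], [nat_lit 12], [nat_lit 16], [nat_lit 24], [nat_lit 26], [nat_lit 56], [nat_lit 58], [nat_lit 60], [nat_lit 62]]
noncomputable def ws1 : List Word := List.append ex1 (lev1.gens ws2)
noncomputable def rels1 : List (Word × Word) := List.append (lev1.rels ws2) (memRels (lev1.gens ws2) ex1 [dw (nat_lit 0x020301031b21272b), dw (nat_lit 0x020301), dw (nat_lit 0x0203011b), dw (nat_lit 0x020301030b0b0b1b27292b), dw (nat_lit 0x020301030b0b0b111b27292b), dw (nat_lit 0x0203011121272b), dw (nat_lit 0x01), dw (nat_lit 0x010111272b)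
, dw (nat_lit 0x050209030b1b292b), dw (nat_lit 0x010c010d0a0c0d111b2f)])
noncomputable def lev0 : Level := ⟨nat_lit 0,
[⟨[nat_lit 0], [dw (nat_lit 0x141f), dw (nat_lit 0x241d1b), dw (nat_lit 0x21)], [dw (nat_lit 0x130e211b25212f3f), dw (nat_lit 0x1b0e121c21202f353d43), dw (nat_lit 0x1b0e11191e231f2f353d43)],
[⟨nat_lit 0, [], nat_lit 1, [], []⟩,
⟨nat_lit 1, [], nat_lit 2, [], []⟩,
⟨nat_lit 2, [], nat_lit 2, dw (nat_lit 0x0e14), dw (nat_lit 0x200d1d1b231f212f3f43)⟩,
⟨nat_lit 3, [], nat_lit 1, dw (nat_lit 0x01), []⟩,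
⟨nat_lit 1, dw (nat_lit 0x0d), nat_lit 1, dw (nat_lit 0x0f12), dw (nat_lit 0x1c101b1e2321202f353d3f)⟩,
⟨nat_lit 1, dw (nat_lit 0x140e), nat_lit 2, dw (nat_lit 0x1f), dw (nat_lit 0x0f1c0e201d172023252f353b3d3f43)⟩,
⟨nat_lit 2, dw (nat_lit 0x210e), nat_lit 1, dw (nat_lit 0x12), dw (nat_lit 0x190f1e221f2f353d3f)⟩,
⟨nat_lit 2, dw (nat_lit 0x13), nat_lit 1, dw (nat_lit 0x1a13), dw (nat_lit 0x200f1f1b171f23253b3f43)⟩,
⟨nat_lit 1, dw (nat_lit 0x0e1b), nat_lit 0, [], dw (nat_lit 0x1b12201c222f3b43)⟩,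
⟨nat_lit 1, dw (nat_lit 0x111b), nat_lit 3, [], dw (nat_lit 0x12211f1b2022252f353d)⟩,
⟨nat_lit 2, dw (nat_lit 0x111a), nat_lit 2, dw (nat_lit 0x1e01), dw (nat_lit 0x1323101d1b2023252f353d3f43)⟩],
[dw (nat_lit 0x05), dw (nat_lit 0x01), dw (nat_lit 0x05), dw (nat_lit 0x03), dw (nat_lit 0x05), dw (nat_lit 0x01), dw (nat_lit 0x05), dw (nat_lit 0x03)
, dw (nat_lit 0x05), dw (nat_lit 0x01), dw (nat_lit 0x05), dw (nat_lit 0x01)]⟩],
[⟨dw (nat_lit 0x01), (nat_lit 0x3fccff3f330fcf0ff03f3f330f30cf0c3303c00f3f33cf0cfff00c3fc0f0cc0c00ccf3fc0f0f33cc3003300f33c3030f03030c3cc3c000330cc0030c0003000), [dw (nat_lit 0x01), dw (nat_lit 0x0d), dw (nat_lit 0x0f), dw (nat_lit 0x11), dw (nat_lit 0x1d), dw (nat_lit 0x23), dw (nat_lit 0x0d), dw (nat_lit 0x1b)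
, dw (nat_lit 0x1f), dw (nat_lit 0x0d), dw (nat_lit 0x0d)], (.cons (nat_lit 12) [dw (nat_lit 0x0b), dw (nat_lit 0x0d1f0e)] [dw (nat_lit 0x01), dw (nat_lit 0x03), dw (nat_lit 0x03), dw (nat_lit 0x07), dw (nat_lit 0x09), dw (nat_lit 0x03), dw (nat_lit 0x07), dw (nat_lit 0x03)
, dw (nat_lit 0x07), dw (nat_lit 0x03), dw (nat_lit 0x09), dw (nat_lit 0x03)]
(.cons (nat_lit 4) [dw (nat_lit 0x182b), dw (nat_lit 0x1d1f1c)] [dw (nat_lit 0x01), dw (nat_lit 0x03), dw (nat_lit 0x05)]
(.cons (nat_lit 36) [dw (nat_lit 0x21231f)] [dw (nat_lit 0x01), dw (nat_lit 0x03), dw (nat_lit 0x01)]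
(.cons (nat_lit 2) [dw (nat_lit 0x25)] [dw (nat_lit 0x01)]
(.cons (nat_lit 14) [dw (nat_lit 0x2f)] [dw (nat_lit 0x01)]
(.cons (nat_lit 40) [dw (nat_lit 0x35)] [dw (nat_lit 0x01)]
(.cons (nat_lit 66) [dw (nat_lit 0x3c41)] [dw (nat_lit 0x01)]
(.cons (nat_lit 104) [dw (nat_lit 0x3d)] [dw (nat_lit 0x01)]
(.cons (nat_lit 160) [dw (nat_lit 0x3f)] [dw (nat_lit 0x01)]
.nil))))))))), [dw (nat_lit 0x17), dw (nat_lit 0x1a131d1b1f233f), dw (nat_lit 0x171f1f1f353f43), dw (nat_lit 0x011c1e1723213543), dw (nat_lit 0x1c1913221d1f22252f353d3f43), dw (nat_lit 0x171f1f1f353b43), dw (nat_lit 0x0117252f353b), dw (nat_lit 0x1f1f1f2f353b3d43)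
, dw (nat_lit 0x01171f1f1f252f353d3f), dw (nat_lit 0x01171f1f1f3b3d), dw (nat_lit 0x1f1f1f253d)]⟩,
⟨dw (nat_lit 0x0101), (nat_lit 0x3300c0ccf030f00fc0c0ccf0cf30f3ccfc3ff0c0cc30f3000ff3c03f0f33f3ff330c03f0f0cc33cffccff0cc3cfcf0fcfcf3c33c3fffccf33ffcf3fffcffc), [dw (nat_lit 0x01), dw (nat_lit 0x0d), dw (nat_lit 0x0f), dw (nat_lit 0x11), dw (nat_lit 0x13), dw (nat_lit 0x23), dw (nat_lit 0x0d), dw (nat_lit 0x13)
, dw (nat_lit 0x19), dw (nat_lit 0x0d), dw (nat_lit 0x13)], (.cons (nat_lit 12) [dw (nat_lit 0x03), dw (nat_lit 0x0d221f0f)] [dw (nat_lit 0x01), dw (nat_lit 0x03), dw (nat_lit 0x09), dw (nat_lit 0x07), dw (nat_lit 0x09), dw (nat_lit 0x07), dw (nat_lit 0x03)]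
(.cons (nat_lit 4) [dw (nat_lit 0x1a1b19), dw (nat_lit 0x1e291b)] [dw (nat_lit 0x01), dw (nat_lit 0x07), dw (nat_lit 0x03), dw (nat_lit 0x01), dw (nat_lit 0x05), dw (nat_lit 0x03)]
(.cons (nat_lit 36) [dw (nat_lit 0x231f)] [dw (nat_lit 0x01), dw (nat_lit 0x03), dw (nat_lit 0x01)]
(.cons (nat_lit 2) [dw (nat_lit 0x27)] [dw (nat_lit 0x01)]
(.cons (nat_lit 14) [dw (nat_lit 0x31)] [dw (nat_lit 0x01)]
(.cons (nat_lit 40) [dw (nat_lit 0x35)] [dw (nat_lit 0x01)]
(.cons (nat_lit 66) [dw (nat_lit 0x3b)] [dw (nat_lit 0x01)]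
(.cons (nat_lit 160) [dw (nat_lit 0x3f)] [dw (nat_lit 0x01)]
(.cons (nat_lit 240) [dw (nat_lit 0x43)] [dw (nat_lit 0x01)]
.nil))))))))), [dw (nat_lit 0x0117252f), dw (nat_lit 0x200f211b211f353f), dw (nat_lit 0x220d1d172322202f353d), dw (nat_lit 0x190d221b2223252f3b3f43), dw (nat_lit 0x200e011d222025353d43), dw (nat_lit 0x011f1f1f2f3f), dw (nat_lit 0x171f1f1f25353b3d3f43), dw (nat_lit 0x171f1f1f25353d3f43)
, dw (nat_lit 0x01172f3b3d43), dw (nat_lit 0x1f1f1f2f353b43), dw (nat_lit 0x01171f1f1f253b3d43)]⟩,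
⟨dw (nat_lit 0x020301), (nat_lit 0x2), [], (.cons (nat_lit 12) [dw (nat_lit 0x0d)] [dw (nat_lit 0x01), dw (nat_lit 0x0101), dw (nat_lit 0x03), dw (nat_lit 0x05), dw (nat_lit 0x01), dw (nat_lit 0x03), dw (nat_lit 0x05), dw (nat_lit 0x01)
, dw (nat_lit 0x03), dw (nat_lit 0x05), dw (nat_lit 0x03), dw (nat_lit 0x01)]
(.cons (nat_lit 4) [dw (nat_lit 0x1b)] [dw (nat_lit 0x01), dw (nat_lit 0x0101), dw (nat_lit 0x03), dw (nat_lit 0x0b), dw (nat_lit 0x01), dw (nat_lit 0x03), dw (nat_lit 0x01), dw (nat_lit 0x03)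
, dw (nat_lit 0x01)]
(.cons (nat_lit 36) [dw (nat_lit 0x1f), dw (nat_lit 0x3922), dw (nat_lit 0x233f3d)] [dw (nat_lit 0x01), dw (nat_lit 0x03), dw (nat_lit 0x11), dw (nat_lit 0x01), dw (nat_lit 0x05), dw (nat_lit 0x03), dw (nat_lit 0x01)]
(.cons (nat_lit 2) [dw (nat_lit 0x25)] [dw (nat_lit 0x01)]
(.cons (nat_lit 14) [dw (nat_lit 0x2f)] [dw (nat_lit 0x01)]
(.cons (nat_lit 40) [dw (nat_lit 0x35)] [dw (nat_lit 0x01)]
(.cons (nat_lit 66) [dw (nat_lit 0x3b)] [dw (nat_lit 0x01)]
(.cons (nat_lit 104) [dw (nat_lit 0x3d)] [dw (nat_lit 0x01)]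
(.cons (nat_lit 160) [dw (nat_lit 0x3f)] [dw (nat_lit 0x01)]
(.cons (nat_lit 240) [dw (nat_lit 0x43)] [dw (nat_lit 0x01)]
.nil)))))))))), [dw (nat_lit 0x0d01171f1f1f252f43), dw (nat_lit 0x1b171f1f1f353b3d43), dw (nat_lit 0x1f3d3f), dw (nat_lit 0x2121252f3d), dw (nat_lit 0x252335), dw (nat_lit 0x25), dw (nat_lit 0x2f), dw (nat_lit 0x35)
, dw (nat_lit 0x3b), dw (nat_lit 0x3d), dw (nat_lit 0x3f), dw (nat_lit 0x43)]⟩]⟩
noncomputable def ex0 : List Word := [[nat_lit 2], [nat_lit 6], [nat_lit 10], [nat_lit 18], [nat_lit 20], [nat_lit 22], [nat_lit 28], [nat_lit 30], [nat_lit 32], [nat_lit 34], [nat_lit 36], [nat_lit 38], [nat_lit 40], [nat_lit 42], [nat_lit 44], [nat_lit 46], [nat_lit 48], [nat_lit 50], [nat_lit 54]]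
noncomputable def ws0 : List Word := List.append ex0 (lev0.gens ws1)
noncomputable def rels0 : List (Word × Word) := List.append (lev0.rels ws1) (memRels (lev0.gens ws1) ex0 [dw (nat_lit 0x1e0213011f0f1e1f212531373d3f4145), dw (nat_lit 0x02030119212121373d3f45), dw (nat_lit 0x0203010319212121273145), dw (nat_lit 0x0203010331373f4145), dw (nat_lit 0x020301031927313741), dw (nat_lit 0x0203010321212131373f4145), dw (nat_lit 0x02030121212131373d3f4145), dw (nat_lit 0x0203010319273d3f41)
, dw (nat_lit 0x0203010327373d3f45), dw (nat_lit 0x0203012121212741), dw (nat_lit 0x0203012121212731373f41), dw (nat_lit 0x020301373d4145), dw (nat_lit 0x0203013d41), dw (nat_lit 0x020301), dw (nat_lit 0x0203013f41), dw (nat_lit 0x0203013f)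
, dw (nat_lit 0x0203013f45), dw (nat_lit 0x1e0f011612241d2121313d3f45), dw (nat_lit 0x1e0f011612241d2121313d3f45)])
noncomputable def rels : List (Word × Word) := List.append rels0 (List.append rels1 (List.append rels2 (List.append rels3 (List.append rels4 (List.append rels5 (List.append rels6 (List.append rels7 (List.append rels8 (List.append rels9 (List.append rels10 ([])))))))))))
noncomputable def defs : List Word := [dw (nat_lit 0x0834283423), dw (nat_lit 0x03361c171c19230a3a04242e0c), dw (nat_lit 0x34012e1128130406380f180f17), dw (nat_lit 0x4012360d3d1b1b3f), dw (nat_lit 0x0e3f061b1b1b3f0f0f), dw (nat_lit 0x3e4035090d4009053d0e1940), dw (nat_lit 0x4342434542), dw (nat_lit 0x43460f42101041464644420f)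
, dw (nat_lit 0x4642434341434345444245410f), dw (nat_lit 0x4c4c), dw (nat_lit 0x48494c484b4949), dw (nat_lit 0x4849494b4b4749), dw (nat_lit 0x474c49474c49), dw (nat_lit 0x4a484b474c4849), dw (nat_lit 0x4a4b4b49), dw (nat_lit 0x4848484948484a4c48484b)
, dw (nat_lit 0x4e57), dw (nat_lit 0x5753), dw (nat_lit 0x4e4f52), dw (nat_lit 0x5a56504e54), dw (nat_lit 0x6159515c5a), dw (nat_lit 0x5261515b5f51515c5c61), dw (nat_lit 0x5a63665a5e), dw (nat_lit 0x655a636361)
, dw (nat_lit 0x5e6a5e6a5d69)]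
noncomputable def relsD : List (Word × Word) := defRels defs 29
noncomputable def relsO : List (Word × Word) := memRels ws0 (lets 29) [dw (nat_lit 0x27), dw (nat_lit 0x01), dw (nat_lit 0x29), dw (nat_lit 0x03), dw (nat_lit 0x293f575d6367), dw (nat_lit 0x03294d575d6365), dw (nat_lit 0x293f5d6367), dw (nat_lit 0x3f)
, dw (nat_lit 0x294747475d65), dw (nat_lit 0x03293f474747576367), dw (nat_lit 0x03294747474d576365676b), dw (nat_lit 0x03293f576367), dw (nat_lit 0x294747474d5d65), dw (nat_lit 0x293f4d57), dw (nat_lit 0x033f5767), dw (nat_lit 0x03294747474d5d676b)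
, dw (nat_lit 0x03293f4747474d), dw (nat_lit 0x033f4d5d6365676b), dw (nat_lit 0x033f4d5763676b), dw (nat_lit 0x033f4747476567), dw (nat_lit 0x033f4747475d65676b), dw (nat_lit 0x033f4747475d63656b), dw (nat_lit 0x033f4747475d63676b), dw (nat_lit 0x033f4747475d636b)
, dw (nat_lit 0x033f4747475d63), dw (nat_lit 0x23), dw (nat_lit 0x35), dw (nat_lit 0x23), dw (nat_lit 0x35)]
noncomputable def relsS : List (Word × Word) := []
noncomputable def allRels : List (Word × Word) := List.append rels (List.append relsD (List.append relsO relsS))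
theorem chk10 : lev10.chk 506 nets ws11 1 2 = true := by decide +kernel
theorem chk9 : lev9.chk 506 nets ws10 2 4 = true := by decide +kernel
theorem chk8 : lev8.chk 506 nets ws9 4 8 = true := by decide +kernel
theorem chk7 : lev7.chk 506 nets ws8 8 16 = true := by decide +kernel
theorem chk6 : lev6.chk 506 nets ws7 16 32 = true := by decide +kernel
theorem chk5 : lev5.chk 506 nets ws6 32 64 = true := by decide +kernel
theorem chk4 : lev4.chk 506 nets ws5 64 128 = true := by decide +kernel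
theorem chk3 : lev3.chk 506 nets ws4 128 4608 = true := by decide +kernel
theorem chk2 : lev2.chk 506 nets ws3 4608 184320 = true := by decide +kernel
theorem chk1 : lev1.chk 506 nets ws2 184320 41287680 = true := by decide +kernel
theorem chk0 : lev0.chk 506 nets ws1 41287680 20891566080 = true := by decide +kernel
theorem rc0 : relsChk 506 nets 9 (idArr 506 9 9 0) allRels = true := by decide +kernel
section
variable {Γ Ω : Type*} [Group Γ] [MulAction Γ Ω] (M : PM Γ Ω 506 nets)

theorem all_ok (hs : M.Sep 9 (idArr 506 9 9 0)) : Rels M.gen allRels := (M.rels_of_chk hs rc0)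
theorem sep [FaithfulSMul Γ Ω] : M.Sep 9 (idArr 506 9 9 0) := M.sep_idArr (by decide)
theorem all_ok' [FaithfulSMul Γ Ω] : Rels M.gen allRels := all_ok M (sep M)
theorem rels_of_all {gen : ℕ → Γ} (h : Rels gen allRels) : Rels gen rels := Rels.left h
theorem relsD_of_all {gen : ℕ → Γ} (h : Rels gen allRels) : Rels gen relsD := Rels.left (Rels.right h)
theorem relsO_of_all {gen : ℕ → Γ} (h : Rels gen allRels) : Rels gen relsO := Rels.left (Rels.right (Rels.right h))
theorem relsS_of_all {gen : ℕ → Γ} (h : Rels gen allRels) : Rels gen relsS := Rels.right (Rels.right (Rels.right h))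
theorem card11 (_hR : Rels M.gen rels) : Nat.card (sub M.gen ws11) = 1 := M.card_nil
theorem fixw11 (_hR : Rels M.gen rels) : M.FixTriv ws11 [] := M.fixTriv_nil
theorem r10 (hR : Rels M.gen rels) : Rels M.gen rels10 := (Rels.left (Rels.right (Rels.right (Rels.right (Rels.right (Rels.right (Rels.right (Rels.right (Rels.right (Rels.right (Rels.right hR)))))))))))
theorem res10 (hR : Rels M.gen rels) : M.LevelRes ws11 lev10 2 := M.level (card11 M hR) chk10 (Rels.left (r10 M hR))
theorem ext10 (hR : Rels M.gen rels) : sub M.gen ws10 = sub M.gen (lev10.gens ws11) := sub_extend (Rels.right (r10 M hR))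
theorem card10 (hR : Rels M.gen rels) : Nat.card (sub M.gen ws10) = 2 := by rw [ext10 M hR]; exact (res10 M hR).card
theorem fix10 (hR : Rels M.gen rels) : M.FixTriv (lev10.gens ws11) [240] := (res10 M hR).fixTriv M (fixw11 M hR)
theorem fixw10 (hR : Rels M.gen rels) : M.FixTriv ws10 [240] := fun g hg => fix10 M hR g (ext10 M hR ▸ hg)
theorem stab10 (hR : Rels M.gen rels) : sub M.gen ws10 ⊓ MulAction.stabilizer Γ (M.dec 240) = sub M.gen ws11 := by rw [ext10 M hR]; exact (res10 M hR).stab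
theorem orb10 (hR : Rels M.gen rels) (y : Ω) : y ∈ M.S lev10.orb ↔ ∃ g ∈ sub M.gen ws10, g • M.dec 240 = y := by rw [ext10 M hR]; exact (res10 M hR).orb y
theorem r9 (hR : Rels M.gen rels) : Rels M.gen rels9 := (Rels.left (Rels.right (Rels.right (Rels.right (Rels.right (Rels.right (Rels.right (Rels.right (Rels.right (Rels.right hR))))))))))
theorem res9 (hR : Rels M.gen rels) : M.LevelRes ws10 lev9 4 := M.level (card10 M hR) chk9 (Rels.left (r9 M hR))
theorem ext9 (hR : Rels M.gen rels) : sub M.gen ws9 = sub M.gen (lev9.gens ws10) := sub_extend (Rels.right (r9 M hR))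
theorem card9 (hR : Rels M.gen rels) : Nat.card (sub M.gen ws9) = 4 := by rw [ext9 M hR]; exact (res9 M hR).card
theorem fix9 (hR : Rels M.gen rels) : M.FixTriv (lev9.gens ws10) [160, 240] := (res9 M hR).fixTriv M (fixw10 M hR)
theorem fixw9 (hR : Rels M.gen rels) : M.FixTriv ws9 [160, 240] := fun g hg => fix9 M hR g (ext9 M hR ▸ hg)
theorem stab9 (hR : Rels M.gen rels) : sub M.gen ws9 ⊓ MulAction.stabilizer Γ (M.dec 160) = sub M.gen ws10 := by rw [ext9 M hR]; exact (res9 M hR).stab
theorem orb9 (hR : Rels M.gen rels) (y : Ω) : y ∈ M.S lev9.orb ↔ ∃ g ∈ sub M.gen ws9, g • M.dec 160 = y := by rw [ext9 M hR]; exact (res9 M hR).orb y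
theorem r8 (hR : Rels M.gen rels) : Rels M.gen rels8 := (Rels.left (Rels.right (Rels.right (Rels.right (Rels.right (Rels.right (Rels.right (Rels.right (Rels.right hR)))))))))
theorem res8 (hR : Rels M.gen rels) : M.LevelRes ws9 lev8 8 := M.level (card9 M hR) chk8 (Rels.left (r8 M hR))
theorem ext8 (hR : Rels M.gen rels) : sub M.gen ws8 = sub M.gen (lev8.gens ws9) := sub_extend (Rels.right (r8 M hR))
theorem card8 (hR : Rels M.gen rels) : Nat.card (sub M.gen ws8) = 8 := by rw [ext8 M hR]; exact (res8 M hR).card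
theorem fix8 (hR : Rels M.gen rels) : M.FixTriv (lev8.gens ws9) [104, 160, 240] := (res8 M hR).fixTriv M (fixw9 M hR)
theorem fixw8 (hR : Rels M.gen rels) : M.FixTriv ws8 [104, 160, 240] := fun g hg => fix8 M hR g (ext8 M hR ▸ hg)
theorem stab8 (hR : Rels M.gen rels) : sub M.gen ws8 ⊓ MulAction.stabilizer Γ (M.dec 104) = sub M.gen ws9 := by rw [ext8 M hR]; exact (res8 M hR).stab
theorem orb8 (hR : Rels M.gen rels) (y : Ω) : y ∈ M.S lev8.orb ↔ ∃ g ∈ sub M.gen ws8, g • M.dec 104 = y := by rw [ext8 M hR]; exact (res8 M hR).orb y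
theorem r7 (hR : Rels M.gen rels) : Rels M.gen rels7 := (Rels.left (Rels.right (Rels.right (Rels.right (Rels.right (Rels.right (Rels.right (Rels.right hR))))))))
theorem res7 (hR : Rels M.gen rels) : M.LevelRes ws8 lev7 16 := M.level (card8 M hR) chk7 (Rels.left (r7 M hR))
theorem ext7 (hR : Rels M.gen rels) : sub M.gen ws7 = sub M.gen (lev7.gens ws8) := sub_extend (Rels.right (r7 M hR))
theorem card7 (hR : Rels M.gen rels) : Nat.card (sub M.gen ws7) = 16 := by rw [ext7 M hR]; exact (res7 M hR).card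
theorem fix7 (hR : Rels M.gen rels) : M.FixTriv (lev7.gens ws8) [66, 104, 160, 240] := (res7 M hR).fixTriv M (fixw8 M hR)
theorem fixw7 (hR : Rels M.gen rels) : M.FixTriv ws7 [66, 104, 160, 240] := fun g hg => fix7 M hR g (ext7 M hR ▸ hg)
theorem stab7 (hR : Rels M.gen rels) : sub M.gen ws7 ⊓ MulAction.stabilizer Γ (M.dec 66) = sub M.gen ws8 := by rw [ext7 M hR]; exact (res7 M hR).stab
theorem orb7 (hR : Rels M.gen rels) (y : Ω) : y ∈ M.S lev7.orb ↔ ∃ g ∈ sub M.gen ws7, g • M.dec 66 = y := by rw [ext7 M hR]; exact (res7 M hR).orb y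
theorem r6 (hR : Rels M.gen rels) : Rels M.gen rels6 := (Rels.left (Rels.right (Rels.right (Rels.right (Rels.right (Rels.right (Rels.right hR)))))))
theorem res6 (hR : Rels M.gen rels) : M.LevelRes ws7 lev6 32 := M.level (card7 M hR) chk6 (Rels.left (r6 M hR))
theorem ext6 (hR : Rels M.gen rels) : sub M.gen ws6 = sub M.gen (lev6.gens ws7) := sub_extend (Rels.right (r6 M hR))
theorem card6 (hR : Rels M.gen rels) : Nat.card (sub M.gen ws6) = 32 := by rw [ext6 M hR]; exact (res6 M hR).card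
theorem fix6 (hR : Rels M.gen rels) : M.FixTriv (lev6.gens ws7) [40, 66, 104, 160, 240] := (res6 M hR).fixTriv M (fixw7 M hR)
theorem fixw6 (hR : Rels M.gen rels) : M.FixTriv ws6 [40, 66, 104, 160, 240] := fun g hg => fix6 M hR g (ext6 M hR ▸ hg)
theorem stab6 (hR : Rels M.gen rels) : sub M.gen ws6 ⊓ MulAction.stabilizer Γ (M.dec 40) = sub M.gen ws7 := by rw [ext6 M hR]; exact (res6 M hR).stab
theorem orb6 (hR : Rels M.gen rels) (y : Ω) : y ∈ M.S lev6.orb ↔ ∃ g ∈ sub M.gen ws6, g • M.dec 40 = y := by rw [ext6 M hR]; exact (res6 M hR).orb y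
theorem r5 (hR : Rels M.gen rels) : Rels M.gen rels5 := (Rels.left (Rels.right (Rels.right (Rels.right (Rels.right (Rels.right hR))))))
theorem res5 (hR : Rels M.gen rels) : M.LevelRes ws6 lev5 64 := M.level (card6 M hR) chk5 (Rels.left (r5 M hR))
theorem ext5 (hR : Rels M.gen rels) : sub M.gen ws5 = sub M.gen (lev5.gens ws6) := sub_extend (Rels.right (r5 M hR))
theorem card5 (hR : Rels M.gen rels) : Nat.card (sub M.gen ws5) = 64 := by rw [ext5 M hR]; exact (res5 M hR).card
theorem fix5 (hR : Rels M.gen rels) : M.FixTriv (lev5.gens ws6) [14, 40, 66, 104, 160, 240] := (res5 M hR).fixTriv M (fixw6 M hR)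
theorem fixw5 (hR : Rels M.gen rels) : M.FixTriv ws5 [14, 40, 66, 104, 160, 240] := fun g hg => fix5 M hR g (ext5 M hR ▸ hg)
theorem stab5 (hR : Rels M.gen rels) : sub M.gen ws5 ⊓ MulAction.stabilizer Γ (M.dec 14) = sub M.gen ws6 := by rw [ext5 M hR]; exact (res5 M hR).stab
theorem orb5 (hR : Rels M.gen rels) (y : Ω) : y ∈ M.S lev5.orb ↔ ∃ g ∈ sub M.gen ws5, g • M.dec 14 = y := by rw [ext5 M hR]; exact (res5 M hR).orb y
theorem r4 (hR : Rels M.gen rels) : Rels M.gen rels4 := (Rels.left (Rels.right (Rels.right (Rels.right (Rels.right hR)))))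
theorem res4 (hR : Rels M.gen rels) : M.LevelRes ws5 lev4 128 := M.level (card5 M hR) chk4 (Rels.left (r4 M hR))
theorem ext4 (hR : Rels M.gen rels) : sub M.gen ws4 = sub M.gen (lev4.gens ws5) := sub_extend (Rels.right (r4 M hR))
theorem card4 (hR : Rels M.gen rels) : Nat.card (sub M.gen ws4) = 128 := by rw [ext4 M hR]; exact (res4 M hR).card
theorem fix4 (hR : Rels M.gen rels) : M.FixTriv (lev4.gens ws5) [2, 14, 40, 66, 104, 160, 240] := (res4 M hR).fixTriv M (fixw5 M hR)
theorem fixw4 (hR : Rels M.gen rels) : M.FixTriv ws4 [2, 14, 40, 66, 104, 160, 240] := fun g hg => fix4 M hR g (ext4 M hR ▸ hg)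
theorem stab4 (hR : Rels M.gen rels) : sub M.gen ws4 ⊓ MulAction.stabilizer Γ (M.dec 2) = sub M.gen ws5 := by rw [ext4 M hR]; exact (res4 M hR).stab
theorem orb4 (hR : Rels M.gen rels) (y : Ω) : y ∈ M.S lev4.orb ↔ ∃ g ∈ sub M.gen ws4, g • M.dec 2 = y := by rw [ext4 M hR]; exact (res4 M hR).orb y
theorem r3 (hR : Rels M.gen rels) : Rels M.gen rels3 := (Rels.left (Rels.right (Rels.right (Rels.right hR))))
theorem res3 (hR : Rels M.gen rels) : M.LevelRes ws4 lev3 4608 := M.level (card4 M hR) chk3 (Rels.left (r3 M hR))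
theorem ext3 (hR : Rels M.gen rels) : sub M.gen ws3 = sub M.gen (lev3.gens ws4) := sub_extend (Rels.right (r3 M hR))
theorem card3 (hR : Rels M.gen rels) : Nat.card (sub M.gen ws3) = 4608 := by rw [ext3 M hR]; exact (res3 M hR).card
theorem fix3 (hR : Rels M.gen rels) : M.FixTriv (lev3.gens ws4) [36, 2, 14, 40, 66, 104, 160, 240] := (res3 M hR).fixTriv M (fixw4 M hR)
theorem fixw3 (hR : Rels M.gen rels) : M.FixTriv ws3 [36, 2, 14, 40, 66, 104, 160, 240] := fun g hg => fix3 M hR g (ext3 M hR ▸ hg)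
theorem stab3 (hR : Rels M.gen rels) : sub M.gen ws3 ⊓ MulAction.stabilizer Γ (M.dec 36) = sub M.gen ws4 := by rw [ext3 M hR]; exact (res3 M hR).stab
theorem orb3 (hR : Rels M.gen rels) (y : Ω) : y ∈ M.S lev3.orb ↔ ∃ g ∈ sub M.gen ws3, g • M.dec 36 = y := by rw [ext3 M hR]; exact (res3 M hR).orb y
theorem r2 (hR : Rels M.gen rels) : Rels M.gen rels2 := (Rels.left (Rels.right (Rels.right hR)))
theorem res2 (hR : Rels M.gen rels) : M.LevelRes ws3 lev2 184320 := M.level (card3 M hR) chk2 (Rels.left (r2 M hR))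
theorem ext2 (hR : Rels M.gen rels) : sub M.gen ws2 = sub M.gen (lev2.gens ws3) := sub_extend (Rels.right (r2 M hR))
theorem card2 (hR : Rels M.gen rels) : Nat.card (sub M.gen ws2) = 184320 := by rw [ext2 M hR]; exact (res2 M hR).card
theorem fix2 (hR : Rels M.gen rels) : M.FixTriv (lev2.gens ws3) [4, 36, 2, 14, 40, 66, 104, 160, 240] := (res2 M hR).fixTriv M (fixw3 M hR)
theorem fixw2 (hR : Rels M.gen rels) : M.FixTriv ws2 [4, 36, 2, 14, 40, 66, 104, 160, 240] := fun g hg => fix2 M hR g (ext2 M hR ▸ hg)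
theorem stab2 (hR : Rels M.gen rels) : sub M.gen ws2 ⊓ MulAction.stabilizer Γ (M.dec 4) = sub M.gen ws3 := by rw [ext2 M hR]; exact (res2 M hR).stab
theorem orb2 (hR : Rels M.gen rels) (y : Ω) : y ∈ M.S lev2.orb ↔ ∃ g ∈ sub M.gen ws2, g • M.dec 4 = y := by rw [ext2 M hR]; exact (res2 M hR).orb y
theorem r1 (hR : Rels M.gen rels) : Rels M.gen rels1 := (Rels.left (Rels.right hR))
theorem res1 (hR : Rels M.gen rels) : M.LevelRes ws2 lev1 41287680 := M.level (card2 M hR) chk1 (Rels.left (r1 M hR))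
theorem ext1 (hR : Rels M.gen rels) : sub M.gen ws1 = sub M.gen (lev1.gens ws2) := sub_extend (Rels.right (r1 M hR))
theorem card1 (hR : Rels M.gen rels) : Nat.card (sub M.gen ws1) = 41287680 := by rw [ext1 M hR]; exact (res1 M hR).card
theorem fix1 (hR : Rels M.gen rels) : M.FixTriv (lev1.gens ws2) [12, 4, 36, 2, 14, 40, 66, 104, 160, 240] := (res1 M hR).fixTriv M (fixw2 M hR)
theorem fixw1 (hR : Rels M.gen rels) : M.FixTriv ws1 [12, 4, 36, 2, 14, 40, 66, 104, 160, 240] := fun g hg => fix1 M hR g (ext1 M hR ▸ hg)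
theorem stab1 (hR : Rels M.gen rels) : sub M.gen ws1 ⊓ MulAction.stabilizer Γ (M.dec 12) = sub M.gen ws2 := by rw [ext1 M hR]; exact (res1 M hR).stab
theorem orb1 (hR : Rels M.gen rels) (y : Ω) : y ∈ M.S lev1.orb ↔ ∃ g ∈ sub M.gen ws1, g • M.dec 12 = y := by rw [ext1 M hR]; exact (res1 M hR).orb y
theorem r0 (hR : Rels M.gen rels) : Rels M.gen rels0 := (Rels.left hR)
theorem res0 (hR : Rels M.gen rels) : M.LevelRes ws1 lev0 20891566080 := M.level (card1 M hR) chk0 (Rels.left (r0 M hR))
theorem ext0 (hR : Rels M.gen rels) : sub M.gen ws0 = sub M.gen (lev0.gens ws1) := sub_extend (Rels.right (r0 M hR))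
theorem card0 (hR : Rels M.gen rels) : Nat.card (sub M.gen ws0) = 20891566080 := by rw [ext0 M hR]; exact (res0 M hR).card
theorem fix0 (hR : Rels M.gen rels) : M.FixTriv (lev0.gens ws1) [0, 12, 4, 36, 2, 14, 40, 66, 104, 160, 240] := (res0 M hR).fixTriv M (fixw1 M hR)
theorem fixw0 (hR : Rels M.gen rels) : M.FixTriv ws0 [0, 12, 4, 36, 2, 14, 40, 66, 104, 160, 240] := fun g hg => fix0 M hR g (ext0 M hR ▸ hg)
theorem stab0 (hR : Rels M.gen rels) : sub M.gen ws0 ⊓ MulAction.stabilizer Γ (M.dec 0) = sub M.gen ws1 := by rw [ext0 M hR]; exact (res0 M hR).stab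
theorem orb0 (hR : Rels M.gen rels) (y : Ω) : y ∈ M.S lev0.orb ↔ ∃ g ∈ sub M.gen ws0, g • M.dec 0 = y := by rw [ext0 M hR]; exact (res0 M hR).orb y
theorem orig_eq {gen : ℕ → Γ} (h : Rels gen allRels) : sub gen (lets 29) = sub gen ws0 :=
  sub_lets_eq_of_rels (ds := defs) (by decide +kernel) (relsD_of_all h) (by decide +kernel) (relsO_of_all h)
theorem gen_mem {gen : ℕ → Γ} (h : Rels gen allRels) {X : Subgroup Γ} (h0 : ∀ l < 29, gen l ∈ X) : sub gen ws0 ≤ X :=
  sub_le_of_wsIn (lo := 0) (gen_mem_of_defRels (ds := defs) (fun l _ hl => h0 l hl) (by decide +kernel) (relsD_of_all h)) (by decide +kernel)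

end

end H14.XE
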