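import Cfsg.Agent.H14.XV
import Cfsg.Agent.H14.XE

/-! Generated certificate (tools14/h2/gen2.py): the non-split extension of `M23` by the cocode module. -/

set_option autoImplicit false
set_option maxRecDepth 100000
set_option maxHeartbeats 0

namespace H14.XF
open H14 H14.XT L Cfsg

noncomputable def nets : List Net := [
(.cons 3 0x1000 (.cons 6 0x20 (.cons 7 0x4040 (.cons 10 0x80 (.cons 14 0x100 (.cons 15 0x8 (.cons 18 0x2 (.cons 1 0x5 (.cons 4 0x400 (.cons 9 0x1100 (.cons 13 0x60 (.cons 18 0x10 .nil)))))))))))),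
(.cons 2 0x20000 (.cons 5 0x400 (.cons 6 0x10000 (.cons 7 0x4000 (.cons 9 0x810 (.cons 1 0x4088 (.cons 2 0x200 (.cons 3 0x40000 (.cons 5 0x20 (.cons 6 0x2001 (.cons 15 0x4 (.cons 21 0x2 .nil)))))))))))),
.nil,
.nil,
.nil,
.nil,
.nil,
.nil,
.nil,
.nil,
.nil,
.nil,
.nil,
.nil,
.nil,
.nil,
.nil,
.nil,
.nil,
.nil,
.nil,
.nil,
.nil,
.nil,
.nil,
(.cons 5 0x22000 (.cons 6 0x200 (.cons 15 0x2 (.cons 1 0x9 (.cons 4 0x4000 (.cons 5 0x100 (.cons 8 0x80 (.cons 9 0x400 (.cons 11 0xa20 (.cons 15 0x4 .nil)))))))))),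
(.cons 5 0x22000 (.cons 6 0x200 (.cons 9 0x4 (.cons 1 0x14100 (.cons 2 0x40001 (.cons 6 0xb0 (.cons 16 0x8 (.cons 21 0x2 .nil)))))))),
(.cons 5 0x22000 (.cons 6 0x200 (.cons 15 0x2 (.cons 1 0x9 (.cons 4 0x4000 (.cons 5 0x100 (.cons 8 0x80 (.cons 9 0x400 (.cons 11 0xa20 (.cons 15 0x4 .nil)))))))))),
(.cons 5 0x22000 (.cons 6 0x200 (.cons 9 0x4 (.cons 1 0x14100 (.cons 2 0x40001 (.cons 6 0xb0 (.cons 16 0x8 (.cons 21 0x2 .nil)))))))),
(.cons 5 0x22001 (.cons 6 0x300 (.cons 9 0x4 (.cons 13 0x80 (.cons 15 0x2 .nil))))),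
(.cons 1 0x100 (.cons 3 0x22000 (.cons 4 0x40 (.cons 6 0x20 (.cons 11 0x80 (.cons 18 0x8 (.cons 21 0x2 .nil))))))),
(.cons 1 0x400 (.cons 3 0x81000 (.cons 4 0x20004 (.cons 5 0x8 (.cons 1 0x80000 (.cons 2 0x1 (.cons 5 0x32200 (.cons 6 0x10 (.cons 7 0x2 (.cons 8 0x80 (.cons 9 0x8 .nil))))))))))),
(.cons 2 0x80000 (.cons 4 0x10040 (.cons 5 0x20200 (.cons 7 0x10 (.cons 1 0x8000 (.cons 2 0x80 (.cons 3 0x40000 (.cons 6 0x1 (.cons 9 0x4 (.cons 10 0x1000 .nil)))))))))),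
(.cons 1 0x100480 (.cons 3 0x81000 (.cons 4 0x4 (.cons 4 0x20000 (.cons 5 0x8 (.cons 6 0x10001 (.cons 7 0x10 (.cons 11 0x2 .nil)))))))),
(.cons 2 0x10 (.cons 3 0x60000 (.cons 4 0x8200 (.cons 7 0x80 (.cons 4 0x10009 (.cons 5 0x100 (.cons 6 0x1000 (.cons 18 0x2 .nil)))))))),
(.cons 1 0x280000 (.cons 3 0x8000 (.cons 4 0x40 (.cons 5 0x100 (.cons 7 0x10 (.cons 3 0x21000 (.cons 5 0x10008 (.cons 9 0x4 (.cons 10 0x1 .nil))))))))),
(.cons 2 0x80000 (.cons 4 0x10040 (.cons 5 0x20200 (.cons 7 0x10 (.cons 1 0x40000 (.cons 2 0x4 (.cons 5 0x9000 (.cons 7 0x80 (.cons 10 0x1 .nil))))))))),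
(.cons 2 0x40000 (.cons 4 0x8000 (.cons 5 0x11100 (.cons 6 0x1 (.cons 7 0x80 (.cons 9 0x4 .nil)))))),
.nil,
.nil,
.nil,
.nil,
.nil,
.nil,
.nil,
.nil,
.nil,
.nil,
.nil,
.nil,
.nil,
.nil,
.nil,
.nil]
noncomputable def R : List Ru := [⟨3, 0x363836, 1, 0x38⟩, ⟨3, 0x383638, 1, 0x36⟩, ⟨1, 0x32, 1, 0x36⟩, ⟨1, 0x34, 1, 0x38⟩, ⟨3, 0x323432, 1, 0x34⟩, ⟨3, 0x343234, 1, 0x32⟩]
noncomputable def ls : List (ℕ × ℕ × ℕ × ℕ) := [(3, 0x323432, 6, 0xa200e100a0002000c00100), (3, 0x343234, 6, 0xe200a100e0006000800140)]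
noncomputable def lvQ : Lv := (.cons 0 [[0], [2], [50], [52], [54], [56], [58], [62], [64], [66], [68], [70], [72], [74]] [[0], [2], [12], [32], [30], [48]] (.cons 1 [[60], [50, 1], [62, 53], [64, 3], [66, 3]] [[0], [2], [4], [2], [12], [0]] (.cons 2 [[72, 71], [64, 3, 66, 3], [66, 3, 64, 3], [62, 53, 60, 52, 63], [62, 53, 64, 3, 61], [66, 3, 60, 2, 67]] [[0], [2], [4], [12], [2], [0]] (.cons 3 [[62, 53, 64, 3, 61, 70, 73], [64, 3, 66, 3, 64, 3, 66, 3, 70, 73], [66, 3, 64, 3, 72, 71, 2, 65, 2, 67], [72, 71, 64, 3, 66, 3, 64, 3, 66, 3], [72, 71, 66, 3, 64, 3, 66, 3, 64, 3, 70, 73]] [[0], [2], [0], [8], [14], [2]] (.cons 4 [[62, 53, 60, 52, 63, 70, 73], [64, 3, 66, 3, 64, 3, 66, 3, 70, 73, 66, 3, 64, 3, 72, 71, 2, 65, 2, 67], [62, 53, 64, 3, 61, 70, 73, 62, 53, 64, 3, 61, 70, 73, 72, 71, 2, 65, 2, 67, 2, 65, 2, 67, 70, 73], [64, 3, 66, 3, 64, 3, 66, 3, 70, 73, 62, 53, 60, 52, 63, 70, 73, 72, 71, 2, 67, 2, 65,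 2, 67, 2, 65], [66, 3, 64, 3, 72, 71, 2, 65, 2, 67, 62, 53, 60, 52, 63, 70, 73, 66, 3, 64, 3, 70, 73, 2, 65, 2, 67], [72, 71, 64, 3, 66, 3, 64, 3, 66, 3, 62, 53, 60, 52, 63, 70, 73, 2, 67, 2, 65, 2, 67, 2, 65, 70, 73]] [[0], [4], [6], [12], [0]] (.cons 5 [[62, 53, 60, 52, 63, 70, 73, 64, 3, 66, 3, 64, 3, 66, 3, 70, 73, 66, 3, 64, 3, 72, 71, 2, 65, 2, 67], [64, 3, 66, 3, 64, 3, 66, 3, 70, 73, 66, 3, 64, 3, 72, 71, 2, 65, 2, 67, 64, 3, 66, 3, 64, 3, 66, 3, 70, 73, 66, 3, 64, 3, 72, 71, 2, 65, 2, 67, 72, 71, 62, 53, 61, 52, 63]] [[0], [0]] .nil))))))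
noncomputable def lvD : Lv := (.cons 2 [[0]] [[0]] (.cons 0 [[2]] [[0]] (.cons 4 [[10]] [[0]] (.cons 8 [[12]] [[0]] (.cons 14 [[20, 0]] [[0]] (.cons 24 [[6, 2, 12]] [[0]] (.cons 40 [[8, 0, 10]] [[0]] (.cons 104 [[26, 0, 2, 20, 0]] [[0]] (.cons 160 [[36, 0, 2, 10, 12]] [[0]] (.cons 66 [[40, 0, 2, 10, 12]] [[0]] (.cons 240 [[4, 0, 10, 20, 0, 6, 2, 12, 26, 0, 2, 20, 0]] [[0]] .nil)))))))))))
def gL : List (List ℕ) := [[0, 2, 4, 5, 6, 10, 11, 23], [0, 1, 2, 3, 6, 9, 11, 22], [3, 5, 6, 8, 9, 10, 11, 21], [2, 4, 5, 7, 8, 9, 10, 20], [1, 3, 4, 6, 7, 8, 9, 19], [0, 2, 3, 5, 6, 7, 8, 18], [0, 3, 4, 5, 7, 9, 11, 17], [0, 1, 4, 8, 9, 10, 11, 16], [1, 2, 6, 7, 8, 10, 11, 15], [0, 1, 5, 6, 7, 9, 10, 14], [1, 2, 3, 4, 5, 8, 11, 13], [0, 1, 2, 3, 4, 7, 10, 12]]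
def l4 : List ℕ := [0, 2, 3, 6, 8, 9, 10]
def l5 : List ℕ := [1, 3, 4, 7, 8, 9, 10]
def ts : List (ℕ × ℕ × ℕ) := [(0, 0x284a51, 0), (1, 0x401ed0, 0), (4, 0x284a51, mL l4), (5, 0x401ed0, mL l5)]
def s : ℕ := 0x200a84
noncomputable def K : ℕ := Nat.mul 16777215 (ones 264 6)
theorem h : nets.all golayOk = true := by decide +kernel
theorem h1 : invChk nets (lets nets.length) (bit 23) = true := by decide +kernel
noncomputable def P := permPM 506 XE.nets (by norm_num) (by norm_num) XE.nets_ok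
noncomputable def Q := q23 nets h h1
noncomputable def g := (P.prod Q.gen).gen
noncomputable def ex : List (Word × Word) := List.append (cjR nets 29) (List.append
  ((List.range 24).map fun i => (XT.dw i ++ XT.dw i, [])) (List.append (gL.map fun l => (l.flatMap XT.dw, []))
  [([50, 52, 50], l4.flatMap XT.dw ++ [52]), ([52, 50, 52], l5.flatMap XT.dw ++ [50])]))

theorem all : Rels g XE.allRels :=
  (XE.all_ok' P).prod (Q.rels_of_idArr (D := 5) (by norm_num) (by decide +kernel))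

theorem hex : Rels g ex := (P.rels_of_idArr (D := 9) (by norm_num) (by decide +kernel)).prod
  (Q.rels_of_idArr (D := 5) (by norm_num) (by decide +kernel))

/-- the extension -/
noncomputable def E := sub g (lets 29)

theorem card : Nat.card E = 20891566080 := by
  rw [E, XE.orig_eq all]; exact XE.card0 (P.prod Q.gen) (XE.rels_of_all all)

instance : Finite E := Nat.finite_of_card_ne_zero (by rw [card]; norm_num)

theorem mem (l : ℕ) : g l ∈ E := by
  by_cases hl : l < 54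
  · exact gen_mem_of_defRels (lo := 0) (ds := XE.defs) (fun _ _ hl => gen_mem_lets hl) (by decide +kernel)
      (XE.relsD_of_all all) l (Nat.zero_le _) (hl.trans_eq (by decide +kernel))
  · rw [show g l = 1 from Prod.ext
      (P.gen_eq l (g := 1) fun x => by
        rw [getL_eq_getD, List.getD_eq_default _ _ ((show _ = 54 by decide +kernel).le.trans (by omega)), one_smul]; rfl)
      (Q.gen_eq l (g := 1) fun x => by
        rw [getL_eq_getD, List.getD_eq_default _ _ ((show _ = 54 by decide +kernel).le.trans (by omega)), one_smul]; rfl)]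
    exact one_mem _

noncomputable def x (l : ℕ) : E := ⟨g l, mem l⟩
noncomputable def σ : E →* Spor.M23 := (MonoidHom.snd _ _).comp E.subtype

theorem rels {l : List (Word × Word)} (h : Rels g l) : Rels x l := fun p hp =>
  Subtype.ext ((map_ev (gen := x) E.subtype _).trans ((h p hp).trans (map_ev (gen := x) E.subtype _).symm))

theorem card_sub (ws : List Word) : Nat.card (sub x ws) = Nat.card (sub g ws) := by
  rw [← Subgroup.card_map_of_injective E.subtype_injective, map_sub]; rfl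

theorem top : sub x (lets 29) = ⊤ := Subgroup.eq_top_of_card_eq _ (card_sub _)

theorem surj : Function.Surjective σ := by
  have : sub Q.gen lvQ.gens = ⊤ := Subgroup.eq_top_of_le_card _ (by
    rw [isM23.2]; exact le_trans (by decide +kernel) (Q.low lvQ inferInstance))
  rw [← MonoidHom.range_eq_top, eq_top_iff, ← this, sub_le]
  exact fun w _ => ⟨ev x w, map_ev σ w⟩

theorem ker : Nat.card σ.ker = 2 ^ 11 := by
  have := σ.ker.card_mul_index
  rw [Subgroup.index_ker, MonoidHom.range_eq_top.2 surj, Subgroup.card_top, isM23.2, card] at this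
  exact Nat.eq_of_mul_eq_mul_right (by norm_num) (this.trans (by norm_num))

theorem low : 2 ^ 11 ≤ Nat.card (sub x ((List.range 24).map XT.dw)) := by
  have l : sub g (lvD.sbst ((List.range 24).map XT.dw)).gens ≤ sub g ((List.range 24).map XT.dw) := by
    rw [Lv.gens_sbst]; exact sub_map_flat_le _ _ _
  have : Finite (sub g ((List.range 24).map XT.dw)) := Nat.finite_of_card_ne_zero (card_sub _ ▸ Nat.card_pos.ne')
  rw [card_sub]
  exact le_trans (by decide +kernel) (((P.prod Q.gen).low _ (Finite.of_injective _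
    (Subgroup.inclusion_injective l))).trans (Subgroup.card_le_of_le l))

theorem main : ∃ θ, Co σ.ker (QuotientGroup.quotientKerEquivOfSurjective σ surj) θ ∧
    ∀ H : Subgroup E, H ⊓ σ.ker = ⊥ → H ⊔ σ.ker ≠ ⊤ := by
  have r := rels hex
  obtain ⟨θ, C, t⟩ := exists_co (h := h) (h1 := h1) σ surj ker (x := x) (fun _ => rfl) top r.left
    (Q.rels_of_idArr (D := 5) (by norm_num) (by decide +kernel)) r.right.left (gL := gL) (by decide +kernel)
    (by decide +kernel) r.right.right.left low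
  refine ⟨θ, C, fun H a b => ?_⟩
  have : ∀ l, ∃ u ∈ H, σ u = Q.gen l := fun l => by
    have : x l ∈ ((H ⊔ σ.ker : Subgroup _) : Set _) := b ▸ Subgroup.mem_top _
    rw [Subgroup.mul_normal] at this
    obtain ⟨u, hu, k, hk, e⟩ := this
    exact ⟨u, hu, by rw [← mul_one (σ u), ← show σ k = 1 from hk, ← map_mul, show u * k = x l from e]; rfl⟩
  choose u hu hu' using this
  let z : ℕ → E := fun l => if 27 ≤ l then u l else x l
  have hz : ∀ l, σ (z l) = Q.gen l := fun l => by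
    simp only [z]; split_ifs
    exacts [hu' l, rfl]
  have hR : relsChk 24 nets 5 (idArr 24 5 5 0) (R.map Ru.rel) = true := by decide +kernel
  have k : ∀ r, (∀ a ∈ (getL r0 R r).rel.1 ++ (getL r0 R r).rel.2, 27 ≤ a / 2) →
      th θ (Multiplicative.ofAdd (bword 0)) = XT.tl z (getL r0 R r) := fun r hr => by
    have m : ∀ w : Word, (∀ a ∈ w, 27 ≤ a / 2) → ev z w ∈ H := fun w hw =>
      ev_mem_of fun a ha => by simp only [z]; rw [if_pos (hw a ha)]; exact hu _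
    rw [bword_zero, Subgroup.mem_bot.1 (a.le ⟨H.mul_mem (H.inv_mem (m _ fun a ha => hr a (List.mem_append_right _ ha)))
      (m _ fun a ha => hr a (List.mem_append_left _ ha)), tl_mem (M := Q) hz (Q.rels_of_idArr (by norm_num) hR) r⟩ :
      XT.tl z (getL r0 R r) ∈ _)]
    exact map_one _
  have k' : ∀ r l p q, (∀ i ∈ l, i < 24) → (getL r0 R r).rel = (p, [q]) → (∀ a ∈ p ++ [q], a / 2 < 27) →
      ev x p = ev x (l.flatMap XT.dw ++ [q]) → th θ (Multiplicative.ofAdd (bword (mL l))) = XT.tl z (getL r0 R r) :=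
    fun r l p q h1 h2 h3 h4 => by
    have m : ∀ w : Word, (∀ a ∈ w, a / 2 < 27) → ev z w = ev x w := fun w hw =>
      ev_congr' fun a ha => if_neg (not_le.2 (hw a ha))
    rw [th_mL t h1, XT.tl, h2, m _ fun a ha => h3 a (List.mem_append_left _ ha),
      m _ fun a ha => h3 a (List.mem_append_right _ ha), h4, ev_append, inv_mul_cancel_left]
  refine C.nonsplit (h := h) (h1 := h1) (z := z) hz hR (ls := ls) (m := 6) (s := s) (K := K) (ts := ts)
    (fa_cons (k 0 (by decide +kernel)) (fa_cons (k 1 (by decide +kernel)) (fa_cons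
      (k' 4 _ _ _ (by decide) (by decide +kernel) (by decide) (r.right.right.right _ List.mem_cons_self)) (fa_cons
      (k' 5 _ _ _ (by decide) (by decide +kernel) (by decide) (r.right.right.right _
        (List.mem_cons_of_mem _ List.mem_cons_self))) fa_nil))))
    (by decide +kernel) (by decide +kernel) (by decide +kernel) (by decide +kernel)

end H14.XF
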