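import Cfsg.Agent.H14.Enum
import Cfsg.Agent.L.KC
import Cfsg.Agent.S0051

/-! Symbolic tails.  `σ : E →* G` has an elementary abelian kernel with coordinates (`Md`).  A rule `a = b`
of `G` has the tail `tl` for lifts `x` of the letters.  Closed rewriting paths (`go`) give linear relations
between the tails; `core` combines them after a change of the lifts of the first `d` letters. -/

set_option autoImplicit false

namespace H14.XT
open L Finset

/-- a bit in `ZMod 2` -/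
def bt (A i : ℕ) : ZMod 2 := if A.testBit i = true then 1 else 0

theorem bt_xor (a b i : ℕ) : bt (a ^^^ b) i = bt a i + bt b i := by
  unfold bt; rw [Nat.testBit_xor]; cases a.testBit i <;> cases b.testBit i <;> decide

theorem bt_zero (i : ℕ) : bt 0 i = 0 := by simp [bt]

theorem z2 (a : ZMod 2) : a + a = 0 := by revert a; decide

/-- the first `n` bytes -/
noncomputable def wd (n : ℕ) : ℕ → Word :=
  @Nat.rec (fun _ => ℕ → Word) (fun _ => []) (fun _ ih c => Nat.land c 255 :: ih (Nat.shiftRight c 8)) n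

theorem wd_succ (n c : ℕ) : wd (n + 1) c = c % 256 :: wd n (c / 256) := by
  rw [← Nat.and_two_pow_sub_one_eq_mod c 8, show 256 = 2 ^ 8 from rfl, ← Nat.shiftRight_eq_div_pow]; rfl

theorem wd_add (p q c : ℕ) : wd (p + q) c = wd p c ++ wd q (c / 2 ^ (8 * p)) := by
  induction p generalizing c with
  | zero => simp; rfl
  | succ p ih =>
    rw [Nat.add_right_comm, wd_succ, wd_succ, ih, Nat.div_div_eq_div_mul, List.cons_append]
    congr 4; ring

theorem wd_mod (p c : ℕ) : wd p (c % 2 ^ (8 * p)) = wd p c := by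
  induction p generalizing c with
  | zero => rfl
  | succ p ih =>
    rw [wd_succ, wd_succ, show 2 ^ (8 * (p + 1)) = 256 * 2 ^ (8 * p) by ring, Nat.mod_mul_right_mod,
      Nat.mod_mul_right_div_self, ih]

theorem wd_join (p q u X : ℕ) : wd (p + q) (u % 2 ^ (8 * p) + X <<< (8 * p)) = wd p u ++ wd q X := by
  rw [wd_add, Nat.shiftLeft_eq, ← wd_mod p (_ + _), Nat.add_mul_mod_self_right, Nat.mod_mod, wd_mod,
    Nat.add_mul_div_right _ _ (Nat.two_pow_pos _), Nat.div_eq_of_lt (Nat.mod_lt _ (Nat.two_pow_pos _)), zero_add]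

/-- a rule: two packed words with their lengths -/
structure Ru where
  la : ℕ
  a : ℕ
  lb : ℕ
  b : ℕ

def r0 : Ru := ⟨0, 0, 0, 0⟩
noncomputable def Ru.rel (ρ : Ru) : Word × Word := (wd ρ.la ρ.a, wd ρ.lb ρ.b)
noncomputable def Ru.sw (ρ : Ru) (c : Bool) : Ru := @Bool.rec (fun _ => Ru) ρ ⟨ρ.lb, ρ.b, ρ.la, ρ.a⟩ c

noncomputable def put (W A r : ℕ) : ℕ := Nat.shiftLeft (Nat.mod A (Nat.shiftLeft 1 W)) (Nat.mul W r)
noncomputable def low (c p : ℕ) : ℕ := Nat.mod c (Nat.shiftLeft 1 (Nat.mul 8 p))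

theorem low_eq (c p : ℕ) : low c p = c % 2 ^ (8 * p) := by
  rw [← one_mul (2 ^ _), ← Nat.shiftLeft_eq]; rfl

/-- run a closed rewriting path; the result is `0` if a check fails -/
noncomputable def go (F : ℕ → Net) (A0 W m : ℕ) (R : List Ru) (l0 w0 fuel : ℕ) : ℕ → ℕ → ℕ → ℕ → ℕ :=
  @Nat.rec (fun _ => ℕ → ℕ → ℕ → ℕ → ℕ)
    (fun _ l w T => @Bool.rec (fun _ => ℕ) 0 T (band (Nat.beq l l0) (Nat.beq w w0)))
    (fun _ ih c l w T => (fun p r => (fun (ρ : Ru) rest => @Bool.rec (fun _ => ℕ) 0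
      ((fun c' l' w' T' => frc c' (frc l' (frc w' (frc T' (ih c' l' w' T'))))) (Nat.shiftRight c 16)
        (Nat.add p (Nat.add ρ.lb (Nat.sub l (Nat.add p ρ.la))))
        (Nat.add (low w p) (Nat.shiftLeft (Nat.add (low ρ.b ρ.lb)
          (Nat.shiftLeft (Nat.shiftRight rest (Nat.mul 8 ρ.la)) (Nat.mul 8 ρ.lb))) (Nat.mul 8 p)))
        (Nat.xor T (put W (runW F (wd p w) A0) r)))
      (band (ltb r m) (band (Nat.ble (Nat.add p ρ.la) l) (Nat.beq (low rest ρ.la) ρ.a))))
      ((getL r0 R r).sw (tb c 5)) (Nat.shiftRight w (Nat.mul 8 p)))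
      (Nat.land c 31) (Nat.land (Nat.shiftRight c 6) 1023)) fuel

/-- the sum of the selected rows -/
noncomputable def sel (rows : List ℕ) : ℕ → ℕ → ℕ :=
  @List.rec ℕ (fun _ => ℕ → ℕ → ℕ) (fun _ a => a)
    (fun row _ ih s a => (fun s' => frc s' (@Bool.rec (fun _ => ℕ) (ih s' a)
      ((fun a' => frc a' (ih s' a')) (Nat.xor a row)) (Nat.beq (Nat.land s 1) 1))) (Nat.shiftRight s 1)) rows

/-- the planes of `T` -/
noncomputable def pls (n J T : ℕ) (l : List ℕ) : List ℕ :=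
  @Nat.rec (fun _ => List ℕ) l (fun k ih => Nat.shiftRight T (Nat.mul n k) :: ih) J

variable {E G Ω : Type*} [Group E] [Group G] [MulAction G Ω] [Fintype Ω] {n : ℕ} {L : List Net}

/-- the pairing -/
def pr (F u : Ω → ZMod 2) : ZMod 2 := ∑ x, F x * u x

variable (M : PM G Ω n L)

/-- the plane `k` of `A` -/
def pl (A k : ℕ) (x : Ω) : ZMod 2 := bt A (n * k + M.enc x)

/-- the value of a row -/
def dot (W m : ℕ) (Y : ℕ → Ω → ZMod 2) (row : ℕ) : ZMod 2 :=
  ∑ r ∈ range m, ∑ x, bt row (W * r + M.enc x) * Y r x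

variable {W m J : ℕ} {Y : ℕ → Ω → ZMod 2}

theorem dot_xor (a b : ℕ) : dot M W m Y (a ^^^ b) = dot M W m Y a + dot M W m Y b := by
  simp only [dot, bt_xor, add_mul, sum_add_distrib]

theorem dot_zero : dot M W m Y 0 = 0 := by simp [dot, bt_zero]

theorem dot_put {r k : ℕ} (hr : r < m) (hk : k < J) (A : ℕ) :
    dot M (n * J) m Y (put (n * J) A r >>> (n * k)) = pr (pl M A k) (Y r) := by
  have e : put (n * J) A r = (A % 2 ^ (n * J)) <<< (n * J * r) := by
    rw [← one_mul (2 ^ _), ← Nat.shiftLeft_eq 1]; rfl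
  have hl : ∀ x, n * k + M.enc x < n * J := fun x => by
    have := M.enc_lt x
    have : n * (k + 1) ≤ n * J := Nat.mul_le_mul_left _ hk
    rw [mul_add] at this; omega
  rw [dot, sum_eq_single_of_mem r (mem_range.2 hr) fun s _ hs => sum_eq_zero fun x _ => ?_]
  · refine sum_congr rfl fun x _ => ?_
    have := hl x
    rw [pl, bt, bt, e, Nat.testBit_shiftRight, Nat.testBit_shiftLeft, Nat.testBit_mod_two_pow,
      show n * k + (n * J * r + M.enc x) - n * J * r = n * k + M.enc x by omega]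
    simp [this, show n * J * r ≤ n * k + (n * J * r + M.enc x) by omega]
  · have := hl x
    rw [bt, e, Nat.testBit_shiftRight, Nat.testBit_shiftLeft, Nat.testBit_mod_two_pow, if_neg, zero_mul]
    simp only [Bool.and_eq_true, decide_eq_true_eq, not_and]
    intro h1 h2
    rcases lt_or_gt_of_ne hs with h | h
    · have : n * J * (s + 1) ≤ n * J * r := Nat.mul_le_mul_left _ h
      rw [mul_add] at this; omega
    · have : n * J * (r + 1) ≤ n * J * s := Nat.mul_le_mul_left _ h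
      rw [mul_add] at this; omega

theorem dot_land {K : ℕ} (hK : allN (fun r => allN (fun q => tb K (Nat.add (Nat.mul W r) q)) n) m = true)
    (a : ℕ) : dot M W m Y (a &&& K) = dot M W m Y a := by
  refine sum_congr rfl fun r hr => sum_congr rfl fun x _ => ?_
  have := allN_iff.1 (allN_iff.1 hK r (mem_range.1 hr)) _ (M.enc_lt x)
  rw [tb_eq] at this
  rw [bt, bt, Nat.testBit_and, show K.testBit (W * r + M.enc x) = true from this, Bool.and_true]

theorem dot_congr {Y' : ℕ → Ω → ZMod 2} {m0 a : ℕ} (ha : a < 2 ^ (W * m0)) (h : ∀ r < m0, Y r = Y' r) :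
    dot M W m Y a = dot M W m Y' a := by
  refine sum_congr rfl fun r _ => sum_congr rfl fun x _ => ?_
  by_cases hr : r < m0
  · rw [h r hr]
  · have : W * m0 ≤ W * r := Nat.mul_le_mul_left _ (by omega)
    rw [bt, Nat.testBit_lt_two_pow (lt_of_lt_of_le ha (Nat.pow_le_pow_right (by decide) (by omega)))]
    simp

theorem dot_sel {rows : List ℕ} (h : ∀ a ∈ rows, dot M W m Y a = 0) (s a : ℕ) :
    dot M W m Y (sel rows s a) = dot M W m Y a := by
  induction rows generalizing s a with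
  | nil => rfl
  | cons row t ih =>
    have e : sel (row :: t) s a = @Bool.rec (fun _ => ℕ) (sel t (s >>> 1) a) (sel t (s >>> 1) (a ^^^ row))
        (Nat.beq (Nat.land s 1) 1) := by simp only [sel, frc_eq]; rfl
    have ih' := ih fun b hb => h b (List.mem_cons_of_mem _ hb)
    rw [e]
    cases Nat.beq (Nat.land s 1) 1
    · exact ih' _ _
    · exact (ih' _ _).trans (by rw [dot_xor, h row List.mem_cons_self, add_zero])

theorem forall_pls {P : ℕ → Prop} {T : ℕ} {l : List ℕ} (h : ∀ k < J, P (T >>> (n * k))) (h' : ∀ a ∈ l, P a) :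
    ∀ a ∈ pls n J T l, P a := by
  induction J with
  | zero => exact h'
  | succ J ih =>
    intro a ha
    rcases List.mem_cons.1 ha with rfl | ha
    exacts [h J (by omega), ih (fun k hk => h k (by omega)) a ha]

/-- coordinates on the kernel -/
structure Md (σ : E →* G) (J A0 : ℕ) where
  y : E → Ω → ZMod 2
  add : ∀ k < J, ∀ a ∈ σ.ker, ∀ b ∈ σ.ker,
    pr (pl M A0 k) (y (a * b)) = pr (pl M A0 k) (y a) + pr (pl M A0 k) (y b)
  cj : ∀ k < J, ∀ a ∈ σ.ker, ∀ g, pr (pl M A0 k) (y (g⁻¹ * a * g)) = pr (fun x => pl M A0 k ((σ g)⁻¹ • x)) (y a)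

/-- the tail of a rule -/
noncomputable def tl (x : ℕ → E) (ρ : Ru) : E := (ev x ρ.rel.2)⁻¹ * ev x ρ.rel.1

variable {M} {σ : E →* G} {A0 : ℕ} (D : Md M σ J A0) {x : ℕ → E} {R : List Ru}

theorem Md.one {k : ℕ} (hk : k < J) : pr (pl M A0 k) (D.y 1) = 0 := by
  have := D.add k hk 1 (one_mem _) 1 (one_mem _)
  rw [one_mul, z2] at this; exact this

theorem Md.inv {k : ℕ} (hk : k < J) {a : E} (ha : a ∈ σ.ker) :
    pr (pl M A0 k) (D.y a⁻¹) = pr (pl M A0 k) (D.y a) := by
  have := D.add k hk a ha a⁻¹ (inv_mem ha)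
  rw [mul_inv_cancel, D.one hk] at this
  rw [← add_zero (pr _ (D.y a)), this, ← add_assoc, z2, zero_add]

theorem sig_ev (hx : ∀ l, σ (x l) = M.gen l) (w : Word) : σ (ev x w) = ev M.gen w := by
  rw [map_ev, funext hx]

theorem tl_mem (hx : ∀ l, σ (x l) = M.gen l) (hR : Rels M.gen (R.map Ru.rel)) (r : ℕ) :
    tl x (getL r0 R r) ∈ σ.ker := by
  have : ev M.gen (getL r0 R r).rel.1 = ev M.gen (getL r0 R r).rel.2 := by
    rw [getL_eq_getD]
    by_cases h : r < R.length
    · exact hR _ (List.mem_map.2 ⟨_, by rw [List.getD_eq_getElem _ _ h]; exact List.getElem_mem h, rfl⟩)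
    · rw [List.getD_eq_default _ _ (by omega)]; rfl
  rw [MonoidHom.mem_ker, tl, map_mul, map_inv, sig_ev hx, sig_ev hx, this, inv_mul_cancel]

/-- the unknowns -/
noncomputable def Md.un (x : ℕ → E) (R : List Ru) (r : ℕ) : Ω → ZMod 2 := D.y (tl x (getL r0 R r))

theorem go_spec (hx : ∀ l, σ (x l) = M.gen l) (hR : Rels M.gen (R.map Ru.rel)) {l0 w0 : ℕ} (fuel c l w T : ℕ)
    (h1 : (ev x (wd l w))⁻¹ * ev x (wd l0 w0) ∈ σ.ker)
    (h2 : ∀ k < J, pr (pl M A0 k) (D.y ((ev x (wd l w))⁻¹ * ev x (wd l0 w0))) =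
      dot M (n * J) m (D.un x R) (T >>> (n * k))) {k : ℕ} (hk : k < J) :
    dot M (n * J) m (D.un x R) (go (repL L (ones n J)) A0 (n * J) m R l0 w0 fuel c l w T >>> (n * k)) = 0 := by
  induction fuel generalizing c l w T with
  | zero =>
    show dot _ _ _ _ (@Bool.rec (fun _ => ℕ) 0 T (band (Nat.beq l l0) (Nat.beq w w0)) >>> _) = 0
    cases h : band (Nat.beq l l0) (Nat.beq w w0)
    · rw [Nat.zero_shiftRight, dot_zero]
    · obtain ⟨a, b⟩ := band_iff.1 h
      rw [← h2 k hk, beq_iff.1 a, beq_iff.1 b, inv_mul_cancel, D.one hk]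
  | succ fuel ih =>
    generalize hp : Nat.land c 31 = p
    generalize hr : Nat.land (Nat.shiftRight c 6) 1023 = r
    generalize hρ : (getL r0 R r).sw (tb c 5) = ρ
    have e : go (repL L (ones n J)) A0 (n * J) m R l0 w0 (fuel + 1) c l w T = @Bool.rec (fun _ => ℕ) 0
        (go (repL L (ones n J)) A0 (n * J) m R l0 w0 fuel (c >>> 16) (p + (ρ.lb + (l - (p + ρ.la))))
          (low w p + (low ρ.b ρ.lb + (w >>> (8 * p) >>> (8 * ρ.la)) <<< (8 * ρ.lb)) <<< (8 * p))
          (T ^^^ put (n * J) (runW (repL L (ones n J)) (wd p w) A0) r))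
        (band (ltb r m) (band (Nat.ble (p + ρ.la) l) (Nat.beq (low (w >>> (8 * p)) ρ.la) ρ.a))) := by
      subst hρ hr hp; simp only [go, frc_eq]; rfl
    rw [e]
    cases h : band (ltb r m) (band (Nat.ble (p + ρ.la) l) (Nat.beq (low (w >>> (8 * p)) ρ.la) ρ.a))
    · show dot _ _ _ _ (0 >>> _) = 0
      rw [Nat.zero_shiftRight, dot_zero]
    obtain ⟨a1, a2⟩ := band_iff.1 h
    obtain ⟨a2, a3⟩ := band_iff.1 a2
    have a2 := Nat.le_of_ble_eq_true a2
    have a3 := beq_iff.1 a3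
    generalize hq : l - (p + ρ.la) = q
    generalize hv : w >>> (8 * p) >>> (8 * ρ.la) = v
    have e1 : wd l w = wd p w ++ (wd ρ.la ρ.a ++ wd q v) := by
      rw [show l = p + (ρ.la + q) by omega, wd_add, wd_add, ← a3, low_eq, wd_mod, ← hv,
        Nat.shiftRight_eq_div_pow, Nat.shiftRight_eq_div_pow]
    have e2 : wd (p + (ρ.lb + q)) (low w p + (low ρ.b ρ.lb + v <<< (8 * ρ.lb)) <<< (8 * p)) =
        wd p w ++ (wd ρ.lb ρ.b ++ wd q v) := by rw [low_eq, low_eq, wd_join, wd_join]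
    have t1 := tl_mem hx hR r
    have e3 : (ev x (wd p w ++ (wd ρ.lb ρ.b ++ wd q v)))⁻¹ * ev x (wd l0 w0) =
        ((ev x (wd p w))⁻¹ * tl x ρ * ev x (wd p w)) * ((ev x (wd l w))⁻¹ * ev x (wd l0 w0)) := by
      rw [e1]; simp only [ev_append, tl, Ru.rel]; group
    have c1 := σ.normal_ker.conj_mem' _ t1 (ev x (wd p w))
    have t2 : (ev x (wd p w))⁻¹ * tl x ρ * ev x (wd p w) ∈ σ.ker ∧ ∀ k < J, pr (pl M A0 k)
        (D.y ((ev x (wd p w))⁻¹ * tl x ρ * ev x (wd p w))) = pr (pl M A0 k)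
        (D.y ((ev x (wd p w))⁻¹ * tl x (getL r0 R r) * ev x (wd p w))) := by
      subst hρ
      cases tb c 5
      · exact ⟨c1, fun _ _ => rfl⟩
      · have : (ev x (wd p w))⁻¹ * tl x ((getL r0 R r).sw true) * ev x (wd p w) =
            ((ev x (wd p w))⁻¹ * tl x (getL r0 R r) * ev x (wd p w))⁻¹ := by
          simp only [tl, Ru.rel, Ru.sw]; group
        rw [this]
        exact ⟨inv_mem c1, fun k hk => D.inv hk c1⟩
    refine ih _ _ _ _ ?_ fun j hj => ?_
    · rw [e2, e3]; exact mul_mem t2.1 h1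
    · rw [e2, e3, D.add j hj _ t2.1 _ h1, t2.2 j hj, D.cj j hj _ t1, h2 j hj, Nat.shiftRight_xor_distrib, dot_xor,
        dot_put M (ltb_iff.1 a1) hj, add_comm]
      refine congrArg (_ + ·) (congrArg (pr · _) (funext fun z => ?_))
      rw [pl, pl, bt, bt, M.testBit_runW_rep' _ hj, sig_ev hx]

/-- the rows of the closed paths `(length, word, number of steps, steps)` -/
noncomputable def lrows (n J : ℕ) (L : List Net) (A0 m : ℕ) (R : List Ru) (ls : List (ℕ × ℕ × ℕ × ℕ))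
    (l : List ℕ) : List ℕ :=
  @List.rec _ (fun _ => List ℕ) l (fun q _ ih => pls n J (go (repL L (ones n J)) A0 (Nat.mul n J) m R q.1 q.2.1
    q.2.2.1 q.2.2.2 q.1 q.2.1 0) ih) ls

theorem lrows_spec (hx : ∀ l, σ (x l) = M.gen l) (hR : Rels M.gen (R.map Ru.rel)) (ls : List (ℕ × ℕ × ℕ × ℕ))
    {l : List ℕ} (h : ∀ a ∈ l, dot M (n * J) m (D.un x R) a = 0) :
    ∀ a ∈ lrows n J L A0 m R ls l, dot M (n * J) m (D.un x R) a = 0 := by
  induction ls with
  | nil => exact h
  | cons q t ih =>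
    exact forall_pls (fun k hk => go_spec D hx hR _ _ _ _ _ (by simp) (fun j hj => by
      rw [inv_mul_cancel, D.one hj, Nat.zero_shiftRight, dot_zero]) hk) ih

/-- the rows `(P, r)`: planes of `P` placed at the rule `r` -/
noncomputable def prows (n J : ℕ) (ps : List (ℕ × ℕ)) (l : List ℕ) : List ℕ :=
  @List.rec _ (fun _ => List ℕ) l (fun q _ ih => pls n J (put (Nat.mul n J) q.1 q.2) ih) ps

theorem prows_spec {ps : List (ℕ × ℕ)} (hp : ∀ q ∈ ps, q.2 < m ∧ ∀ k < J, pr (pl M q.1 k) (Y q.2) = 0)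
    {l : List ℕ} (h : ∀ a ∈ l, dot M (n * J) m Y a = 0) : ∀ a ∈ prows n J ps l, dot M (n * J) m Y a = 0 := by
  induction ps with
  | nil => exact h
  | cons q t ih =>
    have := hp q List.mem_cons_self
    exact forall_pls (fun k hk => (dot_put M this.1 hk _).trans (this.2 k hk))
      (ih fun q hq => hp q (List.mem_cons_of_mem _ hq))

/-- the row of the functional `i % J` at the rule `m0 + i / J` -/
noncomputable def frow (n J A0 m0 i : ℕ) : ℕ :=
  Nat.shiftRight (put (Nat.mul n J) A0 (Nat.add m0 (Nat.div i J))) (Nat.mul n (Nat.mod i J))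

theorem dot_frow {m0 i : ℕ} (hJ : 0 < J) (h : m0 + i / J < m) :
    dot M (n * J) m Y (frow n J A0 m0 i) = pr (pl M A0 (i % J)) (Y (m0 + i / J)) :=
  dot_put M h (Nat.mod_lt _ hJ) _

/-- the gauge rows -/
noncomputable def grows (n J A0 m0 : ℕ) (Lr : List ℕ) (N : ℕ) : List ℕ :=
  @Nat.rec (fun _ => List ℕ) [] (fun i ih => Nat.xor (frow n J A0 m0 i) (getL 0 Lr i) :: ih) N

theorem forall_grows {P : ℕ → Prop} {m0 N : ℕ} {Lr : List ℕ} (h : ∀ i < N, P (frow n J A0 m0 i ^^^ getL 0 Lr i)) :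
    ∀ a ∈ grows n J A0 m0 Lr N, P a := by
  induction N with
  | zero => exact fun _ h => nomatch h
  | succ N ih =>
    intro a ha
    rcases List.mem_cons.1 ha with rfl | ha
    exacts [h N (by omega), ih (fun k hk => h k (by omega)) a ha]

theorem ev_congr' {x x' : ℕ → E} {w : Word} (h : ∀ a ∈ w, x (a / 2) = x' (a / 2)) : ev x w = ev x' w := by
  induction w with
  | nil => rfl
  | cons a w ih =>
    rw [ev_cons, ev_cons, ih fun b hb => h b (List.mem_cons_of_mem _ hb), letter, letter, h a List.mem_cons_self]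

/-- the shape of the rules: the first `m0` avoid the letters below `d`, the next `d` are `l = l + d` -/
noncomputable def gaugeChk (W d m0 : ℕ) (R : List Ru) (Lr : List ℕ) (N : ℕ) : Bool :=
  band (allN (fun r => allL (fun a => Nat.ble d (Nat.div a 2))
      (List.append (getL r0 R r).rel.1 (getL r0 R r).rel.2)) m0)
    (band (allN (fun i => band (eqW (getL r0 R (Nat.add m0 i)).rel.1 [Nat.mul 2 i])
      (eqW (getL r0 R (Nat.add m0 i)).rel.2 [Nat.mul 2 (Nat.add i d)])) d)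
      (allN (fun i => ltb (getL 0 Lr i) (Nat.shiftLeft 1 (Nat.mul W m0))) N))

theorem gauge (hσ : Function.Surjective σ) (hJ : 0 < J)
    (sj : ∀ c : ℕ → ZMod 2, ∃ a ∈ σ.ker, ∀ k < J, pr (pl M A0 k) (D.y a) = c k)
    (hR : Rels M.gen (R.map Ru.rel)) {d m0 : ℕ} {Lr : List ℕ} (hm : m0 + d ≤ m) (hm' : m0 + d ≤ R.length)
    (h : gaugeChk (n * J) d m0 R Lr (J * d) = true) : ∃ x : ℕ → E, (∀ l, σ (x l) = M.gen l) ∧
      ∀ a ∈ grows n J A0 m0 Lr (J * d), dot M (n * J) m (D.un x R) a = 0 := by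
  obtain ⟨h1, h2⟩ := band_iff.1 h
  obtain ⟨h2, h3⟩ := band_iff.1 h2
  choose x0 hx0 using fun l => hσ (M.gen l)
  choose v hv1 hv2 using fun i => sj fun k => dot M (n * J) m (D.un x0 R) (getL 0 Lr (J * i + k))
  have r2 : ∀ i < d, (getL r0 R (m0 + i)).rel = ([2 * i], [2 * (i + d)]) := fun i hi =>
    let h := band_iff.1 (allN_iff.1 h2 i hi)
    Prod.ext (eqW_eq h.1) (eqW_eq h.2)
  have e1 : ∀ (z : ℕ → G) l, ev z [2 * l] = z l := fun z l => by simp [letter]
  have e1' : ∀ (z : ℕ → E) l, ev z [2 * l] = z l := fun z l => by simp [letter]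
  refine ⟨fun l => if l < d then x0 (l + d) * v l else x0 l, fun l => ?_, forall_grows fun i hi => ?_⟩
  · beta_reduce
    split_ifs with hl
    · have := hR _ (List.mem_map.2 ⟨getL r0 R (m0 + l), by
        rw [getL_eq_getD, List.getD_eq_getElem _ _ (by omega)]; exact List.getElem_mem _, rfl⟩)
      rw [r2 l hl, e1, e1] at this
      rw [map_mul, hx0, hv1 l, mul_one, this]
    · exact hx0 l
  · have hi' : i / J < d := Nat.div_lt_of_lt_mul hi
    have hl := ltb_iff.1 (allN_iff.1 h3 i hi)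
    rw [show Nat.shiftLeft 1 (Nat.mul (n * J) m0) = 1 <<< (n * J * m0) from rfl, Nat.shiftLeft_eq, one_mul] at hl
    rw [dot_xor, dot_frow hJ ((Nat.add_lt_add_left hi' _).trans_le hm), dot_congr M (Y' := D.un x0 R) hl fun r hr => ?_, Md.un, tl, r2 _ hi', e1', e1',
      if_pos hi', if_neg (not_lt.2 (Nat.le_add_left _ _)), inv_mul_cancel_left, hv2 _ _ (Nat.mod_lt _ hJ), Nat.div_add_mod, z2]
    have := allL_iff.1 (allN_iff.1 h1 r hr)
    have k : ∀ a ∈ (getL r0 R r).rel.1 ++ (getL r0 R r).rel.2,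
        (if a / 2 < d then x0 (a / 2 + d) * v (a / 2) else x0 (a / 2)) = x0 (a / 2) := fun a ha =>
      if_neg (not_lt.2 (Nat.le_of_ble_eq_true (this a ha)))
    rw [Md.un, Md.un, tl, tl, ev_congr' fun a ha => k a (List.mem_append_left _ ha),
      ev_congr' fun a ha => k a (List.mem_append_right _ ha)]

/-- the targets are sums of rows -/
noncomputable def tgtChk (n J A0 m1 K c Φ : ℕ) (rows ss : List ℕ) (N : ℕ) : Bool :=
  allN (fun i => Nat.beq (Nat.land (sel rows (getL 0 ss i) (Nat.xor (frow n J A0 m1 i)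
    (@Bool.rec (fun _ => ℕ) 0 Φ (tb c i)))) K) 0) N

theorem tgt_spec (hJ : 0 < J) {m1 K c Φ N : ℕ} {rows ss : List ℕ} (h0 : ∀ a ∈ rows, dot M (n * J) m Y a = 0)
    (hK : allN (fun r => allN (fun q => tb K (Nat.add (Nat.mul (n * J) r) q)) n) m = true)
    (h : tgtChk n J A0 m1 K c Φ rows ss N = true) {i : ℕ} (hi : i < N) (hm : m1 + i / J < m) :
    pr (pl M A0 (i % J)) (Y (m1 + i / J)) = bt c i * dot M (n * J) m Y Φ := by
  have h1 := congrArg (dot M (n * J) m Y) (beq_iff.1 (allN_iff.1 h i hi))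
  rw [show ∀ a b, Nat.land a b = a &&& b from fun _ _ => rfl, dot_land M hK, dot_sel M h0,
    show ∀ a b, Nat.xor a b = a ^^^ b from fun _ _ => rfl, dot_xor, dot_frow hJ hm, dot_zero, tb_eq] at h1
  rw [bt]
  cases e : c.testBit i
  · rw [e] at h1; simpa [dot_zero] using h1
  · rw [e] at h1
    rw [if_pos rfl, one_mul, ← add_zero (dot _ _ _ _ _), ← h1, add_comm (pr _ _), ← add_assoc, z2, zero_add]

/-- the relations of a polycyclic presentation for the letters below `d` -/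
noncomputable def pcChk (d : ℕ) (l : List (Word × Word)) : Bool :=
  allN (fun i => band (l.any fun p => band (eqW p.1 [Nat.mul 2 i, Nat.mul 2 i]) (inR (Nat.succ i) d p.2))
    (allN (fun j => bor (Nat.ble j i) (l.any fun p => band (eqW p.1 [Nat.mul 2 j, Nat.mul 2 i])
      (band (eqW (List.take 1 p.2) [Nat.mul 2 i]) (inR (Nat.succ i) d (List.drop 1 p.2))))) d)) d

theorem pc_split {Γ : Type*} [Group Γ] [Finite Γ] (π : Γ →* G) (hπ : Function.Surjective π)
    [IsMulCommutative π.ker] (h2 : IsPGroup 2 π.ker) {z : ℕ → Γ} {d : ℕ} (hz : ∀ l < d, π (z l) = M.gen l)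
    {l : List (Word × Word)} (hR : Rels z l) (hc : pcChk d l = true) {c : Lv}
    (hl : band (allL (inR 0 d) c.gens) (Nat.ble (Nat.pow 2 d) (c.val n L)) = true) {o : ℕ}
    (hG : Nat.card G = 2 ^ d * o) (ho : Odd o) : ∃ H : Subgroup Γ, H ⊓ π.ker = ⊥ ∧ H ⊔ π.ker = ⊤ := by
  have : Finite G := Finite.of_surjective π hπ
  obtain ⟨l1, l2⟩ := band_iff.1 hl
  have em : (Nn z d 0).map π = Nn M.gen d 0 := by
    rw [Nn, Nn, MonoidHom.map_closure]; congr 1; ext g
    exact ⟨fun ⟨_, ⟨l, a, b, rfl⟩, e⟩ => ⟨l, a, b, (hz l b).symm.trans e⟩,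
      fun ⟨l, a, b, e⟩ => ⟨_, ⟨l, a, b, rfl⟩, (hz l b).trans e⟩⟩
  have lo : 2 ^ d ≤ Nat.card (Nn M.gen d 0) :=
    ((Nat.le_of_ble_eq_true l2).trans (M.low c inferInstance)).trans (Subgroup.card_le_of_le
      ((sub_le _).2 fun w hw => inR_mem (allL_iff.1 l1 w hw)))
  have cm : Nat.card ((Nn z d 0).map π) ≤ Nat.card (Nn z d 0) := Nat.card_le_card_of_surjective _ (π.subgroupMap_surjective _)
  have e1 : ∀ l, letter z (Nat.mul 2 l) = z l := fun l => by
    rw [show Nat.mul 2 l = 2 * l from rfl]; simp [letter]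
  have hp := (pc_of_card (z := z) (p := 2) (m := d) (by norm_num) (fun i hi => by
    obtain ⟨a, b⟩ := band_iff.1 (allN_iff.1 hc i hi)
    obtain ⟨p, hp, a⟩ := List.any_eq_true.1 a
    obtain ⟨a1, a2⟩ := band_iff.1 a
    refine ⟨Subgroup.mem_normalizer_fintype fun g hg => ?_, ?_⟩
    · refine Subgroup.closure_induction (p := fun g _ => z i * g * (z i)⁻¹ ∈ Nn z d (i + 1)) ?_ ?_ ?_ ?_ hg
      · rintro _ ⟨j, h1, h2, rfl⟩
        rcases bor_iff.1 (allN_iff.1 b j h2) with h | h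
        · have := Nat.le_of_ble_eq_true h; omega
        obtain ⟨q, hq, h⟩ := List.any_eq_true.1 h
        obtain ⟨h3, h⟩ := band_iff.1 h
        obtain ⟨h4, h5⟩ := band_iff.1 h
        have := hR q hq
        rw [eqW_eq h3, ← List.take_append_drop 1 q.2, eqW_eq h4, ev_append] at this
        simp only [ev_cons, ev_nil, one_mul, e1] at this
        rw [this, mul_inv_cancel_right]; exact inR_mem h5
      · simp
      · intro a b _ _ ha hb
        rw [show z i * (a * b) * (z i)⁻¹ = z i * a * (z i)⁻¹ * (z i * b * (z i)⁻¹) by group]; exact mul_mem ha hb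
      · intro a _ ha
        rw [show z i * a⁻¹ * (z i)⁻¹ = (z i * a * (z i)⁻¹)⁻¹ by group]; exact inv_mem ha
    · have := hR p hp
      rw [eqW_eq a1] at this
      simp only [ev_cons, ev_nil, one_mul, e1] at this
      rw [sq, this]; exact inR_mem a2) (lo.trans (em ▸ cm))).2 0 (Nat.zero_le _)
  rw [Nat.sub_zero] at hp
  have c2 : Nat.card (Nn M.gen d 0) = 2 ^ d := le_antisymm (by rw [← em, ← hp]; exact cm) lo
  have hA : Nn z d 0 ⊓ π.ker = ⊥ := by
    have inj : Function.Injective (π.subgroupMap (Nn z d 0)) :=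
      ((Nat.bijective_iff_surjective_and_card _).2 ⟨π.subgroupMap_surjective _, by rw [em, c2, hp]⟩).1
    rw [eq_bot_iff]
    intro g hg
    exact congrArg Subtype.val (inj (a₁ := ⟨g, hg.1⟩) (a₂ := 1) (Subtype.ext (hg.2.trans (map_one π).symm)))
  have hi : (π.ker ⊔ Nn z d 0).index = o := by
    rw [sup_comm, ← Subgroup.comap_map_eq, Subgroup.index_comap_of_surjective _ hπ, em]
    have := (Nn M.gen d 0).card_mul_index
    rw [c2, hG] at this
    exact Nat.eq_of_mul_eq_mul_left (Nat.two_pow_pos d) this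
  haveI : Fact (Nat.Prime 2) := ⟨Nat.prime_two⟩
  obtain ⟨e, he⟩ := h2.exists_card_eq
  obtain ⟨H, hH⟩ := Cfsg.Agent.S0051.result π.ker (π.ker ⊔ Nn z d 0) le_sup_left
    (by rw [hi, he]; exact Nat.Coprime.pow_left _ ((Nat.coprime_two_left).2 ho)) _ le_sup_right hA rfl
  exact ⟨H, by rw [inf_comm]; exact hH.disjoint.eq_bot, by rw [sup_comm]; exact hH.sup_eq_top⟩

end H14.XT
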