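import Cfsg.Agent.H14.XT
import Cfsg.Agent.H14.Code24
import Cfsg.Agent.L.Br

/-! Symbolic tails, part two: `core` (the tails of a polycyclic presentation after a change of lifts),
`iso_of_diag` (two extensions with equal tails are isomorphic), and the coordinates of the two
11-dimensional modules of `M23`. -/

set_option autoImplicit false
set_option linter.unusedSectionVars false

namespace H14.XT
open L Finset Cfsg

section
variable {E G Ω : Type*} [Group E] [Group G] [MulAction G Ω] [Fintype Ω] {n : ℕ} {L : List Net}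
  {M : PM G Ω n L} {σ : E →* G} {J A0 : ℕ}

theorem core (D : Md M σ J A0) {R : List Ru} (hσ : Function.Surjective σ) (hJ : 0 < J)
    (sj : ∀ c : ℕ → ZMod 2, ∃ a ∈ σ.ker, ∀ k < J, pr (pl M A0 k) (D.y a) = c k)
    (hR : Rels M.gen (R.map Ru.rel)) {d m0 e K c Φ : ℕ} {Lr ss : List ℕ} {ls : List (ℕ × ℕ × ℕ × ℕ)}
    {ps : List (ℕ × ℕ)} (hm : m0 + d + e = R.length) (hg : gaugeChk (n * J) d m0 R Lr (J * d) = true)
    (hp : ∀ q ∈ ps, q.2 < m0 + d + e ∧ ∀ k < J, ∀ a ∈ σ.ker, pr (pl M q.1 k) (D.y a) = 0)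
    (hK : allN (fun r => allN (fun q => tb K (Nat.add (Nat.mul (n * J) r) q)) n) (m0 + d + e) = true)
    (ht : tgtChk n J A0 (m0 + d) K c Φ (lrows n J L A0 (m0 + d + e) R ls (prows n J ps
      (grows n J A0 m0 Lr (J * d)))) ss (J * e) = true) :
    ∃ x : ℕ → E, (∀ l, σ (x l) = M.gen l) ∧ ∃ φ : ZMod 2, ∀ r < e, tl x (getL r0 R (m0 + d + r)) ∈ σ.ker ∧
      ∀ k < J, pr (pl M A0 k) (D.y (tl x (getL r0 R (m0 + d + r)))) = bt c (J * r + k) * φ := by
  obtain ⟨x, hx, h⟩ := gauge (m := m0 + d + e) D hσ hJ sj hR (by omega) (by omega) hg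
  refine ⟨x, hx, dot M (n * J) (m0 + d + e) (D.un x R) Φ, fun r hr => ⟨tl_mem hx hR _, fun k hk => ?_⟩⟩
  have h1 : (J * r + k) / J = r := by rw [Nat.mul_add_div hJ, Nat.div_eq_of_lt hk, add_zero]
  have := tgt_spec hJ (lrows_spec D hx hR ls (prows_spec (fun q hq => ⟨(hp q hq).1, fun k hk =>
    (hp q hq).2 k hk _ (tl_mem hx hR _)⟩) h)) hK ht (i := J * r + k)
    (by have : J * (r + 1) ≤ J * e := Nat.mul_le_mul_left _ (by omega)
        rw [mul_add] at this; omega) (by rw [h1]; omega)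
  rwa [h1, Nat.mul_add_mod, Nat.mod_eq_of_lt hk] at this

theorem mem_drop {R : List Ru} {m e : ℕ} (hm : m + e = R.length) {ρ : Ru} (h : ρ ∈ R.drop m) :
    ∃ r < e, ρ = getL r0 R (m + r) := by
  obtain ⟨r, hr, rfl⟩ := List.getElem_of_mem h
  rw [List.length_drop] at hr
  exact ⟨r, by omega, by rw [List.getElem_drop, getL_eq_getD, List.getD_eq_getElem]⟩

theorem rels_of_tl {x : ℕ → E} {R : List Ru} (h : ∀ ρ ∈ R, tl x ρ = 1) : Rels x (R.map Ru.rel) := fun p hp => by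
  obtain ⟨ρ, hρ, rfl⟩ := List.mem_map.1 hp
  exact (inv_mul_eq_one.1 (h ρ hρ)).symm

theorem pr_add (F u v : Ω → ZMod 2) : pr F (u + v) = pr F u + pr F v := by
  simp only [pr, Pi.add_apply, mul_add, sum_add_distrib]

theorem pr_comm (F u : Ω → ZMod 2) : pr F u = pr u F := by simp only [pr, mul_comm]

theorem pr_smul (F u : Ω → ZMod 2) (g : G) : pr F (fun x => u (g • x)) = pr (fun x => F (g⁻¹ • x)) u :=
  Fintype.sum_equiv (MulAction.toPerm g) _ _ fun x => by simp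

theorem pr_dual {F B : ℕ → Ω → ZMod 2} (h : ∀ j < J, ∀ k < J, pr (F j) (B k) = if j = k then 1 else 0)
    (c : ℕ → ZMod 2) {j : ℕ} (hj : j < J) : pr (F j) (∑ k ∈ range J, c k • B k) = c j := by
  have : pr (F j) (∑ k ∈ range J, c k • B k) = ∑ k ∈ range J, c k * pr (F j) (B k) := by
    simp only [pr, Finset.sum_apply, Pi.smul_apply, smul_eq_mul, mul_sum]
    rw [sum_comm]; exact sum_congr rfl fun _ _ => sum_congr rfl fun _ _ => by ring
  rw [this, sum_eq_single_of_mem j (mem_range.2 hj) fun k hk e => by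
    rw [h j hj k (mem_range.1 hk), if_neg e.symm, mul_zero], h j hj j hj, if_pos rfl, mul_one]

/-- Two extensions whose kernels are identified so that the tails agree are isomorphic. -/
theorem iso_of_diag [Finite E] {E' V : Type*} [Group E'] [Finite E'] [CommGroup V] (M : PM G Ω n L)
    {σ' : E' →* G} (hσ : Function.Surjective σ) (hσ' : Function.Surjective σ') (θ : V →* E) (θ' : V →* E')
    (h1 : θ.range = σ.ker) (h1' : θ'.range = σ'.ker) (hk : θ.ker = θ'.ker) (hV : ∀ v : V, v ^ 2 = 1)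
    (hc : ∀ g g', σ g = σ' g' → ∀ w, ∃ w', θ w' = g * θ w * g⁻¹ ∧ θ' w' = g' * θ' w * g'⁻¹)
    {x : ℕ → E} {x' : ℕ → E'} (hx : ∀ l, σ (x l) = M.gen l) (hx' : ∀ l, σ' (x' l) = M.gen l) {R : List Ru}
    (hR : ∀ ρ ∈ R, ∃ w, θ w = tl x ρ ∧ θ' w = tl x' ρ) {d : ℕ} (hp : pcChk d (R.map Ru.rel) = true) {c : Lv}
    (hl : band (allL (inR 0 d) c.gens) (Nat.ble (Nat.pow 2 d) (c.val n L)) = true) {o : ℕ}
    (hG : Nat.card G = 2 ^ d * o) (ho : Odd o) : Nonempty (E ≃* E') := by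
  let P : Subgroup (E × E') := MonoidHom.eqLocus (σ.comp (.fst _ _)) (σ'.comp (.snd _ _))
  have mP : ∀ {g : E × E'}, g ∈ P ↔ σ g.1 = σ' g.2 := Iff.rfl
  have k1 : ∀ w, σ (θ w) = 1 := fun w => (h1 ▸ ⟨w, rfl⟩ : θ w ∈ σ.ker)
  have k1' : ∀ w, σ' (θ' w) = 1 := fun w => (h1' ▸ ⟨w, rfl⟩ : θ' w ∈ σ'.ker)
  let δ : V →* P := (θ.prod θ').codRestrict P fun w => mP.2 ((k1 w).trans (k1' w).symm)
  haveI : δ.range.Normal := ⟨by
    rintro _ ⟨w, rfl⟩ g
    obtain ⟨w', a, b⟩ := hc _ _ (mP.1 g.2) w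
    exact ⟨w', Subtype.ext (Prod.ext a b)⟩⟩
  let s : P →* G := σ.comp ((MonoidHom.fst _ _).comp P.subtype)
  let π : P ⧸ δ.range →* G := QuotientGroup.lift _ s (by rintro _ ⟨w, rfl⟩; exact k1 w)
  let ι : V →* P := (θ.prod 1).codRestrict P fun w => mP.2 ((k1 w).trans (map_one _).symm)
  have ks : ∀ g : P, s g = 1 → ∃ u v, g = ι u * δ v := fun g hg => by
    obtain ⟨v, hv⟩ : g.1.2 ∈ θ'.range := h1' ▸ ((mP.1 g.2).symm.trans hg : σ' g.1.2 = 1)
    obtain ⟨u, hu⟩ : g.1.1 ∈ θ.range := h1 ▸ (hg : σ g.1.1 = 1)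
    exact ⟨u * v⁻¹, v, Subtype.ext (Prod.ext (show g.1.1 = θ (u * v⁻¹) * θ v by
      rw [← map_mul, inv_mul_cancel_right, hu]) (show g.1.2 = 1 * θ' v by rw [one_mul, hv]))⟩
  have kp : ∀ g : π.ker, ∃ u, (g : P ⧸ δ.range) = (QuotientGroup.mk' _).comp ι u := fun ⟨g, hg⟩ => by
    obtain ⟨g, rfl⟩ := QuotientGroup.mk_surjective g
    obtain ⟨u, v, rfl⟩ := ks g hg
    exact ⟨u, QuotientGroup.mk_mul_of_mem _ ⟨v, rfl⟩⟩
  haveI : IsMulCommutative π.ker := ⟨⟨fun a b => Subtype.ext (by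
    obtain ⟨u, hu⟩ := kp a
    obtain ⟨v, hv⟩ := kp b
    rw [Subgroup.coe_mul, Subgroup.coe_mul, hu, hv, ← map_mul, ← map_mul, mul_comm])⟩⟩
  have lift : ∀ g : E, ∃ p : P, p.1.1 = g := fun g =>
    let ⟨g', h⟩ := hσ' (σ g); ⟨⟨(g, g'), mP.2 h.symm⟩, rfl⟩
  have lift' : ∀ g : E', ∃ p : P, p.1.2 = g := fun g =>
    let ⟨g', h⟩ := hσ (σ' g); ⟨⟨(g', g), mP.2 h⟩, rfl⟩
  let z : ℕ → P := fun l => ⟨(x l, x' l), mP.2 ((hx l).trans (hx' l).symm)⟩
  obtain ⟨H, a, b⟩ := pc_split (M := M) π (fun g => by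
      obtain ⟨g, rfl⟩ := hσ g
      obtain ⟨p, rfl⟩ := lift g
      exact ⟨QuotientGroup.mk p, rfl⟩)
    (fun g => ⟨1, Subtype.ext (by
      obtain ⟨u, hu⟩ := kp g
      rw [pow_one, Subgroup.coe_pow, hu, ← map_pow, hV, map_one]; rfl)⟩)
    (z := fun l => QuotientGroup.mk' δ.range (z l)) (fun l _ => hx l) (fun p hp => by
      obtain ⟨ρ, hρ, rfl⟩ := List.mem_map.1 hp
      obtain ⟨w, a, b⟩ := hR ρ hρ
      rw [← map_ev, ← map_ev, eq_comm]
      refine QuotientGroup.eq.2 ⟨w, Subtype.ext (Prod.ext ?_ ?_)⟩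
      · exact a.trans (by
          rw [tl, show x = fun l => ((MonoidHom.fst _ _).comp P.subtype) (z l) from rfl, ← map_ev, ← map_ev]; rfl)
      · exact b.trans (by
          rw [tl, show x' = fun l => ((MonoidHom.snd _ _).comp P.subtype) (z l) from rfl, ← map_ev, ← map_ev]; rfl))
    hp hl hG ho
  let T := H.comap (QuotientGroup.mk' δ.range)
  have t1 : ∀ v, δ v ∈ T := fun v => by
    rw [Subgroup.mem_comap, show QuotientGroup.mk' δ.range (δ v) = 1 from (QuotientGroup.eq_one_iff _).2 ⟨v, rfl⟩]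
    exact one_mem _
  have t2 : ∀ g ∈ T, s g = 1 → ∃ v, δ v = g := fun g hg h =>
    (QuotientGroup.eq_one_iff g).1 (Subgroup.mem_bot.1 (a.le ⟨hg, h⟩))
  have t3 : ∀ g : P, ∃ t ∈ T, s (t⁻¹ * g) = 1 := fun g => by
    have : (g : P ⧸ δ.range) ∈ ((H ⊔ π.ker : Subgroup _) : Set _) := b ▸ Subgroup.mem_top _
    rw [Subgroup.mul_normal] at this
    obtain ⟨t, ht, k, hk', e⟩ := this
    obtain ⟨t, rfl⟩ := QuotientGroup.mk_surjective t
    refine ⟨t, ht, ?_⟩
    show π (QuotientGroup.mk (t⁻¹ * g)) = 1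
    rw [QuotientGroup.mk_mul, ← e, QuotientGroup.mk_inv, inv_mul_cancel_left]; exact hk'
  have b1 : Function.Bijective (((MonoidHom.fst _ _).comp P.subtype).comp T.subtype) := by
    refine ⟨(injective_iff_map_eq_one _).2 fun g hg => ?_, fun g => ?_⟩
    · obtain ⟨v, hv⟩ := t2 g.1 g.2 ((congrArg σ hg).trans (map_one _))
      have : v ∈ θ.ker := (congrArg (fun p : P => p.1.1) hv).trans hg
      exact Subtype.ext (hv.symm.trans (Subtype.ext (Prod.ext this (hk ▸ this : v ∈ θ'.ker))))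
    · obtain ⟨p, rfl⟩ := lift g
      obtain ⟨t, ht, h⟩ := t3 p
      obtain ⟨u, hu⟩ : (t⁻¹ * p).1.1 ∈ θ.range := h1 ▸ (h : σ _ = 1)
      exact ⟨⟨t * δ u, mul_mem ht (t1 u)⟩, show t.1.1 * θ u = p.1.1 by rw [hu]; simp⟩
  have b2 : Function.Bijective (((MonoidHom.snd _ _).comp P.subtype).comp T.subtype) := by
    refine ⟨(injective_iff_map_eq_one _).2 fun g hg => ?_, fun g => ?_⟩
    · obtain ⟨v, hv⟩ := t2 g.1 g.2 ((mP.1 g.1.2).trans ((congrArg σ' hg).trans (map_one _)))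
      have : v ∈ θ'.ker := (congrArg (fun p : P => p.1.2) hv).trans hg
      exact Subtype.ext (hv.symm.trans (Subtype.ext (Prod.ext (hk ▸ this : v ∈ θ.ker) this)))
    · obtain ⟨p, rfl⟩ := lift' g
      obtain ⟨t, ht, h⟩ := t3 p
      obtain ⟨u, hu⟩ : (t⁻¹ * p).1.2 ∈ θ'.range := h1' ▸ ((mP.1 (t⁻¹ * p).2).symm.trans h : σ' _ = 1)
      exact ⟨⟨t * δ u, mul_mem ht (t1 u)⟩, show t.1.2 * θ' u = p.1.2 by rw [hu]; simp⟩
  exact ⟨(MulEquiv.ofBijective _ b1).symm.trans (MulEquiv.ofBijective _ b2)⟩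

end

/-- the machine of `M23` -/
noncomputable def q23 (L : List Net) (h : L.all golayOk = true) (h1 : invChk L (lets L.length) (bit 23) = true) :
    PM Spor.M23 GolayPt 24 L :=
  { p23 L h h1 with gen := fun l => eM23 ((p23 L h h1).gen l), spec := (p23 L h h1).spec }

/-- the 11-dimensional code -/
def C11 (w : GolayPt → ZMod 2) : Prop := w ∈ golayCode ∧ w none = 0
/-- its annihilator -/
def C13 (w : GolayPt → ZMod 2) : Prop := w ∈ golayCode ∨ w + Pi.single none 1 ∈ golayCode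

theorem pr_card (v w : GolayPt → ZMod 2) : pr v w = ((support₂ v ∩ support₂ w).card : ZMod 2) := dot_eq_card v w

theorem pr_code {v w : GolayPt → ZMod 2} (hv : v ∈ golayCode) (hw : w ∈ golayCode) : pr v w = 0 := by
  rw [pr_card]
  exact (ZMod.natCast_eq_zero_iff _ 2).2 (even_card_inter (support_mem_GC.2 hv) (support_mem_GC.2 hw))

theorem pr_single (v : GolayPt → ZMod 2) (p : GolayPt) : pr v (Pi.single p 1) = v p := by
  simp [pr, Pi.single_apply]

theorem orth {v w : GolayPt → ZMod 2} (hv : C11 v) (hw : C13 w) : pr v w = 0 := by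
  rcases hw with h | h
  · exact pr_code hv.1 h
  · have := pr_code hv.1 h
    rwa [pr_add, pr_single, hv.2, add_zero] at this

theorem pr_bw (a b : ℕ) : pr (bword a) (bword b) = (p24 (Nat.land a b) : ZMod 2) := by
  rw [pr_card, support_bword, support_bword, ← bset_and, card_bset]; rfl

theorem C11.smul {v : GolayPt → ZMod 2} (h : C11 v) (g : Spor.M23) : C11 fun x => v (g • x) := by
  refine ⟨support_mem_GC.1 ?_, (congrArg v g.2.2).trans h.2⟩
  have := smul_mem_GC (⟨g.1, g.2.1⟩ : M24)⁻¹ (support_mem_GC.2 h.1)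
  convert this using 1
  ext x
  rw [Finset.mem_inv_smul_finset_iff, mem_support₂, mem_support₂]; rfl

/-- the basis of the code, the points dual to it, and their planes -/
def bb (k : ℕ) : ℕ := gB.getD (k + 1) 0
def ee (k : ℕ) : ℕ := bit (22 - k)
noncomputable def pk (f : ℕ → ℕ) (k : ℕ) : ℕ :=
  @Nat.rec (fun _ => ℕ → ℕ) (fun _ => 0) (fun _ ih i => Nat.add (f i) (Nat.shiftLeft (ih (Nat.succ i)) 24)) k 0

variable {L : List Net} {h : L.all golayOk = true} {h1 : invChk L (lets L.length) (bit 23) = true}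

theorem pl_eq (A k : ℕ) : pl (q23 L h h1) A k = bword ((A >>> (24 * k)) % 2 ^ 24) := funext fun x => by
  rw [pl, bt, bword, Nat.testBit_mod_two_pow, Nat.testBit_shiftRight, decide_eq_true (gi_lt x), Bool.true_and]; rfl

theorem pl_bb {k : ℕ} (hk : k < 11) : pl (q23 L h h1) (pk bb 11) k = bword (bb k) := by
  rw [pl_eq]; congr 1; revert k; decide +kernel

theorem pl_ee {k : ℕ} (hk : k < 11) : pl (q23 L h h1) (pk ee 11) k = bword (ee k) := by
  rw [pl_eq]; congr 1; revert k; decide +kernel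

theorem C11_bw {m : ℕ} (h : band (cw m) (bnot (tb m 23)) = true) : C11 (bword m) := by
  obtain ⟨a, b⟩ := band_iff.1 h
  refine ⟨(isCW_iff.2 a).mem, if_neg ?_⟩
  rw [← tb_eq]; show ¬tb m 23 = true; revert b; cases tb m 23 <;> decide

theorem C11_bb {k : ℕ} (hk : k < 11) : C11 (bword (bb k)) := C11_bw (by revert k; decide +kernel)

theorem C11.sum {f : ℕ → GolayPt → ZMod 2} (hf : ∀ k < 11, C11 (f k)) (c : ℕ → ZMod 2) :
    C11 (∑ k ∈ range 11, c k • f k) :=
  ⟨Submodule.sum_mem _ fun k hk => Submodule.smul_mem _ _ (hf k (mem_range.1 hk)).1, by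
    rw [Finset.sum_apply]; exact sum_eq_zero fun k hk => by rw [Pi.smul_apply, (hf k (mem_range.1 hk)).2, smul_zero]⟩

theorem dual : ∀ j < 11, ∀ k < 11, pr (bword (bb j)) (bword (ee k)) = if j = k then 1 else 0 := by
  simp only [pr_bw]; decide +kernel

theorem C11.eq_zero {w : GolayPt → ZMod 2} (hw : C11 w) (h : ∀ k < 11, pr (bword (ee k)) w = 0) : w = 0 := by
  obtain ⟨m, hm, rfl⟩ := mem_golayCode.1 hw.1
  have := forall_CW (f := fun m => bor (tb m 23) (bor (Nat.beq m 0) (bnot (allN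
    (fun k => Nat.beq (Nat.mod (p24 (Nat.land (ee k) m)) 2) 0) 11)))) (by decide +kernel) hm
  rcases bor_iff.1 this with a | a
  · have := hw.2
    rw [bword, ← tb_eq, show gi none = 23 from rfl, if_pos a] at this; exact absurd this (by decide)
  rcases bor_iff.1 a with a | a
  · rw [beq_iff.1 a, bword_zero]
  have b : allN (fun k => Nat.beq (Nat.mod (p24 (Nat.land (ee k) m)) 2) 0) 11 = true :=
    allN_iff.2 fun k hk => beq_iff.2 (Nat.mod_eq_zero_of_dvd ((ZMod.natCast_eq_zero_iff _ 2).1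
      ((pr_bw _ _).symm.trans (h k hk))))
  rw [b] at a
  exact absurd a (by decide)

theorem C13_of {w : GolayPt → ZMod 2} (h : ∀ k < 11, pr (bword (bb k)) w = 0) : C13 w := by
  have key : ∀ u, (∀ k < 11, pr (bword (bb k)) u = 0) → pr (bword 0x800c75) u = 0 → u ∈ golayCode := fun u a b =>
    support_mem_GC.1 (mem_GC_of_even fun c hc => by
      have : pr (bword c) u = 0 := by
        obtain ⟨i, hi, rfl⟩ := List.getElem_of_mem hc
        rcases i with _ | i
        · exact b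
        · rw [← List.getD_eq_getElem _ 0 hi]; exact a i (Nat.lt_of_succ_lt_succ hi)
      rw [pr_card, support_bword] at this
      exact Nat.mod_eq_zero_of_dvd ((ZMod.natCast_eq_zero_iff _ 2).1 this))
  rcases zmod2_cases (pr (bword 0x800c75) w) with a | a
  · exact .inl (key w h a)
  · exact .inr (key _ (fun k hk => by rw [pr_add, h k hk, pr_single, (C11_bb hk).2, add_zero])
      (by rw [pr_add, a, pr_single]; decide))

theorem C13_bw {m : ℕ} (h : bor (cw m) (cw (Nat.xor m (bit 23))) = true) : C13 (bword m) := by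
  rcases bor_iff.1 h with a | a
  · exact .inl (isCW_iff.2 a).mem
  · have := (isCW_iff.2 a).mem
    rw [show Nat.xor m (bit 23) = m ^^^ bit 23 from rfl, bword_xor,
      show bword (bit 23) = Pi.single none 1 by decide +kernel] at this
    exact .inr this

variable {E : Type*} [Group E] (N : Subgroup E) [hN : N.Normal] (φ : E ⧸ N ≃* Spor.M23)

/-- the map onto `M23` -/
def sg : E →* Spor.M23 := φ.toMonoidHom.comp (QuotientGroup.mk' N)

theorem sg_surj : Function.Surjective (sg N φ) := φ.surjective.comp (QuotientGroup.mk'_surjective N)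

theorem sg_ker : (sg N φ).ker = N := by
  ext a
  exact (map_eq_one_iff φ φ.injective).trans (QuotientGroup.eq_one_iff a)

theorem sg_inv (g : E) (w : GolayPt → ZMod 2) :
    w ∘ ⇑(((φ (QuotientGroup.mk g⁻¹) : Spor.M23) : Equiv.Perm GolayPt)⁻¹) = fun x => w (sg N φ g • x) := by
  rw [QuotientGroup.mk_inv, map_inv, Subgroup.coe_inv, inv_inv]; rfl

theorem card23 : Nat.card Spor.M23 = 2 ^ 7 * 79695 := isM23.2

theorem code_split [Finite E] (ψ : Additive N →+ (GolayPt → ZMod 2)) (hinj : Function.Injective ψ)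
    (hrange : ∀ w, w ∈ Set.range ψ ↔ C11 w)
    (hψ : ∀ (g : E) (n : N), ψ (Additive.ofMul ⟨g * n * g⁻¹, hN.conj_mem n n.2 g⟩)
      = ψ (Additive.ofMul n) ∘ ⇑(((φ (QuotientGroup.mk g) : Spor.M23) : Equiv.Perm GolayPt)⁻¹))
    (h : L.all golayOk = true) (h1 : invChk L (lets L.length) (bit 23) = true) {R : List Ru}
    (hR : relsChk 24 L 5 (idArr 24 5 5 0) (R.map Ru.rel) = true) {m0 K : ℕ} {Lr ss : List ℕ}
    {ls : List (ℕ × ℕ × ℕ × ℕ)} {ps : List (ℕ × ℕ)} (hm : m0 + 7 + 28 = R.length)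
    (hg : gaugeChk (24 * 11) 7 m0 R Lr (11 * 7) = true)
    (hp : allL (fun q : ℕ × ℕ => band (ltb q.2 (m0 + 7 + 28)) (allN (fun k => (fun m => bor (cw m)
      (cw (Nat.xor m (bit 23)))) ((q.1 >>> (24 * k)) % 2 ^ 24)) 11)) ps = true)
    (hK : allN (fun r => allN (fun q => tb K (Nat.add (Nat.mul (24 * 11) r) q)) 24) (m0 + 7 + 28) = true)
    (ht : tgtChk 24 11 (pk ee 11) (m0 + 7) K 0 0 (lrows 24 11 L (pk ee 11) (m0 + 7 + 28) R ls (prows 24 11 ps
      (grows 24 11 (pk ee 11) m0 Lr (11 * 7)))) ss (11 * 28) = true)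
    (hc : pcChk 7 ((R.drop (m0 + 7)).map Ru.rel) = true) {c : Lv}
    (hl : band (allL (inR 0 7) c.gens) (Nat.ble (Nat.pow 2 7) (c.val 24 L)) = true) :
    ∃ H : Subgroup E, H ⊓ N = ⊥ ∧ H ⊔ N = ⊤ := by
  classical
  have hk := sg_ker N φ
  let y : E → GolayPt → ZMod 2 := fun a => if h : a ∈ N then ψ (Additive.ofMul ⟨a, h⟩) else 0
  have y1 : ∀ {a} (h : a ∈ N), y a = ψ (Additive.ofMul ⟨a, h⟩) := fun h => dif_pos h
  have y2 : ∀ {a}, a ∈ N → C11 (y a) := fun h => y1 h ▸ (hrange _).1 ⟨_, rfl⟩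
  let D : Md (q23 L h h1) (sg N φ) 11 (pk ee 11) := ⟨y, fun k _ a ha b hb => by
      rw [hk] at ha hb
      rw [y1 ha, y1 hb, y1 (mul_mem ha hb), ← pr_add, ← map_add]; rfl,
    fun k _ a ha g => by
      rw [hk] at ha
      rw [← pr_smul, ← sg_inv, y1 ha, ← hψ g⁻¹ ⟨a, ha⟩, y1 (hN.conj_mem' a ha g)]
      simp only [inv_inv]⟩
  obtain ⟨x, hx, t, ht⟩ := core D (sg_surj N φ) (by norm_num) (fun c => by
      obtain ⟨a, ha⟩ := (hrange _).2 (C11.sum (fun k hk => C11_bb hk) c)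
      refine ⟨a.toMul, hk.symm ▸ a.toMul.2, fun k hk => ?_⟩
      rw [pl_ee hk, show D.y _ = _ from (y1 a.toMul.2).trans ha]
      exact pr_dual (F := fun k => bword (ee k)) (fun j hj k hk => by
        rw [pr_comm, dual k hk j hj]; simp only [eq_comm]) c hk)
    (PM.rels_of_idArr _ (D := 5) (by norm_num) hR) hm hg (fun q hq => by
      obtain ⟨a, b⟩ := band_iff.1 (allL_iff.1 hp q hq)
      exact ⟨ltb_iff.1 a, fun k hk' a ha => by
        rw [pl_eq, pr_comm]; exact orth (y2 (hk ▸ ha)) (C13_bw (allN_iff.1 b k hk'))⟩) hK ht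
  have two : ∀ a : N, a * a = 1 := fun a => Additive.ofMul.injective (hinj (by
    rw [ofMul_mul, map_add, ofMul_one, map_zero]; exact funext fun _ => z2 _))
  haveI : IsMulCommutative (sg N φ).ker := hk.symm ▸ ⟨⟨fun a b => Additive.ofMul.injective (hinj (by
    rw [ofMul_mul, ofMul_mul, map_add, map_add, add_comm]))⟩⟩
  rw [← hk]
  refine pc_split (M := q23 L h h1) _ (sg_surj N φ) (hk.symm ▸ fun a => ⟨1, by rw [pow_one, sq, two]⟩)
    (fun l _ => hx l) (rels_of_tl fun ρ hρ => ?_) hc hl card23 (by decide)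
  obtain ⟨r, hr, rfl⟩ := mem_drop hm hρ
  have m : tl x _ ∈ N := hk ▸ (ht r hr).1
  have := (y2 m).eq_zero fun k hk => by
    rw [← pl_ee hk]; exact ((ht r hr).2 k hk).trans (by rw [bt_zero, zero_mul])
  rw [y1 m, ← map_zero ψ] at this
  exact congrArg (fun a : Additive N => (a.toMul : E)) (hinj this)

/-- the hypotheses on the cocode module -/
structure Co (θ : (GolayPt → ZMod 2) →+ Additive N) : Prop where
  surj : Function.Surjective θ
  ker : ∀ w, θ w = 0 ↔ C13 w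
  cj : ∀ (g : E) w, ((θ (w ∘ ⇑(((φ (QuotientGroup.mk g) : Spor.M23) : Equiv.Perm GolayPt)⁻¹))).toMul : E)
    = g * ((θ w).toMul : E) * g⁻¹

variable {N φ} {θ : (GolayPt → ZMod 2) →+ Additive N} (C : Co N φ θ)

/-- the map as a homomorphism into the group -/
def th (θ : (GolayPt → ZMod 2) →+ Additive N) : Multiplicative (GolayPt → ZMod 2) →* E :=
  N.subtype.comp (AddMonoidHom.toMultiplicativeLeft θ)

include C

theorem Co.range : (th θ).range = (sg N φ).ker := by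
  rw [sg_ker]
  ext a
  exact ⟨fun ⟨w, e⟩ => e ▸ (θ w.toAdd).toMul.2, fun h => let ⟨w, e⟩ := C.surj (Additive.ofMul ⟨a, h⟩)
    ⟨Multiplicative.ofAdd w, congrArg (fun a : Additive N => (a.toMul : E)) e⟩⟩

theorem Co.one {w : Multiplicative (GolayPt → ZMod 2)} : th θ w = 1 ↔ C13 w.toAdd :=
  (show _ ↔ θ w.toAdd = 0 from ⟨fun h => Additive.toMul.injective (Subtype.ext h), fun h =>
    congrArg (fun a : Additive N => (a.toMul : E)) h⟩).trans (C.ker _)

theorem Co.cj' (g : E) (w : Multiplicative (GolayPt → ZMod 2)) :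
    th θ (Multiplicative.ofAdd fun x => w.toAdd (sg N φ g • x)) = g⁻¹ * th θ w * g := by
  have := C.cj g⁻¹ w.toAdd
  rw [sg_inv, inv_inv] at this; exact this

open Classical in
/-- a preimage -/
noncomputable def yy (θ : (GolayPt → ZMod 2) →+ Additive N) (a : E) : GolayPt → ZMod 2 :=
  if h : a ∈ (th θ).range then h.choose.toAdd else 0

theorem Co.key {v : GolayPt → ZMod 2} (hv : C11 v) (w : Multiplicative (GolayPt → ZMod 2)) :
    pr v (yy θ (th θ w)) = pr v w.toAdd := by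
  have h : th θ w ∈ (th θ).range := ⟨w, rfl⟩
  have := orth hv (C.one.1 (show th θ (h.choose * w⁻¹) = 1 by rw [map_mul, h.choose_spec, map_inv, mul_inv_cancel]))
  rw [toAdd_mul, pr_add, toAdd_inv, show -w.toAdd = w.toAdd from funext fun _ => ZMod.neg_eq_self_mod_two _] at this
  rw [yy, dif_pos h, ← add_zero (pr v w.toAdd), ← this, add_comm (pr v _) (pr v w.toAdd), ← add_assoc, z2, zero_add]

/-- the coordinates -/
noncomputable def Co.md (h : L.all golayOk = true) (h1 : invChk L (lets L.length) (bit 23) = true) :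
    Md (q23 L h h1) (sg N φ) 11 (pk bb 11) where
  y := yy θ
  add k hk a ha b hb := by
    obtain ⟨u, rfl⟩ := C.range.ge ha
    obtain ⟨v, rfl⟩ := C.range.ge hb
    rw [← map_mul, pl_bb hk, C.key (C11_bb hk), C.key (C11_bb hk), C.key (C11_bb hk), toAdd_mul, pr_add]
  cj k hk a ha g := by
    obtain ⟨u, rfl⟩ := C.range.ge ha
    rw [← C.cj', pl_bb hk, C.key (C11_bb hk), C.key ((C11_bb hk).smul _), toAdd_ofAdd, pr_smul]

theorem Co.coord (c : ℕ → ZMod 2) {k : ℕ} (hk : k < 11) :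
    pr (bword (bb k)) (yy θ (th θ (Multiplicative.ofAdd (∑ k ∈ Finset.range 11, c k • bword (ee k))))) = c k := by
  rw [C.key (C11_bb hk)]; exact pr_dual (F := fun k => bword (bb k)) dual c hk

theorem Co.eq {a : E} (ha : a ∈ (sg N φ).ker) {c : ℕ → ZMod 2} (h : ∀ k < 11, pr (bword (bb k)) (yy θ a) = c k) :
    th θ (Multiplicative.ofAdd (∑ k ∈ Finset.range 11, c k • bword (ee k))) = a := by
  obtain ⟨u, rfl⟩ := C.range.ge ha
  rw [← mul_inv_eq_one, ← map_inv, ← map_mul, C.one]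
  refine C13_of fun k hk => ?_
  rw [toAdd_mul, pr_add, toAdd_inv, show -u.toAdd = u.toAdd from funext fun _ => ZMod.neg_eq_self_mod_two _,
    ← C.key (C11_bb hk), C.coord c hk, ← C.key (C11_bb hk), h k hk, z2]

theorem Co.tails [Finite E] (hns : ∀ H : Subgroup E, H ⊓ N = ⊥ → H ⊔ N ≠ ⊤)
    (h : L.all golayOk = true) (h1 : invChk L (lets L.length) (bit 23) = true) {R : List Ru}
    (hR : relsChk 24 L 5 (idArr 24 5 5 0) (R.map Ru.rel) = true) {m0 K c Φ : ℕ} {Lr ss : List ℕ}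
    {ls : List (ℕ × ℕ × ℕ × ℕ)} (hm : m0 + 7 + 28 = R.length)
    (hg : gaugeChk (24 * 11) 7 m0 R Lr (11 * 7) = true)
    (hK : allN (fun r => allN (fun q => tb K (Nat.add (Nat.mul (24 * 11) r) q)) 24) (m0 + 7 + 28) = true)
    (ht : tgtChk 24 11 (pk bb 11) (m0 + 7) K c Φ (lrows 24 11 L (pk bb 11) (m0 + 7 + 28) R ls (prows 24 11 []
      (grows 24 11 (pk bb 11) m0 Lr (11 * 7)))) ss (11 * 28) = true)
    (hc : pcChk 7 ((R.drop (m0 + 7)).map Ru.rel) = true) {lv : Lv}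
    (hl : band (allL (inR 0 7) lv.gens) (Nat.ble (Nat.pow 2 7) (lv.val 24 L)) = true) :
    ∃ x : ℕ → E, (∀ l, sg N φ (x l) = (q23 L h h1).gen l) ∧ ∀ r < 28, th θ (Multiplicative.ofAdd
      (∑ k ∈ Finset.range 11, bt c (11 * r + k) • bword (ee k))) = tl x (getL r0 R (m0 + 7 + r)) := by
  obtain ⟨x, hx, t, ht⟩ := core (C.md h h1) (sg_surj N φ) (by norm_num) (fun c => ⟨_, C.range.le ⟨_, rfl⟩,
    fun k hk => by rw [pl_bb hk]; exact C.coord c hk⟩) (PM.rels_of_idArr _ (D := 5) (by norm_num) hR) hm hg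
    (fun _ h => absurd h List.not_mem_nil) hK ht
  have ht' : ∀ r < 28, th θ (Multiplicative.ofAdd (∑ k ∈ Finset.range 11, (bt c (11 * r + k) * t) • bword (ee k))) =
      tl x (getL r0 R (m0 + 7 + r)) := fun r hr => C.eq (ht r hr).1 fun k hk => pl_bb hk ▸ (ht r hr).2 k hk
  rcases zmod2_cases t with rfl | rfl
  · haveI : IsMulCommutative (sg N φ).ker := C.range ▸ inferInstance
    obtain ⟨H, a, b⟩ := pc_split (M := q23 L h h1) _ (sg_surj N φ) (fun a => ⟨1, Subtype.ext (by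
      obtain ⟨u, hu⟩ := C.range.ge a.2
      rw [pow_one, Subgroup.coe_pow, ← hu, sq, ← map_mul,
        show u * u = 1 from Multiplicative.toAdd.injective (funext fun _ => z2 _), map_one]; rfl)⟩)
      (fun l _ => hx l) (rels_of_tl fun ρ hρ => by
        obtain ⟨r, hr, rfl⟩ := mem_drop hm hρ
        rw [← ht' r hr]; simp) hc hl card23 (by decide)
    rw [sg_ker] at a b
    exact absurd b (hns H a)
  · exact ⟨x, hx, by simpa only [mul_one] using ht'⟩

theorem Co.iso [Finite E] {E' : Type*} [Group E'] [Finite E'] {N' : Subgroup E'} [N'.Normal]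
    {φ' : E' ⧸ N' ≃* Spor.M23} {θ' : (GolayPt → ZMod 2) →+ Additive N'} (C' : Co N' φ' θ')
    {h : L.all golayOk = true} {h1 : invChk L (lets L.length) (bit 23) = true} {R : List Ru} {m1 : ℕ}
    {f : ℕ → Multiplicative (GolayPt → ZMod 2)} (hm : m1 + 28 = R.length)
    (t : ∃ x : ℕ → E, (∀ l, sg N φ (x l) = (q23 L h h1).gen l) ∧ ∀ r < 28,
      th θ (f r) = tl x (getL r0 R (m1 + r)))
    (t' : ∃ x : ℕ → E', (∀ l, sg N' φ' (x l) = (q23 L h h1).gen l) ∧ ∀ r < 28,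
      th θ' (f r) = tl x (getL r0 R (m1 + r)))
    (hc : pcChk 7 ((R.drop m1).map Ru.rel) = true) {lv : Lv}
    (hl : band (allL (inR 0 7) lv.gens) (Nat.ble (Nat.pow 2 7) (lv.val 24 L)) = true) : Nonempty (E ≃* E') := by
  obtain ⟨x, hx, t⟩ := t
  obtain ⟨x', hx', t'⟩ := t'
  refine iso_of_diag (q23 L h h1) (sg_surj N φ) (sg_surj N' φ') (th θ) (th θ') C.range C'.range
    (Subgroup.ext fun w => C.one.trans C'.one.symm)
    (fun u => by rw [sq]; exact Multiplicative.toAdd.injective (funext fun _ => z2 _))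
    (fun g g' e w => ⟨_, by rw [C.cj' g⁻¹, inv_inv], by rw [map_inv, e, ← map_inv, C'.cj', inv_inv]⟩) hx hx'
    (fun ρ hρ => ?_) hc hl card23 (by decide)
  obtain ⟨r, hr, rfl⟩ := mem_drop hm hρ
  exact ⟨_, t r hr, t' r hr⟩

end H14.XT
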