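import Cfsg.Agent.H14.XU

/-! Symbolic tails, part three: an explicit extension of `M23` by the cocode module (`exists_co`) and a
certificate that it does not split (`Co.nonsplit`). -/

set_option autoImplicit false
set_option linter.unusedSectionVars false

namespace H14.XT
open L Finset Cfsg

/-- the word of a point -/
def dw (i : ℕ) : Word := if i < 23 then [2 * (i + 2)] else []
def mL (l : List ℕ) : ℕ := l.foldr (fun i a => bit i ^^^ a) 0
/-- conjugation permutes the words of the points -/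
noncomputable def cjR (L : List Net) (k : ℕ) : List (Word × Word) := (List.range k).flatMap fun l =>
  (List.range 24).map fun i => ((2 * l + 1) :: (dw i ++ [2 * l]), dw ((getL Net.nil L l).pt i))

theorem bword_bit : ∀ p, bword (bit (gi p)) = Pi.single p 1 := by decide +kernel

variable {E : Type*} [Group E] {L : List Net} {h : L.all golayOk = true}
  {h1 : invChk L (lets L.length) (bit 23) = true}

theorem th_mL {N : Subgroup E} {θ : (GolayPt → ZMod 2) →+ Additive N} {x : ℕ → E}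
    (hθ : ∀ p, th θ (Multiplicative.ofAdd (Pi.single p 1)) = ev x (dw (gi p))) {l : List ℕ} (hl : ∀ i ∈ l, i < 24) :
    th θ (Multiplicative.ofAdd (bword (mL l))) = ev x (l.flatMap dw) := by
  induction l with
  | nil => rw [show mL [] = 0 from rfl, bword_zero]; exact map_one _
  | cons i l ih =>
    have e := gi_gp i (hl i List.mem_cons_self)
    rw [show mL (i :: l) = bit i ^^^ mL l from rfl, bword_xor, add_comm, ofAdd_add, map_mul,
      ih fun j hj => hl j (List.mem_cons_of_mem _ hj), List.flatMap_cons, ev_append, ← e, bword_bit, hθ]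

theorem co_of [Finite E] (σ : E →* Spor.M23) (hσ : Function.Surjective σ) (hc : Nat.card σ.ker = 2 ^ 11)
    {d : GolayPt → E} (d0 : d none = 1) (d1 : ∀ p, d p ∈ σ.ker) (d2 : ∀ p, d p * d p = 1)
    (d3 : ∀ g p, g * d p * g⁻¹ = d (σ g • p)) (e : σ.ker = Subgroup.closure (Set.range d))
    (hB : ∀ θ : (GolayPt → ZMod 2) →+ Additive σ.ker, (∀ p, th θ (Multiplicative.ofAdd (Pi.single p 1)) = d p) →
      ∀ b ∈ gB, th θ (Multiplicative.ofAdd (bword b)) = 1) :
    ∃ θ, Co σ.ker (QuotientGroup.quotientKerEquivOfSurjective σ hσ) θ ∧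
      ∀ p, th θ (Multiplicative.ofAdd (Pi.single p 1)) = d p := by
  obtain ⟨θ, t0⟩ : ∃ θ : (GolayPt → ZMod 2) →+ Additive σ.ker,
      ∀ p, θ (Pi.single p 1) = Additive.ofMul ⟨d p, d1 p⟩ := by
    have cm : IsMulCommutative σ.ker := e ▸ Subgroup.isMulCommutative_closure (by
      rintro _ ⟨p, rfl⟩ _ ⟨q, rfl⟩
      have := d3 (d p) q
      rw [d1 p, one_smul] at this
      exact mul_inv_eq_iff_eq_mul.1 this)
    letI : CommGroup σ.ker := { (inferInstance : Group σ.ker) with mul_comm := cm.1.1 }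
    have : ∀ p, ∃ f : ZMod 2 →+ Additive σ.ker, f 1 = Additive.ofMul ⟨d p, d1 p⟩ := fun p =>
      ⟨ZMod.lift 2 ⟨zmultiplesHom _ (Additive.ofMul (⟨d p, d1 p⟩ : σ.ker)),
        (two_zsmul _).trans (congrArg Additive.ofMul (Subtype.ext (d2 p)))⟩, (ZMod.lift_coe 2 _ 1).trans (one_zsmul _)⟩
    choose f hf using this
    refine ⟨∑ p, (f p).comp (Pi.evalAddMonoidHom (fun _ => ZMod 2) p), fun p => ?_⟩
    rw [AddMonoidHom.finset_sum_apply, sum_eq_single_of_mem p (mem_univ _) fun q _ hq => by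
      rw [AddMonoidHom.comp_apply, Pi.evalAddMonoidHom_apply, Pi.single_eq_of_ne hq, map_zero],
      AddMonoidHom.comp_apply, Pi.evalAddMonoidHom_apply, Pi.single_eq_same, hf]
  have t1 : ∀ p, th θ (Multiplicative.ofAdd (Pi.single p 1)) = d p := fun p =>
    congrArg (fun a : Additive σ.ker => (a.toMul : E)) (t0 p)
  have t2 : Function.Surjective θ := fun a => by
    obtain ⟨w, hw⟩ : (a.toMul : E) ∈ (th θ).range :=
      (e.le.trans ((Subgroup.closure_le (th θ).range).2 fun _ ⟨p, a⟩ => ⟨_, (t1 p).trans a⟩)) a.toMul.2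
    exact ⟨w.toAdd, Additive.toMul.injective (Subtype.ext hw)⟩
  have t3 : ∀ w ∈ golayCode, θ w = 0 := fun w hw => by
    obtain ⟨m, hm, rfl⟩ := mem_golayCode.1 hw
    exact hm.induction (P := fun m => θ (bword m) = 0) (by rw [bword_zero, map_zero])
      (fun a b ha hb => by rw [bword_xor, map_add, ha, hb, add_zero]) fun b hb =>
      Additive.toMul.injective (Subtype.ext (hB θ t1 b hb))
  have t4 : ∀ w, C13 w → θ w = 0 := fun w hw => hw.elim (t3 w) fun a => by
    have := t3 _ a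
    rwa [map_add, t0, show Additive.ofMul (⟨d none, d1 none⟩ : σ.ker) = 0 from
      congrArg Additive.ofMul (Subtype.ext d0), add_zero] at this
  obtain ⟨s, hs⟩ : ∃ s : (Fin 11 → ZMod 2) → Additive σ.ker, ∀ c, s c = θ (∑ k, c k • bword (ee k)) :=
    ⟨_, fun _ => rfl⟩
  have s1 : ∀ w, s (fun k => pr (bword (bb k)) w) = θ w := fun w => by
    have := t4 (∑ k ∈ range 11, pr (bword (bb k)) w • bword (ee k) + w) (C13_of fun k hk => by
      rw [pr_add, pr_dual (F := fun k => bword (bb k)) dual _ hk, z2])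
    rw [map_add, ← Fin.sum_univ_eq_sum_range (fun k => pr (bword (bb k)) w • bword (ee k))] at this
    rw [hs, eq_neg_of_add_eq_zero_left this, ← map_neg,
      show -w = w from funext fun _ => ZMod.neg_eq_self_mod_two _]
  have s2 : Function.Injective s := ((Nat.bijective_iff_surjective_and_card s).2 ⟨fun a =>
    let ⟨w, hw⟩ := t2 a; ⟨_, (s1 w).trans hw⟩, by
      rw [show Nat.card (Additive σ.ker) = _ from hc, Nat.card_fun, Nat.card_zmod, Nat.card_fin]⟩).1
  refine ⟨θ, ⟨t2, fun w => ⟨fun a => C13_of fun k hk => ?_, t4 w⟩, fun g w => ?_⟩, t1⟩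
  · exact congrFun (s2 (a₂ := 0) ((s1 w).trans (a.trans (by
      rw [hs, sum_eq_zero fun _ _ => by rw [Pi.zero_apply, zero_smul], map_zero])))) ⟨k, hk⟩
  · show ((θ (w ∘ ⇑((σ g : Equiv.Perm GolayPt)⁻¹))).toMul : E) = _
    have z : ((θ ((0 : GolayPt → ZMod 2) ∘ ⇑((σ g : Equiv.Perm GolayPt)⁻¹))).toMul : E) = g * ((θ 0).toMul : E) * g⁻¹ := by
      rw [Pi.zero_comp, map_zero, toMul_zero, OneMemClass.coe_one, mul_one, mul_inv_cancel]
    induction w using Pi.single_induction with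
    | zero => exact z
    | add u v hu hv =>
      rw [Pi.add_comp, θ.map_add, θ.map_add, toMul_add, toMul_add, Subgroup.coe_mul, Subgroup.coe_mul, hu, hv]; group
    | single p m =>
      rcases zmod2_cases m with rfl | rfl
      · rw [Pi.single_zero]; exact z
      · rw [show Pi.single p 1 ∘ ⇑((σ g : Equiv.Perm GolayPt)⁻¹) = (Pi.single (σ g • p) 1 : GolayPt → ZMod 2) from
          funext fun q => by
            rw [Function.comp, Pi.single_apply, Pi.single_apply]
            exact if_congr Equiv.Perm.inv_eq_iff_eq rfl rfl, t0, t0]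
        exact (d3 g p).symm

theorem exists_co [Finite E] (σ : E →* Spor.M23) (hσ : Function.Surjective σ) (hc : Nat.card σ.ker = 2 ^ 11)
    {x : ℕ → E} (hx : ∀ l, σ (x l) = (q23 L h h1).gen l) {k : ℕ} (ht : sub x (lets k) = ⊤) (hj : Rels x (cjR L k))
    (hd : Rels (q23 L h h1).gen ((List.range 24).map fun i => (dw i, [])))
    (h2 : Rels x ((List.range 24).map fun i => (dw i ++ dw i, []))) {gL : List (List ℕ)} (hg : gL.map mL = gB)
    (hg' : ∀ l ∈ gL, ∀ i ∈ l, i < 24) (hB : Rels x (gL.map fun l => (l.flatMap dw, [])))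
    (hl : 2 ^ 11 ≤ Nat.card (sub x ((List.range 24).map dw))) :
    ∃ θ, Co σ.ker (QuotientGroup.quotientKerEquivOfSurjective σ hσ) θ ∧
      ∀ p, th θ (Multiplicative.ofAdd (Pi.single p 1)) = ev x (dw (gi p)) := by
  obtain ⟨d, hd'⟩ : ∃ d : GolayPt → E, ∀ p, ev x (dw (gi p)) = d p := ⟨_, fun _ => rfl⟩
  have m1 : ∀ p, gi p ∈ List.range 24 := fun p => List.mem_range.2 (gi_lt p)
  have d1 : ∀ p, d p ∈ σ.ker := fun p => by
    rw [← hd']; exact (sig_ev hx _).trans (hd _ (List.mem_map.2 ⟨_, m1 p, rfl⟩))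
  let T : Subgroup E := ⟨⟨⟨{g | ∀ p, g * d p * g⁻¹ = d (σ g • p)}, fun {a b} ha hb p => by
      rw [map_mul, mul_smul, ← ha, ← hb]; group⟩, fun p => by simp⟩, fun {a} ha p => by
      rw [map_inv, ← smul_inv_smul (σ a) p, ← ha, inv_smul_smul]; group⟩
  have d3 : ⊤ ≤ T := ht.ge.trans <| sub_lets_le fun l hl p => by
    have : ev x ((2 * l + 1) :: (dw (gi p) ++ [2 * l])) = ev x (dw ((getL Net.nil L l).pt (gi p))) :=
      hj _ (List.mem_flatMap.2 ⟨l, List.mem_range.2 hl, List.mem_map.2 ⟨_, m1 p, rfl⟩⟩)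
    rw [ev_cons, ev_append, ev_single, ← show gi _ = (getL Net.nil L l).pt (gi p) from (q23 L h h1).spec l p,
      ← hx, hd', hd', letter, if_neg (by omega), show (2 * l + 1) / 2 = l by omega] at this
    exact this
  have e : sub x ((List.range 24).map dw) = σ.ker :=
    Subgroup.eq_of_le_of_card_ge ((sub_le _).2 fun w hw => by
      obtain ⟨i, hi, rfl⟩ := List.mem_map.1 hw
      rw [← gi_gp i (List.mem_range.1 hi), hd']; exact d1 _) (hc.le.trans hl)
  have d0 : d none = 1 := (hd' none).symm.trans (congrArg (ev x) (show dw 23 = [] from rfl))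
  have d2 : ∀ p, d p * d p = 1 := fun p => by
    rw [← hd', ← ev_append]; exact h2 _ (List.mem_map.2 ⟨_, m1 p, rfl⟩)
  have e' : σ.ker = Subgroup.closure (Set.range d) := by
    rw [← e, sub]; congr 1; ext g
    refine ⟨fun ⟨w, hw, a⟩ => ?_, fun ⟨p, a⟩ => ⟨_, List.mem_map.2 ⟨_, m1 p, rfl⟩, (hd' p).trans a⟩⟩
    obtain ⟨i, hi, rfl⟩ := List.mem_map.1 hw
    exact ⟨gp i, by rw [← a, ← hd', gi_gp i (List.mem_range.1 hi)]⟩
  simp only [hd']
  refine co_of σ hσ hc d0 d1 d2 (fun g => d3 (Subgroup.mem_top g)) e' fun θ t b hb => ?_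
  rw [← hg] at hb
  obtain ⟨l, hl, rfl⟩ := List.mem_map.1 hb
  rw [th_mL (fun p => (t p).trans (hd' p).symm) (hg' l hl)]
  exact hB _ (List.mem_map.2 ⟨_, hl, rfl⟩)

theorem Co.nonsplit {N : Subgroup E} [N.Normal] {φ : E ⧸ N ≃* Spor.M23} {θ : (GolayPt → ZMod 2) →+ Additive N}
    (C : Co N φ θ) {z : ℕ → E} (hz : ∀ l, sg N φ (z l) = (q23 L h h1).gen l) {R : List Ru}
    (hR : relsChk 24 L 5 (idArr 24 5 5 0) (R.map Ru.rel) = true) {ls : List (ℕ × ℕ × ℕ × ℕ)} {m s K : ℕ}
    {ts : List (ℕ × ℕ × ℕ)} (ht : ∀ t ∈ ts, th θ (Multiplicative.ofAdd (bword t.2.2)) = tl z (getL r0 R t.1))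
    (hs : ∀ t ∈ ts, t.1 < m ∧ t.2.1 < 2 ^ 24 ∧ band (cw t.2.1) (bnot (tb t.2.1 23)) = true)
    (hK : allN (fun r => allN (fun q => tb K (Nat.add (Nat.mul (24 * 11) r) q)) 24) m = true)
    (h0 : Nat.land (sel (lrows 24 11 L (pk bb 11) m R ls []) s
      (ts.foldr (fun t a => put (24 * 11) t.2.1 t.1 ^^^ a) 0)) K = 0)
    (ho : ((ts.map fun t => p24 (Nat.land t.2.1 t.2.2)).sum : ℕ) % 2 = 1) : False := by
  have a := congrArg (dot (q23 L h h1) (24 * 11) m ((C.md h h1).un z R)) h0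
  rw [show ∀ a b, Nat.land a b = a &&& b from fun _ _ => rfl, dot_land _ hK, dot_sel _ (lrows_spec _ hz
    (PM.rels_of_idArr _ (D := 5) (by norm_num) hR) ls fun _ h => absurd h List.not_mem_nil), dot_zero] at a
  have b : dot (q23 L h h1) (24 * 11) m ((C.md h h1).un z R) (ts.foldr (fun t a => put (24 * 11) t.2.1 t.1 ^^^ a) 0)
      = (((ts.map fun t => p24 (Nat.land t.2.1 t.2.2)).sum : ℕ) : ZMod 2) := by
    clear a h0 ho
    induction ts with
    | nil => exact dot_zero _
    | cons t ts ih =>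
      obtain ⟨s1, s2, s3⟩ := hs t List.mem_cons_self
      have := dot_put (Y := (C.md h h1).un z R) (q23 L h h1) s1 (show 0 < 11 by norm_num) t.2.1
      rw [pl_eq, mul_zero, Nat.shiftRight_zero, Nat.shiftRight_zero, Nat.mod_eq_of_lt s2, Md.un,
        ← ht t List.mem_cons_self] at this
      rw [List.foldr_cons, dot_xor, ih (fun u hu => ht u (List.mem_cons_of_mem _ hu))
        fun u hu => hs u (List.mem_cons_of_mem _ hu), this, List.map_cons, List.sum_cons, Nat.cast_add, ← pr_bw]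
      exact congrArg (· + _) (C.key (C11_bw s3) _)
  rw [b, ← ZMod.natCast_mod, ho] at a
  exact absurd a (by decide)

end H14.XT
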